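import Cfsg.Agent.Helper15.IndChar
import Cfsg.Agent.Helper74.CharCount
import Cfsg.Agent.Helper3.CharEq
import Cfsg.Prelude.Def_Solvable

/-!
# Frobenius' theorem on Frobenius kernels (helper75)

For a Frobenius complement `H` of a finite group `G`, the identity together with the elements
lying in no conjugate of `H` is a normal subgroup complementing `H`.  The proof is the classical
one through induced class functions (Isaacs, Theorem 7.2).
-/

set_option autoImplicit false

namespace Cfsg.Agent.Helper75

open Cfsg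
open scoped ComplexConjugate Pointwise

universe u

section Kernel

variable {G : Type u} [Group G]

/-- The kernel of a character is a normal subgroup. -/
theorem fk_exists_normal_kernel [Finite G] {χ : G → ℂ} (hχ : IsCharacter G χ) :
    ∃ N : Subgroup G, N.Normal ∧ ∀ g, g ∈ N ↔ χ g = χ 1 := by
  obtain ⟨n, ρ, rfl⟩ := hχ
  refine ⟨MonoidHom.ker ρ, MonoidHom.normal_ker ρ, fun g => ?_⟩
  rw [MonoidHom.mem_ker, Representation.char_one,
    Helper3.char_eq_finrank_iff ρ g (isOfFinOrder_of_finite g)]
  rfl

/-- The degree of an irreducible character is a positive natural number. -/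
theorem fk_irr_apply_one (ψ : IrrCharacter G) : ∃ d : ℕ, 0 < d ∧ (ψ : G → ℂ) 1 = d := by
  obtain ⟨n, ρ, hρ, hχ⟩ := ψ.2
  have : Nontrivial (Fin n → ℂ) := Helper74.nontrivial_of_isIrreducible ρ hρ
  have hpos : 0 < Module.finrank ℂ (Fin n → ℂ) := Module.finrank_pos
  exact ⟨Module.finrank ℂ (Fin n → ℂ), hpos, by rw [← hχ, Representation.char_one]⟩

/-- A class function with integral multiplicities, norm one and positive degree is an
irreducible character. -/
theorem fk_isIrr_of_int_inner [Fintype G] {f : G → ℂ} (hf : IsClassFunction G f)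
    (hint : ∀ ψ : IrrCharacter G, ∃ m : ℤ, classInner f (ψ : G → ℂ) = m)
    (h1 : classInner f f = 1) (hpos : 0 < (f 1).re) : IsIrrCharacter G f := by
  classical
  let _ := Helper74.irrFintype G
  have hdec := Helper74.classFunction_eq_sum_irr hf
  choose m hm using hint
  have hnorm : classInner f f = ∑ ψ : IrrCharacter G, ((m ψ : ℂ)) ^ 2 := by
    have h0 : classInner f f
        = classInner f (∑ ψ : IrrCharacter G, classInner f (ψ : G → ℂ) • (ψ : G → ℂ)) :=
      congrArg (classInner f) hdec
    rw [h0, Helper15.classInner_finset_sum_right]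
    apply Finset.sum_congr rfl
    intro ψ _
    rw [Helper15.classInner_smul_right, hm ψ]
    simp [sq]
  rw [h1] at hnorm
  have hint1 : (1 : ℤ) = ∑ ψ : IrrCharacter G, (m ψ) ^ 2 := by
    have : ((1 : ℤ) : ℂ) = ((∑ ψ : IrrCharacter G, (m ψ) ^ 2 : ℤ) : ℂ) := by
      push_cast
      exact hnorm
    exact_mod_cast this
  have hex : ∃ ψ₀ : IrrCharacter G, m ψ₀ ≠ 0 := by
    by_contra hcon
    push Not at hcon
    simp [hcon] at hint1
  obtain ⟨ψ₀, hψ₀⟩ := hex
  have hsplit : ∑ ψ : IrrCharacter G, (m ψ) ^ 2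
      = (m ψ₀) ^ 2 + ∑ ψ ∈ Finset.univ.erase ψ₀, (m ψ) ^ 2 :=
    (Finset.add_sum_erase Finset.univ (fun ψ => m ψ ^ 2) (Finset.mem_univ ψ₀)).symm
  have hrest_nonneg : 0 ≤ ∑ ψ ∈ Finset.univ.erase ψ₀, (m ψ) ^ 2 :=
    Finset.sum_nonneg (fun ψ _ => sq_nonneg _)
  have hsq_pos : 1 ≤ (m ψ₀) ^ 2 := by
    have : 0 < (m ψ₀) ^ 2 := by positivity
    omega
  have hψ₀sq : (m ψ₀) ^ 2 = 1 := by
    rw [hsplit] at hint1
    omega
  have hrest0 : ∑ ψ ∈ Finset.univ.erase ψ₀, (m ψ) ^ 2 = 0 := by
    rw [hsplit] at hint1
    omega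
  have hrest : ∀ ψ : IrrCharacter G, ψ ≠ ψ₀ → m ψ = 0 := by
    intro ψ hne
    have h3 := (Finset.sum_eq_zero_iff_of_nonneg (fun ψ _ => sq_nonneg (m ψ))).mp hrest0 ψ
      (Finset.mem_erase.mpr ⟨hne, Finset.mem_univ _⟩)
    exact pow_eq_zero_iff (two_ne_zero) |>.mp h3
  have hfeq : f = ((m ψ₀ : ℤ) : ℂ) • (ψ₀ : G → ℂ) := by
    conv_lhs => rw [hdec]
    rw [Finset.sum_eq_single ψ₀]
    · rw [hm ψ₀]
    · intro ψ _ hne
      rw [hm ψ, hrest ψ hne]; simp
    · intro hn; exact absurd (Finset.mem_univ _) hn
  obtain ⟨d, hd, hd1⟩ := fk_irr_apply_one ψ₀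
  have hm1 : m ψ₀ = 1 := by
    have hprod : (m ψ₀ - 1) * (m ψ₀ + 1) = 0 := by linear_combination hψ₀sq
    rcases mul_eq_zero.mp hprod with h | h
    · omega
    · exfalso
      have hmm : m ψ₀ = -1 := by omega
      have hf1 : f 1 = -(d : ℂ) := by
        rw [hfeq, Pi.smul_apply, hmm, hd1]; simp
      rw [hf1] at hpos
      have hd0 : (0 : ℝ) ≤ d := Nat.cast_nonneg d
      have hre : (-(d : ℂ)).re = -(d : ℝ) := by simp
      rw [hre] at hpos
      linarith
  rw [hfeq, hm1]
  simpa using ψ₀.2

end Kernel

section TI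

variable {G : Type u} [Group G]

theorem fk_conj_mem_iff {H : Subgroup G} {g x : G} :
    g ∈ MulAut.conj x • H ↔ x⁻¹ * g * x ∈ H := by
  rw [Subgroup.mem_pointwise_smul_iff_inv_smul_mem]
  simp [MulAut.smul_def, mul_assoc]

/-- The trivial-intersection property of a Frobenius complement. -/
theorem fk_mem_of_conj_mem {H : Subgroup G} (hH : IsFrobeniusComplement H) {h x : G}
    (hh : h ∈ H) (h1 : h ≠ 1) (hx : x⁻¹ * h * x ∈ H) : x ∈ H := by
  by_contra hxn
  have hbot := hH.2.2 x hxn
  have hmem : h ∈ H ⊓ (MulAut.conj x • H) :=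
    Subgroup.mem_inf.mpr ⟨hh, fk_conj_mem_iff.mpr hx⟩
  rw [hbot] at hmem
  exact h1 (Subgroup.mem_bot.mp hmem)

variable [Fintype G]

/-- Off the conjugates of `H` an induced function vanishes. -/
theorem fk_indFun_apply_of_not_mem {H : Subgroup G} (θ : H → ℂ) {g : G}
    (hg : ∀ x : G, g ∉ MulAut.conj x • H) : indFun H θ g = 0 := by
  rw [Helper15.indFun_apply]
  rw [Finset.sum_eq_zero, mul_zero]
  intro x _
  apply Helper15.extendByZero_of_not_mem
  intro hx
  exact hg x (fk_conj_mem_iff.mpr hx)

/-- On a Frobenius complement `H`, inducing a class function vanishing at `1` and restricting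
back to `H` gives the function back. -/
theorem fk_indFun_apply_mem {H : Subgroup G} (hH : IsFrobeniusComplement H) {θ : H → ℂ}
    (hθ : IsClassFunction H θ) (h0 : θ 1 = 0) (h : H) : indFun H θ (h : G) = θ h := by
  classical
  let _ : Fintype H := Fintype.ofFinite H
  have hcard : (Nat.card H : ℂ) ≠ 0 := by
    have : Nat.card H ≠ 0 := Nat.card_pos.ne'
    exact_mod_cast this
  rw [Helper15.indFun_apply]
  by_cases h1 : h = 1
  · subst h1
    rw [h0, Finset.sum_eq_zero, mul_zero]
    intro x _
    have : x⁻¹ * ((1 : H) : G) * x = ((1 : H) : G) := by simp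
    rw [this, Helper15.extendByZero_of_mem H θ (1 : H).2]
    exact h0
  · have hne : (h : G) ≠ 1 := fun hc => h1 (Subtype.ext hc)
    have hterm : ∀ x : G, extendByZero H θ (x⁻¹ * (h : G) * x)
        = extendByZero H (fun _ : H => θ h) x := by
      intro x
      by_cases hx : x ∈ H
      · have hmem : x⁻¹ * (h : G) * x ∈ H := H.mul_mem (H.mul_mem (H.inv_mem hx) h.2) hx
        rw [Helper15.extendByZero_of_mem H θ hmem, Helper15.extendByZero_of_mem H _ hx]
        have := hθ h (⟨x, hx⟩ : H)⁻¹
        rw [inv_inv] at this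
        rw [← this]
        rfl
      · have hnm : x⁻¹ * (h : G) * x ∉ H := fun hc => hx (fk_mem_of_conj_mem hH h.2 hne hc)
        rw [Helper15.extendByZero_of_not_mem H θ hnm, Helper15.extendByZero_of_not_mem H _ hx]
    rw [Finset.sum_congr rfl (fun x _ => hterm x), Helper15.sum_extendByZero]
    rw [Finset.sum_const, Finset.card_univ, nsmul_eq_mul, ← Nat.card_eq_fintype_card]
    field_simp

end TI

section Star

variable {G : Type u} [Group G] [Fintype G]

/-- Frobenius' extension of a class function of the complement to the whole group. -/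
noncomputable def fkStar (H : Subgroup G) (φ : H → ℂ) : G → ℂ :=
  indFun H (φ - fun _ => φ 1) + fun _ => φ 1

theorem fkStar_apply (H : Subgroup G) (φ : H → ℂ) (g : G) :
    fkStar H φ g = indFun H (φ - fun _ => φ 1) g + φ 1 := rfl

omit [Fintype G] in
theorem fk_isClassFunction_sub_const {H : Subgroup G} {φ : H → ℂ} (hφ : IsClassFunction H φ)
    (c : ℂ) : IsClassFunction H (φ - fun _ => c) := fun g h => by
  simp only [Pi.sub_apply]; rw [hφ g h]

theorem fkStar_restrict {H : Subgroup G} (hH : IsFrobeniusComplement H) {φ : H → ℂ}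
    (hφ : IsClassFunction H φ) (h : H) : fkStar H φ (h : G) = φ h := by
  rw [fkStar_apply, fk_indFun_apply_mem hH (fk_isClassFunction_sub_const hφ _) (by simp) h]
  simp

theorem fkStar_apply_kernel {H : Subgroup G} (hH : IsFrobeniusComplement H) {φ : H → ℂ}
    (hφ : IsClassFunction H φ) {g : G} (hg : g ∈ frobeniusKernel H) : fkStar H φ g = φ 1 := by
  rcases hg with rfl | hg
  · have := fkStar_restrict hH hφ 1
    simpa using this
  · rw [fkStar_apply, fk_indFun_apply_of_not_mem _ hg, zero_add]

theorem fkStar_isClassFunction (H : Subgroup G) (φ : H → ℂ) :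
    IsClassFunction G (fkStar H φ) := by
  intro g x
  rw [fkStar_apply, fkStar_apply, Helper15.isClassFunction_indFun H _ g x]

theorem fkStar_inner_int (H : Subgroup G) {φ : H → ℂ} (hφ : IsCharacter H φ)
    (ψ : IrrCharacter G) : ∃ m : ℤ, classInner (fkStar H φ) (ψ : G → ℂ) = m := by
  obtain ⟨n, hn⟩ := Helper74.isCharacter_apply_one hφ
  have h1H : IsCharacter H (fun _ => (1 : ℂ)) := Helper74.isCharacter_one
  have h1G : IsCharacter G (fun _ => (1 : ℂ)) := Helper74.isCharacter_one
  obtain ⟨a, ha⟩ := Helper74.isCharacter_inner_irr_nat (Helper15.isCharacter_indFun H hφ) ψ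
  obtain ⟨b, hb⟩ := Helper74.isCharacter_inner_irr_nat (Helper15.isCharacter_indFun H h1H) ψ
  obtain ⟨c, hc⟩ := Helper74.isCharacter_inner_irr_nat h1G ψ
  have hdecomp : fkStar H φ = indFun H φ - (n : ℂ) • indFun H (fun _ => (1 : ℂ))
      + (n : ℂ) • (fun _ => (1 : ℂ)) := by
    unfold fkStar
    rw [hn]
    have : (fun _ : H => (n : ℂ)) = (n : ℂ) • (fun _ : H => (1 : ℂ)) := by funext; simp
    rw [this, Helper15.indFun_sub, Helper15.indFun_smul]
    congr 1
    funext; simp
  refine ⟨a - n * b + n * c, ?_⟩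
  rw [hdecomp, Helper15.classInner_add_left, Helper15.classInner_sub_left,
    Helper15.classInner_smul_left, Helper15.classInner_smul_left, ha, hb, hc]
  push_cast; ring

theorem fk_classInner_one_one {X : Type*} [Group X] [Fintype X] :
    classInner (fun _ : X => (1 : ℂ)) (fun _ => 1) = 1 := by
  have hX : (Nat.card X : ℂ) ≠ 0 := by
    have : Nat.card X ≠ 0 := Nat.card_pos.ne'
    exact_mod_cast this
  rw [Helper15.classInner_apply]
  simp only [map_one, mul_one, Finset.sum_const, Finset.card_univ, nsmul_eq_mul]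
  rw [← Nat.card_eq_fintype_card, inv_mul_cancel₀ hX]

/-- The extension is an isometry (here: only the norm). -/
theorem fkStar_inner_self {H : Subgroup G} (hH : IsFrobeniusComplement H) {φ : H → ℂ}
    (hφ : IsClassFunction H φ) (hreal : conj (φ 1) = φ 1) [Fintype H] :
    classInner (fkStar H φ) (fkStar H φ) = classInner φ φ := by
  have hθcf : IsClassFunction H (φ - fun _ => φ 1) := fk_isClassFunction_sub_const hφ _
  have hres : (fun h : H => indFun H (φ - fun _ => φ 1) (h : G)) = (φ - fun _ => φ 1) :=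
    funext (fun h => fk_indFun_apply_mem hH hθcf (by simp) h)
  have hone : (fun _ : G => φ 1) = φ 1 • (fun _ : G => (1 : ℂ)) := by funext; simp
  have honeH : (fun _ : H => φ 1) = φ 1 • (fun _ : H => (1 : ℂ)) := by funext; simp
  have e1 : classInner (indFun H (φ - fun _ => φ 1)) (indFun H (φ - fun _ => φ 1))
      = classInner (φ - fun _ => φ 1) (φ - fun _ => φ 1) := by
    rw [Helper15.frobenius_reciprocity H _ _ (Helper15.isClassFunction_indFun H _), hres]
  have e2 : classInner (indFun H (φ - fun _ => φ 1)) (fun _ : G => (1 : ℂ))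
      = classInner (φ - fun _ => φ 1) (fun _ : H => (1 : ℂ)) := by
    rw [Helper15.frobenius_reciprocity H _ _ (fun _ _ => rfl)]
  have e3 : classInner (fun _ : G => (1 : ℂ)) (indFun H (φ - fun _ => φ 1))
      = classInner (fun _ : H => (1 : ℂ)) (φ - fun _ => φ 1) := by
    rw [Helper15.frobenius_reciprocity' H _ _ (fun _ _ => rfl)]
  unfold fkStar
  rw [hone]
  simp only [Helper15.classInner_add_left, Helper15.classInner_add_right,
    Helper15.classInner_smul_left, Helper15.classInner_smul_right, e1, e2, e3,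
    fk_classInner_one_one, hreal]
  rw [honeH]
  simp only [Helper15.classInner_sub_left, Helper15.classInner_sub_right,
    Helper15.classInner_smul_left, Helper15.classInner_smul_right,
    fk_classInner_one_one, hreal]
  ring

/-- The extension of an irreducible character of a Frobenius complement is an irreducible
character of the whole group. -/
theorem fkStar_isIrr {H : Subgroup G} (hH : IsFrobeniusComplement H) (φ : IrrCharacter H) :
    IsIrrCharacter G (fkStar H (φ : H → ℂ)) := by
  classical
  let _ : Fintype H := Fintype.ofFinite H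
  have hφc : IsCharacter H (φ : H → ℂ) := Helper74.irr_isCharacter φ
  have hφcf : IsClassFunction H (φ : H → ℂ) := Helper74.irr_isClassFunction φ
  obtain ⟨d, hd, hd1⟩ := fk_irr_apply_one φ
  have hreal : conj ((φ : H → ℂ) 1) = (φ : H → ℂ) 1 := by rw [hd1]; simp
  apply fk_isIrr_of_int_inner (fkStar_isClassFunction H _) (fkStar_inner_int H hφc)
  · rw [fkStar_inner_self hH hφcf hreal]
    exact Helper74.irr_inner_self φ
  · have h1 : fkStar H (φ : H → ℂ) 1 = (φ : H → ℂ) 1 :=
      fkStar_apply_kernel hH hφcf (Or.inl rfl)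
    rw [h1, hd1]
    simpa using hd

end Star

section Count

variable {G : Type u} [Group G]

/-- The Frobenius kernel has at least `|G : H|` elements (union bound). -/
theorem fk_index_le_card_kernel [Finite G] (H : Subgroup G) :
    H.index ≤ Nat.card (frobeniusKernel H) := by
  classical
  have := Fintype.ofFinite G
  let U : Finset G := Finset.univ.filter (fun g => g ∉ frobeniusKernel H)
  let f : (G ⧸ H) × H → G := fun p => (Quotient.out p.1 : G) * (p.2 : G) * (Quotient.out p.1 : G)⁻¹
  have hU : U ⊆ (((Finset.univ : Finset (G ⧸ H)) ×ˢ ((Finset.univ : Finset H).erase 1)).image f) := by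
    intro g hg
    have hg' : g ∉ frobeniusKernel H := (Finset.mem_filter.mp hg).2
    have hg1 : g ≠ 1 := fun h => hg' (Or.inl h)
    have hex : ∃ x : G, g ∈ MulAut.conj x • H := by
      by_contra hcon
      push Not at hcon
      exact hg' (Or.inr hcon)
    obtain ⟨x, hx⟩ := hex
    rw [fk_conj_mem_iff] at hx
    obtain ⟨k, hk⟩ := QuotientGroup.mk_out_eq_mul H x
    rw [Finset.mem_image]
    refine ⟨((x : G ⧸ H), k⁻¹ * ⟨x⁻¹ * g * x, hx⟩ * k), ?_, ?_⟩
    · rw [Finset.mem_product]
      refine ⟨Finset.mem_univ _, Finset.mem_erase.mpr ⟨?_, Finset.mem_univ _⟩⟩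
      intro hc
      apply hg1
      have h2 : (⟨x⁻¹ * g * x, hx⟩ : H) = 1 := by
        have := congrArg (fun t => k * t * k⁻¹) hc
        simpa [mul_assoc] using this
      have h3 : x⁻¹ * g * x = 1 := congrArg Subtype.val h2
      have : g = x * (x⁻¹ * g * x) * x⁻¹ := by group
      rw [this, h3]; group
    · show (Quotient.out (x : G ⧸ H) : G) * ((k⁻¹ * ⟨x⁻¹ * g * x, hx⟩ * k : H) : G)
        * (Quotient.out (x : G ⧸ H) : G)⁻¹ = g
      rw [hk]
      push_cast
      group
  have hcardU : U.card ≤ H.index * (Nat.card H - 1) := by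
    calc U.card ≤ _ := Finset.card_le_card hU
      _ ≤ ((Finset.univ : Finset (G ⧸ H)) ×ˢ ((Finset.univ : Finset H).erase 1)).card :=
          Finset.card_image_le
      _ = H.index * (Nat.card H - 1) := by
          rw [Finset.card_product, Finset.card_erase_of_mem (Finset.mem_univ _),
            Finset.card_univ, Finset.card_univ, ← Nat.card_eq_fintype_card,
            ← Nat.card_eq_fintype_card]
          rfl
  have hsplit : Nat.card (frobeniusKernel H) + U.card = Nat.card G := by
    have h1 : Nat.card (frobeniusKernel H)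
        = (Finset.univ.filter (fun g => g ∈ frobeniusKernel H)).card := by
      rw [Nat.card_eq_fintype_card, Fintype.card_subtype]
    rw [h1, Nat.card_eq_fintype_card, ← Finset.card_univ (α := G)]
    exact Finset.card_filter_add_card_filter_not (s := Finset.univ) (fun g => g ∈ frobeniusKernel H)
  have hidx : H.index * Nat.card H = Nat.card G := H.index_mul_card
  have hHpos : 0 < Nat.card H := Nat.card_pos
  have hmul : H.index * Nat.card H = H.index * (Nat.card H - 1) + H.index := by
    have : Nat.card H = (Nat.card H - 1) + 1 := by omega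
    conv_lhs => rw [this]
    ring
  omega

end Count

section Main

variable {G : Type u} [Group G]

/-- **Frobenius' theorem**: the Frobenius kernel is a normal subgroup complementing `H`. -/
theorem frobenius_kernel_theorem [Finite G] (H : Subgroup G) (hH : IsFrobeniusComplement H) :
    ∃ N : Subgroup G, (N : Set G) = frobeniusKernel H ∧ N.Normal ∧
      Subgroup.IsComplement' N H := by
  classical
  have := Fintype.ofFinite G
  let _ : Fintype H := Fintype.ofFinite H
  let _ := Helper74.irrFintype H
  have hker : ∀ φ : IrrCharacter H, ∃ N : Subgroup G, N.Normal ∧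
      ∀ g, g ∈ N ↔ fkStar H (φ : H → ℂ) g = fkStar H (φ : H → ℂ) 1 :=
    fun φ => fk_exists_normal_kernel (Helper74.isCharacter_of_isIrr (fkStar_isIrr hH φ))
  choose Nφ hNn hNm using hker
  let N : Subgroup G := ⨅ φ, Nφ φ
  have hNnormal : N.Normal := Subgroup.normal_iInf_normal hNn
  have hstar1 : ∀ φ : IrrCharacter H, fkStar H (φ : H → ℂ) 1 = (φ : H → ℂ) 1 := fun φ =>
    fkStar_apply_kernel hH (Helper74.irr_isClassFunction φ) (Or.inl rfl)
  have hmemN : ∀ g, g ∈ N ↔
      ∀ φ : IrrCharacter H, fkStar H (φ : H → ℂ) g = (φ : H → ℂ) 1 := by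
    intro g
    simp only [N, Subgroup.mem_iInf, hNm, hstar1]
  have hKN : frobeniusKernel H ⊆ (N : Set G) := fun g hg =>
    (hmemN g).mpr (fun φ => fkStar_apply_kernel hH (Helper74.irr_isClassFunction φ) hg)
  have hNH : ∀ h, h ∈ N → h ∈ H → h = 1 := by
    intro h hN hh
    have hval : ∀ φ : IrrCharacter H, (φ : H → ℂ) ⟨h, hh⟩ = (φ : H → ℂ) 1 := fun φ => by
      rw [← fkStar_restrict hH (Helper74.irr_isClassFunction φ) ⟨h, hh⟩]
      exact (hmemN h).mp hN φ
    by_contra hne
    have hne' : (⟨h, hh⟩ : H) ≠ 1 := fun hc => hne (congrArg Subtype.val hc)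
    have h1 := Helper74.second_orthogonality (G := H) ⟨h, hh⟩ 1
    have h2 := Helper74.second_orthogonality (G := H) 1 1
    rw [if_neg (by rwa [isConj_one_left])] at h1
    rw [if_pos (IsConj.refl 1)] at h2
    simp only [hval] at h1
    rw [h1] at h2
    have hpos : Nat.card (Subgroup.centralizer ({1} : Set H)) ≠ 0 := Nat.card_pos.ne'
    exact hpos (by exact_mod_cast h2.symm)
  have hNK : (N : Set G) ⊆ frobeniusKernel H := by
    intro g hg
    by_contra hgK
    have hg1 : g ≠ 1 := fun h => hgK (Or.inl h)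
    have hex : ∃ x : G, g ∈ MulAut.conj x • H := by
      by_contra hcon
      push Not at hcon
      exact hgK (Or.inr hcon)
    obtain ⟨x, hx⟩ := hex
    rw [fk_conj_mem_iff] at hx
    have hxN : x⁻¹ * g * x ∈ N := by
      have := hNnormal.conj_mem g hg x⁻¹
      simpa using this
    have h3 := hNH _ hxN hx
    apply hg1
    have h2 : g = x * (x⁻¹ * g * x) * x⁻¹ := by group
    rw [h2, h3]; group
  have hNeq : (N : Set G) = frobeniusKernel H := Set.Subset.antisymm hNK hKN
  refine ⟨N, hNeq, hNnormal, ?_⟩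
  have hdisj : Disjoint N H := by
    rw [Subgroup.disjoint_def]
    intro x hxN hxH
    exact hNH x hxN hxH
  apply Subgroup.isComplement'_of_card_mul_and_disjoint _ hdisj
  have hle : Nat.card N * Nat.card H ≤ Nat.card G := by
    rw [← Nat.card_prod]
    exact Nat.card_le_card_of_injective _ (Subgroup.mul_injective_of_disjoint hdisj)
  have hge : H.index ≤ Nat.card N := by
    have h4 := fk_index_le_card_kernel H
    rw [← hNeq] at h4
    exact h4
  have hidx : H.index * Nat.card H = Nat.card G := H.index_mul_card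
  have h5 : H.index * Nat.card H ≤ Nat.card N * Nat.card H := Nat.mul_le_mul_right _ hge
  omega

end Main

end Cfsg.Agent.Helper75
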