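import Mathlib
import Cfsg.Agent.Helper63.Frattini

/-!
# Auxiliary lemmas for Shult's theorem with a nilpotent target

* `conjOn` : conjugation by an element of `N_X(L)` as an automorphism of `L`.
* `normalizer_le_normalizer_map_of_characteristic` : characteristic subgroups of `L` are normalized
  by `N_X(L)`.
* `comm_eq_bot_of_comm_comm_eq_bot` : coprime action, `[L, D, D] = 1 → [L, D] = 1`.
* `exists_fixed_in_coset` : a `p`-group acting on a coset of a `p'`-group has a fixed point.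
* facts on the image `fratIn L` of the Frattini subgroup of a `p`-subgroup `L`.
-/

set_option autoImplicit false

namespace Cfsg.Agent.Helper75.ShultNil

open Subgroup
open scoped commutatorElement

variable {X : Type*} [Group X]

/-- Conjugation by `g ∈ N_X(L)` as an automorphism of `L`. -/
def conjOn {L : Subgroup X} (g : X) (hg : g ∈ normalizer (L : Set X)) : ↥L ≃* ↥L where
  toFun x := ⟨g * x * g⁻¹, (mem_normalizer_iff.mp hg x).mp x.2⟩
  invFun x := ⟨g⁻¹ * x * g, by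
    have h := (mem_normalizer_iff.mp (inv_mem hg) x).mp x.2
    simpa using h⟩
  left_inv x := by
    apply Subtype.ext
    show g⁻¹ * (g * x * g⁻¹) * g = x
    group
  right_inv x := by
    apply Subtype.ext
    show g * (g⁻¹ * x * g) * g⁻¹ = x
    group
  map_mul' x y := by
    apply Subtype.ext
    show g * (x * y) * g⁻¹ = (g * x * g⁻¹) * (g * y * g⁻¹)
    group

theorem conjOn_coe {L : Subgroup X} (g : X) (hg : g ∈ normalizer (L : Set X)) (x : ↥L) :
    ((conjOn g hg x : ↥L) : X) = g * x * g⁻¹ := rfl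

/-- Characteristic subgroups of `L` are normalized by `N_X(L)`. -/
theorem normalizer_le_normalizer_map_of_characteristic {L : Subgroup X} (H : Subgroup ↥L)
    [hH : H.Characteristic] :
    normalizer (L : Set X) ≤ normalizer ((H.map L.subtype : Subgroup X) : Set X) := by
  have key : ∀ g ∈ normalizer (L : Set X), ∀ y ∈ H.map L.subtype,
      g * y * g⁻¹ ∈ H.map L.subtype := by
    intro g hg y hy
    obtain ⟨z, hz, rfl⟩ := hy
    have h1 : conjOn g hg z ∈ H := by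
      have := (characteristic_iff_map_eq.mp hH) (conjOn g hg)
      rw [← this]
      exact ⟨z, hz, rfl⟩
    exact ⟨conjOn g hg z, h1, rfl⟩
  intro g hg
  rw [mem_normalizer_iff]
  intro y
  constructor
  · exact key g hg y
  · intro h
    have := key g⁻¹ (inv_mem hg) _ h
    have e : g⁻¹ * (g * y * g⁻¹) * g⁻¹⁻¹ = y := by group
    rwa [e] at this

/-- Coprime action: `[L, D, D] = 1` implies `[L, D] = 1`. -/
theorem comm_eq_bot_of_comm_comm_eq_bot [Finite X] {L D : Subgroup X} {ℓ : ℕ}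
    (hL : IsPGroup ℓ L) (hD : (Nat.card D).Coprime ℓ) (hDL : D ≤ normalizer (L : Set X))
    (h : ⁅⁅L, D⁆, D⁆ = ⊥) : ⁅L, D⁆ = ⊥ := by
  rw [commutator_eq_bot_iff_le_centralizer]
  intro x hx
  rw [mem_centralizer_iff]
  intro d hd
  -- `c = [x, d]`
  have hcL : ⁅x, d⁆ ∈ L := by
    have h1 : d * x⁻¹ * d⁻¹ ∈ L := (mem_normalizer_iff.mp (hDL hd) x⁻¹).mp (L.inv_mem hx)
    have e : ⁅x, d⁆ = x * (d * x⁻¹ * d⁻¹) := by
      simp only [commutatorElement_def]; group
    rw [e]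
    exact L.mul_mem hx h1
  have hcd : ⁅x, d⁆ * d = d * ⁅x, d⁆ := by
    have h1 : ⁅⁅x, d⁆, d⁆ ∈ ⁅⁅L, D⁆, D⁆ :=
      commutator_mem_commutator (commutator_mem_commutator hx hd) hd
    rw [h, mem_bot] at h1
    rw [commutatorElement_def] at h1
    have h2 : ⁅x, d⁆ * d * ⁅x, d⁆⁻¹ * d⁻¹ * d * ⁅x, d⁆ = d * ⁅x, d⁆ := by
      rw [h1, one_mul]
    rw [← h2]
    group
  have hstep : d * x⁻¹ * d⁻¹ = x⁻¹ * ⁅x, d⁆ := by
    simp only [commutatorElement_def]; group
  have hpow : ∀ n : ℕ, d ^ n * x⁻¹ * (d ^ n)⁻¹ = x⁻¹ * ⁅x, d⁆ ^ n := by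
    intro n
    induction n with
    | zero => simp
    | succ n ih =>
      have hcn : d * ⁅x, d⁆ ^ n * d⁻¹ = ⁅x, d⁆ ^ n := by
        have : Commute d (⁅x, d⁆ ^ n) := (Commute.pow_right (show Commute d ⁅x, d⁆ from hcd.symm) n)
        rw [this.eq, mul_inv_cancel_right]
      calc d ^ (n + 1) * x⁻¹ * (d ^ (n + 1))⁻¹
          = d * (d ^ n * x⁻¹ * (d ^ n)⁻¹) * d⁻¹ := by
            rw [pow_succ']; group
        _ = d * (x⁻¹ * ⁅x, d⁆ ^ n) * d⁻¹ := by rw [ih]
        _ = (d * x⁻¹ * d⁻¹) * (d * ⁅x, d⁆ ^ n * d⁻¹) := by group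
        _ = x⁻¹ * ⁅x, d⁆ * ⁅x, d⁆ ^ n := by rw [hstep, hcn]
        _ = x⁻¹ * ⁅x, d⁆ ^ (n + 1) := by rw [pow_succ', mul_assoc]
  have h1 : ⁅x, d⁆ ^ (Nat.card D) = 1 := by
    have h2 := hpow (Nat.card D)
    have h3 : d ^ Nat.card D = 1 := by
      have h4 : (⟨d, hd⟩ : ↥D) ^ Nat.card D = 1 := pow_card_eq_one'
      have h5 := congrArg Subtype.val h4
      rwa [Subgroup.coe_pow, Subgroup.coe_one] at h5
    rw [h3] at h2
    simpa using h2.symm
  obtain ⟨k, hk⟩ := hL ⟨⁅x, d⁆, hcL⟩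
  have h2 : ⁅x, d⁆ ^ (ℓ ^ k) = 1 := by
    have h5 := congrArg Subtype.val hk
    rwa [Subgroup.coe_pow, Subgroup.coe_one] at h5
  have h3 : ⁅x, d⁆ = 1 := by
    have h4 : orderOf ⁅x, d⁆ ∣ Nat.card D := orderOf_dvd_of_pow_eq_one h1
    have h5 : orderOf ⁅x, d⁆ ∣ ℓ ^ k := orderOf_dvd_of_pow_eq_one h2
    have h6 : orderOf ⁅x, d⁆ ∣ 1 := by
      have := Nat.dvd_gcd h4 h5
      rwa [Nat.Coprime.pow_right k hD] at this
    exact orderOf_eq_one_iff.mp (Nat.dvd_one.mp h6)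
  rw [commutatorElement_def] at h3
  have : x * d = d * x := by
    have h4 : x * d * x⁻¹ * d⁻¹ * d * x = d * x := by rw [h3, one_mul]
    rw [← h4]; group
  exact this.symm

/-- A `p`-group `A` acting by conjugation on an `A`-invariant coset `x Φ` of a subgroup of order
prime to `p` fixes a point of the coset. -/
theorem exists_fixed_in_coset [Finite X] {A Φ : Subgroup X} {p : ℕ} [Fact p.Prime]
    (hA : IsPGroup p A) (hΦp : ¬ p ∣ Nat.card Φ) (hAΦ : A ≤ normalizer (Φ : Set X)) (x : X)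
    (hx : ∀ a ∈ A, x⁻¹ * (a * x * a⁻¹) ∈ Φ) :
    ∃ y, x⁻¹ * y ∈ Φ ∧ ∀ a ∈ A, a * y * a⁻¹ = y := by
  classical
  let S : Type _ := {y : X // x⁻¹ * y ∈ Φ}
  have hmem : ∀ (a : ↥A) (y : S), x⁻¹ * ((a : X) * y.1 * (a : X)⁻¹) ∈ Φ := by
    intro a y
    have h1 : (a : X) * (x⁻¹ * y.1) * (a : X)⁻¹ ∈ Φ :=
      (mem_normalizer_iff.mp (hAΦ a.2) _).mp y.2
    have h2 := Φ.mul_mem (hx a a.2) h1
    have e : x⁻¹ * ((a : X) * x * (a : X)⁻¹) * ((a : X) * (x⁻¹ * y.1) * (a : X)⁻¹)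
        = x⁻¹ * ((a : X) * y.1 * (a : X)⁻¹) := by group
    rwa [e] at h2
  let _inst : MulAction ↥A S :=
    { smul := fun a y => ⟨(a : X) * y.1 * (a : X)⁻¹, hmem a y⟩
      one_smul := fun y => by
        apply Subtype.ext
        show ((1 : ↥A) : X) * y.1 * ((1 : ↥A) : X)⁻¹ = y.1
        simp
      mul_smul := fun a b y => by
        apply Subtype.ext
        show ((a * b : ↥A) : X) * y.1 * ((a * b : ↥A) : X)⁻¹
          = (a : X) * ((b : X) * y.1 * (b : X)⁻¹) * (a : X)⁻¹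
        rw [Subgroup.coe_mul]; group }
  have hcard : Nat.card S = Nat.card Φ := by
    apply Nat.card_congr
    refine ⟨fun y => ⟨x⁻¹ * y.1, y.2⟩, fun f => ⟨x * f.1, by simpa using f.2⟩, ?_, ?_⟩
    · intro y; apply Subtype.ext; simp
    · intro f; apply Subtype.ext; simp
  have : Finite S := Subtype.finite
  have hne := hA.nonempty_fixed_point_of_prime_not_dvd_card S (by rw [hcard]; exact hΦp)
  obtain ⟨y, hy⟩ := hne
  refine ⟨y.1, y.2, fun a ha => ?_⟩
  have := hy ⟨a, ha⟩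
  exact congrArg Subtype.val this

/-- The image in `X` of the Frattini subgroup of `L`. -/
def fratIn (L : Subgroup X) : Subgroup X := (frattini ↥L).map L.subtype

theorem fratIn_le (L : Subgroup X) : fratIn L ≤ L := map_subtype_le _

theorem normalizer_le_normalizer_fratIn (L : Subgroup X) :
    normalizer (L : Set X) ≤ normalizer ((fratIn L : Subgroup X) : Set X) := by
  have : (frattini ↥L).Characteristic := frattini_characteristic
  exact normalizer_le_normalizer_map_of_characteristic (frattini ↥L)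

theorem fratIn_ne [Finite X] {L : Subgroup X} (hL : L ≠ ⊥) : fratIn L ≠ L := by
  intro h
  have : Nontrivial ↥L := (Subgroup.nontrivial_iff_ne_bot L).mpr hL
  obtain ⟨M, hM⟩ : ∃ M : Subgroup ↥L, IsCoatom M := by
    rcases IsCoatomic.eq_top_or_exists_le_coatom (⊥ : Subgroup ↥L) with h1 | ⟨M, hM, _⟩
    · exact absurd h1 bot_ne_top
    · exact ⟨M, hM⟩
  have h1 : frattini ↥L ≤ M := frattini_le_coatom hM
  have h2 : frattini ↥L = ⊤ := by
    rw [eq_top_iff]
    intro z _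
    have : (z : X) ∈ fratIn L := by rw [h]; exact z.2
    obtain ⟨w, hw, hwz⟩ := this
    have : w = z := Subtype.ext hwz
    rwa [← this]
  exact hM.1 (eq_top_iff.mpr (h2 ▸ h1))

theorem commutator_mem_fratIn [Finite X] {L : Subgroup X} {ℓ : ℕ} [Fact ℓ.Prime]
    (hL : IsPGroup ℓ L) {x y : X} (hx : x ∈ L) (hy : y ∈ L) : ⁅x, y⁆ ∈ fratIn L := by
  have h1 : commutator ↥L ≤ frattini ↥L := by
    unfold frattini Order.radical
    simp only [le_iInf_iff]
    intro K hK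
    have hn : K.Normal := Cfsg.Agent.Helper63.normal_of_isCoatom_of_isPGroup hL K hK
    have hidx : K.index = ℓ := Cfsg.Agent.Helper63.index_of_isCoatom_of_isPGroup hL K hK
    have hcard : Nat.card (↥L ⧸ K) = ℓ := by rw [← Subgroup.index_eq_card]; exact hidx
    have : IsCyclic (↥L ⧸ K) := isCyclic_of_prime_card hcard
    have hcomm : IsMulCommutative (↥L ⧸ K) := ⟨⟨IsCyclic.commGroup.mul_comm⟩⟩
    exact Subgroup.Normal.quotient_commutative_iff_commutator_le.mp hcomm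
  have h2 : ⁅(⟨x, hx⟩ : ↥L), ⟨y, hy⟩⁆ ∈ commutator ↥L :=
    commutator_mem_commutator (mem_top _) (mem_top _)
  exact ⟨_, h1 h2, rfl⟩

theorem pow_mem_fratIn [Finite X] {L : Subgroup X} {ℓ : ℕ} [Fact ℓ.Prime]
    (hL : IsPGroup ℓ L) {x : X} (hx : x ∈ L) : x ^ ℓ ∈ fratIn L :=
  ⟨_, Cfsg.Agent.Helper63.pow_prime_mem_frattini hL ⟨x, hx⟩, rfl⟩

end Cfsg.Agent.Helper75.ShultNil
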