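import Mathlib
import Cfsg.Prelude.Def_Characters
import Cfsg.Agent.Helper74.CharBasic
import Cfsg.Agent.Helper74.CharComplete
import Cfsg.Agent.Helper15.Clifford
import Cfsg.Agent.Helper76.CharCentral

/-!
# Averaging a character over a normal subgroup (helper75)

For a normal subgroup `K` of a finite group `N` and a function `f` on `N`, `avgK K f` is the
function `g ↦ |K|⁻¹ ∑_{k ∈ K} f (g k)`.  On class functions it is the orthogonal projection
onto the class functions that are constant on cosets of `K`; on an irreducible character it is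
`0` or the identity (Schur).  Consequence (`avgK_norm_bound`): if the character `φ` is not
constant on `K` then `∑ |φ|² ≥ ∑ |avgK φ|² + |N|`.
-/

set_option autoImplicit false

namespace Cfsg.Agent.Helper75

open Cfsg
open scoped ComplexConjugate

universe u

section avg

variable {N : Type u} [Group N]

/-- The average of `f` over the right cosets of `K`. -/
noncomputable def avgK (K : Subgroup N) [Fintype K] (f : N → ℂ) : N → ℂ :=
  fun g => (Nat.card K : ℂ)⁻¹ * ∑ k : K, f (g * (k : N))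

variable (K : Subgroup N) [Fintype K]

theorem avgK_apply (f : N → ℂ) (g : N) :
    avgK K f g = (Nat.card K : ℂ)⁻¹ * ∑ k : K, f (g * (k : N)) := rfl

theorem avgK_add (f₁ f₂ : N → ℂ) : avgK K (f₁ + f₂) = avgK K f₁ + avgK K f₂ := by
  ext g
  simp only [avgK_apply, Pi.add_apply, Finset.sum_add_distrib, mul_add]

theorem avgK_smul (c : ℂ) (f : N → ℂ) : avgK K (c • f) = c • avgK K f := by
  ext g
  simp only [avgK_apply, Pi.smul_apply, smul_eq_mul, ← Finset.mul_sum]
  ring

theorem avgK_zero : avgK K (0 : N → ℂ) = 0 := by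
  ext g
  simp [avgK_apply]

theorem avgK_sum {ι : Type*} (s : Finset ι) (f : ι → N → ℂ) :
    avgK K (∑ i ∈ s, f i) = ∑ i ∈ s, avgK K (f i) := by
  classical
  induction s using Finset.induction_on with
  | empty => simp [avgK_zero]
  | insert a s ha ih => rw [Finset.sum_insert ha, Finset.sum_insert ha, avgK_add, ih]

/-- `avgK f` is invariant under right multiplication by elements of `K`. -/
theorem avgK_mul_right (f : N → ℂ) (g : N) (k₀ : K) :
    avgK K f (g * (k₀ : N)) = avgK K f g := by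
  simp only [avgK_apply]
  congr 1
  refine Fintype.sum_equiv (Equiv.mulLeft k₀) _ _ (fun k => ?_)
  simp [mul_assoc]

theorem card_K_ne_zero : (Nat.card K : ℂ) ≠ 0 := by
  have : Nat.card K ≠ 0 := Nat.card_pos.ne'
  exact_mod_cast this

/-- `avgK` is idempotent. -/
theorem avgK_avgK (f : N → ℂ) : avgK K (avgK K f) = avgK K f := by
  ext g
  rw [avgK_apply]
  simp only [avgK_mul_right]
  rw [Finset.sum_const, Finset.card_univ, nsmul_eq_mul, ← Nat.card_eq_fintype_card, ← mul_assoc,
    inv_mul_cancel₀ (card_K_ne_zero K), one_mul]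

/-- `avgK` is self-adjoint for `classInner`. -/
theorem classInner_avgK [Fintype N] (f f' : N → ℂ) :
    classInner (avgK K f) f' = classInner f (avgK K f') := by
  unfold classInner
  congr 1
  simp only [avgK_apply, map_mul, map_inv₀, Complex.conj_natCast, map_sum]
  simp only [mul_assoc, Finset.mul_sum, Finset.sum_mul]
  rw [Finset.sum_comm]
  conv_rhs => rw [Finset.sum_comm]
  refine Fintype.sum_equiv (Equiv.inv K) _ _ (fun k => ?_)
  refine Fintype.sum_equiv (Equiv.mulRight (k : N)) _ _ (fun g => ?_)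
  simp only [Equiv.coe_mulRight, Equiv.inv_apply, InvMemClass.coe_inv, mul_inv_cancel_right]
  ring

/-- `avgK` preserves class functions when `K` is normal. -/
theorem isClassFunction_avgK [hK : K.Normal] {f : N → ℂ} (hf : IsClassFunction N f) :
    IsClassFunction N (avgK K f) := by
  intro g x
  simp only [avgK_apply]
  congr 1
  let e : K ≃ K :=
    { toFun := fun k => ⟨x⁻¹ * (k : N) * x, by
        have := hK.conj_mem (k : N) k.2 x⁻¹
        simpa using this⟩
      invFun := fun k => ⟨x * (k : N) * x⁻¹, hK.conj_mem (k : N) k.2 x⟩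
      left_inv := fun k => by ext; simp [mul_assoc]
      right_inv := fun k => by ext; simp [mul_assoc] }
  refine Fintype.sum_equiv e _ _ (fun k => ?_)
  have : x * g * x⁻¹ * (k : N) = x * (g * (x⁻¹ * (k : N) * x)) * x⁻¹ := by group
  rw [this, hf]
  rfl

end avg

section schur

variable {N : Type u} [Group N] [Fintype N] (K : Subgroup N) [Fintype K]

/-- On an irreducible character, `avgK` acts as a scalar. -/
theorem avgK_irr_scalar [hK : K.Normal] {θ : N → ℂ} (hθ : IsIrrCharacter N θ) :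
    ∃ μ : ℂ, avgK K θ = μ • θ := by
  classical
  obtain ⟨n, ρ, hρ, rfl⟩ := hθ
  let f : N → ℂ := fun x => if x ∈ K then 1 else 0
  have hf : IsClassFunction N f := by
    intro g h
    have : h * g * h⁻¹ ∈ K ↔ g ∈ K := by
      constructor
      · intro hm
        have := hK.conj_mem _ hm h⁻¹
        simpa [mul_assoc] using this
      · intro hm; exact hK.conj_mem _ hm h
    simp only [f, this]
  obtain ⟨c, hc⟩ := Helper74.schur_scalar ρ hρ (Helper74.classOpIntertwining hf ρ)
  have hc' : Helper74.classOp f ρ = c • LinearMap.id := hc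
  refine ⟨(Nat.card K : ℂ)⁻¹ * c, ?_⟩
  ext g
  rw [avgK_apply, Pi.smul_apply, smul_eq_mul, mul_assoc]
  congr 1
  -- `∑ k, χ (g k) = trace (ρ g ∘ classOp f ρ)`
  have h1 : ∑ k : K, ρ.character (g * (k : N)) = ∑ x : N, f x * ρ.character (g * x) := by
    have h2 : ∑ x : N, f x * ρ.character (g * x)
        = ∑ x ∈ Finset.univ.filter (fun x : N => x ∈ K), ρ.character (g * x) := by
      rw [Finset.sum_filter]
      refine Finset.sum_congr rfl (fun x _ => ?_)
      by_cases hx : x ∈ K <;> simp [f, hx]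
    rw [h2]
    symm
    refine Finset.sum_subtype _ (fun x => by simp) _
  rw [h1]
  have h3 : ∑ x : N, f x * ρ.character (g * x)
      = LinearMap.trace ℂ _ (ρ g * Helper74.classOp f ρ) := by
    unfold Helper74.classOp
    rw [Finset.mul_sum, map_sum]
    refine Finset.sum_congr rfl (fun x _ => ?_)
    rw [mul_smul_comm, map_smul, smul_eq_mul]
    congr 1
    unfold Representation.character
    rw [map_mul]
  rw [h3, hc', mul_smul_comm, map_smul, smul_eq_mul]
  congr 1

/-- On an irreducible character, `avgK` is `0` or the identity. -/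
theorem avgK_irr [hK : K.Normal] {θ : N → ℂ} (hθ : IsIrrCharacter N θ) :
    avgK K θ = 0 ∨ avgK K θ = θ := by
  obtain ⟨μ, hμ⟩ := avgK_irr_scalar K hθ
  have h1 : avgK K (avgK K θ) = avgK K θ := avgK_avgK K θ
  rw [hμ, avgK_smul, hμ, smul_smul] at h1
  have h2 := congrFun h1 1
  simp only [Pi.smul_apply, smul_eq_mul] at h2
  have hθ1 : θ 1 ≠ 0 := by
    obtain ⟨n, hn, h⟩ := Helper76.irr_exists_degree hθ
    rw [h]; exact_mod_cast hn.ne'
  have h3 : μ * μ = μ := mul_right_cancel₀ hθ1 h2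
  have h4 : μ * (μ - 1) = 0 := by rw [mul_sub, h3, mul_one, sub_self]
  rcases mul_eq_zero.mp h4 with h | h
  · left; rw [hμ, h, zero_smul]
  · right; rw [hμ, sub_eq_zero.mp h, one_smul]

/-- If the character `φ` of `N` is not constant on the normal subgroup `K`, then
`∑ |avgK φ|² + |N| ≤ ∑ |φ|²`. -/
theorem avgK_norm_bound [hK : K.Normal] {φ : N → ℂ} (hφ : IsCharacter N φ)
    (hk : ∃ k ∈ K, φ k ≠ φ 1) :
    (∑ g : N, Complex.normSq (avgK K φ g)) + (Nat.card N : ℝ)
      ≤ ∑ g : N, Complex.normSq (φ g) := by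
  classical
  let _ := Helper74.irrFintype N
  have hcf : IsClassFunction N φ := Helper74.isClassFunction_of_isCharacter hφ
  choose m hm using fun ψ : IrrCharacter N => Helper74.isCharacter_inner_irr_nat hφ ψ
  have hE : ∀ ψ : IrrCharacter N, avgK K (ψ : N → ℂ) = 0 ∨ avgK K (ψ : N → ℂ) = ψ :=
    fun ψ => avgK_irr K ψ.2
  -- coefficients of `avgK φ`
  have hb : ∀ ψ : IrrCharacter N, classInner (avgK K φ) (ψ : N → ℂ)
      = if avgK K (ψ : N → ℂ) = 0 then 0 else (m ψ : ℂ) := by
    intro ψ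
    rw [classInner_avgK]
    by_cases h0 : avgK K (ψ : N → ℂ) = 0
    · rw [if_pos h0, h0]
      simp [classInner]
    · rw [if_neg h0]
      rcases hE ψ with h | h
      · exact absurd h h0
      · rw [h, hm]
  -- a constituent killed by `avgK`
  have hex : ∃ ψ₀ : IrrCharacter N, avgK K (ψ₀ : N → ℂ) = 0 ∧ m ψ₀ ≠ 0 := by
    by_contra hcon
    push Not at hcon
    have hfix : avgK K φ = φ := by
      have h1 := Helper74.isCharacter_eq_sum_irr hφ
      conv_lhs => rw [h1]
      conv_rhs => rw [h1]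
      rw [avgK_sum]
      refine Finset.sum_congr rfl (fun ψ _ => ?_)
      rw [avgK_smul]
      rcases hE ψ with h | h
      · have := hcon ψ h
        rw [hm ψ, this]
        simp
      · rw [h]
    obtain ⟨k, hkK, hkne⟩ := hk
    apply hkne
    have h2 := avgK_mul_right K φ 1 ⟨k, hkK⟩
    rw [hfix] at h2
    simpa using h2
  obtain ⟨ψ₀, hψ₀, hmψ₀⟩ := hex
  -- Parseval
  have hP : classInner φ φ = ∑ ψ : IrrCharacter N, ((m ψ : ℂ)) * (m ψ : ℂ) := by
    rw [Helper15.classInner_eq_sum_irr hcf]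
    refine Finset.sum_congr rfl (fun ψ _ => ?_)
    rw [hm ψ]
    simp
  have hQ : classInner (avgK K φ) (avgK K φ)
      = ∑ ψ : IrrCharacter N,
          (if avgK K (ψ : N → ℂ) = 0 then (0 : ℂ) else (m ψ : ℂ) * (m ψ : ℂ)) := by
    rw [Helper15.classInner_eq_sum_irr (isClassFunction_avgK K hcf)]
    refine Finset.sum_congr rfl (fun ψ _ => ?_)
    rw [hb ψ]
    by_cases h0 : avgK K (ψ : N → ℂ) = 0
    · simp [h0]
    · simp [h0]
  rw [Helper74.classInner_self] at hP hQ
  have hN : (Nat.card N : ℝ) ≠ 0 := by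
    have : Nat.card N ≠ 0 := Nat.card_pos.ne'
    exact_mod_cast this
  have hP' : (∑ g : N, Complex.normSq (φ g)) = (Nat.card N : ℝ) * ∑ ψ : IrrCharacter N, ((m ψ : ℝ)) * (m ψ : ℝ) := by
    have : ((Nat.card N : ℝ) : ℂ)⁻¹ * ((∑ g : N, Complex.normSq (φ g) : ℝ) : ℂ)
        = ((∑ ψ : IrrCharacter N, ((m ψ : ℝ)) * (m ψ : ℝ) : ℝ) : ℂ) := by
      push_cast
      exact hP
    have h2 : (Nat.card N : ℝ)⁻¹ * (∑ g : N, Complex.normSq (φ g))
        = ∑ ψ : IrrCharacter N, ((m ψ : ℝ)) * (m ψ : ℝ) := by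
      exact_mod_cast this
    rw [← h2, ← mul_assoc, mul_inv_cancel₀ hN, one_mul]
  have hQ' : (∑ g : N, Complex.normSq (avgK K φ g)) = (Nat.card N : ℝ) * ∑ ψ : IrrCharacter N,
      (if avgK K (ψ : N → ℂ) = 0 then (0 : ℝ) else (m ψ : ℝ) * (m ψ : ℝ)) := by
    have : ((Nat.card N : ℝ) : ℂ)⁻¹ * ((∑ g : N, Complex.normSq (avgK K φ g) : ℝ) : ℂ)
        = ((∑ ψ : IrrCharacter N,
          (if avgK K (ψ : N → ℂ) = 0 then (0 : ℝ) else (m ψ : ℝ) * (m ψ : ℝ)) : ℝ) : ℂ) := by
      push_cast
      rw [hQ]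
      refine Finset.sum_congr rfl (fun ψ _ => ?_)
      by_cases h0 : avgK K (ψ : N → ℂ) = 0 <;> simp [h0]
    have h2 : (Nat.card N : ℝ)⁻¹ * (∑ g : N, Complex.normSq (avgK K φ g))
        = ∑ ψ : IrrCharacter N,
          (if avgK K (ψ : N → ℂ) = 0 then (0 : ℝ) else (m ψ : ℝ) * (m ψ : ℝ)) := by
      exact_mod_cast this
    rw [← h2, ← mul_assoc, mul_inv_cancel₀ hN, one_mul]
  rw [hP', hQ']
  have hNpos : (0 : ℝ) < Nat.card N := by exact_mod_cast Nat.card_pos
  have key : (∑ ψ : IrrCharacter N,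
      (if avgK K (ψ : N → ℂ) = 0 then (0 : ℝ) else (m ψ : ℝ) * (m ψ : ℝ))) + 1
      ≤ ∑ ψ : IrrCharacter N, ((m ψ : ℝ)) * (m ψ : ℝ) := by
    have hsplit : ∑ ψ : IrrCharacter N, ((m ψ : ℝ)) * (m ψ : ℝ)
        = (∑ ψ : IrrCharacter N,
          (if avgK K (ψ : N → ℂ) = 0 then (0 : ℝ) else (m ψ : ℝ) * (m ψ : ℝ)))
          + ∑ ψ : IrrCharacter N,
          (if avgK K (ψ : N → ℂ) = 0 then (m ψ : ℝ) * (m ψ : ℝ) else 0) := by
      rw [← Finset.sum_add_distrib]
      refine Finset.sum_congr rfl (fun ψ _ => ?_)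
      by_cases h0 : avgK K (ψ : N → ℂ) = 0 <;> simp [h0]
    rw [hsplit]
    have h1 : (1 : ℝ) ≤ ∑ ψ : IrrCharacter N,
          (if avgK K (ψ : N → ℂ) = 0 then (m ψ : ℝ) * (m ψ : ℝ) else 0) := by
      have hle : (if avgK K (ψ₀ : N → ℂ) = 0 then (m ψ₀ : ℝ) * (m ψ₀ : ℝ) else 0)
          ≤ ∑ ψ : IrrCharacter N,
          (if avgK K (ψ : N → ℂ) = 0 then (m ψ : ℝ) * (m ψ : ℝ) else 0) := by
        refine Finset.single_le_sum (f := fun ψ : IrrCharacter N =>
          (if avgK K (ψ : N → ℂ) = 0 then (m ψ : ℝ) * (m ψ : ℝ) else 0)) (fun ψ _ => ?_)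
          (Finset.mem_univ ψ₀)
        by_cases h0 : avgK K (ψ : N → ℂ) = 0
        · simp only [h0, if_true]; positivity
        · simp [h0]
      rw [if_pos hψ₀] at hle
      have h1m : (1 : ℝ) ≤ (m ψ₀ : ℝ) := by
        have : 1 ≤ m ψ₀ := Nat.one_le_iff_ne_zero.mpr hmψ₀
        exact_mod_cast this
      nlinarith
    linarith
  nlinarith

end schur

end Cfsg.Agent.Helper75
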