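import Mathlib

/-!
# Group-theoretic part of the Feit–Thompson abelian-subgroup degree bound (helper75)

`H` is an abelian subgroup of `G` meeting the centre trivially such that the centralizer of a
non-central element meets at most one conjugate of `H` nontrivially.  `FTS H` is the set of
elements commuting with a non-identity element of `H`.
-/

set_option autoImplicit false

namespace Cfsg.Agent.Helper75

universe u

variable {G : Type u} [Group G]

/-- The hypotheses on `H`. -/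
structure FTHyp (H : Subgroup G) : Prop where
  hab : ∀ a ∈ H, ∀ b ∈ H, a * b = b * a
  hZ : H ⊓ Subgroup.center G = ⊥
  hone : ∀ g : G, g ∉ Subgroup.center G → ∀ a b : G,
    Subgroup.centralizer ({g} : Set G) ⊓ H.map (MulAut.conj a).toMonoidHom ≠ ⊥ →
    Subgroup.centralizer ({g} : Set G) ⊓ H.map (MulAut.conj b).toMonoidHom ≠ ⊥ →
    H.map (MulAut.conj a).toMonoidHom = H.map (MulAut.conj b).toMonoidHom

/-- The elements commuting with some non-identity element of `H`. -/
def FTS (H : Subgroup G) : Set G := {g | ∃ h ∈ H, h ≠ 1 ∧ g * h = h * g}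

theorem mem_map_conj_iff (H : Subgroup G) (a x : G) :
    x ∈ H.map (MulAut.conj a).toMonoidHom ↔ a⁻¹ * x * a ∈ H := by
  constructor
  · rintro ⟨y, hy, rfl⟩
    simpa [mul_assoc] using hy
  · intro h
    exact ⟨a⁻¹ * x * a, h, by simp [mul_assoc]⟩

/-- If `a⁻¹ g a` commutes with a non-identity element of `H` then the centralizer of `g` meets
the conjugate `a H a⁻¹` nontrivially. -/
theorem inf_ne_bot_of_conj_mem_FTS (H : Subgroup G) {g a : G} (h : a⁻¹ * g * a ∈ FTS H) :
    Subgroup.centralizer ({g} : Set G) ⊓ H.map (MulAut.conj a).toMonoidHom ≠ ⊥ := by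
  obtain ⟨x, hxH, hx1, hcomm⟩ := h
  intro hbot
  have hmem : a * x * a⁻¹ ∈ Subgroup.centralizer ({g} : Set G) ⊓
      H.map (MulAut.conj a).toMonoidHom := by
    refine Subgroup.mem_inf.mpr ⟨?_, ?_⟩
    · rw [Subgroup.mem_centralizer_singleton_iff]
      have h1 : a * (a⁻¹ * g * a * x) * a⁻¹ = a * (x * (a⁻¹ * g * a)) * a⁻¹ := by rw [hcomm]
      calc a * x * a⁻¹ * g = a * (x * (a⁻¹ * g * a)) * a⁻¹ := by group
        _ = a * (a⁻¹ * g * a * x) * a⁻¹ := h1.symm
        _ = g * (a * x * a⁻¹) := by group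
    · rw [mem_map_conj_iff]
      have : a⁻¹ * (a * x * a⁻¹) * a = x := by group
      rw [this]; exact hxH
  rw [hbot, Subgroup.mem_bot] at hmem
  apply hx1
  have : x = a⁻¹ * (a * x * a⁻¹) * a := by group
  rw [this, hmem]; group

theorem mem_normalizer_of_map_conj_eq (H : Subgroup G) {a b : G}
    (h : H.map (MulAut.conj a).toMonoidHom = H.map (MulAut.conj b).toMonoidHom) :
    b⁻¹ * a ∈ Subgroup.normalizer (H : Set G) := by
  rw [Subgroup.mem_normalizer_iff]
  intro x
  have key : ∀ y : G, y ∈ H.map (MulAut.conj a).toMonoidHom ↔ y ∈ H.map (MulAut.conj b).toMonoidHom := by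
    intro y; rw [h]
  have := key (a * x * a⁻¹)
  rw [mem_map_conj_iff, mem_map_conj_iff] at this
  have e1 : a⁻¹ * (a * x * a⁻¹) * a = x := by group
  have e2 : b⁻¹ * (a * x * a⁻¹) * b = b⁻¹ * a * x * (b⁻¹ * a)⁻¹ := by group
  rw [e1, e2] at this
  exact this

variable {H : Subgroup G}

theorem FTHyp.ne_one_not_mem_center (hyp : FTHyp H) {h : G} (hH : h ∈ H) (h1 : h ≠ 1) :
    h ∉ Subgroup.center G := by
  intro hc
  have : h ∈ H ⊓ Subgroup.center G := ⟨hH, hc⟩
  rw [hyp.hZ, Subgroup.mem_bot] at this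
  exact h1 this

/-- `FTS H` is contained in the normalizer of `H`. -/
theorem FTHyp.FTS_le_normalizer (hyp : FTHyp H) {g : G} (hg : g ∈ FTS H) :
    g ∈ Subgroup.normalizer (H : Set G) := by
  obtain ⟨h, hH, h1, hcomm⟩ := hg
  have hnc := hyp.ne_one_not_mem_center hH h1
  -- `C(h)` meets `H = 1 H 1⁻¹` and `g H g⁻¹`
  have hA : Subgroup.centralizer ({h} : Set G) ⊓ H.map (MulAut.conj (1 : G)).toMonoidHom ≠ ⊥ := by
    apply inf_ne_bot_of_conj_mem_FTS
    exact ⟨h, hH, h1, by simp⟩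
  have hB : Subgroup.centralizer ({h} : Set G) ⊓ H.map (MulAut.conj g).toMonoidHom ≠ ⊥ := by
    apply inf_ne_bot_of_conj_mem_FTS
    refine ⟨h, hH, h1, ?_⟩
    have : g⁻¹ * h * g = h := by
      calc g⁻¹ * h * g = g⁻¹ * (h * g) := by group
        _ = g⁻¹ * (g * h) := by rw [hcomm]
        _ = h := by group
    rw [this]
  have := mem_normalizer_of_map_conj_eq H (hyp.hone h hnc g 1 hB hA)
  simpa using this

/-- For a non-central `g`, two conjugators `a`, `b` taking `g` into `FTS H` differ by an element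
of the normalizer. -/
theorem FTHyp.conjugators (hyp : FTHyp H) {g : G} (hg : g ∉ Subgroup.center G) {a b : G}
    (ha : a⁻¹ * g * a ∈ FTS H) (hb : b⁻¹ * g * b ∈ FTS H) :
    b⁻¹ * a ∈ Subgroup.normalizer (H : Set G) :=
  mem_normalizer_of_map_conj_eq H (hyp.hone g hg a b (inf_ne_bot_of_conj_mem_FTS H ha)
    (inf_ne_bot_of_conj_mem_FTS H hb))

/-- central elements are in `FTS H` if `H ≠ 1`. -/
theorem center_subset_FTS {h₀ : G} (hh₀ : h₀ ∈ H) (h1 : h₀ ≠ 1) {z : G}
    (hz : z ∈ Subgroup.center G) : z ∈ FTS H :=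
  ⟨h₀, hh₀, h1, ((Subgroup.mem_center_iff.mp hz) h₀).symm⟩

theorem FTHyp.mul_center_mem_FTS (hyp : FTHyp H) {h₀ : G} (hh₀ : h₀ ∈ H) (h1 : h₀ ≠ 1) {h z : G}
    (hh : h ∈ H) (hz : z ∈ Subgroup.center G) : h * z ∈ FTS H := by
  refine ⟨h₀, hh₀, h1, ?_⟩
  have e1 := (Subgroup.mem_center_iff.mp hz) h₀
  calc h * z * h₀ = h * (z * h₀) := by group
    _ = h * (h₀ * z) := by rw [e1]
    _ = (h * h₀) * z := by group
    _ = (h₀ * h) * z := by rw [hyp.hab h hh h₀ hh₀]
    _ = h₀ * (h * z) := by group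

/-- An element of the normalizer of `H` outside `FTS H` is `H`-conjugate to every element of its
coset `g H`. -/
theorem exists_conj_of_not_mem_FTS [Finite G] {g : G} (hgN : g ∈ Subgroup.normalizer (H : Set G))
    (hgS : g ∉ FTS H) {h : G} (hh : h ∈ H) : ∃ x : G, x⁻¹ * g * x = g * h := by
  have hmem : ∀ x : H, g⁻¹ * (x : G)⁻¹ * g * (x : G) ∈ H := by
    intro x
    have h1 : g⁻¹ ∈ Subgroup.normalizer (H : Set G) := inv_mem hgN
    have h2 := (Subgroup.mem_normalizer_iff.mp h1 ((x : G)⁻¹)).mp (inv_mem x.2)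
    have h3 := mul_mem h2 x.2
    simpa using h3
  let ϕ : H → H := fun x => ⟨g⁻¹ * (x : G)⁻¹ * g * (x : G), hmem x⟩
  have hinj : Function.Injective ϕ := by
    intro x y hxy
    have h1 : g⁻¹ * (x : G)⁻¹ * g * (x : G) = g⁻¹ * (y : G)⁻¹ * g * (y : G) :=
      congrArg Subtype.val hxy
    have h2 : (x : G)⁻¹ * g * (x : G) = (y : G)⁻¹ * g * (y : G) := by
      have := congrArg (fun t => g * t) h1
      simpa [mul_assoc] using this
    -- `y x⁻¹` commutes with `g`
    have h3 : g * ((y : G) * (x : G)⁻¹) = ((y : G) * (x : G)⁻¹) * g := by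
      have := congrArg (fun t => (y : G) * t * (x : G)⁻¹) h2
      calc g * ((y : G) * (x : G)⁻¹) = (y : G) * ((y : G)⁻¹ * g * (y : G)) * (x : G)⁻¹ := by group
        _ = (y : G) * ((x : G)⁻¹ * g * (x : G)) * (x : G)⁻¹ := this.symm
        _ = ((y : G) * (x : G)⁻¹) * g := by group
    by_contra hne
    apply hgS
    refine ⟨(y : G) * (x : G)⁻¹, mul_mem y.2 (inv_mem x.2), ?_, h3⟩
    intro h4
    apply hne
    ext
    have : (y : G) = (x : G) := by
      have := congrArg (fun t => t * (x : G)) h4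
      simpa using this
    exact this.symm
  have hsurj : Function.Surjective ϕ := Finite.injective_iff_surjective.mp hinj
  obtain ⟨x, hx⟩ := hsurj ⟨h, hh⟩
  refine ⟨(x : G), ?_⟩
  have h1 : g⁻¹ * (x : G)⁻¹ * g * (x : G) = h := congrArg Subtype.val hx
  rw [← h1]; group

end Cfsg.Agent.Helper75
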