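import Mathlib
import Cfsg.Prelude.Def_Characters
import Cfsg.Agent.Helper75.FTAvg
import Cfsg.Agent.Helper75.FTGroup
import Cfsg.Agent.Helper76.CharCentral

/-!
# The Feit–Thompson abelian-subgroup degree bound, first inequality (helper75)
-/

set_option autoImplicit false

namespace Cfsg.Agent.Helper75

open Cfsg
open scoped ComplexConjugate

universe u

variable {G : Type u} [Group G] [Fintype G] {H : Subgroup G}

/-- Double counting: the conjugates of `FTS H` minus the centre are pairwise disjoint. -/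
theorem FTHyp.global_count (hyp : FTHyp H) (F : G → ℝ) (hF0 : ∀ g, 0 ≤ F g)
    (hFc : ∀ g a : G, F (a * g * a⁻¹) = F g)
    [DecidablePred (fun g : G => g ∈ FTS H ∧ g ∉ Subgroup.center G)]
    [DecidablePred (fun g : G => g ∉ Subgroup.center G)] :
    (Nat.card G : ℝ) *
        ∑ g ∈ Finset.univ.filter (fun g : G => g ∈ FTS H ∧ g ∉ Subgroup.center G), F g
      ≤ (Nat.card (Subgroup.normalizer (H : Set G)) : ℝ) *
          ∑ g ∈ Finset.univ.filter (fun g : G => g ∉ Subgroup.center G), F g := by
  classical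
  have h1 : ∀ a : G, ∑ g : G, (if (a⁻¹ * g * a ∈ FTS H ∧ a⁻¹ * g * a ∉ Subgroup.center G) then F g else 0)
      = ∑ g ∈ Finset.univ.filter (fun g : G => g ∈ FTS H ∧ g ∉ Subgroup.center G), F g := by
    intro a
    rw [Finset.sum_filter]
    refine Fintype.sum_equiv (MulAut.conj a⁻¹).toEquiv _ _ (fun g => ?_)
    simp only [MulEquiv.toEquiv_eq_coe, MulEquiv.coe_toEquiv, MulAut.conj_apply, inv_inv]
    have := hFc g a⁻¹
    rw [inv_inv] at this
    rw [this]
  have h2 : ∑ a : G, ∑ g : G, (if (a⁻¹ * g * a ∈ FTS H ∧ a⁻¹ * g * a ∉ Subgroup.center G) then F g else 0)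
      = (Nat.card G : ℝ) * ∑ g ∈ Finset.univ.filter (fun g : G => g ∈ FTS H ∧ g ∉ Subgroup.center G), F g := by
    simp only [h1, Finset.sum_const, Finset.card_univ, nsmul_eq_mul, Nat.card_eq_fintype_card]
  have hNcard : (Finset.univ.filter (fun a : G => a ∈ Subgroup.normalizer (H : Set G))).card
      = Nat.card (Subgroup.normalizer (H : Set G)) := by
    rw [Nat.card_eq_fintype_card, Fintype.card_subtype]
  have h3 : ∀ g : G, ∑ a : G, (if (a⁻¹ * g * a ∈ FTS H ∧ a⁻¹ * g * a ∉ Subgroup.center G) then F g else 0)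
      ≤ if g ∉ Subgroup.center G then
          (Nat.card (Subgroup.normalizer (H : Set G)) : ℝ) * F g else 0 := by
    intro g
    by_cases hg : g ∈ Subgroup.center G
    · rw [if_neg (not_not.mpr hg)]
      apply le_of_eq
      apply Finset.sum_eq_zero
      intro a _
      have hc : a⁻¹ * g * a = g := by
        have := (Subgroup.mem_center_iff.mp hg) a
        calc a⁻¹ * g * a = a⁻¹ * (g * a) := by group
          _ = a⁻¹ * (a * g) := by rw [← this]
          _ = g := by group
      rw [hc, if_neg]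
      exact fun h => h.2 hg
    · rw [if_pos hg]
      have hle : ∑ a : G, (if (a⁻¹ * g * a ∈ FTS H ∧ a⁻¹ * g * a ∉ Subgroup.center G) then F g else 0)
          ≤ ∑ a : G, (if a⁻¹ * g * a ∈ FTS H then F g else 0) := by
        refine Finset.sum_le_sum (fun a _ => ?_)
        by_cases hp : (a⁻¹ * g * a ∈ FTS H ∧ a⁻¹ * g * a ∉ Subgroup.center G)
        · rw [if_pos hp, if_pos hp.1]
        · rw [if_neg hp]
          split_ifs
          · exact hF0 g
          · exact le_refl _
      refine le_trans hle ?_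
      rw [← Finset.sum_filter, Finset.sum_const, nsmul_eq_mul]
      refine mul_le_mul_of_nonneg_right ?_ (hF0 g)
      rw [← hNcard]
      norm_cast
      by_cases hemp : (Finset.univ.filter (fun a : G => a⁻¹ * g * a ∈ FTS H)) = ∅
      · rw [hemp]; simp
      · obtain ⟨b, hb⟩ := Finset.nonempty_iff_ne_empty.mpr hemp
        rw [Finset.mem_filter] at hb
        refine Finset.card_le_card_of_injOn (fun a => b⁻¹ * a) ?_ ?_
        · intro a ha
          rw [Finset.mem_coe, Finset.mem_filter] at ha
          rw [Finset.mem_coe, Finset.mem_filter]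
          exact ⟨Finset.mem_univ _, hyp.conjugators hg ha.2 hb.2⟩
        · intro a _ a' _ h
          exact mul_left_cancel h
  calc (Nat.card G : ℝ) * ∑ g ∈ Finset.univ.filter (fun g : G => g ∈ FTS H ∧ g ∉ Subgroup.center G), F g
      = ∑ a : G, ∑ g : G, (if (a⁻¹ * g * a ∈ FTS H ∧ a⁻¹ * g * a ∉ Subgroup.center G) then F g else 0) := h2.symm
    _ = ∑ g : G, ∑ a : G, (if (a⁻¹ * g * a ∈ FTS H ∧ a⁻¹ * g * a ∉ Subgroup.center G) then F g else 0) := Finset.sum_comm
    _ ≤ ∑ g : G, (if g ∉ Subgroup.center G then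
          (Nat.card (Subgroup.normalizer (H : Set G)) : ℝ) * F g else 0) :=
        Finset.sum_le_sum (fun g _ => h3 g)
    _ = (Nat.card (Subgroup.normalizer (H : Set G)) : ℝ) *
          ∑ g ∈ Finset.univ.filter (fun g : G => g ∉ Subgroup.center G), F g := by
        rw [Finset.mul_sum, Finset.sum_filter]

/-- A central element multiplies an irreducible character by a scalar of norm one. -/
theorem irr_central_scalar_norm {χ : G → ℂ} (hχ : IsIrrCharacter G χ) {z : G}
    (hz : z ∈ Subgroup.center G) :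
    ∃ ω : ℂ, Complex.normSq ω = 1 ∧ ∀ g : G, χ (z * g) = ω * χ g := by
  obtain ⟨ω, hω⟩ := Helper76.irr_exists_central_scalar hχ z hz
  refine ⟨ω, ?_, hω⟩
  have hpow : ∀ k : ℕ, ∀ g : G, χ (z ^ k * g) = ω ^ k * χ g := by
    intro k
    induction k with
    | zero => intro g; simp
    | succ k ih =>
      intro g
      rw [pow_succ, mul_assoc, ih, hω, pow_succ]
      ring
  have h1 := hpow (orderOf z) 1
  rw [pow_orderOf_eq_one, one_mul] at h1
  have hχ1 : χ 1 ≠ 0 := by
    obtain ⟨n, hn, h⟩ := Helper76.irr_exists_degree hχ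
    rw [h]; exact_mod_cast hn.ne'
  have h2 : ω ^ orderOf z = 1 := by
    have : (ω ^ orderOf z - 1) * χ 1 = 0 := by rw [sub_mul, ← h1]; ring
    rcases mul_eq_zero.mp this with h | h
    · exact sub_eq_zero.mp h
    · exact absurd h hχ1
  have h3 : ‖ω‖ = 1 :=
    Complex.norm_eq_one_of_pow_eq_one h2 (orderOf_pos z).ne'
  rw [Complex.normSq_eq_norm_sq, h3]; norm_num

/-- The local inequality on the normalizer. -/
theorem local_norm_bound [Fintype H] {χ : G → ℂ} (hχ : IsCharacter G χ)
    (hker : ∃ h ∈ H, χ h ≠ χ 1)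
    [DecidablePred (fun g : G => g ∈ Subgroup.normalizer (H : Set G))] :
    (∑ g ∈ Finset.univ.filter (fun g : G => g ∈ Subgroup.normalizer (H : Set G)),
        Complex.normSq ((Nat.card H : ℂ)⁻¹ * ∑ h : H, χ (g * (h : G))))
      + (Nat.card (Subgroup.normalizer (H : Set G)) : ℝ)
    ≤ ∑ g ∈ Finset.univ.filter (fun g : G => g ∈ Subgroup.normalizer (H : Set G)),
        Complex.normSq (χ g) := by
  classical
  let K : Subgroup (Subgroup.normalizer (H : Set G)) :=
    H.subgroupOf (Subgroup.normalizer (H : Set G))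
  have hKn : K.Normal := Subgroup.normal_in_normalizer
  let φ : Subgroup.normalizer (H : Set G) → ℂ := fun x => χ (x : G)
  have hφ : IsCharacter (Subgroup.normalizer (H : Set G)) φ :=
    Helper74.isCharacter_restrict _ hχ
  have hk : ∃ k ∈ K, φ k ≠ φ 1 := by
    obtain ⟨h, hh, hne⟩ := hker
    refine ⟨⟨h, Subgroup.le_normalizer hh⟩, ?_, ?_⟩
    · rw [Subgroup.mem_subgroupOf]; exact hh
    · exact hne
  have key := avgK_norm_bound K hφ hk
  have e1 : ∀ g : Subgroup.normalizer (H : Set G),
      avgK K φ g = (Nat.card H : ℂ)⁻¹ * ∑ h : H, χ ((g : G) * (h : G)) := by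
    intro g
    rw [avgK_apply]
    have hc : Nat.card K = Nat.card H :=
      Nat.card_congr (Subgroup.subgroupOfEquivOfLe Subgroup.le_normalizer).toEquiv
    rw [hc]
    congr 1
    refine Fintype.sum_equiv (Subgroup.subgroupOfEquivOfLe Subgroup.le_normalizer).toEquiv _ _
      (fun k => ?_)
    simp only [φ, MulEquiv.toEquiv_eq_coe, MulEquiv.coe_toEquiv,
      Subgroup.subgroupOfEquivOfLe_apply_coe, Subgroup.coe_mul]
  simp only [e1] at key
  rw [Finset.sum_subtype (p := fun g : G => g ∈ Subgroup.normalizer (H : Set G))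
      (Finset.univ.filter (fun g : G => g ∈ Subgroup.normalizer (H : Set G))) (by simp),
    Finset.sum_subtype (p := fun g : G => g ∈ Subgroup.normalizer (H : Set G))
      (Finset.univ.filter (fun g : G => g ∈ Subgroup.normalizer (H : Set G))) (by simp)]
  exact key

/-- For `g` in the normalizer of `H` but outside `FTS H`, the average of `χ` over `g H` is
`χ g`. -/
theorem avg_eq_of_not_mem_FTS [Fintype H] {χ : G → ℂ} (hcf : IsClassFunction G χ) {g : G}
    (hgN : g ∈ Subgroup.normalizer (H : Set G)) (hgS : g ∉ FTS H) :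
    (Nat.card H : ℂ)⁻¹ * ∑ h : H, χ (g * (h : G)) = χ g := by
  have h1 : ∀ h : H, χ (g * (h : G)) = χ g := by
    intro h
    obtain ⟨x, hx⟩ := exists_conj_of_not_mem_FTS hgN hgS h.2
    rw [← hx]
    have := hcf g x⁻¹
    rwa [inv_inv] at this
  simp only [h1, Finset.sum_const, Finset.card_univ, nsmul_eq_mul]
  rw [← Nat.card_eq_fintype_card, ← mul_assoc, inv_mul_cancel₀, one_mul]
  have : Nat.card H ≠ 0 := Nat.card_pos.ne'
  exact_mod_cast this

/-- On `H Z(G)` the averaged character has the absolute value of `(χ_H, 1_H)`. -/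
theorem FTHyp.avg_mul_center [Fintype H] {χ : G → ℂ} (hχ : IsIrrCharacter G χ) {h z : G}
    (hh : h ∈ H) (hz : z ∈ Subgroup.center G) :
    Complex.normSq ((Nat.card H : ℂ)⁻¹ * ∑ h' : H, χ (h * z * (h' : G)))
      = Complex.normSq (classInner (fun h : H => χ h) (fun _ => 1)) := by
  obtain ⟨ω, hω1, hω⟩ := irr_central_scalar_norm hχ hz
  have h1 : ∀ h' : H, χ (h * z * (h' : G)) = ω * χ (h * (h' : G)) := by
    intro h'
    have e1 := (Subgroup.mem_center_iff.mp hz) h
    have : h * z * (h' : G) = z * (h * (h' : G)) := by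
      rw [e1, mul_assoc]
    rw [this, hω]
  have h2 : ∑ h' : H, χ (h * (h' : G)) = ∑ h' : H, χ (h' : G) := by
    refine Fintype.sum_equiv (Equiv.mulLeft (⟨h, hh⟩ : H)) _ _ (fun h' => ?_)
    simp
  have h3 : classInner (fun h : H => χ h) (fun _ => 1)
      = (Nat.card H : ℂ)⁻¹ * ∑ h' : H, χ (h' : G) := by
    unfold classInner
    simp
  simp only [h1]
  rw [← Finset.mul_sum, h2, h3, ← mul_assoc, mul_comm _ ω, mul_assoc, Complex.normSq_mul, hω1,
    one_mul]

/-- **First inequality**: `|H| · |(χ_H, 1_H)|² < χ(1)²`. -/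
theorem FTHyp.degree_bound (hyp : FTHyp H) [Fintype H] {χ : G → ℂ} (hχ : IsIrrCharacter G χ)
    (hker : ∃ h ∈ H, χ h ≠ χ 1) :
    (Nat.card H : ℝ) * Complex.normSq (classInner (fun h : H => χ h) (fun _ => 1))
      < Complex.normSq (χ 1) := by
  classical
  have hker' := hker
  obtain ⟨h₀, hh₀, hne⟩ := hker
  have hh₀1 : h₀ ≠ 1 := by rintro rfl; exact hne rfl
  have hchar : IsCharacter G χ := Helper74.isCharacter_of_isIrr hχ
  have hcf : IsClassFunction G χ := Helper74.isClassFunction_of_isCharacter hchar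
  -- the three finsets
  have hZS : Finset.univ.filter (fun g : G => g ∈ Subgroup.center G)
      ⊆ Finset.univ.filter (fun g : G => g ∈ FTS H) := by
    intro z hz
    rw [Finset.mem_filter] at hz ⊢
    exact ⟨Finset.mem_univ _, center_subset_FTS hh₀ hh₀1 hz.2⟩
  have hSN : Finset.univ.filter (fun g : G => g ∈ FTS H)
      ⊆ Finset.univ.filter (fun g : G => g ∈ Subgroup.normalizer (H : Set G)) := by
    intro g hg
    rw [Finset.mem_filter] at hg ⊢
    exact ⟨Finset.mem_univ _, hyp.FTS_le_normalizer hg.2⟩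
  -- total norm
  have hsumG : ∑ g : G, Complex.normSq (χ g) = (Nat.card G : ℝ) := by
    have h1 := Helper74.irr_inner_self (⟨χ, hχ⟩ : IrrCharacter G)
    rw [Helper74.classInner_self] at h1
    have hG : (Nat.card G : ℝ) ≠ 0 := by
      have : Nat.card G ≠ 0 := Nat.card_pos.ne'
      exact_mod_cast this
    have h2 : ((Nat.card G : ℝ))⁻¹ * (∑ g : G, Complex.normSq (χ g)) = 1 := by
      have : (((Nat.card G : ℝ))⁻¹ * (∑ g : G, Complex.normSq (χ g)) : ℂ) = ((1 : ℝ) : ℂ) := by
        push_cast
        exact h1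
      exact_mod_cast this
    field_simp at h2
    linarith
  -- value on the centre
  have hFz : ∀ z : G, z ∈ Subgroup.center G → Complex.normSq (χ z) = Complex.normSq (χ 1) := by
    intro z hz
    obtain ⟨ω, hω1, hω⟩ := irr_central_scalar_norm hχ hz
    have := hω 1
    rw [mul_one] at this
    rw [this, Complex.normSq_mul, hω1, one_mul]
  have hζ : ∑ z ∈ Finset.univ.filter (fun g : G => g ∈ Subgroup.center G), Complex.normSq (χ z)
      = (Nat.card (Subgroup.center G) : ℝ) * Complex.normSq (χ 1) := by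
    rw [Finset.sum_congr rfl (fun z hz => hFz z (Finset.mem_filter.mp hz).2), Finset.sum_const,
      nsmul_eq_mul, Nat.card_eq_fintype_card, Fintype.card_subtype]
  -- global count
  have hglob := hyp.global_count (fun g => Complex.normSq (χ g))
    (fun g => Complex.normSq_nonneg _) (fun g a => by rw [hcf g a])
  have hT : Finset.univ.filter (fun g : G => g ∈ FTS H ∧ g ∉ Subgroup.center G)
      = Finset.univ.filter (fun g : G => g ∈ FTS H)
        \ Finset.univ.filter (fun g : G => g ∈ Subgroup.center G) := by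
    ext g
    simp only [Finset.mem_filter, Finset.mem_univ, true_and, Finset.mem_sdiff]
  have hnotZ : ∑ g ∈ Finset.univ.filter (fun g : G => g ∉ Subgroup.center G),
      Complex.normSq (χ g)
      = (Nat.card G : ℝ) - (Nat.card (Subgroup.center G) : ℝ) * Complex.normSq (χ 1) := by
    have := Finset.sum_filter_add_sum_filter_not Finset.univ
      (fun g : G => g ∈ Subgroup.center G) (fun g => Complex.normSq (χ g))
    rw [hζ, hsumG] at this
    linarith
  rw [hT, hnotZ] at hglob
  -- local inequality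
  have hloc := local_norm_bound (H := H) hchar hker'
  -- splitting the sums
  have hsplit1 := Finset.sum_sdiff (f := fun g => Complex.normSq (χ g)) hSN
  have hsplit2 := Finset.sum_sdiff (f := fun g => Complex.normSq (χ g)) hZS
  have hsplit3 := Finset.sum_sdiff
    (f := fun g => Complex.normSq ((Nat.card H : ℂ)⁻¹ * ∑ h : H, χ (g * (h : G)))) hSN
  have hR : ∑ g ∈ Finset.univ.filter (fun g : G => g ∈ Subgroup.normalizer (H : Set G))
        \ Finset.univ.filter (fun g : G => g ∈ FTS H),
        Complex.normSq ((Nat.card H : ℂ)⁻¹ * ∑ h : H, χ (g * (h : G)))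
      = ∑ g ∈ Finset.univ.filter (fun g : G => g ∈ Subgroup.normalizer (H : Set G))
        \ Finset.univ.filter (fun g : G => g ∈ FTS H), Complex.normSq (χ g) := by
    refine Finset.sum_congr rfl (fun g hg => ?_)
    rw [Finset.mem_sdiff, Finset.mem_filter, Finset.mem_filter] at hg
    rw [avg_eq_of_not_mem_FTS hcf hg.1.2 (fun h => hg.2 ⟨Finset.mem_univ _, h⟩)]
  -- the contribution of `H Z(G)`
  have hHZ : (Nat.card H : ℝ) * (Nat.card (Subgroup.center G) : ℝ)
        * Complex.normSq (classInner (fun h : H => χ h) (fun _ => 1))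
      ≤ ∑ g ∈ Finset.univ.filter (fun g : G => g ∈ FTS H),
        Complex.normSq ((Nat.card H : ℂ)⁻¹ * ∑ h : H, χ (g * (h : G))) := by
    let j : H × Subgroup.center G → G := fun p => (p.1 : G) * (p.2 : G)
    have hj : Function.Injective j := by
      rintro ⟨h, z⟩ ⟨h', z'⟩ hp
      have hp' : (h : G) * (z : G) = (h' : G) * (z' : G) := hp
      have hmem : (h' : G)⁻¹ * (h : G) ∈ H ⊓ Subgroup.center G := by
        refine Subgroup.mem_inf.mpr ⟨mul_mem (inv_mem h'.2) h.2, ?_⟩
        have : (h' : G)⁻¹ * (h : G) = (z' : G) * (z : G)⁻¹ := by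
          have := congrArg (fun t => (h' : G)⁻¹ * t * (z : G)⁻¹) hp'
          simpa [mul_assoc] using this
        rw [this]
        exact mul_mem z'.2 (inv_mem z.2)
      rw [hyp.hZ, Subgroup.mem_bot] at hmem
      have e1 : (h : G) = (h' : G) := by
        have := congrArg (fun t => (h' : G) * t) hmem
        simpa using this
      have e2 : (z : G) = (z' : G) := by
        rw [e1] at hp'
        exact mul_left_cancel hp'
      exact Prod.ext (Subtype.ext e1) (Subtype.ext e2)
    have himg : Finset.univ.image j ⊆ Finset.univ.filter (fun g : G => g ∈ FTS H) := by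
      intro g hg
      rw [Finset.mem_image] at hg
      obtain ⟨⟨h, z⟩, _, rfl⟩ := hg
      rw [Finset.mem_filter]
      exact ⟨Finset.mem_univ _, hyp.mul_center_mem_FTS hh₀ hh₀1 h.2 z.2⟩
    have h1 := Finset.sum_le_sum_of_subset_of_nonneg himg
      (f := fun g => Complex.normSq ((Nat.card H : ℂ)⁻¹ * ∑ h : H, χ (g * (h : G))))
      (fun g _ _ => Complex.normSq_nonneg _)
    refine le_trans (le_of_eq ?_) h1
    rw [Finset.sum_image (fun x _ y _ hxy => hj hxy)]
    have h2 : ∀ p : H × Subgroup.center G,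
        Complex.normSq ((Nat.card H : ℂ)⁻¹ * ∑ h : H, χ (j p * (h : G)))
          = Complex.normSq (classInner (fun h : H => χ h) (fun _ => 1)) :=
      fun p => FTHyp.avg_mul_center hχ p.1.2 p.2.2
    rw [Finset.sum_congr rfl (fun p _ => h2 p), Finset.sum_const, nsmul_eq_mul, Finset.card_univ,
      Fintype.card_prod, Nat.card_eq_fintype_card, Nat.card_eq_fintype_card]
    push_cast
    ring
  -- arithmetic
  have hn2 : 0 < Complex.normSq (χ 1) := by
    rw [Complex.normSq_pos]
    obtain ⟨n, hn, h⟩ := Helper76.irr_exists_degree hχ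
    rw [h]; exact_mod_cast hn.ne'
  have hGpos : (0 : ℝ) < Nat.card G := by exact_mod_cast Nat.card_pos
  have hNpos : (0 : ℝ) < Nat.card (Subgroup.normalizer (H : Set G)) := by
    exact_mod_cast Nat.card_pos
  have hZpos : (0 : ℝ) < Nat.card (Subgroup.center G) := by exact_mod_cast Nat.card_pos
  have hHpos : (0 : ℝ) < Nat.card H := by exact_mod_cast Nat.card_pos
  have hc2 : 0 ≤ Complex.normSq (classInner (fun h : H => χ h) (fun _ => 1)) :=
    Complex.normSq_nonneg _
  set T := ∑ g ∈ Finset.univ.filter (fun g : G => g ∈ FTS H)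
        \ Finset.univ.filter (fun g : G => g ∈ Subgroup.center G), Complex.normSq (χ g) with hTdef
  set R := ∑ g ∈ Finset.univ.filter (fun g : G => g ∈ Subgroup.normalizer (H : Set G))
        \ Finset.univ.filter (fun g : G => g ∈ FTS H), Complex.normSq (χ g) with hRdef
  set nG := (Nat.card G : ℝ)
  set nN := (Nat.card (Subgroup.normalizer (H : Set G)) : ℝ)
  set nZ := (Nat.card (Subgroup.center G) : ℝ)
  set nH := (Nat.card H : ℝ)
  set n2 := Complex.normSq (χ 1)
  set c2 := Complex.normSq (classInner (fun h : H => χ h) (fun _ => 1))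
  -- `T + nZ n2 ≥ nH nZ c2 + nN`
  have hA : nH * nZ * c2 + nN ≤ T + nZ * n2 := by
    rw [hζ] at hsplit2
    rw [hR] at hsplit3
    linarith
  -- `nG T ≤ nN (nG - nZ n2)`
  have hB : nG * (nH * nZ * c2) < nG * (nZ * n2) := by
    have : 0 < nN * (nZ * n2) := by positivity
    nlinarith
  have hC : nH * nZ * c2 < nZ * n2 := lt_of_mul_lt_mul_left hB hGpos.le
  have hD : nZ * (nH * c2) < nZ * n2 := by linarith [mul_comm nH nZ, mul_assoc nZ nH c2, mul_assoc nH nZ c2, mul_comm (nH * nZ) c2]
  exact lt_of_mul_lt_mul_left hD hZpos.le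

end Cfsg.Agent.Helper75
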