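import Mathlib
import Cfsg.Prelude.Def_Characters
import Cfsg.Agent.Helper75.FTBound
import Cfsg.Agent.Helper78.Kernel
import Cfsg.Agent.Helper79.Linear

/-!
# The Feit–Thompson abelian-subgroup degree bound, second inequality (helper75)
-/

set_option autoImplicit false

namespace Cfsg.Agent.Helper75

open Cfsg
open scoped ComplexConjugate

universe u

variable {G : Type u} [Group G] [Fintype G] {H : Subgroup G}

/-- If no proper normal subgroup contains `H` and the irreducible character `ψ` is constant on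
`H`, then `ψ` is constant. -/
theorem irr_const_of_const_on {ψ : G → ℂ} (hψ : IsIrrCharacter G ψ)
    (hnc : ∀ M : Subgroup G, M.Normal → H ≤ M → M = ⊤) (hH : ∀ h ∈ H, ψ h = ψ 1) :
    ∀ g : G, ψ g = ψ 1 := by
  obtain ⟨n, ρ, hρ, rfl⟩ := hψ
  have hle : H ≤ MonoidHom.ker ρ := by
    intro h hh
    rw [MonoidHom.mem_ker]
    exact Helper78.rep_eq_one_of_character_eq ρ h (hH h hh)
  have htop := hnc (MonoidHom.ker ρ) (MonoidHom.normal_ker ρ) hle
  intro g
  have hg : g ∈ MonoidHom.ker ρ := by rw [htop]; exact Subgroup.mem_top g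
  rw [MonoidHom.mem_ker] at hg
  unfold Representation.character
  rw [hg, map_one ρ]

/-- A constant irreducible character is the principal character. -/
theorem irr_eq_principal_of_const (ψ : IrrCharacter G) (h : ∀ g : G, (ψ : G → ℂ) g = (ψ : G → ℂ) 1) :
    ψ = Helper79.principalIrr G := by
  by_contra hne
  have h0 := Helper74.irr_inner_ne hne
  have h1 : classInner (ψ : G → ℂ) (Helper79.principalIrr G : G → ℂ) = (ψ : G → ℂ) 1 := by
    unfold classInner
    have : ∀ g : G, (ψ : G → ℂ) g * conj ((Helper79.principalIrr G : G → ℂ) g) = (ψ : G → ℂ) 1 := by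
      intro g
      rw [h g]
      show (ψ : G → ℂ) 1 * conj (1 : ℂ) = _
      simp
    simp only [this, Finset.sum_const, Finset.card_univ, nsmul_eq_mul]
    rw [← Nat.card_eq_fintype_card, ← mul_assoc, inv_mul_cancel₀, one_mul]
    have : Nat.card G ≠ 0 := Nat.card_pos.ne'
    exact_mod_cast this
  rw [h1] at h0
  obtain ⟨n, hn, h2⟩ := Helper76.irr_exists_degree ψ.2
  rw [h2] at h0
  have : n = 0 := by exact_mod_cast h0
  omega

/-- **Second inequality**: `|H| < (1 + χ(1))²` if `χ(1) ≠ 1` and `H` lies in no proper normal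
subgroup. -/
theorem FTHyp.second_bound (hyp : FTHyp H) [Fintype H] {χ : G → ℂ} (hχ : IsIrrCharacter G χ)
    (h1 : χ 1 ≠ 1) (hnc : ∀ M : Subgroup G, M.Normal → H ≤ M → M = ⊤) :
    (Nat.card H : ℝ) < (1 + (χ 1).re) ^ 2 := by
  classical
  let _ := Helper74.irrFintype G
  let _ := Helper74.irrFintype H
  obtain ⟨n, hn0, hn⟩ := Helper76.irr_exists_degree hχ
  have hn2 : 2 ≤ n := by
    have : n ≠ 1 := by
      rintro rfl
      apply h1; rw [hn]; simp
    omega
  have hchar : IsCharacter G χ := Helper74.isCharacter_of_isIrr hχ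
  have hΨ : IsCharacter G (χ * (fun g => conj (χ g))) :=
    Helper74.isCharacter_mul hchar (Helper74.isCharacter_conj hchar)
  set Ψ : G → ℂ := χ * (fun g => conj (χ g)) with hΨdef
  choose e he using fun ψ : IrrCharacter G => Helper74.isCharacter_inner_irr_nat hΨ ψ
  have hΨsum := Helper74.isCharacter_eq_sum_irr hΨ
  choose d hd0 hd using fun ψ : IrrCharacter G => Helper76.irr_exists_degree ψ.2
  choose c hc using fun ψ : IrrCharacter G =>
    Helper74.isCharacter_inner_irr_nat
      (Helper74.isCharacter_restrict H (Helper74.irr_isCharacter ψ)) (Helper79.principalIrr H)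
  have hc' : ∀ ψ : IrrCharacter G,
      classInner (fun h : H => (ψ : G → ℂ) h) (fun _ => 1) = (c ψ : ℂ) := hc
  -- value at one
  have hE1 : (n : ℂ) * n = ∑ ψ : IrrCharacter G, (e ψ : ℂ) * (d ψ : ℂ) := by
    have := congrFun hΨsum 1
    rw [Finset.sum_apply] at this
    simp only [Pi.smul_apply, smul_eq_mul] at this
    rw [hΨdef] at this
    simp only [Pi.mul_apply, hn, Complex.conj_natCast] at this
    rw [this]
    refine Finset.sum_congr rfl (fun ψ _ => ?_)
    rw [he ψ, hd ψ]
  -- inner product with the principal character of `H`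
  have hE2 : classInner (fun h : H => Ψ h) (fun _ => 1)
      = ∑ ψ : IrrCharacter G, (e ψ : ℂ) * (c ψ : ℂ) := by
    have hfun : (fun h : H => Ψ h)
        = ∑ ψ : IrrCharacter G, (e ψ : ℂ) • (fun h : H => (ψ : G → ℂ) h) := by
      ext h
      have := congrFun hΨsum h
      rw [Finset.sum_apply] at this
      rw [Finset.sum_apply, this]
      refine Finset.sum_congr rfl (fun ψ _ => ?_)
      simp only [Pi.smul_apply, smul_eq_mul, he ψ]
    rw [hfun, Helper74.classInner_sum_left]
    refine Finset.sum_congr rfl (fun ψ _ => ?_)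
    rw [Helper74.classInner_smul_left, hc' ψ]
  have hE3 : classInner (fun h : H => Ψ h) (fun _ => 1)
      = classInner (fun h : H => χ h) (fun h : H => χ h) := by
    unfold classInner
    congr 1
    refine Finset.sum_congr rfl (fun h _ => ?_)
    simp [hΨdef]
  -- decomposition of `χ_H`
  have hcharH : IsCharacter H (fun h : H => χ h) := Helper74.isCharacter_restrict H hchar
  choose a ha using fun l : IrrCharacter H => Helper74.isCharacter_inner_irr_nat hcharH l
  have hcommH : ∀ x y : H, x * y = y * x := by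
    intro x y
    ext
    exact hyp.hab x x.2 y y.2
  have hE4 : classInner (fun h : H => χ h) (fun h : H => χ h)
      = ∑ l : IrrCharacter H, (a l : ℂ) * (a l : ℂ) := by
    rw [Helper15.classInner_eq_sum_irr (Helper74.isClassFunction_of_isCharacter hcharH)]
    refine Finset.sum_congr rfl (fun l _ => ?_)
    rw [ha l]; simp
  have hE5 : (n : ℂ) = ∑ l : IrrCharacter H, (a l : ℂ) := by
    have h1 := Helper74.isCharacter_eq_sum_irr hcharH
    have := congrFun h1 1
    rw [Finset.sum_apply] at this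
    simp only [Pi.smul_apply, smul_eq_mul] at this
    have h2 : χ ((1 : H) : G) = (n : ℂ) := by rw [← hn]; rfl
    rw [h2] at this
    rw [this]
    refine Finset.sum_congr rfl (fun l _ => ?_)
    rw [ha l, Helper76.irr_one_of_comm hcommH l.2, mul_one]
  -- natural number versions
  have hN1 : n * n = ∑ ψ : IrrCharacter G, e ψ * d ψ := by exact_mod_cast hE1
  have hN2 : ∑ ψ : IrrCharacter G, e ψ * c ψ = ∑ l : IrrCharacter H, a l * a l := by
    have : (∑ ψ : IrrCharacter G, (e ψ : ℂ) * (c ψ : ℂ))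
        = ∑ l : IrrCharacter H, (a l : ℂ) * (a l : ℂ) := by
      rw [← hE2, hE3, hE4]
    exact_mod_cast this
  have hN3 : n = ∑ l : IrrCharacter H, a l := by exact_mod_cast hE5
  have hN4 : n ≤ ∑ ψ : IrrCharacter G, e ψ * c ψ := by
    rw [hN2, hN3]
    refine Finset.sum_le_sum (fun l _ => ?_)
    nlinarith [Nat.zero_le (a l)]
  -- the principal character
  have hp_e : e (Helper79.principalIrr G) = 1 := by
    have h2 : classInner Ψ ((Helper79.principalIrr G : IrrCharacter G) : G → ℂ)
        = classInner χ χ := by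
      unfold classInner
      congr 1
      refine Finset.sum_congr rfl (fun g _ => ?_)
      show Ψ g * conj (1 : ℂ) = _
      simp [hΨdef]
    have h3 := Helper74.irr_inner_self (⟨χ, hχ⟩ : IrrCharacter G)
    have h4 := he (Helper79.principalIrr G)
    rw [h2, h3] at h4
    exact_mod_cast h4.symm
  have hp_d : d (Helper79.principalIrr G) = 1 := by
    have := hd (Helper79.principalIrr G)
    have h2 : ((Helper79.principalIrr G : IrrCharacter G) : G → ℂ) 1 = 1 := rfl
    rw [h2] at this
    exact_mod_cast this.symm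
  have hp_c : c (Helper79.principalIrr G) = 1 := by
    have := hc' (Helper79.principalIrr G)
    have h2 : classInner (fun h : H => ((Helper79.principalIrr G : IrrCharacter G) : G → ℂ) h)
        (fun _ => 1) = 1 := by
      have h3 := Helper74.irr_inner_self (Helper79.principalIrr H)
      exact h3
    rw [h2] at this
    exact_mod_cast this.symm
  -- nonprincipal characters: the first inequality
  have hfirst : ∀ ψ : IrrCharacter G, ψ ≠ Helper79.principalIrr G →
      (Nat.card H : ℝ) * ((c ψ : ℝ)) ^ 2 < ((d ψ : ℝ)) ^ 2 := by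
    intro ψ hψ
    have hk : ∃ h ∈ H, (ψ : G → ℂ) h ≠ (ψ : G → ℂ) 1 := by
      by_contra hcon
      push Not at hcon
      exact hψ (irr_eq_principal_of_const ψ (irr_const_of_const_on ψ.2 hnc hcon))
    have := hyp.degree_bound ψ.2 hk
    rw [hc' ψ, hd ψ, Complex.normSq_natCast, Complex.normSq_natCast] at this
    simpa [sq] using this
  -- arithmetic with the square root
  set s : ℝ := Real.sqrt (Nat.card H) with hs
  have hs0 : 0 ≤ s := Real.sqrt_nonneg _
  have hs2 : s ^ 2 = (Nat.card H : ℝ) := Real.sq_sqrt (Nat.cast_nonneg _)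
  have hlin : ∀ ψ : IrrCharacter G, ψ ≠ Helper79.principalIrr G →
      s * (c ψ : ℝ) < (d ψ : ℝ) := by
    intro ψ hψ
    have h2 := hfirst ψ hψ
    rw [← hs2] at h2
    by_contra hcon
    push Not at hcon
    have hd0' : (0 : ℝ) ≤ (d ψ : ℝ) := Nat.cast_nonneg _
    have : ((d ψ : ℝ)) ^ 2 ≤ (s * (c ψ : ℝ)) ^ 2 := pow_le_pow_left₀ hd0' hcon 2
    rw [mul_pow] at this
    linarith
  -- split off the principal character
  have hS1 := Finset.add_sum_erase Finset.univ (fun ψ : IrrCharacter G => e ψ * d ψ)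
    (Finset.mem_univ (Helper79.principalIrr G))
  have hS2 := Finset.add_sum_erase Finset.univ (fun ψ : IrrCharacter G => e ψ * c ψ)
    (Finset.mem_univ (Helper79.principalIrr G))
  simp only [hp_e, hp_d, hp_c, mul_one] at hS1 hS2
  -- some nonprincipal constituent
  have hex : ∃ ψ₁ ∈ Finset.univ.erase (Helper79.principalIrr G), 1 ≤ e ψ₁ := by
    by_contra hcon
    push Not at hcon
    have hz : ∑ ψ ∈ Finset.univ.erase (Helper79.principalIrr G), e ψ * d ψ = 0 := by
      refine Finset.sum_eq_zero (fun ψ hψ => ?_)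
      have := hcon ψ hψ
      have : e ψ = 0 := by omega
      rw [this, zero_mul]
    rw [hz, ← hN1] at hS1
    nlinarith
  obtain ⟨ψ₁, hψ₁, heψ₁⟩ := hex
  have hstrict : ∑ ψ ∈ Finset.univ.erase (Helper79.principalIrr G), s * ((e ψ : ℝ) * (c ψ : ℝ))
      < ∑ ψ ∈ Finset.univ.erase (Helper79.principalIrr G), (e ψ : ℝ) * (d ψ : ℝ) := by
    refine Finset.sum_lt_sum (fun ψ hψ => ?_) ⟨ψ₁, hψ₁, ?_⟩
    · have hne : ψ ≠ Helper79.principalIrr G := (Finset.mem_erase.mp hψ).1
      have := hlin ψ hne
      have he0 : (0 : ℝ) ≤ (e ψ : ℝ) := Nat.cast_nonneg _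
      nlinarith
    · have hne : ψ₁ ≠ Helper79.principalIrr G := (Finset.mem_erase.mp hψ₁).1
      have := hlin ψ₁ hne
      have he1 : (1 : ℝ) ≤ (e ψ₁ : ℝ) := by exact_mod_cast heψ₁
      nlinarith
  rw [← Finset.mul_sum] at hstrict
  -- real versions of the sums
  have hR1 : (1 : ℝ) + ∑ ψ ∈ Finset.univ.erase (Helper79.principalIrr G), (e ψ : ℝ) * (d ψ : ℝ)
      = (n : ℝ) * n := by
    have : (1 + ∑ ψ ∈ Finset.univ.erase (Helper79.principalIrr G), e ψ * d ψ : ℕ) = n * n := by
      rw [hS1, hN1]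
    exact_mod_cast this
  have hR2 : (n : ℝ) ≤ 1 + ∑ ψ ∈ Finset.univ.erase (Helper79.principalIrr G),
      (e ψ : ℝ) * (c ψ : ℝ) := by
    have : n ≤ 1 + ∑ ψ ∈ Finset.univ.erase (Helper79.principalIrr G), e ψ * c ψ := by
      rw [hS2]; exact hN4
    exact_mod_cast this
  have hnR : (2 : ℝ) ≤ (n : ℝ) := by exact_mod_cast hn2
  -- `(n - 1)(n + 1) > s (n - 1)`
  have hkey : s < (n : ℝ) + 1 := by
    by_contra hcon
    push Not at hcon
    have h3 : s * ((n : ℝ) - 1) ≤ s * ∑ ψ ∈ Finset.univ.erase (Helper79.principalIrr G),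
        (e ψ : ℝ) * (c ψ : ℝ) := by
      apply mul_le_mul_of_nonneg_left _ hs0
      linarith
    nlinarith
  have hre : (χ 1).re = (n : ℝ) := by rw [hn]; simp
  rw [hre, ← hs2]
  have : s ^ 2 < ((n : ℝ) + 1) ^ 2 := pow_lt_pow_left₀ hkey hs0 (by norm_num)
  linarith [this, add_comm (1 : ℝ) (n : ℝ)]

end Cfsg.Agent.Helper75
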