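import Cfsg.Agent.Helper57.BP.PartI

/-!
# (P19) of helper16's WANTED #9770 for S4705: the shape of the block of an `N`-invariant linear `θ`
-/

set_option autoImplicit false
set_option linter.unusedVariables false

namespace Cfsg.Agent.Helper75.B66

open Cfsg Cfsg.Agent.Helper16 Cfsg.Agent.Helper16.DefOne Cfsg.Agent.Helper82.DefOne
  Cfsg.Agent.Helper77.DefOne Cfsg.Agent.Helper57.BH Cfsg.Agent.Helper57.BP
open scoped ComplexConjugate

universe u

variable {G : Type u} [Group G] [Fintype G] {p : ℕ} [Fact p.Prime] (P : Sylow p G)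

/-- (P19) the shape of the block of `θ` -/
theorem theta_shape (hP : Nat.card P = p)
    [((P : Subgroup G).subgroupOf (nor P)).Normal] (hmod : ModCount p P) (hp5 : 5 < p)
    (θ : IrrCharacter (cen P)) (hθ : IsCanon P θ) (hθ1 : charDegree (θ : cen P → ℂ) = 1)
    (hinv : ∀ n : nor P, n • θ = θ) (hf : (cen P).relIndex (nor P) = 2)
    {X Y : Set (IrrCharacter G)} {ε : IrrCharacter G → ℤ} (D : IsRData P θ X Y ε (-1))
    (ζ : IrrCharacter G) (hζ : ζ ∈ Y) (hdeg : charDegree (ζ : G → ℂ) = p - 2) :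
    ∃ χa χb : IrrCharacter G, χa ≠ χb ∧ X = {χa, χb} ∧ ε χa = 1 ∧ ε χb = -1 ∧
      (∃ k' : ℕ, charDegree (χa : G → ℂ) = 1 + k' * p) ∧
      charDegree (χb : G → ℂ) = charDegree (χa : G → ℂ) + (p - 2) ∧
      (∀ g : G, ¬ p ∣ orderOf g → (χb : G → ℂ) g = (χa : G → ℂ) g + (ζ : G → ℂ) g) ∧
      ∀ ψ ∈ Y, ∀ g : G, ¬ p ∣ orderOf g → (ψ : G → ℂ) g = (ζ : G → ℂ) g := by
  classical
  have hp : p.Prime := Fact.out
  -- the inertial index is `2`
  have horb : MulAction.orbit (nor P) θ = {θ} := by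
    ext θ'
    constructor
    · rintro ⟨n, rfl⟩
      exact hinv n
    · intro h
      rw [Set.mem_singleton_iff] at h
      rw [h]
      exact MulAction.mem_orbit_self _
  have hin : inertia P θ = 2 := by
    have h := card_orbit_mul_inertia P hP θ
    rw [horb, hf] at h
    simpa using h
  have hcardX : Nat.card X = 2 := by rw [D.cardX, hin]
  have hncard : X.ncard = 2 := by rw [← hcardX]; exact (Nat.card_coe_set_eq X).symm
  obtain ⟨x, y, hxy, hXeq⟩ := Set.ncard_eq_two.1 hncard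
  have hxX : x ∈ X := by rw [hXeq]; simp
  have hyX : y ∈ X := by rw [hXeq]; simp
  have hsum : ∀ F : IrrCharacter G → ℂ, ∑ᶠ χ ∈ X, F χ = F x + F y := by
    intro F
    rw [hXeq]
    exact finsum_mem_pair hxy
  have hdegX : ∀ χ ∈ X, (charDegree (χ : G → ℂ) : ℤ) ≡ ε χ [ZMOD p] := by
    intro χ hχ
    have h := D.degX χ hχ
    rw [hin, hf, hθ1] at h
    simpa using h
  have h1reg : ¬ p ∣ orderOf (1 : G) := by rw [orderOf_one]; exact hp.not_dvd_one
  have hxpos : 0 < charDegree (x : G → ℂ) := Nat.pos_of_ne_zero (charDegree_ne_zero' x)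
  have hypos : 0 < charDegree (y : G → ℂ) := Nat.pos_of_ne_zero (charDegree_ne_zero' y)
  -- the relation at `1`
  have hrel1 : -((p : ℤ) - 2) = ε x * (charDegree (x : G → ℂ) : ℤ) +
      ε y * (charDegree (y : G → ℂ) : ℤ) := by
    have h := D.rel ζ hζ 1 h1reg
    rw [hsum, Helper78.irrChar_one_eq_charDegree ζ.2, Helper78.irrChar_one_eq_charDegree x.2,
      Helper78.irrChar_one_eq_charDegree y.2, hdeg] at h
    have h2 : ((p - 2 : ℕ) : ℂ) = (p : ℂ) - 2 := by
      rw [Nat.cast_sub (by omega)]; norm_num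
    rw [h2] at h
    have hZ : ((-1 : ℤ) : ℂ) * ((p : ℂ) - 2) = (((ε x * (charDegree (x : G → ℂ) : ℤ) +
        ε y * (charDegree (y : G → ℂ) : ℤ) : ℤ)) : ℂ) := by
      rw [h]; push_cast; ring
    have hZ' : ((-((p : ℤ) - 2) : ℤ) : ℂ) = (((ε x * (charDegree (x : G → ℂ) : ℤ) +
        ε y * (charDegree (y : G → ℂ) : ℤ) : ℤ)) : ℂ) := by
      rw [← hZ]; push_cast; ring
    exact_mod_cast hZ'
  -- a character with sign `-1` has degree at least `p - 1`
  have hbig : ∀ χ ∈ X, ε χ = -1 → (p : ℤ) - 1 ≤ (charDegree (χ : G → ℂ) : ℤ) := by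
    intro χ hχ he
    have h := hdegX χ hχ
    rw [he] at h
    have hdvd : (p : ℤ) ∣ (charDegree (χ : G → ℂ) : ℤ) + 1 := by
      have := h.symm.dvd
      simpa [sub_neg_eq_add] using this
    have hpos : (0 : ℤ) < (charDegree (χ : G → ℂ) : ℤ) + 1 := by positivity
    have := Int.le_of_dvd hpos hdvd
    omega
  -- the main case analysis, stated symmetrically
  have key : ∀ a b : IrrCharacter G, a ≠ b → X = {a, b} → a ∈ X → b ∈ X → ε a = 1 → ε b = -1 →
      -((p : ℤ) - 2) = ε a * (charDegree (a : G → ℂ) : ℤ) + ε b * (charDegree (b : G → ℂ) : ℤ) →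
      (∀ F : IrrCharacter G → ℂ, ∑ᶠ χ ∈ X, F χ = F a + F b) →
      ∃ χa χb : IrrCharacter G, χa ≠ χb ∧ X = {χa, χb} ∧ ε χa = 1 ∧ ε χb = -1 ∧
        (∃ k' : ℕ, charDegree (χa : G → ℂ) = 1 + k' * p) ∧
        charDegree (χb : G → ℂ) = charDegree (χa : G → ℂ) + (p - 2) ∧
        (∀ g : G, ¬ p ∣ orderOf g → (χb : G → ℂ) g = (χa : G → ℂ) g + (ζ : G → ℂ) g) ∧
        ∀ ψ ∈ Y, ∀ g : G, ¬ p ∣ orderOf g → (ψ : G → ℂ) g = (ζ : G → ℂ) g := by
    intro a b hab hXab haX hbX hea heb hrel hs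
    rw [hea, heb] at hrel
    have hapos : 0 < charDegree (a : G → ℂ) := Nat.pos_of_ne_zero (charDegree_ne_zero' a)
    have hrelg : ∀ ψ ∈ Y, ∀ g : G, ¬ p ∣ orderOf g →
        (ψ : G → ℂ) g = (b : G → ℂ) g - (a : G → ℂ) g := by
      intro ψ hψ g hg
      have h := D.rel ψ hψ g hg
      rw [hs, hea, heb] at h
      push_cast at h
      linear_combination -h
    refine ⟨a, b, hab, hXab, hea, heb, ?_, ?_, ?_, ?_⟩
    · have h := hdegX a haX
      rw [hea] at h
      have h' : charDegree (a : G → ℂ) ≡ 1 [MOD p] := by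
        exact_mod_cast h
      have hdvd : p ∣ charDegree (a : G → ℂ) - 1 := (Nat.modEq_iff_dvd' hapos).1 h'.symm
      obtain ⟨k', hk'⟩ := hdvd
      refine ⟨k', ?_⟩
      rw [mul_comm k' p]
      omega
    · have : (charDegree (b : G → ℂ) : ℤ) = (charDegree (a : G → ℂ) : ℤ) + ((p : ℤ) - 2) := by
        linarith
      omega
    · intro g hg
      rw [hrelg ζ hζ g hg]
      ring
    · intro ψ hψ g hg
      rw [hrelg ψ hψ g hg, hrelg ζ hζ g hg]
  rcases D.eps x with hex | hex <;> rcases D.eps y with hey | hey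
  · -- (+,+): impossible
    exfalso
    rw [hex, hey] at hrel1
    have h1 : (0 : ℤ) < (charDegree (x : G → ℂ) : ℤ) := by exact_mod_cast hxpos
    have h2 : (0 : ℤ) < (charDegree (y : G → ℂ) : ℤ) := by exact_mod_cast hypos
    have h3 : (5 : ℤ) < (p : ℤ) := by exact_mod_cast hp5
    linarith
  · exact key x y hxy hXeq hxX hyX hex hey hrel1 hsum
  · refine key y x hxy.symm (by rw [hXeq, Set.pair_comm]) hyX hxX hey hex (by rw [hrel1]; ring) ?_
    intro F
    rw [hsum F, add_comm]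
  · -- (-,-): impossible
    exfalso
    have h1 := hbig x hxX hex
    have h2 := hbig y hyX hey
    rw [hex, hey] at hrel1
    have h3 : (5 : ℤ) < (p : ℤ) := by exact_mod_cast hp5
    linarith

end Cfsg.Agent.Helper75.B66
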