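import Cfsg.Agent.Helper57.BP.PartI

/-!
# (P20) of helper16's WANTED #9770 for S4705: the shape of the principal block when `|N : C| = 2`
-/

set_option autoImplicit false
set_option linter.unusedVariables false

namespace Cfsg.Agent.Helper75.B66

open Cfsg Cfsg.Agent.Helper16 Cfsg.Agent.Helper16.DefOne Cfsg.Agent.Helper82.DefOne
  Cfsg.Agent.Helper77.DefOne Cfsg.Agent.Helper57.BH Cfsg.Agent.Helper57.BP
open scoped ComplexConjugate

universe u

variable {G : Type u} [Group G] [Fintype G] {p : ℕ} [Fact p.Prime] (P : Sylow p G)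

/-- (P20) the shape of the principal block when `|N : C| = 2` -/
theorem principal_shape (hP : Nat.card P = p)
    [((P : Subgroup G).subgroupOf (nor P)).Normal] (hmod : ModCount p P) (hp5 : 5 < p)
    (hf : (cen P).relIndex (nor P) = 2)
    {X Y : Set (IrrCharacter G)} {ε : IrrCharacter G → ℤ} {δ : ℤ}
    (D : IsRData P (oneIrr P) X Y ε δ) :
    ∃ χ1 : IrrCharacter G, χ1 ≠ oneIrrG G ∧ X = {oneIrrG G, χ1} ∧ ε (oneIrrG G) = 1 ∧
      ε χ1 = δ ∧ (charDegree (χ1 : G → ℂ) : ℤ) ≡ δ [ZMOD p] ∧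
      ∀ ψ ∈ Y, ∀ g : G, ¬ p ∣ orderOf g → (ψ : G → ℂ) g = (χ1 : G → ℂ) g + (δ : ℂ) := by
  classical
  have hp : p.Prime := Fact.out
  obtain ⟨h1X, hε1⟩ := oneIrrG_mem_X0 P hP D (by rw [hf]; omega)
  have hin : inertia P (oneIrr P) = 2 := by rw [inertia_oneIrr P hP, hf]
  have hcardX : Nat.card X = 2 := by rw [D.cardX, hin]
  have hncard : X.ncard = 2 := by rw [← hcardX]; exact (Nat.card_coe_set_eq X).symm
  obtain ⟨x, y, hxy, hXeq⟩ := Set.ncard_eq_two.1 hncard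
  have hex : ∃ χ1 : IrrCharacter G, χ1 ≠ oneIrrG G ∧ X = {oneIrrG G, χ1} := by
    rw [hXeq] at h1X
    rcases h1X with h | h
    · exact ⟨y, by rw [h]; exact hxy.symm, by rw [hXeq, h]⟩
    · have h' : oneIrrG G = y := h
      exact ⟨x, by rw [h']; exact hxy, by rw [hXeq, h', Set.pair_comm]⟩
  obtain ⟨χ1, hne, hX⟩ := hex
  have hχ1X : χ1 ∈ X := by rw [hX]; simp
  have hsum : ∀ F : IrrCharacter G → ℂ, ∑ᶠ χ ∈ X, F χ = F (oneIrrG G) + F χ1 := by
    intro F
    rw [hX]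
    exact finsum_mem_pair hne.symm
  have hdegχ1 : (charDegree (χ1 : G → ℂ) : ℤ) ≡ ε χ1 [ZMOD p] := by
    have h := D.degX χ1 hχ1X
    rw [hin, hf, charDegree_oneIrr] at h
    simpa using h
  have hYcard : Nat.card Y = (p - 1) / 2 := by rw [D.cardY, hin]
  have hYne : Y.Nonempty := by
    by_contra hY
    rw [Set.not_nonempty_iff_eq_empty] at hY
    rw [hY] at hYcard
    simp at hYcard
    omega
  obtain ⟨ψ0, hψ0⟩ := hYne
  have h1reg : ¬ p ∣ orderOf (1 : G) := by rw [orderOf_one]; exact hp.not_dvd_one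
  have hone : ∀ g : G, ((oneIrrG G : IrrCharacter G) : G → ℂ) g = 1 := fun _ => rfl
  have hψ0pos : 0 < charDegree (ψ0 : G → ℂ) := Nat.pos_of_ne_zero (charDegree_ne_zero' ψ0)
  have hχ1pos : 0 < charDegree (χ1 : G → ℂ) := Nat.pos_of_ne_zero (charDegree_ne_zero' χ1)
  have hεδ : ε χ1 = δ := by
    have h := D.rel ψ0 hψ0 1 h1reg
    rw [hsum, hε1, hone, Helper78.irrChar_one_eq_charDegree ψ0.2,
      Helper78.irrChar_one_eq_charDegree χ1.2] at h
    have hZ : δ * (charDegree (ψ0 : G → ℂ) : ℤ) =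
        1 * 1 + ε χ1 * (charDegree (χ1 : G → ℂ) : ℤ) := by
      exact_mod_cast h
    rcases D.eps χ1 with he | he <;> rcases D.del with hd | hd <;> rw [he, hd] at hZ <;>
      rw [he, hd]
    · exfalso; omega
    · exfalso; omega
  refine ⟨χ1, hne, hX, hε1, hεδ, ?_, ?_⟩
  · rw [← hεδ]; exact hdegχ1
  · intro ψ hψ g hg
    have h := D.rel ψ hψ g hg
    rw [hsum, hε1, hone, hεδ] at h
    have hδ2 : (δ : ℂ) * (δ : ℂ) = 1 := by
      rcases D.del with hd | hd <;> rw [hd] <;> norm_num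
    have h2 : (ψ : G → ℂ) g = (δ : ℂ) * ((δ : ℂ) * (ψ : G → ℂ) g) := by
      rw [← mul_assoc, hδ2, one_mul]
    rw [h2, h]
    push_cast
    linear_combination (χ1 : G → ℂ) g * hδ2

end Cfsg.Agent.Helper75.B66
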