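import Mathlib

/-!
# Permutation characters (helper75)

The character of the permutation representation `Representation.ofMulAction ℂ G X` counts fixed
points; the regular character.
-/

set_option autoImplicit false

namespace Cfsg.Agent.Helper75

open scoped MonoidAlgebra

/-- The permutation character counts fixed points. -/
theorem permChar_apply {G X : Type*} [Group G] [MulAction G X] [Fintype X] [DecidableEq X]
    (g : G) :
    (Representation.ofMulAction ℂ G X).character g
      = ((Finset.univ.filter (fun x : X => g • x = x)).card : ℂ) := by
  unfold Representation.character
  rw [LinearMap.trace_eq_matrix_trace ℂ (MonoidAlgebra.basis X ℂ)]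
  simp only [Matrix.trace, Matrix.diag, LinearMap.toMatrix_apply, MonoidAlgebra.basis_apply,
    Representation.ofMulAction_single]
  have : ∀ x : X, ((MonoidAlgebra.basis X ℂ).repr (MonoidAlgebra.single (g • x) (1 : ℂ))) x
      = if g • x = x then 1 else 0 := by
    intro x
    show (MonoidAlgebra.single (g • x) (1 : ℂ)).coeff x = _
    rw [MonoidAlgebra.coeff_single, Finsupp.single_apply]
  simp only [this]
  rw [Finset.sum_boole]

/-- The regular character. -/
theorem regularChar_apply {G : Type*} [Group G] [Fintype G] [DecidableEq G] (g : G) :
    (Representation.leftRegular ℂ G).character g = if g = 1 then (Nat.card G : ℂ) else 0 := by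
  rw [permChar_apply]
  split_ifs with h
  · subst h
    have : (Finset.univ.filter (fun x : G => (1 : G) • x = x)) = Finset.univ := by
      ext x; simp
    rw [this, Finset.card_univ, Nat.card_eq_fintype_card]
  · have : (Finset.univ.filter (fun x : G => g • x = x)) = ∅ := by
      ext x; simp [h]
    rw [this]; simp

end Cfsg.Agent.Helper75
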