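import Mathlib
import Cfsg.Agent.Helper15.DetChar
import Cfsg.Agent.Helper75.PermChar

/-!
# Determinants of permutation representations and a parity criterion (helper75)

* `det_ofMulAction`: the determinant of `g` in a permutation representation is the sign of the
  permutation.
* `detChar_eq_neg_one`: if a character `χ` vanishes on the non-identity elements of a cyclic
  subgroup `⟨τ⟩` of even order `n` and `χ 1 = n * m` with `m` odd then `detChar χ τ = -1`.
* `even_index_commutator_of_detChar`: if some `detChar χ` takes the value `-1` the commutator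
  subgroup has even index.
-/

set_option autoImplicit false

namespace Cfsg.Agent.Helper75

open Cfsg

universe u

section PermDet

/-- The determinant of a permutation representation is the sign. -/
theorem det_ofMulAction {G X : Type*} [Group G] [MulAction G X] [Fintype X] [DecidableEq X]
    (g : G) :
    LinearMap.det (Representation.ofMulAction ℂ G X g)
      = ((Equiv.Perm.sign (MulAction.toPerm g : Equiv.Perm X) : ℤˣ) : ℂ) := by
  rw [← LinearMap.det_toMatrix (MonoidAlgebra.basis X ℂ)]
  have hM : LinearMap.toMatrix (MonoidAlgebra.basis X ℂ) (MonoidAlgebra.basis X ℂ)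
      (Representation.ofMulAction ℂ G X g)
      = ((MulAction.toPerm g : Equiv.Perm X)⁻¹).permMatrix ℂ := by
    ext i j
    rw [LinearMap.toMatrix_apply, MonoidAlgebra.basis_apply, Representation.ofMulAction_single]
    show (MonoidAlgebra.single (g • j) (1 : ℂ)).coeff i = _
    rw [MonoidAlgebra.coeff_single, Finsupp.single_apply, Equiv.Perm.permMatrix,
      PEquiv.toMatrix_apply]
    simp only [Equiv.toPEquiv_apply, Option.mem_def, Option.some.injEq]
    have : (g • j = i) ↔ ((MulAction.toPerm g : Equiv.Perm X)⁻¹ i = j) := by
      rw [Equiv.Perm.inv_eq_iff_eq, MulAction.toPerm_apply]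
      exact eq_comm
    simp only [this]
  rw [hM, Matrix.det_permutation, Equiv.Perm.sign_inv]

end PermDet

section Sign

theorem sign_mulLeft_generator {S : Type*} [Group S] [Fintype S] [DecidableEq S] (g : S)
    (hg : ∀ s : S, s ∈ Subgroup.zpowers g) (heven : Even (Fintype.card S)) :
    Equiv.Perm.sign (Equiv.mulLeft g) = -1 := by
  have hg1 : g ≠ 1 := by
    rintro rfl
    have hsub : Subsingleton S := by
      refine ⟨fun a b => ?_⟩
      have ha := hg a
      have hb := hg b
      rw [Subgroup.zpowers_one_eq_bot, Subgroup.mem_bot] at ha hb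
      rw [ha, hb]
    have : Fintype.card S = 1 := Fintype.card_eq_one_iff.mpr ⟨1, fun y => Subsingleton.elim _ _⟩
    rw [this] at heven
    exact absurd heven (by decide)
  have hcyc : (Equiv.mulLeft g).IsCycle := by
    refine ⟨1, ?_, ?_⟩
    · show g * 1 ≠ 1
      rw [mul_one]; exact hg1
    · intro y _
      obtain ⟨i, hi⟩ := Subgroup.mem_zpowers_iff.mp (hg y)
      refine ⟨i, ?_⟩
      rw [Equiv.zpow_mulLeft]
      show g ^ i * 1 = y
      rw [mul_one, hi]
  rw [hcyc.sign]
  have hsupp : (Equiv.mulLeft g).support = Finset.univ := by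
    ext y
    simp only [Equiv.Perm.mem_support, Equiv.coe_mulLeft, Finset.mem_univ, iff_true]
    intro h
    exact hg1 (mul_eq_right.mp h)
  rw [hsupp, Finset.card_univ, heven.neg_one_pow]

/-- `m` copies of the regular action of `S`. -/
def RegCopies (S : Type*) (m : ℕ) := S × Fin m

noncomputable instance regCopiesFintype (S : Type*) [Fintype S] (m : ℕ) : Fintype (RegCopies S m) :=
  inferInstanceAs (Fintype (S × Fin m))

instance regCopiesDecEq (S : Type*) [DecidableEq S] (m : ℕ) : DecidableEq (RegCopies S m) :=
  inferInstanceAs (DecidableEq (S × Fin m))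

instance regCopiesAction (S : Type*) [Group S] (m : ℕ) : MulAction S (RegCopies S m) where
  smul g x := ((g * x.1, x.2) : S × Fin m)
  one_smul x := by
    show ((1 * x.1, x.2) : S × Fin m) = x
    rw [one_mul]
    rfl
  mul_smul g h x := by
    show ((g * h * x.1, x.2) : S × Fin m) = ((g * (h * x.1), x.2) : S × Fin m)
    rw [mul_assoc]

theorem regCopies_smul_def (S : Type*) [Group S] (m : ℕ) (g : S) (x : RegCopies S m) :
    g • x = ((g * x.1, x.2) : S × Fin m) := rfl

theorem regCopies_toPerm (S : Type*) [Group S] (m : ℕ) (g : S) :
    (MulAction.toPerm g : Equiv.Perm (RegCopies S m))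
      = Equiv.prodCongrLeft (fun _ : Fin m => Equiv.mulLeft g) := by
  ext x
  rfl

theorem regCopies_sign (S : Type*) [Group S] [Fintype S] [DecidableEq S] (m : ℕ) (g : S) :
    Equiv.Perm.sign (MulAction.toPerm g : Equiv.Perm (RegCopies S m))
      = Equiv.Perm.sign (Equiv.mulLeft g) ^ m := by
  have h := Equiv.Perm.sign_prodCongrLeft (fun _ : Fin m => Equiv.mulLeft g)
  rw [Finset.prod_const, Finset.card_univ, Fintype.card_fin] at h
  rw [regCopies_toPerm]
  exact h

theorem regCopies_card (S : Type*) [Fintype S] (m : ℕ) :
    Fintype.card (RegCopies S m) = Fintype.card S * m := by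
  show Fintype.card (S × Fin m) = _
  rw [Fintype.card_prod, Fintype.card_fin]


/-- The character of `m` copies of the regular action. -/
theorem regCopies_character (S : Type*) [Group S] [Fintype S] [DecidableEq S] (m : ℕ) (g : S) :
    (Representation.ofMulAction ℂ S (RegCopies S m)).character g
      = if g = 1 then ((Fintype.card S * m : ℕ) : ℂ) else 0 := by
  rw [permChar_apply]
  split_ifs with h
  · subst h
    have : (Finset.univ.filter (fun x : RegCopies S m => (1 : S) • x = x)) = Finset.univ := by
      ext x; simp
    rw [this, Finset.card_univ, regCopies_card]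
  · have : (Finset.univ.filter (fun x : RegCopies S m => g • x = x)) = ∅ := by
      ext x
      simp only [Finset.mem_filter, Finset.mem_univ, true_and, Finset.notMem_empty, iff_false]
      intro hx
      have h1 : g * x.1 = x.1 := congrArg Prod.fst hx
      exact h (mul_eq_right.mp h1)
    rw [this]; simp

/-- If a character `χ` vanishes on the non-identity elements of the cyclic subgroup `⟨τ⟩` of even
order `n`, and `χ 1 = n * m` with `m` odd, then the determinantal character of `χ` takes the value
`-1` at `τ`. -/
theorem detChar_eq_neg_one {G : Type u} [Group G] [Finite G] {χ : G → ℂ} (hχ : IsCharacter G χ)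
    (τ : G) (m : ℕ) (heven : Even (orderOf τ)) (hm : Odd m)
    (h1 : χ 1 = ((orderOf τ * m : ℕ) : ℂ))
    (hvan : ∀ s ∈ Subgroup.zpowers τ, s ≠ 1 → χ s = 0) :
    detChar χ τ = -1 := by
  classical
  let S := Subgroup.zpowers τ
  let _ : Fintype S := Fintype.ofFinite S
  let τ' : S := ⟨τ, Subgroup.mem_zpowers τ⟩
  have hcard : Fintype.card S = orderOf τ := by
    rw [← Nat.card_eq_fintype_card]; exact Nat.card_zpowers τ
  let σ := Representation.ofMulAction ℂ S (RegCopies S m)
  have hchar : σ.character = fun s : S => χ s := by
    funext s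
    rw [regCopies_character]
    split_ifs with h
    · subst h
      rw [hcard]; exact h1.symm
    · symm
      apply hvan _ s.2
      intro h'
      exact h (Subtype.ext h')
  have hfd : FiniteDimensional ℂ (MonoidAlgebra ℂ (RegCopies S m)) :=
    Module.Finite.of_basis (MonoidAlgebra.basis (RegCopies S m) ℂ)
  have hgen : ∀ s : S, s ∈ Subgroup.zpowers τ' := by
    intro s
    obtain ⟨i, hi⟩ := Subgroup.mem_zpowers_iff.mp s.2
    exact Subgroup.mem_zpowers_iff.mpr ⟨i, Subtype.ext (by simpa using hi)⟩
  calc detChar χ τ = detChar (fun s : S => χ s) τ' := (Helper15.detChar_restrict S hχ τ').symm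
    _ = detChar σ.character τ' := by rw [hchar]
    _ = LinearMap.det (σ τ') := Helper15.detChar_eq_det σ τ'
    _ = ((Equiv.Perm.sign (MulAction.toPerm τ' : Equiv.Perm (RegCopies S m)) : ℤˣ) : ℂ) :=
        det_ofMulAction τ'
    _ = -1 := by
        rw [regCopies_sign, sign_mulLeft_generator τ' hgen (by rw [hcard]; exact heven),
          hm.neg_one_pow]
        simp


end Sign

section Parity

/-- If the determinantal character of some character takes the value `-1`, the commutator subgroup
has even index. -/
theorem even_index_commutator_of_detChar {G : Type u} [Group G] [Finite G] {χ : G → ℂ}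
    (hχ : IsCharacter G χ) (τ : G) (h : detChar χ τ = -1) : Even (commutator G).index := by
  by_contra hodd
  rw [Nat.not_even_iff_odd] at hodd
  let φ : G →* ℂ :=
    { toFun := detChar χ
      map_one' := (Helper15.isCharacter_detChar hχ).2
      map_mul' := Helper15.detChar_mul hχ }
  let φ' : G →* ℂˣ := φ.toHomUnits
  have hker : commutator G ≤ φ'.ker := Abelianization.commutator_subset_ker φ'
  have hmem : τ ^ (commutator G).index ∈ commutator G := Subgroup.pow_index_mem _ τ
  have h1 : φ' (τ ^ (commutator G).index) = 1 := MonoidHom.mem_ker.mp (hker hmem)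
  have h2 : φ (τ ^ (commutator G).index) = 1 := by
    have := congrArg Units.val h1
    simpa [φ'] using this
  rw [map_pow] at h2
  have h3 : φ τ = -1 := h
  rw [h3, hodd.neg_one_pow] at h2
  norm_num at h2


end Parity

end Cfsg.Agent.Helper75
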