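import Mathlib

/-!
Groups with a self-centralizing element `x` of prime order `p`
(`C_G(x) = ⟨x⟩`): basic structure.  Shared by S4495, S4496, S4497, S4509.
-/

set_option autoImplicit false

namespace Cfsg.Agent.Helper75

open Subgroup
open scoped commutatorElement

variable {G : Type*} [Group G]

theorem sc_mem_zpowers_of_commute {x g : G}
    (hC : Subgroup.centralizer ({x} : Set G) = Subgroup.zpowers x) (h : g * x = x * g) :
    g ∈ Subgroup.zpowers x := by
  rw [← hC, Subgroup.mem_centralizer_singleton_iff]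
  exact h

theorem sc_card_zpowers {x : G} {p : ℕ} (hx : orderOf x = p) :
    Nat.card (Subgroup.zpowers x) = p ^ 1 := by
  rw [Nat.card_zpowers, hx, pow_one]

/-- `p ^ 2` does not divide the order of `G`. -/
theorem sc_not_sq_dvd [Finite G] {p : ℕ} (hp : p.Prime) {x : G} (hx : orderOf x = p)
    (hC : Subgroup.centralizer ({x} : Set G) = Subgroup.zpowers x) :
    ¬ p ^ 2 ∣ Nat.card G := by
  have := Fact.mk hp
  intro h
  obtain ⟨K, hK, hle⟩ := Sylow.exists_subgroup_card_pow_succ (p := p) (n := 1) h (sc_card_zpowers hx)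
  have hcomm := (IsPGroup.isMulCommutative_of_card_eq_prime_sq (p := p) (G := K) hK).is_comm.comm
  have hxK : x ∈ K := hle (Subgroup.mem_zpowers x)
  have hKle : K ≤ Subgroup.zpowers x := by
    intro k hk
    apply sc_mem_zpowers_of_commute hC
    have := hcomm ⟨k, hk⟩ ⟨x, hxK⟩
    exact congrArg Subtype.val this
  have h1 : Nat.card K ≤ Nat.card (Subgroup.zpowers x) := Subgroup.card_le_of_le hKle
  rw [hK, sc_card_zpowers hx] at h1
  exact absurd h1 (not_le.mpr (Nat.pow_lt_pow_right hp.one_lt (by norm_num)))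

theorem sc_dvd_card [Finite G] {p : ℕ} {x : G} (hx : orderOf x = p) : p ∣ Nat.card G := by
  rw [← hx]; exact orderOf_dvd_natCard x

theorem sc_factorization [Finite G] {p : ℕ} (hp : p.Prime) {x : G} (hx : orderOf x = p)
    (hC : Subgroup.centralizer ({x} : Set G) = Subgroup.zpowers x) :
    (Nat.card G).factorization p = 1 := by
  have h1 : p ∣ Nat.card G := sc_dvd_card hx
  have h2 := sc_not_sq_dvd hp hx hC
  have hpos : Nat.card G ≠ 0 := Nat.card_pos.ne'
  have hle : 1 ≤ (Nat.card G).factorization p :=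
    (hp.dvd_iff_one_le_factorization hpos).mp h1
  have hlt : ¬ 2 ≤ (Nat.card G).factorization p := by
    intro h
    exact h2 ((hp.pow_dvd_iff_le_factorization hpos).mpr h)
  omega

/-- The Sylow `p`-subgroup `⟨x⟩`. -/
noncomputable def scSylow [Finite G] {p : ℕ} (hp : p.Prime) {x : G} (hx : orderOf x = p)
    (hC : Subgroup.centralizer ({x} : Set G) = Subgroup.zpowers x) :
    @Sylow p G _ :=
  haveI := Fact.mk hp
  Sylow.ofCard (Subgroup.zpowers x) (by rw [sc_factorization hp hx hC, sc_card_zpowers hx])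

theorem scSylow_coe [Finite G] {p : ℕ} (hp : p.Prime) {x : G} (hx : orderOf x = p)
    (hC : Subgroup.centralizer ({x} : Set G) = Subgroup.zpowers x) :
    ((scSylow hp hx hC : Sylow p G) : Subgroup G) = Subgroup.zpowers x := by
  rfl



theorem scSylow_coe_set [Finite G] {p : ℕ} (hp : p.Prime) {x : G} (hx : orderOf x = p)
    (hC : Subgroup.centralizer ({x} : Set G) = Subgroup.zpowers x) :
    ((scSylow hp hx hC : Sylow p G) : Set G) = (Subgroup.zpowers x : Set G) := by
  rfl

/-- A `p'`-subgroup meets `⟨x⟩` trivially. -/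
theorem sc_eq_one_of_mem_of_mem_zpowers [Finite G] {p : ℕ} (hp : p.Prime) {x : G} (hx : orderOf x = p)
    {S : Subgroup G} (hS : ¬ p ∣ Nat.card S) {s : G} (hs : s ∈ S) (hsx : s ∈ Subgroup.zpowers x) :
    s = 1 := by
  have h1 : orderOf s ∣ p := by
    have := orderOf_dvd_natCard (⟨s, hsx⟩ : Subgroup.zpowers x)
    rw [Nat.card_zpowers, hx, Subgroup.orderOf_mk] at this
    exact this
  have h2 : orderOf s ∣ Nat.card S := by
    have := orderOf_dvd_natCard (⟨s, hs⟩ : S)
    rwa [Subgroup.orderOf_mk] at this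
  rcases (Nat.dvd_prime hp).mp h1 with h | h
  · exact orderOf_eq_one_iff.mp h
  · exact absurd (h ▸ h2) hS

/-- A `p'`-subgroup meets `C_G(x)` trivially. -/
theorem sc_eq_one_of_mem_of_commute [Finite G] {p : ℕ} (hp : p.Prime) {x : G} (hx : orderOf x = p)
    (hC : Subgroup.centralizer ({x} : Set G) = Subgroup.zpowers x)
    {S : Subgroup G} (hS : ¬ p ∣ Nat.card S) {s : G} (hs : s ∈ S) (hsx : s * x = x * s) :
    s = 1 :=
  sc_eq_one_of_mem_of_mem_zpowers hp hx hS hs (sc_mem_zpowers_of_commute hC hsx)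

/-- `s ↦ s x s⁻¹ x⁻¹` is a bijection of a normal `p'`-subgroup `S`. -/
theorem sc_exists_conj_eq [Finite G] {p : ℕ} (hp : p.Prime) {x : G} (hx : orderOf x = p)
    (hC : Subgroup.centralizer ({x} : Set G) = Subgroup.zpowers x)
    {S : Subgroup G} [hSn : S.Normal] (hS : ¬ p ∣ Nat.card S) {u : G} (hu : u ∈ S) :
    ∃ s ∈ S, s * x * s⁻¹ * x⁻¹ = u := by
  let φ : S → S := fun s => ⟨(s : G) * x * (s : G)⁻¹ * x⁻¹, by
    have h1 : x * (s : G)⁻¹ * x⁻¹ ∈ S := hSn.conj_mem _ (S.inv_mem s.2) x
    have : (s : G) * x * (s : G)⁻¹ * x⁻¹ = (s : G) * (x * (s : G)⁻¹ * x⁻¹) := by group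
    rw [this]
    exact S.mul_mem s.2 h1⟩
  have hinj : Function.Injective φ := by
    intro s s' h
    have h' : (s : G) * x * (s : G)⁻¹ * x⁻¹ = (s' : G) * x * (s' : G)⁻¹ * x⁻¹ :=
      congrArg Subtype.val h
    have h2 : ((s' : G)⁻¹ * (s : G)) * x = x * ((s' : G)⁻¹ * (s : G)) := by
      have h3 : (s : G) * x * (s : G)⁻¹ = (s' : G) * x * (s' : G)⁻¹ := mul_right_cancel h'
      calc ((s' : G)⁻¹ * (s : G)) * x = (s' : G)⁻¹ * ((s : G) * x * (s : G)⁻¹) * (s : G) := by group
        _ = (s' : G)⁻¹ * ((s' : G) * x * (s' : G)⁻¹) * (s : G) := by rw [h3]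
        _ = x * ((s' : G)⁻¹ * (s : G)) := by group
    have h4 := sc_eq_one_of_mem_of_commute hp hx hC hS (S.mul_mem (S.inv_mem s'.2) s.2) h2
    have : (s : G) = (s' : G) := by
      have := inv_mul_eq_one.mp h4
      exact this.symm
    exact Subtype.ext this
  have hsurj := Finite.surjective_of_injective hinj
  obtain ⟨s, hs⟩ := hsurj ⟨u, hu⟩
  exact ⟨s, s.2, congrArg Subtype.val hs⟩

/-- `|S| ≡ 1 (mod p)` for a normal `p'`-subgroup. -/
theorem sc_card_mod [Finite G] {p : ℕ} (hp : p.Prime) {x : G} (hx : orderOf x = p)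
    (hC : Subgroup.centralizer ({x} : Set G) = Subgroup.zpowers x)
    {S : Subgroup G} [hSn : S.Normal] (hS : ¬ p ∣ Nat.card S) :
    Nat.card S % p = 1 := by
  have := Fact.mk hp
  let act : MulAction (Subgroup.zpowers x) S :=
    MulAction.compHom S ((MulAut.conjNormal (H := S)).comp (Subgroup.zpowers x).subtype)
  have hPG : IsPGroup p (Subgroup.zpowers x) := IsPGroup.of_card (sc_card_zpowers hx)
  have key := hPG.card_modEq_card_fixedPoints S
  have hfix : MulAction.fixedPoints (Subgroup.zpowers x) S = {1} := by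
    ext s
    simp only [MulAction.mem_fixedPoints, Set.mem_singleton_iff]
    constructor
    · intro h
      have h1 := h ⟨x, Subgroup.mem_zpowers x⟩
      have h2 : x * (s : G) * x⁻¹ = (s : G) := congrArg Subtype.val h1
      have h3 : (s : G) * x = x * (s : G) := by
        calc (s : G) * x = (x * (s : G) * x⁻¹) * x := by rw [h2]
          _ = x * (s : G) := by group
      exact Subtype.ext (sc_eq_one_of_mem_of_commute hp hx hC hS s.2 h3)
    · rintro rfl g
      apply Subtype.ext
      show (g : G) * ((1 : S) : G) * (g : G)⁻¹ = ((1 : S) : G)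
      simp
  have h1 : Nat.card (({1} : Set S)) = 1 := by simp
  rw [hfix, h1] at key
  have := key
  unfold Nat.ModEq at this
  rw [this, Nat.mod_eq_of_lt hp.one_lt]



/-- number of subgroups of order `p` = number of Sylow `p`-subgroups. -/
theorem sc_card_subgroups_eq [Finite G] {p : ℕ} (hp : p.Prime) {x : G} (hx : orderOf x = p)
    (hC : Subgroup.centralizer ({x} : Set G) = Subgroup.zpowers x) :
    Nat.card {H : Subgroup G // Nat.card H = p} = @Nat.card (@Sylow p G _) := by
  have := Fact.mk hp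
  have hf := sc_factorization hp hx hC
  symm
  let f : Sylow p G → {H : Subgroup G // Nat.card H = p} := fun P =>
    ⟨(P : Subgroup G), by rw [P.card_eq_multiplicity, hf, pow_one]⟩
  apply Nat.card_eq_of_bijective f
  constructor
  · intro P Q h
    exact Sylow.ext (congrArg Subtype.val h)
  · intro H
    exact ⟨Sylow.ofCard H.1 (by rw [hf, pow_one, H.2]), Subtype.ext rfl⟩

theorem card_sup_of_inf_eq_bot [Finite G] (H K : Subgroup G) [K.Normal] (h : K ⊓ H = ⊥) :
    Nat.card (H ⊔ K : Subgroup G) = Nat.card H * Nat.card K := by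
  have h1 : K.relIndex (H ⊔ K) = K.relIndex H := Subgroup.relIndex_sup_right H K
  have h2 : K.relIndex H = Nat.card H := by
    rw [← Subgroup.inf_relIndex_right, h, Subgroup.relIndex_bot_left]
  have h3 : Nat.card (K.subgroupOf (H ⊔ K)) * (K.subgroupOf (H ⊔ K)).index = Nat.card (H ⊔ K : Subgroup G) :=
    Subgroup.card_mul_index _
  have h4 : Nat.card (K.subgroupOf (H ⊔ K)) = Nat.card K :=
    Nat.card_congr (Subgroup.subgroupOfEquivOfLe le_sup_right).toEquiv
  rw [← h3, h4, ← Subgroup.relIndex, h1, h2, mul_comm]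

theorem card_dvd_index_of_inf_eq_bot [Finite G] (H K : Subgroup G) [K.Normal] (h : K ⊓ H = ⊥) :
    Nat.card K ∣ H.index := by
  have h1 := card_sup_of_inf_eq_bot H K h
  have h2 : Nat.card (H ⊔ K : Subgroup G) ∣ Nat.card G := Subgroup.card_subgroup_dvd_card _
  rw [h1, ← Subgroup.card_mul_index H] at h2
  exact Nat.dvd_of_mul_dvd_mul_left Nat.card_pos h2

/-- normal `p'`-subgroup meets the normalizer of `⟨x⟩` trivially. -/
theorem sc_inf_normalizer [Finite G] {p : ℕ} (hp : p.Prime) {x : G} (hx : orderOf x = p)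
    (hC : Subgroup.centralizer ({x} : Set G) = Subgroup.zpowers x)
    {S : Subgroup G} [hSn : S.Normal] (hS : ¬ p ∣ Nat.card S) :
    S ⊓ Subgroup.normalizer (Subgroup.zpowers x : Set G) = ⊥ := by
  rw [eq_bot_iff]
  rintro s ⟨hs, hn⟩
  rw [Subgroup.mem_bot]
  apply sc_eq_one_of_mem_of_commute hp hx hC hS hs
  -- s x s⁻¹ x⁻¹ ∈ S ⊓ ⟨x⟩
  have h1 : s * x * s⁻¹ ∈ Subgroup.zpowers x := by
    have := (Subgroup.mem_normalizer_iff.mp hn x).mp (Subgroup.mem_zpowers x)
    exact this
  have h2 : s * x * s⁻¹ * x⁻¹ ∈ Subgroup.zpowers x :=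
    (Subgroup.zpowers x).mul_mem h1 ((Subgroup.zpowers x).inv_mem (Subgroup.mem_zpowers x))
  have h3 : s * x * s⁻¹ * x⁻¹ ∈ S := by
    have h1 : x * s⁻¹ * x⁻¹ ∈ S := hSn.conj_mem _ (S.inv_mem hs) x
    have : s * x * s⁻¹ * x⁻¹ = s * (x * s⁻¹ * x⁻¹) := by group
    rw [this]
    exact S.mul_mem hs h1
  have h4 := sc_eq_one_of_mem_of_mem_zpowers hp hx hS h3 h2
  calc s * x = (s * x * s⁻¹ * x⁻¹) * x * s := by group
    _ = x * s := by rw [h4, one_mul]

theorem sc_card_dvd_card_subgroups [Finite G] {p : ℕ} (hp : p.Prime) {x : G} (hx : orderOf x = p)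
    (hC : Subgroup.centralizer ({x} : Set G) = Subgroup.zpowers x)
    {S : Subgroup G} [hSn : S.Normal] (hS : ¬ p ∣ Nat.card S) :
    Nat.card S ∣ Nat.card {H : Subgroup G // Nat.card H = p} := by
  have := Fact.mk hp
  rw [sc_card_subgroups_eq hp hx hC, Sylow.card_eq_index_normalizer (scSylow hp hx hC),
    scSylow_coe_set]
  exact card_dvd_index_of_inf_eq_bot _ S (sc_inf_normalizer hp hx hC hS)



theorem sc_orderOf_mk [Finite G] {p : ℕ} (hp : p.Prime) {x : G} (hx : orderOf x = p)
    {S : Subgroup G} [hSn : S.Normal] (hS : ¬ p ∣ Nat.card S) :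
    orderOf (QuotientGroup.mk x : G ⧸ S) = p := by
  have h1 : orderOf (QuotientGroup.mk x : G ⧸ S) ∣ p := by
    rw [orderOf_dvd_iff_pow_eq_one, ← QuotientGroup.mk_pow, ← hx, pow_orderOf_eq_one]
    rfl
  rcases (Nat.dvd_prime hp).mp h1 with h | h
  · exfalso
    rw [orderOf_eq_one_iff, QuotientGroup.eq_one_iff] at h
    have h2 : orderOf x ∣ Nat.card S := by
      have := orderOf_dvd_natCard (⟨x, h⟩ : S)
      rwa [Subgroup.orderOf_mk] at this
    exact hS (hx ▸ h2)
  · exact h

theorem sc_centralizer_mk [Finite G] {p : ℕ} (hp : p.Prime) {x : G} (hx : orderOf x = p)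
    (hC : Subgroup.centralizer ({x} : Set G) = Subgroup.zpowers x)
    {S : Subgroup G} [hSn : S.Normal] (hS : ¬ p ∣ Nat.card S) :
    Subgroup.centralizer ({(QuotientGroup.mk x : G ⧸ S)} : Set (G ⧸ S)) =
      Subgroup.zpowers (QuotientGroup.mk x : G ⧸ S) := by
  apply le_antisymm
  · intro y hy
    obtain ⟨g, rfl⟩ := QuotientGroup.mk_surjective y
    rw [Subgroup.mem_centralizer_singleton_iff] at hy
    -- hy : mk g * mk x = mk x * mk g
    have h1 : g * x * g⁻¹ * x⁻¹ ∈ S := by
      rw [← QuotientGroup.eq_one_iff]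
      simp only [QuotientGroup.mk_mul, QuotientGroup.mk_inv]
      rw [hy]
      group
    obtain ⟨s, hs, hsu⟩ := sc_exists_conj_eq hp hx hC hS h1
    have h2 : s * x * s⁻¹ = g * x * g⁻¹ := mul_right_cancel hsu
    have h3 : (s⁻¹ * g) * x = x * (s⁻¹ * g) := by
      calc (s⁻¹ * g) * x = s⁻¹ * (g * x * g⁻¹) * g := by group
        _ = s⁻¹ * (s * x * s⁻¹) * g := by rw [h2]
        _ = x * (s⁻¹ * g) := by group
    have h4 := sc_mem_zpowers_of_commute hC h3
    obtain ⟨k, hk⟩ := Subgroup.mem_zpowers_iff.mp h4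
    rw [Subgroup.mem_zpowers_iff]
    refine ⟨k, ?_⟩
    rw [← QuotientGroup.mk_zpow, hk, QuotientGroup.mk_mul, QuotientGroup.mk_inv]
    have : (QuotientGroup.mk s : G ⧸ S) = 1 := (QuotientGroup.eq_one_iff s).mpr hs
    rw [this]; simp
  · rw [Subgroup.zpowers_le, Subgroup.mem_centralizer_singleton_iff]



/-- a normal subgroup of order divisible by `p` contains `x`. -/
theorem sc_mem_of_dvd_card [Finite G] {p : ℕ} (hp : p.Prime) {x : G} (hx : orderOf x = p)
    (hC : Subgroup.centralizer ({x} : Set G) = Subgroup.zpowers x)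
    {S : Subgroup G} [hSn : S.Normal] (hS : p ∣ Nat.card S) : x ∈ S := by
  have := Fact.mk hp
  obtain ⟨y, hy⟩ := exists_prime_orderOf_dvd_card' (G := S) p hS
  have hy' : orderOf (y : G) = p := by rw [Subgroup.orderOf_coe, hy]
  have hf := sc_factorization hp hx hC
  let Q : Sylow p G := Sylow.ofCard (Subgroup.zpowers (y : G)) (by rw [hf, sc_card_zpowers hy'])
  obtain ⟨g, hg⟩ := MulAction.exists_smul_eq G Q (scSylow hp hx hC)
  have hxP : x ∈ ((scSylow hp hx hC : Sylow p G) : Subgroup G) := by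
    rw [scSylow_coe]; exact Subgroup.mem_zpowers x
  rw [← hg, Sylow.coe_subgroup_smul, Subgroup.mem_pointwise_smul_iff_inv_smul_mem] at hxP
  have hQle : (Q : Subgroup G) ≤ S := by
    show Subgroup.zpowers (y : G) ≤ S
    rw [Subgroup.zpowers_le]; exact y.2
  have h1 := hQle hxP
  rw [MulAut.smul_def, MulAut.conj_inv_apply] at h1
  have := hSn.conj_mem _ h1 g
  simpa [mul_assoc] using this

/-- commutators of elements of the normalizer of `⟨x⟩` centralize `x`. -/
theorem sc_commutator_normalizer [Finite G] {x : G}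
    (hC : Subgroup.centralizer ({x} : Set G) = Subgroup.zpowers x)
    {a b : G} (ha : a ∈ Subgroup.normalizer (Subgroup.zpowers x : Set G))
    (hb : b ∈ Subgroup.normalizer (Subgroup.zpowers x : Set G)) :
    ⁅a, b⁆ ∈ Subgroup.zpowers x := by
  have hcyc : IsCyclic (Subgroup.zpowers x) := inferInstance
  let _ := (hcyc.mulAutMulEquiv _).toMonoidHom.commGroupOfInjective (hcyc.mulAutMulEquiv _).injective
  have h := Abelianization.commutator_subset_ker (Subgroup.zpowers x).normalizerMonoidHom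
  have hmem : ⁅(⟨a, ha⟩ : Subgroup.normalizer (Subgroup.zpowers x : Set G)), ⟨b, hb⟩⁆ ∈
      commutator (Subgroup.normalizer (Subgroup.zpowers x : Set G)) :=
    Subgroup.commutator_mem_commutator (Subgroup.mem_top _) (Subgroup.mem_top _)
  have h2 := h hmem
  rw [Subgroup.normalizerMonoidHom_ker, Subgroup.mem_subgroupOf] at h2
  have h3 : ⁅a, b⁆ ∈ Subgroup.centralizer (Subgroup.zpowers x : Set G) := h2
  rw [← hC]
  exact Subgroup.centralizer_le (Set.singleton_subset_iff.mpr (Subgroup.mem_zpowers x)) h3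

theorem sc_commutator_le [Finite G] {p : ℕ} (hp : p.Prime) {x : G} (hx : orderOf x = p)
    (hC : Subgroup.centralizer ({x} : Set G) = Subgroup.zpowers x)
    {S : Subgroup G} [hSn : S.Normal] (hS : p ∣ Nat.card S) : commutator G ≤ S := by
  have := Fact.mk hp
  have hxS := sc_mem_of_dvd_card hp hx hC hS
  have hle : ((scSylow hp hx hC : Sylow p G) : Subgroup G) ≤ S := by
    rw [scSylow_coe, Subgroup.zpowers_le]; exact hxS
  have hfr := Sylow.normalizer_sup_eq_top ((scSylow hp hx hC).subtype hle)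
  have hmap : Subgroup.map S.subtype (((scSylow hp hx hC).subtype hle : Sylow p S) : Subgroup S) =
      Subgroup.zpowers x := by
    rw [Sylow.coe_subtype, Subgroup.map_subgroupOf_eq_of_le hle, scSylow_coe]
  rw [hmap] at hfr
  rw [commutator_def, Subgroup.commutator_le]
  intro g _ h _
  have hg : g ∈ (Subgroup.normalizer (Subgroup.zpowers x : Set G) ⊔ S : Subgroup G) := by
    rw [hfr]; exact Subgroup.mem_top g
  have hh : h ∈ (Subgroup.normalizer (Subgroup.zpowers x : Set G) ⊔ S : Subgroup G) := by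
    rw [hfr]; exact Subgroup.mem_top h
  rw [← SetLike.mem_coe, Subgroup.mul_normal] at hg hh
  obtain ⟨a, ha, s, hs, rfl⟩ := Set.mem_mul.mp hg
  obtain ⟨b, hb, s', hs', rfl⟩ := Set.mem_mul.mp hh
  rw [← QuotientGroup.eq_one_iff]
  have hs1 : (QuotientGroup.mk s : G ⧸ S) = 1 := (QuotientGroup.eq_one_iff s).mpr hs
  have hs2 : (QuotientGroup.mk s' : G ⧸ S) = 1 := (QuotientGroup.eq_one_iff s').mpr hs'
  have hab : (QuotientGroup.mk ⁅a, b⁆ : G ⧸ S) = 1 := by
    rw [QuotientGroup.eq_one_iff]
    have := sc_commutator_normalizer hC ha hb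
    exact (Subgroup.zpowers_le.mpr hxS) this
  rw [commutatorElement_def] at hab ⊢
  simp only [QuotientGroup.mk_mul, QuotientGroup.mk_inv, hs1, hs2, mul_one] at hab ⊢
  exact hab



/-- a nontrivial element of `⟨x⟩` generates it. -/
theorem sc_zpowers_eq_of_mem {p : ℕ} (hp : p.Prime) {x : G} (hx : orderOf x = p)
    {y : G} (hy : y ∈ Subgroup.zpowers x) (hy1 : y ≠ 1) : Subgroup.zpowers y = Subgroup.zpowers x := by
  have := Fact.mk hp
  apply le_antisymm
  · rw [Subgroup.zpowers_le]; exact hy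
  · rw [Subgroup.zpowers_le]
    have hcard : Nat.card (Subgroup.zpowers x) = p := by rw [Nat.card_zpowers, hx]
    have hne : (⟨y, hy⟩ : Subgroup.zpowers x) ≠ 1 := by
      intro h; exact hy1 (congrArg Subtype.val h)
    have h := mem_zpowers_of_prime_card (G := Subgroup.zpowers x) (g := ⟨y, hy⟩)
      (g' := ⟨x, Subgroup.mem_zpowers x⟩) hcard hne
    obtain ⟨k, hk⟩ := Subgroup.mem_zpowers_iff.mp h
    rw [Subgroup.mem_zpowers_iff]
    exact ⟨k, by simpa using congrArg Subtype.val hk⟩

theorem sc_orderOf_of_mem {p : ℕ} (hp : p.Prime) {x : G} (hx : orderOf x = p)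
    {y : G} (hy : y ∈ Subgroup.zpowers x) (hy1 : y ≠ 1) : orderOf y = p := by
  rw [← Nat.card_zpowers, sc_zpowers_eq_of_mem hp hx hy hy1, Nat.card_zpowers, hx]

/-- centralizer of a nontrivial element of `⟨x⟩`. -/
theorem sc_centralizer_of_mem {p : ℕ} (hp : p.Prime) {x : G} (hx : orderOf x = p)
    (hC : Subgroup.centralizer ({x} : Set G) = Subgroup.zpowers x)
    {y : G} (hy : y ∈ Subgroup.zpowers x) (hy1 : y ≠ 1) :
    Subgroup.centralizer ({y} : Set G) = Subgroup.zpowers y := by
  have h := sc_zpowers_eq_of_mem hp hx hy hy1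
  rw [← Subgroup.centralizer_closure, ← Subgroup.zpowers_eq_closure, h, Subgroup.zpowers_eq_closure,
    Subgroup.centralizer_closure, hC, Subgroup.zpowers_eq_closure]



/-- nontrivial elements of `⟨x⟩`. -/
abbrev scY (x : G) : Type _ := {y : G // y ∈ Subgroup.zpowers x ∧ y ≠ 1}

/-- the normalizer of `⟨x⟩` acts on the nontrivial elements of `⟨x⟩` by conjugation. -/
instance scAction (x : G) : MulAction (Subgroup.normalizer (Subgroup.zpowers x : Set G)) (scY x) where
  smul n y := ⟨(n : G) * y.1 * (n : G)⁻¹,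
    ⟨(Subgroup.mem_normalizer_iff.mp n.2 y.1).mp y.2.1, fun h => y.2.2 (by
      have : y.1 = (n : G)⁻¹ * ((n : G) * y.1 * (n : G)⁻¹) * (n : G) := by group
      rw [this, h]; group)⟩⟩
  one_smul y := by
    apply Subtype.ext
    show ((1 : Subgroup.normalizer (Subgroup.zpowers x : Set G)) : G) * y.1 * ((1 : Subgroup.normalizer (Subgroup.zpowers x : Set G)) : G)⁻¹ = y.1
    simp
  mul_smul a b y := by
    apply Subtype.ext
    show ((a * b : Subgroup.normalizer (Subgroup.zpowers x : Set G)) : G) * y.1 * ((a * b : Subgroup.normalizer (Subgroup.zpowers x : Set G)) : G)⁻¹ = (a : G) * ((b : G) * y.1 * (b : G)⁻¹) * (a : G)⁻¹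
    simp [mul_assoc]

theorem scAction_smul_coe (x : G) (n : Subgroup.normalizer (Subgroup.zpowers x : Set G)) (y : scY x) :
    ((n • y : scY x) : G) = (n : G) * y.1 * (n : G)⁻¹ := rfl

theorem sc_card_scY {p : ℕ} (hp : p.Prime) {x : G} (hx : orderOf x = p) :
    Nat.card (scY x) = p - 1 := by
  have hfin : Finite (Subgroup.zpowers x) := by
    apply Nat.finite_of_card_ne_zero
    rw [Nat.card_zpowers, hx]; exact hp.ne_zero
  have e : scY x ≃ {y : Subgroup.zpowers x // y ≠ 1} :=
    { toFun := fun y => ⟨⟨y.1, y.2.1⟩, fun h => y.2.2 (congrArg Subtype.val h)⟩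
      invFun := fun y => ⟨y.1.1, y.1.2, fun h => y.2 (Subtype.ext h)⟩
      left_inv := fun y => rfl
      right_inv := fun y => rfl }
  rw [Nat.card_congr e]
  classical
  have := Fintype.ofFinite (Subgroup.zpowers x)
  rw [Nat.card_eq_fintype_card, Fintype.card_subtype_compl, Fintype.card_subtype_eq,
    ← Nat.card_eq_fintype_card, Nat.card_zpowers, hx]

theorem sc_stabilizer {p : ℕ} (hp : p.Prime) {x : G} (hx : orderOf x = p)
    (hC : Subgroup.centralizer ({x} : Set G) = Subgroup.zpowers x) (y : scY x) :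
    MulAction.stabilizer (Subgroup.normalizer (Subgroup.zpowers x : Set G)) y =
      (Subgroup.zpowers x).subgroupOf (Subgroup.normalizer (Subgroup.zpowers x : Set G)) := by
  ext n
  rw [MulAction.mem_stabilizer_iff, Subgroup.mem_subgroupOf]
  have hcy := sc_centralizer_of_mem hp hx hC y.2.1 y.2.2
  have hzy := sc_zpowers_eq_of_mem hp hx y.2.1 y.2.2
  constructor
  · intro h
    have h1 : (n : G) * y.1 * (n : G)⁻¹ = y.1 := congrArg Subtype.val h
    have h2 : (n : G) ∈ Subgroup.centralizer ({y.1} : Set G) := by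
      rw [Subgroup.mem_centralizer_singleton_iff]
      calc (n : G) * y.1 = ((n : G) * y.1 * (n : G)⁻¹) * (n : G) := by group
        _ = y.1 * (n : G) := by rw [h1]
    rw [hcy, hzy] at h2
    exact h2
  · intro h
    apply Subtype.ext
    rw [scAction_smul_coe]
    have h' : (n : G) ∈ Subgroup.centralizer ({y.1} : Set G) := by
      rw [hcy, hzy]; exact h
    rw [Subgroup.mem_centralizer_singleton_iff] at h'
    rw [h']; group



theorem sc_mem_normalizer_of_conj {p : ℕ} (hp : p.Prime) {x : G} (hx : orderOf x = p)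
    {y y' g : G} (hy : y ∈ Subgroup.zpowers x) (hy1 : y ≠ 1) (hy' : y' ∈ Subgroup.zpowers x)
    (hy1' : y' ≠ 1) (hg : g * y' * g⁻¹ = y) :
    g ∈ Subgroup.normalizer (Subgroup.zpowers x : Set G) := by
  have hzy := sc_zpowers_eq_of_mem hp hx hy hy1
  have hzy' := sc_zpowers_eq_of_mem hp hx hy' hy1'
  rw [Subgroup.mem_normalizer_iff]
  intro z
  constructor
  · intro hz
    rw [← hzy', Subgroup.mem_zpowers_iff] at hz
    obtain ⟨k, rfl⟩ := hz
    rw [← hzy, Subgroup.mem_zpowers_iff]
    exact ⟨k, by rw [← hg, conj_zpow]⟩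
  · intro hz
    rw [← hzy, Subgroup.mem_zpowers_iff] at hz
    obtain ⟨k, hk⟩ := hz
    rw [← hzy', Subgroup.mem_zpowers_iff]
    refine ⟨k, ?_⟩
    rw [← hg, conj_zpow] at hk
    have := mul_left_cancel (mul_right_cancel hk)
    exact this

/-- the map from nontrivial elements of `⟨x⟩` to classes of elements of order `p`. -/
def scClassMap {p : ℕ} (hp : p.Prime) {x : G} (hx : orderOf x = p) (y : scY x) :
    {C : ConjClasses G // ∃ g ∈ C.carrier, orderOf g = p} :=
  ⟨ConjClasses.mk y.1, y.1, ConjClasses.mem_carrier_mk, sc_orderOf_of_mem hp hx y.2.1 y.2.2⟩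

theorem scClassMap_eq_iff {p : ℕ} (hp : p.Prime) {x : G} (hx : orderOf x = p) (y y' : scY x) :
    scClassMap hp hx y = scClassMap hp hx y' ↔
      MulAction.orbitRel (Subgroup.normalizer (Subgroup.zpowers x : Set G)) (scY x) y y' := by
  rw [MulAction.orbitRel_apply, MulAction.mem_orbit_iff]
  constructor
  · intro h
    have h1 : ConjClasses.mk y.1 = ConjClasses.mk y'.1 := congrArg Subtype.val h
    rw [ConjClasses.mk_eq_mk_iff_isConj, isConj_comm, isConj_iff] at h1
    obtain ⟨g, hg⟩ := h1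
    have hgn := sc_mem_normalizer_of_conj hp hx y.2.1 y.2.2 y'.2.1 y'.2.2 hg
    exact ⟨⟨g, hgn⟩, Subtype.ext hg⟩
  · rintro ⟨n, hn⟩
    apply Subtype.ext
    show ConjClasses.mk y.1 = ConjClasses.mk y'.1
    rw [ConjClasses.mk_eq_mk_iff_isConj, isConj_comm, isConj_iff]
    exact ⟨n, by rw [← hn]; rfl⟩

theorem scClassMap_surjective [Finite G] {p : ℕ} (hp : p.Prime) {x : G} (hx : orderOf x = p)
    (hC : Subgroup.centralizer ({x} : Set G) = Subgroup.zpowers x) :
    Function.Surjective (scClassMap (G := G) hp hx) := by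
  have := Fact.mk hp
  rintro ⟨C, g, hgC, hg⟩
  have hf := sc_factorization hp hx hC
  let Q : Sylow p G := Sylow.ofCard (Subgroup.zpowers g) (by rw [hf, sc_card_zpowers hg])
  obtain ⟨h, hh⟩ := MulAction.exists_smul_eq G Q (scSylow hp hx hC)
  have hgQ : g ∈ (Q : Subgroup G) := Subgroup.mem_zpowers g
  have h1 : h * g * h⁻¹ ∈ ((h • Q : Sylow p G) : Subgroup G) := by
    rw [Sylow.coe_subgroup_smul, Subgroup.mem_pointwise_smul_iff_inv_smul_mem]
    rw [MulAut.smul_def, MulAut.conj_inv_apply]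
    have : h⁻¹ * (h * g * h⁻¹) * h = g := by group
    rw [this]; exact hgQ
  rw [hh, scSylow_coe] at h1
  have hne : h * g * h⁻¹ ≠ 1 := by
    intro h2
    have : g = 1 := by
      have : g = h⁻¹ * (h * g * h⁻¹) * h := by group
      rw [this, h2]; group
    rw [this, orderOf_one] at hg
    exact hp.one_lt.ne hg
  refine ⟨⟨h * g * h⁻¹, h1, hne⟩, ?_⟩
  apply Subtype.ext
  show ConjClasses.mk (h * g * h⁻¹) = C
  rw [ConjClasses.mem_carrier_iff_mk_eq] at hgC
  rw [← hgC, ConjClasses.mk_eq_mk_iff_isConj, isConj_comm, isConj_iff]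
  exact ⟨h, rfl⟩

/-- `t * e = p - 1`: the number of classes of elements of order `p` times `|N_G(⟨x⟩) : ⟨x⟩|`. -/
theorem sc_class_count [Finite G] {p : ℕ} (hp : p.Prime) {x : G} (hx : orderOf x = p)
    (hC : Subgroup.centralizer ({x} : Set G) = Subgroup.zpowers x) :
    Nat.card {C : ConjClasses G // ∃ g ∈ C.carrier, orderOf g = p} *
      (Subgroup.zpowers x).relIndex (Subgroup.normalizer (Subgroup.zpowers x : Set G)) = p - 1 := by
  classical
  let N := Subgroup.normalizer (Subgroup.zpowers x : Set G)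
  let Ω := MulAction.orbitRel.Quotient N (scY x)
  have hfinY : Finite (scY x) := Subtype.finite
  have hfinΩ : Finite Ω := Quotient.finite _
  have := Fintype.ofFinite Ω
  let F : Ω → {C : ConjClasses G // ∃ g ∈ C.carrier, orderOf g = p} :=
    Quotient.lift (scClassMap hp hx) (fun a b h => (scClassMap_eq_iff hp hx a b).mpr h)
  have hFbij : Function.Bijective F := by
    constructor
    · intro a b
      induction a using Quotient.inductionOn with | _ a => ?_
      induction b using Quotient.inductionOn with | _ b => ?_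
      intro h
      exact Quotient.sound ((scClassMap_eq_iff hp hx a b).mp h)
    · intro C
      obtain ⟨y, hy⟩ := scClassMap_surjective hp hx hC C
      exact ⟨Quotient.mk _ y, hy⟩
  rw [← Nat.card_congr (Equiv.ofBijective F hFbij)]
  have h1 := Nat.card_congr (MulAction.selfEquivSigmaOrbitsQuotientStabilizer N (scY x))
  rw [Nat.card_sigma, sc_card_scY hp hx] at h1
  rw [h1]
  have h2 : ∀ ω : Ω, Nat.card (N ⧸ MulAction.stabilizer N (Quotient.out ω)) =
      (Subgroup.zpowers x).relIndex N := by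
    intro ω
    rw [sc_stabilizer hp hx hC]
    rfl
  rw [Finset.sum_congr rfl (fun ω _ => h2 ω), Finset.sum_const, Finset.card_univ, smul_eq_mul,
    Nat.card_eq_fintype_card]



/-- Frattini argument for a normal subgroup containing `x`. -/
theorem sc_frattini [Finite G] {p : ℕ} (hp : p.Prime) {x : G} (hx : orderOf x = p)
    (hC : Subgroup.centralizer ({x} : Set G) = Subgroup.zpowers x)
    {S : Subgroup G} [hSn : S.Normal] (hxS : x ∈ S) :
    Subgroup.normalizer (Subgroup.zpowers x : Set G) ⊔ S = ⊤ := by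
  have := Fact.mk hp
  have hle : ((scSylow hp hx hC : Sylow p G) : Subgroup G) ≤ S := by
    rw [scSylow_coe, Subgroup.zpowers_le]; exact hxS
  have hfr := Sylow.normalizer_sup_eq_top ((scSylow hp hx hC).subtype hle)
  have hmap : Subgroup.map S.subtype (((scSylow hp hx hC).subtype hle : Sylow p S) : Subgroup S) =
      Subgroup.zpowers x := by
    rw [Sylow.coe_subtype, Subgroup.map_subgroupOf_eq_of_le hle, scSylow_coe]
  rw [hmap] at hfr
  exact hfr

/-- If `N_G(⟨x⟩) ≠ ⟨x⟩` then `x ∈ G'`. -/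
theorem sc_mem_commutator_of_relIndex_ne_one {p : ℕ} (hp : p.Prime) {x : G} (hx : orderOf x = p)
    (hC : Subgroup.centralizer ({x} : Set G) = Subgroup.zpowers x)
    (he : (Subgroup.zpowers x).relIndex (Subgroup.normalizer (Subgroup.zpowers x : Set G)) ≠ 1) :
    x ∈ commutator G := by
  rw [Ne, Subgroup.relIndex_eq_one, SetLike.not_le_iff_exists] at he
  obtain ⟨n, hn, hnP⟩ := he
  have h1 : n * x * n⁻¹ ∈ Subgroup.zpowers x :=
    (Subgroup.mem_normalizer_iff.mp hn x).mp (Subgroup.mem_zpowers x)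
  have h2 : ⁅n, x⁆ ∈ Subgroup.zpowers x := by
    rw [commutatorElement_def]
    exact (Subgroup.zpowers x).mul_mem h1 ((Subgroup.zpowers x).inv_mem (Subgroup.mem_zpowers x))
  have h3 : ⁅n, x⁆ ≠ 1 := by
    intro h
    rw [commutatorElement_eq_one_iff_mul_comm] at h
    exact hnP (sc_mem_zpowers_of_commute hC h)
  have h4 := sc_zpowers_eq_of_mem hp hx h2 h3
  have h5 : ⁅n, x⁆ ∈ commutator G := by
    rw [commutator_def]
    exact Subgroup.commutator_mem_commutator (Subgroup.mem_top _) (Subgroup.mem_top _)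
  have h6 : Subgroup.zpowers ⁅n, x⁆ ≤ commutator G := Subgroup.zpowers_le.mpr h5
  rw [h4] at h6
  exact h6 (Subgroup.mem_zpowers x)

/-- If `N_G(⟨x⟩) ≠ ⟨x⟩` then `|G : G'|` divides `|N_G(⟨x⟩) : ⟨x⟩|`. -/
theorem sc_index_commutator_dvd [Finite G] {p : ℕ} (hp : p.Prime) {x : G} (hx : orderOf x = p)
    (hC : Subgroup.centralizer ({x} : Set G) = Subgroup.zpowers x)
    (he : (Subgroup.zpowers x).relIndex (Subgroup.normalizer (Subgroup.zpowers x : Set G)) ≠ 1) :
    (commutator G).index ∣
      (Subgroup.zpowers x).relIndex (Subgroup.normalizer (Subgroup.zpowers x : Set G)) := by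
  have hxc := sc_mem_commutator_of_relIndex_ne_one hp hx hC he
  have hfr := sc_frattini hp hx hC hxc
  have h1 : (commutator G).relIndex (Subgroup.normalizer (Subgroup.zpowers x : Set G) ⊔ commutator G) =
      (commutator G).relIndex (Subgroup.normalizer (Subgroup.zpowers x : Set G)) :=
    Subgroup.relIndex_sup_right _ _
  rw [hfr, Subgroup.relIndex_top_right] at h1
  rw [h1]
  exact Subgroup.relIndex_dvd_of_le_left _ (Subgroup.zpowers_le.mpr hxc)

/-- If `N_G(⟨x⟩) = ⟨x⟩` then `|G : G'| = p` and `G'` is a normal `p`-complement. -/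
theorem sc_commutator_of_relIndex_eq_one [Finite G] {p : ℕ} (hp : p.Prime) {x : G} (hx : orderOf x = p)
    (hC : Subgroup.centralizer ({x} : Set G) = Subgroup.zpowers x)
    (he : (Subgroup.zpowers x).relIndex (Subgroup.normalizer (Subgroup.zpowers x : Set G)) = 1) :
    (commutator G).index = p ∧ Nat.card (commutator G) * p = Nat.card G := by
  have := Fact.mk hp
  rw [Subgroup.relIndex_eq_one] at he
  have hcommP : ∀ a b : Subgroup.zpowers x, a * b = b * a := by
    intro a b
    obtain ⟨a, ha⟩ := a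
    obtain ⟨b, hb⟩ := b
    apply Subtype.ext
    obtain ⟨i, rfl⟩ := Subgroup.mem_zpowers_iff.mp ha
    obtain ⟨j, rfl⟩ := Subgroup.mem_zpowers_iff.mp hb
    show x ^ i * x ^ j = x ^ j * x ^ i
    rw [← zpow_add, ← zpow_add, add_comm]
  have hPN : Subgroup.normalizer ((scSylow hp hx hC : Sylow p G) : Set G) ≤
      Subgroup.centralizer ((scSylow hp hx hC : Sylow p G) : Set G) := by
    rw [scSylow_coe_set]
    refine he.trans ?_
    rw [Subgroup.zpowers_eq_closure, Subgroup.centralizer_closure, hC, Subgroup.zpowers_eq_closure]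
  have hcompl := MonoidHom.ker_transferSylow_isComplement' (scSylow hp hx hC) hPN
  set K := (MonoidHom.transferSylow (scSylow hp hx hC) hPN).ker with hK
  have hKn : K.Normal := MonoidHom.normal_ker _
  have hcardP : Nat.card ((scSylow hp hx hC : Sylow p G) : Subgroup G) = p := by
    rw [scSylow_coe, Nat.card_zpowers, hx]
  have hidx : K.index = p := by
    rw [← hcardP]
    exact hcompl.symm.index_eq_card
  have hcard : Nat.card K * p = Nat.card G := by
    rw [← hidx]; exact Subgroup.card_mul_index K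
  have hKp : ¬ p ∣ Nat.card K := by
    intro h
    apply sc_not_sq_dvd hp hx hC
    rw [← hcard, pow_two]
    exact Nat.mul_dvd_mul_right h p
  have h1 : commutator G ≤ K := by
    rw [commutator_def, Subgroup.commutator_le]
    intro g _ h _
    rw [hK, MonoidHom.mem_ker, map_commutatorElement, commutatorElement_eq_one_iff_mul_comm]
    exact hcommP _ _
  have h2 : K ≤ commutator G := by
    intro u hu
    obtain ⟨s, _, hsu⟩ := sc_exists_conj_eq hp hx hC hKp hu
    rw [← hsu, ← commutatorElement_def, commutator_def]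
    exact Subgroup.commutator_mem_commutator (Subgroup.mem_top _) (Subgroup.mem_top _)
  have h3 : commutator G = K := le_antisymm h1 h2
  rw [h3]
  exact ⟨hidx, hcard⟩



/-- the self-centralizing hypothesis passes to subgroups containing `x`. -/
theorem sc_subgroup {x : G}
    (hC : Subgroup.centralizer ({x} : Set G) = Subgroup.zpowers x) (D : Subgroup G) (hxD : x ∈ D) :
    Subgroup.centralizer ({(⟨x, hxD⟩ : D)} : Set D) = Subgroup.zpowers (⟨x, hxD⟩ : D) := by
  ext d
  rw [Subgroup.mem_centralizer_singleton_iff, Subgroup.mem_zpowers_iff]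
  constructor
  · intro h
    have h1 : (d : G) * x = x * (d : G) := congrArg Subtype.val h
    obtain ⟨k, hk⟩ := Subgroup.mem_zpowers_iff.mp (sc_mem_zpowers_of_commute hC h1)
    exact ⟨k, Subtype.ext (by simpa using hk)⟩
  · rintro ⟨k, rfl⟩
    exact (Commute.zpow_left (Commute.refl _) k).eq

/-- For a normal subgroup `D` of `G` containing `x`, the normal closure of `x` in `D` is
normal in `G`. -/
theorem sc_normalClosure_normal [Finite G] {p : ℕ} (hp : p.Prime) {x : G} (hx : orderOf x = p)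
    (hC : Subgroup.centralizer ({x} : Set G) = Subgroup.zpowers x)
    (D : Subgroup G) [hD : D.Normal] (hxD : x ∈ D) :
    ((Subgroup.normalClosure ({(⟨x, hxD⟩ : D)} : Set D)).map D.subtype).Normal := by
  set xD : D := ⟨x, hxD⟩ with hxDdef
  have hxD_ord : orderOf xD = p := by rw [hxDdef, Subgroup.orderOf_mk, hx]
  have hCD := sc_subgroup hC D hxD
  -- key: the normal closure of x is contained in the normal closure of any conjugate of x
  have key : ∀ g : G, Subgroup.normalClosure ({xD} : Set D) ≤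
      Subgroup.normalClosure ({(MulAut.conjNormal g : MulAut D) xD} : Set D) := by
    intro g
    apply Subgroup.normalClosure_le_normal
    rw [Set.singleton_subset_iff]
    apply sc_mem_of_dvd_card hp hxD_ord hCD
    have h1 : (MulAut.conjNormal g : MulAut D) xD ∈
        Subgroup.normalClosure ({(MulAut.conjNormal g : MulAut D) xD} : Set D) :=
      Subgroup.subset_normalClosure (Set.mem_singleton _)
    have h2 : orderOf ((MulAut.conjNormal g : MulAut D) xD) = p := by
      rw [MulEquiv.orderOf_eq, hxD_ord]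
    rw [← h2]
    have := orderOf_dvd_natCard (⟨_, h1⟩ : Subgroup.normalClosure ({(MulAut.conjNormal g : MulAut D) xD} : Set D))
    rwa [Subgroup.orderOf_mk] at this
  constructor
  intro n hn g
  obtain ⟨k, hk, rfl⟩ := Subgroup.mem_map.mp hn
  -- k ∈ normalClosure {xD}; write k = φ_{g⁻¹} k'
  have h1 := key g⁻¹ hk
  have h2 : Subgroup.normalClosure ({(MulAut.conjNormal g⁻¹ : MulAut D) xD} : Set D) =
      (Subgroup.normalClosure ({xD} : Set D)).map (MulAut.conjNormal g⁻¹ : MulAut D).toMonoidHom := by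
    rw [Subgroup.map_normalClosure ({xD} : Set D) (MulAut.conjNormal g⁻¹ : MulAut D).toMonoidHom
      (MulAut.conjNormal g⁻¹ : MulAut D).surjective, Set.image_singleton]
    rfl
  rw [h2] at h1
  obtain ⟨k', hk', hkk'⟩ := Subgroup.mem_map.mp h1
  refine Subgroup.mem_map.mpr ⟨k', hk', ?_⟩
  have h3 : (k : G) = g⁻¹ * (k' : G) * g := by
    rw [← hkk']
    simp
  show (k' : G) = g * (k : G) * g⁻¹
  rw [h3]; group

/-- For a normal subgroup `D ≤ G'` of `G` containing `x`, the normal closure of `x` in `D`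
is all of `D`. -/
theorem sc_normalClosure_eq_top [Finite G] {p : ℕ} (hp : p.Prime) {x : G} (hx : orderOf x = p)
    (hC : Subgroup.centralizer ({x} : Set G) = Subgroup.zpowers x)
    (D : Subgroup G) [hD : D.Normal] (hxD : x ∈ D) (hDle : D ≤ commutator G) :
    Subgroup.normalClosure ({(⟨x, hxD⟩ : D)} : Set D) = ⊤ := by
  have hn := sc_normalClosure_normal hp hx hC D hxD
  have hxmem : x ∈ (Subgroup.normalClosure ({(⟨x, hxD⟩ : D)} : Set D)).map D.subtype :=
    Subgroup.mem_map.mpr ⟨⟨x, hxD⟩, Subgroup.subset_normalClosure (Set.mem_singleton _), rfl⟩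
  have hdvd : p ∣ Nat.card ((Subgroup.normalClosure ({(⟨x, hxD⟩ : D)} : Set D)).map D.subtype) := by
    rw [← hx]
    have := orderOf_dvd_natCard (⟨x, hxmem⟩ : (Subgroup.normalClosure ({(⟨x, hxD⟩ : D)} : Set D)).map D.subtype)
    rwa [Subgroup.orderOf_mk] at this
  have hle := sc_commutator_le hp hx hC hdvd
  rw [eq_top_iff]
  intro d _
  have := hle (hDle d.2)
  obtain ⟨k, hk, hkd⟩ := Subgroup.mem_map.mp this
  have : k = d := Subtype.ext hkd
  rw [← this]; exact hk

end Cfsg.Agent.Helper75
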