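import Mathlib
import Cfsg.Agent.Helper74.CharBasic
import Cfsg.Agent.Helper74.FSCount
import Cfsg.Agent.Helper76.CharCentral
import Cfsg.Agent.Helper78.IrrBasic
import Cfsg.Agent.Helper79.Linear
import Cfsg.Agent.Helper75.SelfCent
import Cfsg.Agent.Helper75.FTBound

/-!
# Characters and a self-centralizing subgroup of prime order, part A (helper75)

* `abelian_norm_lower`: a lower bound for the norm of a character of an abelian group.
* `frob_decomp`: decomposition of a character relative to a normal subgroup `K` such that the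
  irreducible characters not containing `K` in the kernel vanish off `K` and have degree `e`.
* `sc_FTHyp`, `sc_ti_bound`: for `x` of prime order with `C_G(x) = ⟨x⟩ < N_G(⟨x⟩)`, the sum of
  `|ψ|²` over `⟨x⟩` is less than `|N_G(⟨x⟩)| + ψ(1)²` for irreducible `ψ`.
-/

set_option autoImplicit false

namespace Cfsg.Agent.Helper75

open Cfsg
open scoped ComplexConjugate

universe u

section Abelian

/-- Lower bound for the norm of a character of an abelian group in terms of the multiplicity `a`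
of the principal character and the degree `d`. -/
theorem abelian_norm_lower {K : Type u} [Group K] [Fintype K] (hcomm : ∀ a b : K, a * b = b * a)
    {φ : K → ℂ} (hφ : IsCharacter K φ) (a d : ℕ)
    (ha : classInner φ (fun _ => (1 : ℂ)) = a) (hd : φ 1 = d) :
    (Nat.card K : ℝ) * ((a : ℝ) ^ 2 + d - a) ≤ ∑ k : K, Complex.normSq (φ k) := by
  classical
  let _ := Helper74.irrFintype K
  have hc : ∀ ψ : IrrCharacter K, ∃ m : ℕ, classInner φ (ψ : K → ℂ) = m :=
    fun ψ => Helper74.isCharacter_inner_irr_nat hφ ψ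
  choose c hc using hc
  have h1 : classInner φ φ = ∑ ψ : IrrCharacter K, ((c ψ : ℂ) * (c ψ : ℂ)) := by
    rw [Helper74.classInner_self_eq_sum_sq hφ]
    exact Finset.sum_congr rfl (fun ψ _ => by rw [hc ψ])
  have h2 : φ 1 = ∑ ψ : IrrCharacter K, (c ψ : ℂ) := by
    have := congrFun (Helper74.isCharacter_eq_sum_irr hφ) 1
    rw [Finset.sum_apply] at this
    rw [this]
    refine Finset.sum_congr rfl (fun ψ _ => ?_)
    rw [Pi.smul_apply, smul_eq_mul, hc ψ, Helper76.irr_one_of_comm hcomm ψ.2, mul_one]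
  set P : IrrCharacter K := ⟨fun _ => 1, Helper79.isIrrCharacter_one⟩ with hP
  have hcP : c P = a := by
    have := hc P
    rw [ha] at this
    exact_mod_cast this.symm
  have hdN : d = ∑ ψ : IrrCharacter K, c ψ := by
    rw [hd] at h2
    exact_mod_cast h2
  have hsq : a ^ 2 + d - a ≤ ∑ ψ : IrrCharacter K, c ψ * c ψ := by
    rw [hdN, ← Finset.add_sum_erase Finset.univ (fun ψ => c ψ) (Finset.mem_univ P),
      ← Finset.add_sum_erase Finset.univ (fun ψ => c ψ * c ψ) (Finset.mem_univ P), hcP]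
    have : ∑ ψ ∈ Finset.univ.erase P, c ψ ≤ ∑ ψ ∈ Finset.univ.erase P, c ψ * c ψ :=
      Finset.sum_le_sum (fun ψ _ => Nat.le_mul_self (c ψ))
    have e : a ^ 2 + (a + ∑ ψ ∈ Finset.univ.erase P, c ψ) - a
        = a * a + ∑ ψ ∈ Finset.univ.erase P, c ψ := by
      rw [sq]; omega
    rw [e]
    omega
  have h3 : (∑ k : K, Complex.normSq (φ k) : ℝ) = (Nat.card K : ℝ) * ∑ ψ : IrrCharacter K, ((c ψ : ℝ) * (c ψ : ℝ)) := by
    rw [Helper74.classInner_self] at h1
    have hK : (Nat.card K : ℂ) ≠ 0 := by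
      have : Nat.card K ≠ 0 := Nat.card_pos.ne'
      exact_mod_cast this
    have h4 : (∑ g : K, ((Complex.normSq (φ g) : ℝ) : ℂ))
        = (Nat.card K : ℂ) * ∑ ψ : IrrCharacter K, ((c ψ : ℂ) * (c ψ : ℂ)) := by
      rw [← h1, ← mul_assoc, mul_inv_cancel₀ hK, one_mul]
    exact_mod_cast h4
  rw [h3]
  have hKpos : (0 : ℝ) ≤ Nat.card K := by positivity
  apply mul_le_mul_of_nonneg_left _ hKpos
  have hle : a ≤ a ^ 2 + d := by
    rw [sq]
    have := Nat.le_mul_self a
    omega
  have h5 : ((a ^ 2 + d - a : ℕ) : ℝ) ≤ ((∑ ψ : IrrCharacter K, c ψ * c ψ : ℕ) : ℝ) := by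
    exact_mod_cast hsq
  rw [Nat.cast_sub hle] at h5
  push_cast at h5
  exact h5


end Abelian

section Decomp

/-- A non-principal irreducible character sums to zero. -/
theorem sum_irr_eq_zero {N : Type u} [Group N] [Fintype N] (θ : IrrCharacter N)
    (hne : ∃ n : N, (θ : N → ℂ) n ≠ (θ : N → ℂ) 1) : ∑ n : N, (θ : N → ℂ) n = 0 := by
  have hne' : θ ≠ (⟨fun _ => 1, Helper79.isIrrCharacter_one⟩ : IrrCharacter N) := by
    intro h
    obtain ⟨n, hn⟩ := hne
    apply hn
    rw [h]
  have h0 := Helper74.irr_inner_ne hne'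
  rw [Helper74.classInner_def] at h0
  have hN : (Nat.card N : ℂ)⁻¹ ≠ 0 := by
    apply inv_ne_zero
    have : Nat.card N ≠ 0 := Nat.card_pos.ne'
    exact_mod_cast this
  have h1 := (mul_eq_zero.mp h0).resolve_left hN
  simpa using h1

/-- Decomposition of a character of `N` relative to a normal subgroup `K` such that every
irreducible character of `N` not containing `K` in its kernel has degree `e` and vanishes off
`K`. -/
theorem frob_decomp {N : Type u} [Group N] [Fintype N] (K : Subgroup N) [Fintype K] (e : ℕ)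
    (hrel : ∀ θ : IrrCharacter N, (∃ k ∈ K, (θ : N → ℂ) k ≠ (θ : N → ℂ) 1) →
       (θ : N → ℂ) 1 = e ∧ ∀ n : N, n ∉ K → (θ : N → ℂ) n = 0)
    {φ : N → ℂ} (hφ : IsCharacter N φ) :
    ∃ a M : ℕ, φ 1 = ((a + e * M : ℕ) : ℂ) ∧
      (∑ k : K, φ (k : N)) = (Nat.card K : ℂ) * a ∧
      (a = 0 → ∀ n : N, n ∉ K → φ n = 0) := by
  classical
  let _ := Helper74.irrFintype N
  have hc : ∀ ψ : IrrCharacter N, ∃ m : ℕ, classInner φ (ψ : N → ℂ) = m :=
    fun ψ => Helper74.isCharacter_inner_irr_nat hφ ψ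
  choose c hc using hc
  have hsum : ∀ n : N, φ n = ∑ ψ : IrrCharacter N, (c ψ : ℂ) * (ψ : N → ℂ) n := by
    intro n
    have := congrFun (Helper74.isCharacter_eq_sum_irr hφ) n
    rw [Finset.sum_apply] at this
    rw [this]
    refine Finset.sum_congr rfl (fun ψ _ => ?_)
    rw [Pi.smul_apply, smul_eq_mul, hc ψ]
  let rel : IrrCharacter N → Prop := fun θ => ∃ k ∈ K, (θ : N → ℂ) k ≠ (θ : N → ℂ) 1
  have hdeg : ∀ ψ : IrrCharacter N, (ψ : N → ℂ) 1 = (charDegree (ψ : N → ℂ) : ℂ) :=
    fun ψ => Helper78.irrChar_one_eq_charDegree ψ.2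
  refine ⟨∑ ψ ∈ Finset.univ.filter (fun ψ => ¬ rel ψ), c ψ * charDegree (ψ : N → ℂ),
    ∑ ψ ∈ Finset.univ.filter (fun ψ => rel ψ), c ψ, ?_, ?_, ?_⟩
  · rw [hsum 1, ← Finset.sum_filter_add_sum_filter_not Finset.univ (fun ψ => rel ψ), add_comm]
    push_cast
    congr 1
    · refine Finset.sum_congr rfl (fun ψ _ => ?_)
      rw [hdeg ψ]
    · rw [Finset.mul_sum]
      refine Finset.sum_congr rfl (fun ψ hψ => ?_)
      rw [(hrel ψ (Finset.mem_filter.mp hψ).2).1]
      ring
  · -- the sum over `K`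
    have h1 : ∀ k : K, φ (k : N) = ∑ ψ : IrrCharacter N, (c ψ : ℂ) * (ψ : N → ℂ) (k : N) :=
      fun k => hsum k
    rw [Finset.sum_congr rfl (fun k _ => h1 k), Finset.sum_comm]
    have h2 : ∀ ψ : IrrCharacter N, ∑ k : K, (c ψ : ℂ) * (ψ : N → ℂ) (k : N)
        = if rel ψ then 0 else (Nat.card K : ℂ) * ((c ψ * charDegree (ψ : N → ℂ) : ℕ) : ℂ) := by
      intro ψ
      split_ifs with h
      · rw [← Finset.mul_sum]
        have hv := (hrel ψ h).2
        have h3 : ∑ k : K, (ψ : N → ℂ) (k : N) = ∑ n : N, (ψ : N → ℂ) n := by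
          rw [← Finset.sum_subtype (Finset.univ.filter (fun n : N => n ∈ K))
            (fun n => by simp) (fun n => (ψ : N → ℂ) n)]
          rw [Finset.sum_filter]
          refine Finset.sum_congr rfl (fun n _ => ?_)
          split_ifs with hn
          · rfl
          · exact (hv n hn).symm
        rw [h3, sum_irr_eq_zero ψ (by obtain ⟨k, _, hk⟩ := h; exact ⟨k, hk⟩), mul_zero]
      · have hconst : ∀ k : K, (ψ : N → ℂ) (k : N) = (ψ : N → ℂ) 1 := by
          intro k
          by_contra hk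
          exact h ⟨k, k.2, hk⟩
        rw [Finset.sum_congr rfl (fun k _ => by rw [hconst k]), Finset.sum_const, Finset.card_univ,
          nsmul_eq_mul, ← Nat.card_eq_fintype_card, hdeg ψ]
        push_cast
        ring
    rw [Finset.sum_congr rfl (fun ψ _ => h2 ψ), Finset.sum_ite, Finset.sum_const_zero, zero_add,
      ← Finset.mul_sum]
    push_cast
    rfl
  · intro ha n hn
    rw [Finset.sum_eq_zero_iff] at ha
    rw [hsum n]
    apply Finset.sum_eq_zero
    intro ψ _
    by_cases h : rel ψ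
    · rw [(hrel ψ h).2 n hn, mul_zero]
    · have := ha ψ (Finset.mem_filter.mpr ⟨Finset.mem_univ _, h⟩)
      have hpos := Helper78.charDegree_pos_of_isIrrCharacter ψ.2
      have hc0 : c ψ = 0 := by
        rcases Nat.mul_eq_zero.mp this with h | h
        · exact h
        · omega
      rw [hc0]; simp


end Decomp

section TI

variable {G : Type u} [Group G]

theorem sc_center_eq_bot {p : ℕ} (hp : p.Prime) {x : G} (hx : orderOf x = p)
    (hC : Subgroup.centralizer ({x} : Set G) = Subgroup.zpowers x)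
    (he : (Subgroup.zpowers x).relIndex (Subgroup.normalizer (Subgroup.zpowers x : Set G)) ≠ 1) :
    Subgroup.center G = ⊥ := by
  rw [eq_bot_iff]
  intro z hz
  rw [Subgroup.mem_bot]
  by_contra hz1
  have hzP : z ∈ Subgroup.zpowers x :=
    sc_mem_zpowers_of_commute hC ((Subgroup.mem_center_iff.mp hz) x).symm
  have h1 := sc_centralizer_of_mem hp hx hC hzP hz1
  rw [sc_zpowers_eq_of_mem hp hx hzP hz1] at h1
  have h2 : Subgroup.centralizer ({z} : Set G) = ⊤ := by
    rw [eq_top_iff]
    intro g _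
    rw [Subgroup.mem_centralizer_singleton_iff]
    exact ((Subgroup.mem_center_iff.mp hz) g)
  apply he
  rw [Subgroup.relIndex_eq_one, ← h1, h2]
  exact le_top

theorem sc_FTHyp {p : ℕ} (hp : p.Prime) {x : G} (hx : orderOf x = p)
    (hC : Subgroup.centralizer ({x} : Set G) = Subgroup.zpowers x)
    (he : (Subgroup.zpowers x).relIndex (Subgroup.normalizer (Subgroup.zpowers x : Set G)) ≠ 1) :
    FTHyp (Subgroup.zpowers x) where
  hab := by
    intro a ha b hb
    obtain ⟨i, rfl⟩ := Subgroup.mem_zpowers_iff.mp ha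
    obtain ⟨j, rfl⟩ := Subgroup.mem_zpowers_iff.mp hb
    rw [← zpow_add, ← zpow_add, add_comm]
  hZ := by
    rw [sc_center_eq_bot hp hx hC he]
    exact inf_bot_eq _
  hone := by
    intro g hg a b h1 h2
    have hg1 : g ≠ 1 := by
      rintro rfl
      exact hg (Subgroup.one_mem _)
    have key : ∀ c : G, Subgroup.centralizer ({g} : Set G) ⊓
        (Subgroup.zpowers x).map (MulAut.conj c).toMonoidHom ≠ ⊥ →
        c⁻¹ * g * c ∈ Subgroup.zpowers x ∧ c⁻¹ * g * c ≠ 1 := by
      intro c hc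
      obtain ⟨⟨u, hu⟩, hu1⟩ := (Subgroup.ne_bot_iff_exists_ne_one).mp hc
      have hu1' : u ≠ 1 := fun h => hu1 (Subtype.ext h)
      obtain ⟨huc, huP⟩ := Subgroup.mem_inf.mp hu
      rw [mem_map_conj_iff] at huP
      rw [Subgroup.mem_centralizer_singleton_iff] at huc
      have hk1 : c⁻¹ * u * c ≠ 1 := by
        intro h
        apply hu1'
        have : u = c * (c⁻¹ * u * c) * c⁻¹ := by group
        rw [this, h]; group
      have hcent := sc_centralizer_of_mem hp hx hC huP hk1
      rw [sc_zpowers_eq_of_mem hp hx huP hk1] at hcent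
      refine ⟨?_, ?_⟩
      · rw [← hcent, Subgroup.mem_centralizer_singleton_iff]
        calc c⁻¹ * g * c * (c⁻¹ * u * c) = c⁻¹ * (g * u) * c := by group
          _ = c⁻¹ * (u * g) * c := by rw [huc]
          _ = c⁻¹ * u * c * (c⁻¹ * g * c) := by group
      · intro h
        apply hg1
        have : g = c * (c⁻¹ * g * c) * c⁻¹ := by group
        rw [this, h]; group
    obtain ⟨ha, ha1⟩ := key a h1
    obtain ⟨hb, hb1⟩ := key b h2
    have hn : a⁻¹ * b ∈ Subgroup.normalizer (Subgroup.zpowers x : Set G) :=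
      sc_mem_normalizer_of_conj hp hx ha ha1 hb hb1 (by group)
    ext z
    rw [mem_map_conj_iff, mem_map_conj_iff]
    have := Subgroup.mem_normalizer_iff.mp hn (b⁻¹ * z * b)
    have e : a⁻¹ * b * (b⁻¹ * z * b) * (a⁻¹ * b)⁻¹ = a⁻¹ * z * a := by group
    rw [e] at this
    exact this.symm


theorem sc_FTS_eq {p : ℕ} (hp : p.Prime) {x : G} (hx : orderOf x = p)
    (hC : Subgroup.centralizer ({x} : Set G) = Subgroup.zpowers x) (g : G) :
    g ∈ FTS (Subgroup.zpowers x) ↔ g ∈ Subgroup.zpowers x := by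
  have hx1 : x ≠ 1 := by
    rintro rfl
    rw [orderOf_one] at hx
    exact hp.ne_one hx.symm
  constructor
  · rintro ⟨h, hh, hh1, hcomm⟩
    have hcent := sc_centralizer_of_mem hp hx hC hh hh1
    rw [sc_zpowers_eq_of_mem hp hx hh hh1] at hcent
    rw [← hcent, Subgroup.mem_centralizer_singleton_iff]
    exact hcomm
  · intro hg
    refine ⟨x, Subgroup.mem_zpowers x, hx1, ?_⟩
    obtain ⟨i, rfl⟩ := Subgroup.mem_zpowers_iff.mp hg
    exact (Commute.zpow_self x i).eq.symm ▸ rfl

/-- The T.I. norm bound: the sum of `|ψ|²` over `⟨x⟩` is less than `|N| + ψ(1)²`. -/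
theorem sc_ti_bound [Fintype G] {p : ℕ} (hp : p.Prime) {x : G} (hx : orderOf x = p)
    (hC : Subgroup.centralizer ({x} : Set G) = Subgroup.zpowers x)
    (he : (Subgroup.zpowers x).relIndex (Subgroup.normalizer (Subgroup.zpowers x : Set G)) ≠ 1)
    [Fintype (Subgroup.zpowers x)]
    {ψ : G → ℂ} (hψ : IsIrrCharacter G ψ) :
    ∑ k : Subgroup.zpowers x, Complex.normSq (ψ (k : G))
      < (Nat.card (Subgroup.normalizer (Subgroup.zpowers x : Set G)) : ℝ)
        + Complex.normSq (ψ 1) := by
  classical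
  have hyp := sc_FTHyp hp hx hC he
  have hZ := sc_center_eq_bot hp hx hC he
  have hchar : IsCharacter G ψ := Helper74.isCharacter_of_isIrr hψ
  have hcf : IsClassFunction G ψ := Helper74.isClassFunction_of_isCharacter hchar
  have hglob := hyp.global_count (fun g => Complex.normSq (ψ g))
    (fun g => Complex.normSq_nonneg _) (fun g a => by rw [hcf g a])
  have hsumG : ∑ g : G, Complex.normSq (ψ g) = (Nat.card G : ℝ) := by
    have h1 := Helper74.irr_inner_self (⟨ψ, hψ⟩ : IrrCharacter G)
    rw [Helper74.classInner_self] at h1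
    have hG : (Nat.card G : ℝ) ≠ 0 := by
      have : Nat.card G ≠ 0 := Nat.card_pos.ne'
      exact_mod_cast this
    have h2 : ((Nat.card G : ℝ))⁻¹ * (∑ g : G, Complex.normSq (ψ g)) = 1 := by
      have : (((Nat.card G : ℝ))⁻¹ * (∑ g : G, Complex.normSq (ψ g)) : ℂ) = ((1 : ℝ) : ℂ) := by
        push_cast
        exact h1
      exact_mod_cast this
    field_simp at h2
    linarith
  have hmemZ : ∀ g : G, g ∈ Subgroup.center G ↔ g = 1 := by
    intro g; rw [hZ, Subgroup.mem_bot]
  have hf1 : Finset.univ.filter (fun g : G => g ∉ Subgroup.center G) = Finset.univ.erase 1 := by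
    ext g
    simp only [Finset.mem_filter, Finset.mem_univ, true_and, Finset.mem_erase, and_true, hmemZ]
  have hf2 : Finset.univ.filter (fun g : G => g ∈ FTS (Subgroup.zpowers x) ∧ g ∉ Subgroup.center G)
      = (Finset.univ.filter (fun g : G => g ∈ Subgroup.zpowers x)).erase 1 := by
    ext g
    simp only [Finset.mem_filter, Finset.mem_univ, true_and, hmemZ, Finset.mem_erase,
      sc_FTS_eq hp hx hC]
    tauto
  rw [hf1, hf2] at hglob
  have h1 := Finset.add_sum_erase Finset.univ (fun g : G => Complex.normSq (ψ g))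
    (Finset.mem_univ 1)
  have h2 := Finset.add_sum_erase (Finset.univ.filter (fun g : G => g ∈ Subgroup.zpowers x))
    (fun g : G => Complex.normSq (ψ g))
    (Finset.mem_filter.mpr ⟨Finset.mem_univ _, Subgroup.one_mem _⟩)
  have h3 : ∑ k : Subgroup.zpowers x, Complex.normSq (ψ (k : G))
      = ∑ g ∈ Finset.univ.filter (fun g : G => g ∈ Subgroup.zpowers x), Complex.normSq (ψ g) := by
    rw [← Finset.sum_subtype (Finset.univ.filter (fun g : G => g ∈ Subgroup.zpowers x))
      (fun g => by simp) (fun g => Complex.normSq (ψ g))]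
  have hn2 : 0 < Complex.normSq (ψ 1) := by
    rw [Complex.normSq_pos]
    obtain ⟨n, hn, h⟩ := Helper76.irr_exists_degree hψ
    rw [h]; exact_mod_cast hn.ne'
  have hGpos : (0 : ℝ) < Nat.card G := by exact_mod_cast Nat.card_pos
  have hNpos : (0 : ℝ) < Nat.card (Subgroup.normalizer (Subgroup.zpowers x : Set G)) := by
    exact_mod_cast Nat.card_pos
  rw [h3]
  set T := ∑ g ∈ (Finset.univ.filter (fun g : G => g ∈ Subgroup.zpowers x)).erase 1,
    Complex.normSq (ψ g)
  set R := ∑ g ∈ (Finset.univ : Finset G).erase 1, Complex.normSq (ψ g)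
  set nG := (Nat.card G : ℝ)
  set nN := (Nat.card (Subgroup.normalizer (Subgroup.zpowers x : Set G)) : ℝ)
  set n2 := Complex.normSq (ψ 1)
  have h4 : nG * T < nG * nN := by
    have : nN * R < nN * nG := by
      apply mul_lt_mul_of_pos_left _ hNpos
      linarith
    linarith
  have h5 : T < nN := lt_of_mul_lt_mul_left h4 hGpos.le
  linarith


end TI

end Cfsg.Agent.Helper75
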