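import Cfsg.Agent.Helper75.TIFN
import Cfsg.Agent.Helper80.Pullback
import Cfsg.Agent.Helper76.CharCentral
import Cfsg.Prelude.Def_Transfer

/-!
# Abelian T.I. subgroups with Frobenius normalizer (helper75)

Counting the irreducible characters of the normalizer `N` of `K` not containing the normal subgroup
`K` in the kernel when they all have degree `|N : K|`, and the case of a single such character.
-/

set_option autoImplicit false

namespace Cfsg.Agent.Helper75

open Cfsg
open scoped ComplexConjugate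

universe u

section Count

variable {N : Type u} [Group N] [Fintype N] (K : Subgroup N) [hK : K.Normal]

/-- If all irreducible characters of `N` not containing the normal subgroup `K` in their kernel
have degree `|N : K|`, their number `r` satisfies `r * |N : K| + 1 = |K|`. -/
theorem tf_count
    (hdeg : ∀ χ : IrrCharacter N, (∃ k ∈ K, (χ : N → ℂ) k ≠ (χ : N → ℂ) 1) →
      (χ : N → ℂ) 1 = (K.index : ℂ)) :
    Nat.card {χ : IrrCharacter N // ∃ k ∈ K, (χ : N → ℂ) k ≠ (χ : N → ℂ) 1} * K.index + 1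
      = Nat.card K := by
  classical
  let _ := Helper74.irrFintype N
  let _ : Fintype (N ⧸ K) := Fintype.ofFinite _
  let _ := Helper74.irrFintype (N ⧸ K)
  let p : IrrCharacter N → Prop := fun χ => ∃ k ∈ K, (χ : N → ℂ) k ≠ (χ : N → ℂ) 1
  let f : IrrCharacter N → ℕ := fun χ => charDegree (χ : N → ℂ) * charDegree (χ : N → ℂ)
  have hsplit := Fintype.sum_subtype_add_sum_subtype p f
  have htot : ∑ χ : IrrCharacter N, f χ = Nat.card N := tf_sum_degree_sq_nat
  -- relevant part
  have hrel : ∑ χ : {χ // p χ}, f χ = Nat.card {χ // p χ} * (K.index * K.index) := by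
    have : ∀ χ : {χ // p χ}, f χ = K.index * K.index := by
      intro χ
      have h1 := hdeg χ.1 χ.2
      rw [Helper78.irrChar_one_eq_charDegree χ.1.2] at h1
      have h2 : charDegree (χ.1 : N → ℂ) = K.index := by exact_mod_cast h1
      show charDegree (χ.1 : N → ℂ) * charDegree (χ.1 : N → ℂ) = _
      rw [h2]
    rw [Finset.sum_congr rfl (fun χ _ => this χ), Finset.sum_const, Finset.card_univ,
      smul_eq_mul, Nat.card_eq_fintype_card]
  -- the other part
  have hnrel : ∑ χ : {χ // ¬ p χ}, f χ = K.index := by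
    let E : IrrCharacter (N ⧸ K) ≃ {χ // ¬ p χ} :=
      (Helper80.irrQuotientEquiv K).trans (Equiv.subtypeEquivRight (fun χ => by
        show (∀ n ∈ K, χ.1 n = χ.1 1) ↔ ¬ ∃ k ∈ K, (χ : N → ℂ) k ≠ (χ : N → ℂ) 1
        push Not
        rfl))
    have hE : ∀ ψ : IrrCharacter (N ⧸ K),
        f (E ψ) = charDegree (ψ : N ⧸ K → ℂ) * charDegree (ψ : N ⧸ K → ℂ) := by
      intro ψ
      have h1 : ((E ψ : {χ // ¬ p χ}).1 : N → ℂ) 1 = (ψ : N ⧸ K → ℂ) 1 := by
        show ((Helper80.irrQuotientEquiv K ψ).1 : N → ℂ) 1 = _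
        rw [Helper80.irrQuotientEquiv_apply]
        rfl
      have h2 : charDegree ((E ψ : {χ // ¬ p χ}).1 : N → ℂ) = charDegree (ψ : N ⧸ K → ℂ) := by
        unfold charDegree
        rw [h1]
      show charDegree ((E ψ : {χ // ¬ p χ}).1 : N → ℂ) * charDegree ((E ψ : {χ // ¬ p χ}).1 : N → ℂ)
        = _
      rw [h2]
    rw [← Fintype.sum_equiv E (fun ψ => charDegree (ψ : N ⧸ K → ℂ) * charDegree (ψ : N ⧸ K → ℂ))
      (fun χ => f χ) (fun ψ => (hE ψ).symm), tf_sum_degree_sq_nat]
    rw [Subgroup.index, Nat.card_eq_fintype_card]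
  rw [hrel, hnrel, htot] at hsplit
  have hidx : K.index ≠ 0 := Subgroup.index_ne_zero_of_finite
  have hmul := K.card_mul_index
  -- r * e * e + e = |K| * e
  have : (Nat.card {χ // p χ} * K.index + 1) * K.index = Nat.card K * K.index := by
    rw [hmul, ← hsplit]; ring
  exact Nat.eq_of_mul_eq_mul_right (Nat.pos_of_ne_zero hidx) this

end Count

section Conj

variable {N : Type u} [Group N] [Fintype N] (K : Subgroup N) [hK : K.Normal]

/-- If `K` is the centralizer of each of its non-identity elements and `|K| = |N : K| + 1`,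
all non-identity elements of `K` are conjugate in `N`. -/
theorem tf_conj_of_card
    (hcent : ∀ x ∈ K, x ≠ 1 → Subgroup.centralizer ({x} : Set N) = K)
    (hcard : Nat.card K = K.index + 1) {x a : N} (hx : x ∈ K) (hx1 : x ≠ 1) (ha : a ∈ K)
    (ha1 : a ≠ 1) : IsConj a x := by
  classical
  have hA : {y : N | IsConj y x} ⊆ (K : Set N) \ {1} := by
    intro y hy
    rw [Set.mem_ofPred_eq, isConj_iff] at hy
    obtain ⟨c, hc⟩ := hy
    have hy' : y = c⁻¹ * x * c⁻¹⁻¹ := by rw [← hc]; group
    refine ⟨?_, ?_⟩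
    · rw [hy']; exact hK.conj_mem x hx c⁻¹
    · intro h1
      rw [Set.mem_singleton_iff] at h1
      apply hx1
      rw [← hc, h1]; group
  have hcA : ({y : N | IsConj y x} : Set N).ncard = K.index := by
    rw [← Nat.card_coe_set_eq]
    have := Helper74.card_isConj_eq_index x
    rw [hcent x hx hx1] at this
    exact this
  have hcB : ((K : Set N) \ {1}).ncard = K.index := by
    rw [Set.ncard_sdiff_singleton_of_mem (show (1 : N) ∈ (K : Set N) from K.one_mem),
      ← Nat.card_coe_set_eq]
    have : Nat.card ↥(K : Set N) = Nat.card K := rfl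
    rw [this, hcard]
    simp
  have heq := Set.eq_of_subset_of_ncard_le hA (by rw [hcA, hcB])
  have : a ∈ (K : Set N) \ {1} := ⟨ha, by simpa using ha1⟩
  rw [← heq] at this
  exact this

end Conj

section Abelian

variable {G : Type u} [Group G] [Fintype G] {K : Subgroup G}
  [Fintype ↥(Subgroup.normalizer (K : Set G))]

/-- For abelian `K`, the relevant characters have degree `|N : K|`. -/
theorem tf_rel_degree (hC : ∀ k ∈ K, k ≠ 1 → Subgroup.centralizer ({k} : Set G) ≤ K)
    (hab : ∀ a ∈ K, ∀ b ∈ K, a * b = b * a)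
    {χ : ↥(Subgroup.normalizer (K : Set G)) → ℂ} (hχ : χ ∈ tfS K) :
    χ 1 = ((K.subgroupOf (Subgroup.normalizer (K : Set G))).index : ℂ) := by
  obtain ⟨φ, hφ, rfl⟩ := tf_mem_induced hC hχ
  have hcomm : ∀ a b : ↥(K.subgroupOf (Subgroup.normalizer (K : Set G))), a * b = b * a := by
    intro a b
    apply Subtype.ext
    apply Subtype.ext
    exact hab _ (Subgroup.mem_subgroupOf.mp a.2) _ (Subgroup.mem_subgroupOf.mp b.2)
  rw [Helper15.indFun_apply_one, Helper76.irr_one_of_comm hcomm hφ, mul_one]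

/-- The case of a single relevant character: `K` is elementary abelian of order `|N : K| + 1`. -/
theorem tf_abelian_one (hC : ∀ k ∈ K, k ≠ 1 → Subgroup.centralizer ({k} : Set G) ≤ K)
    (hab : ∀ a ∈ K, ∀ b ∈ K, a * b = b * a)
    (hone : Nat.card {χ : IrrCharacter ↥(Subgroup.normalizer (K : Set G)) //
      ∃ k : ↥(Subgroup.normalizer (K : Set G)), (k : G) ∈ K ∧
        (χ : ↥(Subgroup.normalizer (K : Set G)) → ℂ) k
          ≠ (χ : ↥(Subgroup.normalizer (K : Set G)) → ℂ) 1} = 1) :
    ∃ p : ℕ, p.Prime ∧ IsElementaryAbelian p K ∧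
      Nat.card K = (K.subgroupOf (Subgroup.normalizer (K : Set G))).index + 1 := by
  classical
  let K' := K.subgroupOf (Subgroup.normalizer (K : Set G))
  have hle : K ≤ Subgroup.normalizer (K : Set G) := Subgroup.le_normalizer
  have hcount := tf_count K' (fun χ hχ => by
    obtain ⟨k, hk, hne⟩ := hχ
    exact tf_rel_degree hC hab ⟨χ.2, k, Subgroup.mem_subgroupOf.mp hk, hne⟩)
  have hone' : Nat.card {χ : IrrCharacter ↥(Subgroup.normalizer (K : Set G)) //
      ∃ k ∈ K', (χ : ↥(Subgroup.normalizer (K : Set G)) → ℂ) k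
        ≠ (χ : ↥(Subgroup.normalizer (K : Set G)) → ℂ) 1} = 1 := hone
  rw [hone', one_mul] at hcount
  have hKK' : Nat.card K' = Nat.card K :=
    Nat.card_congr (Subgroup.subgroupOfEquivOfLe hle).toEquiv
  have hcardK : Nat.card K = K'.index + 1 := by rw [← hKK', ← hcount]
  have hidx : K'.index ≠ 0 := Subgroup.index_ne_zero_of_finite
  have hK1 : Nat.card K ≠ 1 := by omega
  have hp : (Nat.card K).minFac.Prime := Nat.minFac_prime hK1
  have : Fact (Nat.card K).minFac.Prime := ⟨hp⟩
  obtain ⟨x₀, hx₀⟩ := exists_prime_orderOf_dvd_card' (G := K) (Nat.card K).minFac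
    (Nat.minFac_dvd _)
  refine ⟨(Nat.card K).minFac, hp, ⟨⟨⟨fun a b => Subtype.ext (hab a a.2 b b.2)⟩⟩, ?_⟩, hcardK⟩
  intro a ha
  by_cases ha1 : a = 1
  · rw [ha1, one_pow]
  -- elements of the normalizer
  let x : ↥(Subgroup.normalizer (K : Set G)) := ⟨x₀, hle x₀.2⟩
  let a' : ↥(Subgroup.normalizer (K : Set G)) := ⟨a, hle ha⟩
  have hx1 : x ≠ 1 := by
    intro h
    have h0 : ((x : ↥(Subgroup.normalizer (K : Set G))) : G) = 1 := congrArg Subtype.val h
    have h1 : x₀ = 1 := Subtype.ext h0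
    rw [h1, orderOf_one] at hx₀
    exact hp.ne_one hx₀.symm
  have ha'1 : a' ≠ 1 := fun h => ha1 (congrArg Subtype.val h)
  have hxp : x ^ (Nat.card K).minFac = 1 := by
    apply Subtype.ext
    have := pow_orderOf_eq_one x₀
    rw [hx₀] at this
    have h2 := congrArg Subtype.val this
    simpa using h2
  have hcent : ∀ y ∈ K', y ≠ 1 →
      Subgroup.centralizer ({y} : Set ↥(Subgroup.normalizer (K : Set G))) = K' := by
    intro y hy hy1
    apply le_antisymm (tf_hC' hC y hy hy1)
    intro z hz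
    rw [Subgroup.mem_centralizer_singleton_iff]
    apply Subtype.ext
    exact hab _ (Subgroup.mem_subgroupOf.mp hz) _ (Subgroup.mem_subgroupOf.mp hy)
  have hconj := tf_conj_of_card K' hcent (by rw [hKK', hcardK])
    (x := x) (a := a') (Subgroup.mem_subgroupOf.mpr x₀.2) hx1 (Subgroup.mem_subgroupOf.mpr ha)
    ha'1
  rw [isConj_iff] at hconj
  obtain ⟨c, hc⟩ := hconj
  have h3 : c * a' ^ (Nat.card K).minFac * c⁻¹ = 1 := by
    rw [← conj_pow, hc, hxp]
  have h4 : a' ^ (Nat.card K).minFac = 1 := by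
    have : a' ^ (Nat.card K).minFac = c⁻¹ * (c * a' ^ (Nat.card K).minFac * c⁻¹) * c := by group
    rw [this, h3]; group
  have h5 := congrArg Subtype.val h4
  simpa using h5

end Abelian

end Cfsg.Agent.Helper75
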