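import Mathlib
import Cfsg.Agent.Helper75.SCCharA
import Cfsg.Agent.Helper75.TIFNAbelian

/-!
# Characters and a self-centralizing subgroup of prime order, part B (helper75)

`x` has prime order `p` and `C_G(x) = ⟨x⟩`.

* `sc_vanish_off`: an irreducible character of degree `p - 1` vanishes on `N_G(⟨x⟩) \ ⟨x⟩` when
  `N_G(⟨x⟩) ≠ ⟨x⟩`.
* `sc_exists_two_elt`: if the number of classes of elements of order `p` is odd (`p` odd),
  `N_G(⟨x⟩)` has a cyclic subgroup `⟨τ⟩` meeting `⟨x⟩` trivially, of order the `2`-part of `p - 1`.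
-/

set_option autoImplicit false

namespace Cfsg.Agent.Helper75

open Cfsg

universe u

variable {G : Type u} [Group G]


/-- An irreducible character of degree `p - 1` vanishes on `N_G(⟨x⟩) \ ⟨x⟩` (when the normalizer
is strictly larger than `⟨x⟩`). -/
theorem sc_vanish_off [Fintype G] {p : ℕ} (hp : p.Prime) {x : G} (hx : orderOf x = p)
    (hC : Subgroup.centralizer ({x} : Set G) = Subgroup.zpowers x)
    (he : (Subgroup.zpowers x).relIndex (Subgroup.normalizer (Subgroup.zpowers x : Set G)) ≠ 1)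
    {ψ : G → ℂ} (hψ : IsIrrCharacter G ψ) (hdeg : ψ 1 = ((p - 1 : ℕ) : ℂ))
    {n : G} (hn : n ∈ Subgroup.normalizer (Subgroup.zpowers x : Set G))
    (hnK : n ∉ Subgroup.zpowers x) : ψ n = 0 := by
  classical
  set K : Subgroup G := Subgroup.zpowers x with hKdef
  let _ : Fintype K := Fintype.ofFinite K
  let _ : Fintype ↥(Subgroup.normalizer (K : Set G)) := Fintype.ofFinite _
  set K' := K.subgroupOf (Subgroup.normalizer (K : Set G)) with hK'def
  let _ : Fintype K' := Fintype.ofFinite K'
  have hle : K ≤ Subgroup.normalizer (K : Set G) := Subgroup.le_normalizer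
  have hC' : ∀ k ∈ K, k ≠ 1 → Subgroup.centralizer ({k} : Set G) ≤ K := by
    intro k hk hk1
    have h1 := sc_centralizer_of_mem hp hx hC hk hk1
    rw [sc_zpowers_eq_of_mem hp hx hk hk1] at h1
    exact h1.le
  have hab : ∀ a ∈ K, ∀ b ∈ K, a * b = b * a := (sc_FTHyp hp hx hC he).hab
  have hchar : IsCharacter G ψ := Helper74.isCharacter_of_isIrr hψ
  let φ : ↥(Subgroup.normalizer (K : Set G)) → ℂ := fun m => ψ m
  have hφ : IsCharacter _ φ := Helper74.isCharacter_restrict _ hchar
  have hrel : ∀ θ : IrrCharacter ↥(Subgroup.normalizer (K : Set G)),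
      (∃ k ∈ K', (θ : ↥(Subgroup.normalizer (K : Set G)) → ℂ) k
        ≠ (θ : ↥(Subgroup.normalizer (K : Set G)) → ℂ) 1) →
      (θ : ↥(Subgroup.normalizer (K : Set G)) → ℂ) 1 = (K'.index : ℂ) ∧
        ∀ m : ↥(Subgroup.normalizer (K : Set G)), m ∉ K' →
          (θ : ↥(Subgroup.normalizer (K : Set G)) → ℂ) m = 0 := by
    rintro θ ⟨k, hk, hne⟩
    have hmem : (θ : ↥(Subgroup.normalizer (K : Set G)) → ℂ) ∈ tfS K :=
      ⟨θ.2, k, Subgroup.mem_subgroupOf.mp hk, hne⟩
    refine ⟨tf_rel_degree hC' hab hmem, fun m hm => ?_⟩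
    exact tf_vanish hC' hmem m (fun h => hm (Subgroup.mem_subgroupOf.mpr h))
  obtain ⟨a, M, h1, h2, h3⟩ := frob_decomp K' K'.index hrel hφ
  -- cardinalities
  have hcardK : Nat.card K = p := by rw [hKdef, Nat.card_zpowers, hx]
  have hKK' : Nat.card K' = Nat.card K :=
    Nat.card_congr (Subgroup.subgroupOfEquivOfLe hle).toEquiv
  have hcardN : Nat.card ↥(Subgroup.normalizer (K : Set G)) = p * K'.index := by
    rw [← Subgroup.card_mul_index K', hKK', hcardK]
  have hcount := sc_class_count hp hx hC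
  have hidx : K'.index = K.relIndex (Subgroup.normalizer (K : Set G)) := rfl
  have he1 : K'.index ≠ 1 := he
  have he0 : K'.index ≠ 0 := Subgroup.index_ne_zero_of_finite
  have hedvd : K'.index ∣ p - 1 := by
    rw [hidx, ← hcount]
    exact dvd_mul_left _ _
  -- degree equation
  have hdegN : a + K'.index * M = p - 1 := by
    have : φ 1 = ψ 1 := rfl
    rw [this, hdeg] at h1
    exact_mod_cast h1.symm
  -- the norm inequality on `K'`
  have hcommK' : ∀ u v : K', u * v = v * u := by
    intro u v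
    apply Subtype.ext
    apply Subtype.ext
    exact hab _ (Subgroup.mem_subgroupOf.mp u.2) _ (Subgroup.mem_subgroupOf.mp v.2)
  have hφK : IsCharacter K' (fun k : K' => φ k) := Helper74.isCharacter_restrict _ hφ
  have hinner : classInner (fun k : K' => φ k) (fun _ => (1 : ℂ)) = a := by
    rw [Helper74.classInner_def]
    simp only [map_one, mul_one]
    rw [h2, ← mul_assoc, inv_mul_cancel₀, one_mul]
    have : Nat.card K' ≠ 0 := Nat.card_pos.ne'
    exact_mod_cast this
  have hφ1 : (fun k : K' => φ k) 1 = ((p - 1 : ℕ) : ℂ) := hdeg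
  have hlow := abelian_norm_lower hcommK' hφK a (p - 1) hinner hφ1
  -- the T.I. bound
  have hti := sc_ti_bound hp hx hC he hψ
  have hsumeq : ∑ k : K', Complex.normSq ((fun k : K' => φ k) k)
      = ∑ k : K, Complex.normSq (ψ (k : G)) := by
    refine Fintype.sum_equiv (Subgroup.subgroupOfEquivOfLe hle).toEquiv _ _ (fun k => ?_)
    rfl
  rw [hsumeq] at hlow
  have hn2 : Complex.normSq (ψ 1) = ((p - 1 : ℕ) : ℝ) ^ 2 := by
    rw [hdeg, Complex.normSq_natCast, sq]
  rw [hn2, hcardN] at hti
  rw [hKK', hcardK] at hlow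
  -- arithmetic
  have ha0 : a = 0 := by
    by_contra hane
    have hedvda : K'.index ∣ a := by
      have h4 : K'.index ∣ a + K'.index * M := by rw [hdegN]; exact hedvd
      exact (Nat.dvd_add_left (dvd_mul_right _ _)).mp h4
    have hae : K'.index ≤ a := Nat.le_of_dvd (Nat.pos_of_ne_zero hane) hedvda
    have he2 : 2 ≤ K'.index := by omega
    have hp2 : 2 ≤ p := hp.two_le
    have hae' : ((K'.index : ℕ) : ℝ) ≤ a := by exact_mod_cast hae
    have he2' : (2 : ℝ) ≤ K'.index := by exact_mod_cast he2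
    have hp1 : ((p - 1 : ℕ) : ℝ) = (p : ℝ) - 1 := by
      rw [Nat.cast_sub (by omega)]; simp
    have hp2' : (2 : ℝ) ≤ p := by exact_mod_cast hp2
    have hlt := lt_of_le_of_lt hlow hti
    push_cast at hlt
    rw [hp1] at hlt
    have ha2 : (2 : ℝ) ≤ a := le_trans he2' hae'
    have h_a : (0 : ℝ) ≤ (a : ℝ) ^ 2 - a - K'.index := by nlinarith
    have h_b : (0 : ℝ) ≤ (p : ℝ) * ((a : ℝ) ^ 2 - a - K'.index) :=
      mul_nonneg (by linarith) h_a
    nlinarith
  have := h3 ha0 ⟨n, hn⟩ (fun h => hnK (Subgroup.mem_subgroupOf.mp h))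
  exact this



/-- When the number of classes of elements of order `p` is odd (`p` odd), the normalizer of `⟨x⟩`
contains an element `τ` of order the full `2`-part of `p - 1` with `⟨τ⟩ ∩ ⟨x⟩ = 1`. -/
theorem sc_exists_two_elt [Finite G] {p : ℕ} (hp : p.Prime) (hp2 : p ≠ 2) {x : G}
    (hx : orderOf x = p)
    (hC : Subgroup.centralizer ({x} : Set G) = Subgroup.zpowers x)
    (hodd : Odd (Nat.card {C : ConjClasses G // ∃ g ∈ C.carrier, orderOf g = p})) :
    ∃ τ : G, τ ∈ Subgroup.normalizer (Subgroup.zpowers x : Set G) ∧ Even (orderOf τ) ∧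
      (∃ m : ℕ, Odd m ∧ p - 1 = orderOf τ * m) ∧
      ∀ s ∈ Subgroup.zpowers τ, s ≠ 1 → s ∉ Subgroup.zpowers x := by
  classical
  have hF2 : Fact (Nat.Prime 2) := ⟨Nat.prime_two⟩
  set K : Subgroup G := Subgroup.zpowers x with hKdef
  set N : Subgroup G := Subgroup.normalizer (K : Set G) with hNdef
  have hle : K ≤ N := Subgroup.le_normalizer
  set K' := K.subgroupOf N with hK'def
  have hcardK : Nat.card K = p := by rw [hKdef, Nat.card_zpowers, hx]
  have hKK' : Nat.card K' = Nat.card K :=
    Nat.card_congr (Subgroup.subgroupOfEquivOfLe hle).toEquiv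
  have hcardN : Nat.card N = p * K'.index := by
    rw [← Subgroup.card_mul_index K', hKK', hcardK]
  have hcount := sc_class_count hp hx hC
  set t := Nat.card {C : ConjClasses G // ∃ g ∈ C.carrier, orderOf g = p} with htdef
  have hidx : K'.index = K.relIndex N := rfl
  have he0 : K'.index ≠ 0 := Subgroup.index_ne_zero_of_finite
  have hpodd : Odd p := hp.odd_of_ne_two hp2
  have hp1 : p - 1 ≠ 0 := by have := hp.two_le; omega
  have ht0 : t ≠ 0 := by
    intro h
    rw [h] at hodd
    exact absurd hodd (by decide)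
  -- the 2-part
  set k := (p - 1).factorization 2 with hkdef
  have hfac : (Nat.card N).factorization 2 = k := by
    rw [hcardN, Nat.factorization_mul hp.ne_zero he0, Finsupp.add_apply,
      Nat.factorization_eq_zero_of_not_dvd (n := p) (p := 2)
        (by rw [← even_iff_two_dvd, Nat.not_even_iff_odd]; exact hpodd), zero_add, hkdef,
      ← hcount, ← hidx, Nat.factorization_mul ht0 he0, Finsupp.add_apply,
      Nat.factorization_eq_zero_of_not_dvd (n := t) (p := 2)
        (by rw [← even_iff_two_dvd, Nat.not_even_iff_odd]; exact hodd), zero_add]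
  have hk1 : 1 ≤ k := by
    rw [hkdef]
    apply (Nat.prime_two.dvd_iff_one_le_factorization hp1).mp
    rw [← even_iff_two_dvd]
    exact Nat.Prime.even_sub_one hp hp2
  -- a Sylow 2-subgroup of `N`
  let S : Sylow 2 N := default
  have hcardS : Nat.card S = 2 ^ k := by rw [S.card_eq_multiplicity, hfac]
  -- `S` is cyclic
  have hFK : Fact (Nat.card K).Prime := ⟨by rw [hcardK]; exact hp⟩
  have hcycK : IsCyclic K := by rw [hKdef]; infer_instance
  have hcycAut : IsCyclic (MulAut K) :=
    isCyclic_of_injective (IsCyclic.mulAutMulEquiv K).toMonoidHom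
      (IsCyclic.mulAutMulEquiv K).injective
  let f : S →* MulAut K := (K.normalizerMonoidHom).comp (S : Subgroup N).subtype
  have hpow2 : ∀ s : S, ∃ j : ℕ, orderOf s = 2 ^ j := by
    intro s
    have h1 : orderOf s ∣ 2 ^ k := by rw [← hcardS]; exact orderOf_dvd_natCard s
    obtain ⟨j, _, hj⟩ := (Nat.dvd_prime_pow Nat.prime_two).mp h1
    exact ⟨j, hj⟩
  have hcop : ∀ j : ℕ, Nat.Coprime (2 ^ j) p := by
    intro j
    apply Nat.Coprime.pow_left
    rw [Nat.coprime_primes Nat.prime_two hp]
    exact fun h => hp2 h.symm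
  have hinj : Function.Injective f := by
    rw [injective_iff_map_eq_one]
    intro s hs
    have h1 : ((s : N)) ∈ K.normalizerMonoidHom.ker := hs
    rw [Subgroup.normalizerMonoidHom_ker, Subgroup.mem_subgroupOf] at h1
    have h2 : ((s : N) : G) ∈ K := by
      rw [← hC, Subgroup.mem_centralizer_singleton_iff]
      exact (Subgroup.mem_centralizer_iff.mp h1 x (Subgroup.mem_zpowers x)).symm
    have h3 : orderOf ((s : N) : G) ∣ p := by
      have := orderOf_dvd_natCard (⟨((s : N) : G), h2⟩ : K)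
      rw [hcardK, Subgroup.orderOf_mk] at this
      exact this
    obtain ⟨j, hj⟩ := hpow2 s
    rw [Subgroup.orderOf_coe, Subgroup.orderOf_coe, hj] at h3
    have h4 : 2 ^ j = 1 := Nat.Coprime.eq_one_of_dvd (hcop j) h3
    rw [h4] at hj
    exact orderOf_eq_one_iff.mp hj
  have hcycS : IsCyclic S := isCyclic_of_injective f hinj
  obtain ⟨g, hg⟩ := IsCyclic.exists_ofOrder_eq_natCard (α := S)
  have hordτ : orderOf (((g : N)) : G) = 2 ^ k := by
    rw [Subgroup.orderOf_coe, Subgroup.orderOf_coe, hg, hcardS]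
  refine ⟨((g : N) : G), (g : N).2, ?_, ?_, ?_⟩
  · rw [hordτ]
    exact (Nat.even_pow' (by omega)).mpr even_two
  · refine ⟨ordCompl[2] (p - 1), ?_, ?_⟩
    · rw [← Nat.not_even_iff_odd, even_iff_two_dvd]
      exact Nat.not_dvd_ordCompl Nat.prime_two hp1
    · rw [hordτ, hkdef]
      exact (Nat.ordProj_mul_ordCompl_eq_self (p - 1) 2).symm
  · intro s hs hs1 hsK
    have h1 : orderOf s ∣ 2 ^ k := by
      rw [← hordτ]
      exact orderOf_dvd_of_mem_zpowers hs
    have h2 : orderOf s ∣ p := by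
      have := orderOf_dvd_natCard (⟨s, hsK⟩ : K)
      rw [hcardK, Subgroup.orderOf_mk] at this
      exact this
    have h3 : orderOf s = 1 := Nat.eq_one_of_dvd_coprimes (hcop k) h1 h2
    exact hs1 (orderOf_eq_one_iff.mp h3)


end Cfsg.Agent.Helper75
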