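import Cfsg.Agent.Helper75.FrobeniusKernel

/-!
# Virtual characters of small norm (helper75)

* `vc_inner_int`: a generalized character has integral multiplicities.
* `vc_isClassFunction`
* `vc_pm_irr`: a generalized character of norm one is `±` an irreducible character.
-/

set_option autoImplicit false

namespace Cfsg.Agent.Helper75

open Cfsg
open scoped ComplexConjugate

universe u

variable {G : Type u} [Group G]

theorem vc_isClassFunction {f : G → ℂ} (hf : IsGeneralizedCharacter G f) :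
    IsClassFunction G f := by
  obtain ⟨χ, ψ, hχ, hψ, rfl⟩ := hf
  exact Helper74.isClassFunction_sub (Helper74.isClassFunction_of_isCharacter hχ)
    (Helper74.isClassFunction_of_isCharacter hψ)

theorem vc_inner_int [Fintype G] {f : G → ℂ} (hf : IsGeneralizedCharacter G f)
    (θ : IrrCharacter G) : ∃ m : ℤ, classInner f (θ : G → ℂ) = m := by
  obtain ⟨χ, ψ, hχ, hψ, rfl⟩ := hf
  obtain ⟨a, ha⟩ := Helper74.isCharacter_inner_irr_nat hχ θ
  obtain ⟨b, hb⟩ := Helper74.isCharacter_inner_irr_nat hψ θ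
  refine ⟨a - b, ?_⟩
  rw [Helper15.classInner_sub_left, ha, hb]
  push_cast
  ring

/-- A class function with integral multiplicities and norm one is `±` an irreducible
character. -/
theorem vc_pm_irr_of_int_inner [Fintype G] {f : G → ℂ} (hf : IsClassFunction G f)
    (hint : ∀ ψ : IrrCharacter G, ∃ m : ℤ, classInner f (ψ : G → ℂ) = m)
    (h1 : classInner f f = 1) :
    ∃ θ : IrrCharacter G, f = (θ : G → ℂ) ∨ f = -(θ : G → ℂ) := by
  classical
  let _ := Helper74.irrFintype G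
  have hdec := Helper74.classFunction_eq_sum_irr hf
  choose m hm using hint
  have hnorm : classInner f f = ∑ ψ : IrrCharacter G, ((m ψ : ℂ)) ^ 2 := by
    have h0 : classInner f f
        = classInner f (∑ ψ : IrrCharacter G, classInner f (ψ : G → ℂ) • (ψ : G → ℂ)) :=
      congrArg (classInner f) hdec
    rw [h0, Helper15.classInner_finset_sum_right]
    apply Finset.sum_congr rfl
    intro ψ _
    rw [Helper15.classInner_smul_right, hm ψ]
    simp [sq]
  rw [h1] at hnorm
  have hint1 : (1 : ℤ) = ∑ ψ : IrrCharacter G, (m ψ) ^ 2 := by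
    have : ((1 : ℤ) : ℂ) = ((∑ ψ : IrrCharacter G, (m ψ) ^ 2 : ℤ) : ℂ) := by
      push_cast
      exact hnorm
    exact_mod_cast this
  have hex : ∃ ψ₀ : IrrCharacter G, m ψ₀ ≠ 0 := by
    by_contra hcon
    push Not at hcon
    simp [hcon] at hint1
  obtain ⟨ψ₀, hψ₀⟩ := hex
  have hsplit : ∑ ψ : IrrCharacter G, (m ψ) ^ 2
      = (m ψ₀) ^ 2 + ∑ ψ ∈ Finset.univ.erase ψ₀, (m ψ) ^ 2 :=
    (Finset.add_sum_erase Finset.univ (fun ψ => m ψ ^ 2) (Finset.mem_univ ψ₀)).symm
  have hrest_nonneg : 0 ≤ ∑ ψ ∈ Finset.univ.erase ψ₀, (m ψ) ^ 2 :=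
    Finset.sum_nonneg (fun ψ _ => sq_nonneg _)
  have hsq_pos : 1 ≤ (m ψ₀) ^ 2 := by
    have : 0 < (m ψ₀) ^ 2 := by positivity
    omega
  have hψ₀sq : (m ψ₀) ^ 2 = 1 := by
    rw [hsplit] at hint1
    omega
  have hrest0 : ∑ ψ ∈ Finset.univ.erase ψ₀, (m ψ) ^ 2 = 0 := by
    rw [hsplit] at hint1
    omega
  have hrest : ∀ ψ : IrrCharacter G, ψ ≠ ψ₀ → m ψ = 0 := by
    intro ψ hne
    have h3 := (Finset.sum_eq_zero_iff_of_nonneg (fun ψ _ => sq_nonneg (m ψ))).mp hrest0 ψ
      (Finset.mem_erase.mpr ⟨hne, Finset.mem_univ _⟩)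
    exact pow_eq_zero_iff (two_ne_zero) |>.mp h3
  have hfeq : f = ((m ψ₀ : ℤ) : ℂ) • (ψ₀ : G → ℂ) := by
    conv_lhs => rw [hdec]
    rw [Finset.sum_eq_single ψ₀]
    · rw [hm ψ₀]
    · intro ψ _ hne
      rw [hm ψ, hrest ψ hne]; simp
    · intro hn; exact absurd (Finset.mem_univ _) hn
  have hprod : (m ψ₀ - 1) * (m ψ₀ + 1) = 0 := by linear_combination hψ₀sq
  refine ⟨ψ₀, ?_⟩
  rcases mul_eq_zero.mp hprod with h | h
  · left
    have hm1 : m ψ₀ = 1 := by omega
    rw [hfeq, hm1]; simp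
  · right
    have hm1 : m ψ₀ = -1 := by omega
    rw [hfeq, hm1]; simp

/-- A generalized character of norm one is `±` an irreducible character. -/
theorem vc_pm_irr [Fintype G] {f : G → ℂ} (hf : IsGeneralizedCharacter G f)
    (h1 : classInner f f = 1) :
    ∃ θ : IrrCharacter G, f = (θ : G → ℂ) ∨ f = -(θ : G → ℂ) :=
  vc_pm_irr_of_int_inner (vc_isClassFunction hf) (vc_inner_int hf) h1

end Cfsg.Agent.Helper75
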