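import Cfsg.Agent.Helper15.ConjChar
import Cfsg.Agent.Helper81.BrauerPerm
import Cfsg.Agent.Helper79.Linear
import Cfsg.Agent.Helper74.CharCount

/-!
# Frobenius groups given as `G = K ⋊ H` with fixed-point-free action (helper75)

Throughout: `K` is normal, `K ⊓ H = ⊥`, `K ⊔ H = ⊤` and no non-identity element of `H` commutes
with a non-identity element of `K`.

* `fg_exists_mul`: every element is `k * h`.
* `fg_exists_conj`: every element of the coset `K h` (`h ≠ 1`) is `K`-conjugate to `h`.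
* `fg_cent`: an element outside `K` commutes with no non-identity element of `K`.
* `fg_class_fixed`: an element outside `K` fixes no non-identity conjugacy class of `K`.
* `fg_irr_fixed`: an element outside `K` fixes no non-principal irreducible character of `K`.
* `fg_indFun_isIrr`: non-principal irreducible characters of `K` induce irreducibly.
-/

set_option autoImplicit false

namespace Cfsg.Agent.Helper75

open Cfsg
open scoped ComplexConjugate Pointwise

universe u

section Group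

variable {G : Type u} [Group G] {K H : Subgroup G} [hK : K.Normal]

theorem fg_exists_mul (hKH' : K ⊔ H = ⊤) (g : G) : ∃ k ∈ K, ∃ h ∈ H, g = k * h := by
  have hg : g ∈ (↑(K ⊔ H) : Set G) := by rw [hKH']; trivial
  rw [Subgroup.normal_mul] at hg
  obtain ⟨k, hk, h, hh, rfl⟩ := Set.mem_mul.mp hg
  exact ⟨k, hk, h, hh, rfl⟩

/-- Every element of the coset `K h` is conjugate to `h` under `K`. -/
theorem fg_exists_conj [Finite G]
    (hfpf : ∀ h ∈ H, h ≠ 1 → ∀ k ∈ K, h * k = k * h → k = 1) {h : G} (hh : h ∈ H) (h1 : h ≠ 1)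
    {k₀ : G} (hk₀ : k₀ ∈ K) : ∃ v ∈ K, v * h * v⁻¹ = k₀ * h := by
  let f : K → K := fun v => ⟨(v : G) * h * (v : G)⁻¹ * h⁻¹, by
    have h2 : h * (v : G)⁻¹ * h⁻¹ ∈ K := hK.conj_mem _ (K.inv_mem v.2) h
    have h3 : (v : G) * h * (v : G)⁻¹ * h⁻¹ = (v : G) * (h * (v : G)⁻¹ * h⁻¹) := by group
    rw [h3]
    exact K.mul_mem v.2 h2⟩
  have hinj : Function.Injective f := by
    intro v w hvw
    have h2 : (v : G) * h * (v : G)⁻¹ * h⁻¹ = (w : G) * h * (w : G)⁻¹ * h⁻¹ :=
      congrArg Subtype.val hvw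
    have h3 : (v : G) * h * (v : G)⁻¹ = (w : G) * h * (w : G)⁻¹ := mul_right_cancel h2
    have h4 : h * ((w : G)⁻¹ * (v : G)) = ((w : G)⁻¹ * (v : G)) * h := by
      have : (w : G)⁻¹ * ((v : G) * h * (v : G)⁻¹) * (v : G)
          = (w : G)⁻¹ * ((w : G) * h * (w : G)⁻¹) * (v : G) := by rw [h3]
      have e1 : (w : G)⁻¹ * ((v : G) * h * (v : G)⁻¹) * (v : G) = ((w : G)⁻¹ * (v : G)) * h := by
        group
      have e2 : (w : G)⁻¹ * ((w : G) * h * (w : G)⁻¹) * (v : G) = h * ((w : G)⁻¹ * (v : G)) := by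
        group
      rw [e1, e2] at this
      exact this.symm
    have h5 := hfpf h hh h1 _ (K.mul_mem (K.inv_mem w.2) v.2) h4
    apply Subtype.ext
    have h6 : (v : G) = (w : G) := by
      have := inv_mul_eq_one.mp h5
      exact this.symm
    exact h6
  have hsurj : Function.Surjective f := Finite.surjective_of_injective hinj
  obtain ⟨v, hv⟩ := hsurj ⟨k₀, hk₀⟩
  refine ⟨v, v.2, ?_⟩
  have h2 : (v : G) * h * (v : G)⁻¹ * h⁻¹ = k₀ := congrArg Subtype.val hv
  rw [← h2]
  group

/-- An element outside `K` commutes with no non-identity element of `K`. -/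
theorem fg_cent [Finite G] (hKH' : K ⊔ H = ⊤)
    (hfpf : ∀ h ∈ H, h ≠ 1 → ∀ k ∈ K, h * k = k * h → k = 1) {y : G} (hy : y ∉ K)
    {k : G} (hk : k ∈ K) (hc : y * k = k * y) : k = 1 := by
  obtain ⟨k₀, hk₀, h, hh, rfl⟩ := fg_exists_mul hKH' y
  have h1 : h ≠ 1 := by
    rintro rfl
    apply hy
    simpa using hk₀
  obtain ⟨v, hv, hvh⟩ := fg_exists_conj hfpf hh h1 hk₀
  rw [← hvh] at hc
  have h2 : h * (v⁻¹ * k * v) = (v⁻¹ * k * v) * h := by
    have e1 : h * (v⁻¹ * k * v) = v⁻¹ * (v * h * v⁻¹ * k) * v := by group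
    have e2 : (v⁻¹ * k * v) * h = v⁻¹ * (k * (v * h * v⁻¹)) * v := by group
    rw [e1, e2, hc]
  have h3 : v⁻¹ * k * v ∈ K := by
    have := hK.conj_mem k hk v⁻¹
    simpa using this
  have h4 := hfpf h hh h1 _ h3 h2
  have h5 : k = v * (v⁻¹ * k * v) * v⁻¹ := by group
  rw [h5, h4]
  group

/-- An element outside `K` fixes no non-identity conjugacy class of `K`. -/
theorem fg_class_fixed [Finite G] (hKH' : K ⊔ H = ⊤)
    (hfpf : ∀ h ∈ H, h ≠ 1 → ∀ k ∈ K, h * k = k * h → k = 1) {g : G} (hg : g ∉ K)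
    (k : K) (hc : IsConj (⟨g * k * g⁻¹, hK.conj_mem (k : G) k.2 g⟩ : K) k) : k = 1 := by
  rw [isConj_iff] at hc
  obtain ⟨u, hu⟩ := hc
  have hu' : (u : G) * (g * k * g⁻¹) * (u : G)⁻¹ = k := congrArg Subtype.val hu
  have hy : (u : G) * g ∉ K := by
    intro hmem
    apply hg
    have := K.mul_mem (K.inv_mem u.2) hmem
    simpa using this
  have hcomm : ((u : G) * g) * k = k * ((u : G) * g) := by
    have e1 : ((u : G) * g) * k = ((u : G) * (g * k * g⁻¹) * (u : G)⁻¹) * ((u : G) * g) := by group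
    rw [e1, hu']
  have := fg_cent hKH' hfpf hy k.2 hcomm
  exact Subtype.ext this

end Group

section ClassPerm

/-- The permutation of the conjugacy classes induced by an automorphism. -/
def fgClassPerm {X : Type*} [Group X] (e : X ≃* X) : Equiv.Perm (ConjClasses X) where
  toFun := ConjClasses.map e.toMonoidHom
  invFun := ConjClasses.map e.symm.toMonoidHom
  left_inv c := by
    obtain ⟨k, rfl⟩ := ConjClasses.exists_rep c
    show ConjClasses.mk (e.symm (e k)) = _
    rw [e.symm_apply_apply]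
  right_inv c := by
    obtain ⟨k, rfl⟩ := ConjClasses.exists_rep c
    show ConjClasses.mk (e (e.symm k)) = _
    rw [e.apply_symm_apply]

theorem fgClassPerm_mk {X : Type*} [Group X] (e : X ≃* X) (k : X) :
    fgClassPerm e (ConjClasses.mk k) = ConjClasses.mk (e k) := rfl

end ClassPerm

section Char

variable {G : Type u} [Group G] [Fintype G] {K H : Subgroup G} [hK : K.Normal]

/-- An element outside `K` fixes no non-principal irreducible character of `K`. -/
theorem fg_irr_fixed (hKH' : K ⊔ H = ⊤)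
    (hfpf : ∀ h ∈ H, h ≠ 1 → ∀ k ∈ K, h * k = k * h → k = 1) {g : G} (hg : g ∉ K)
    {τ : K → ℂ} (hτ : IsIrrCharacter K τ) (hfix : Helper15.conjFun K g τ = τ) :
    τ = fun _ => 1 := by
  classical
  let _ : Fintype K := Fintype.ofFinite K
  let _ : Fintype (IrrCharacter K) := Helper74.irrFintype K
  let _ : Fintype (ConjClasses K) := Fintype.ofFinite _
  have hg' : g⁻¹ ∉ K := fun hc => hg (by simpa using K.inv_mem hc)
  let σ : Equiv.Perm (IrrCharacter K) :=
    { toFun := fun χ => ⟨Helper15.conjFun K g χ.1, Helper15.isIrrCharacter_conjFun K χ.2 g⟩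
      invFun := fun χ => ⟨Helper15.conjFun K g⁻¹ χ.1, Helper15.isIrrCharacter_conjFun K χ.2 g⁻¹⟩
      left_inv := fun χ => Subtype.ext (Helper15.conjFun_inv_conjFun K g χ.1)
      right_inv := fun χ => Subtype.ext (Helper15.conjFun_conjFun_inv K g χ.1) }
  let t : Equiv.Perm (ConjClasses K) := fgClassPerm (MulAut.conjNormal g⁻¹ : K ≃* K)
  have hcompat : ∀ (χ : IrrCharacter K) (a a' : K), t (ConjClasses.mk a) = ConjClasses.mk a' →
      (σ χ : K → ℂ) a' = (χ : K → ℂ) a := by
    intro χ a a' haa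
    have h1 : IsConj ((MulAut.conjNormal g⁻¹ : K ≃* K) a) a' :=
      ConjClasses.mk_eq_mk_iff_isConj.mp haa
    rw [isConj_iff] at h1
    obtain ⟨c, hc⟩ := h1
    have hcf : IsClassFunction K (σ χ : K → ℂ) := Helper74.irr_isClassFunction (σ χ)
    rw [← hc, hcf]
    show Helper15.conjFun K g χ.1 _ = _
    rw [Helper15.conjFun_apply]
    refine congrArg (χ : K → ℂ) (Subtype.ext ?_)
    simp [MulAut.conjNormal_apply, mul_assoc]
  have hbp := Helper81.brauer_perm σ t hcompat
  have hfixcls : Nat.card {c // t c = c} = 1 := by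
    rw [Nat.card_eq_one_iff_unique]
    refine ⟨⟨?_⟩, ⟨⟨ConjClasses.mk 1, ?_⟩⟩⟩
    · rintro ⟨c, hc⟩ ⟨c', hc'⟩
      apply Subtype.ext
      have key : ∀ d : ConjClasses K, t d = d → d = ConjClasses.mk 1 := by
        intro d hd
        obtain ⟨k, rfl⟩ := ConjClasses.exists_rep d
        rw [fgClassPerm_mk, ConjClasses.mk_eq_mk_iff_isConj] at hd
        have := fg_class_fixed hKH' hfpf hg' k hd
        rw [this]
      show c = c'
      rw [key c hc, key c' hc']
    · rw [fgClassPerm_mk, map_one]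
  rw [hfixcls] at hbp
  rw [Nat.card_eq_one_iff_unique] at hbp
  obtain ⟨hsub, _⟩ := hbp
  have hone : IsIrrCharacter K (fun _ => (1 : ℂ)) := Helper79.isIrrCharacter_one
  have h1 : σ ⟨τ, hτ⟩ = ⟨τ, hτ⟩ := Subtype.ext hfix
  have h2 : σ ⟨fun _ => (1 : ℂ), hone⟩ = ⟨fun _ => (1 : ℂ), hone⟩ := Subtype.ext (by
    funext n; rfl)
  have h3 := hsub.elim (⟨⟨τ, hτ⟩, h1⟩ : {χ // σ χ = χ}) ⟨⟨fun _ => (1 : ℂ), hone⟩, h2⟩
  exact congrArg (fun x => (x.1 : K → ℂ)) h3

/-- In a Frobenius group, the non-principal irreducible characters of the kernel induce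
irreducibly. -/
theorem fg_indFun_isIrr (hKH' : K ⊔ H = ⊤)
    (hfpf : ∀ h ∈ H, h ≠ 1 → ∀ k ∈ K, h * k = k * h → k = 1)
    {τ : K → ℂ} (hτ : IsIrrCharacter K τ) (hτ1 : τ ≠ fun _ => 1) :
    IsIrrCharacter G (indFun K τ) := by
  classical
  let _ : Fintype K := Fintype.ofFinite K
  have hcard : (Nat.card K : ℂ) ≠ 0 := by
    have : Nat.card K ≠ 0 := Nat.card_pos.ne'
    exact_mod_cast this
  have hchar : IsCharacter G (indFun K τ) :=
    Helper15.isCharacter_indFun K (Helper74.isCharacter_of_isIrr hτ)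
  have hτcf : IsClassFunction K τ := Helper74.irr_isClassFunction ⟨τ, hτ⟩
  apply Helper15.isIrrCharacter_of_inner_self_eq_one hchar
  rw [Helper15.frobenius_reciprocity K τ _ (Helper15.isClassFunction_indFun K τ),
    Helper15.indFun_normal_restrict, Helper15.classInner_smul_right,
    Helper15.classInner_finset_sum_right]
  have hterm : ∀ g : G, classInner τ (Helper15.conjFun K g τ) = if g ∈ K then 1 else 0 := by
    intro g
    split_ifs with hg
    · rw [Helper15.conjFun_of_mem K hτcf hg]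
      exact Helper74.irr_inner_self ⟨τ, hτ⟩
    · have hne : (⟨τ, hτ⟩ : IrrCharacter K)
          ≠ ⟨Helper15.conjFun K g τ, Helper15.isIrrCharacter_conjFun K hτ g⟩ := by
        intro heq
        apply hτ1
        exact fg_irr_fixed hKH' hfpf hg hτ (congrArg Subtype.val heq).symm
      exact Helper74.irr_inner_ne hne
  simp only [hterm]
  rw [Finset.sum_boole, ← Fintype.card_subtype, ← Nat.card_eq_fintype_card]
  have : (starRingEnd ℂ) (Nat.card K : ℂ)⁻¹ = (Nat.card K : ℂ)⁻¹ := by
    rw [map_inv₀, Complex.conj_natCast]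
  rw [this]
  exact inv_mul_cancel₀ hcard

end Char

end Cfsg.Agent.Helper75
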