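import Cfsg.Agent.Helper75.FrobeniusKernel
import Cfsg.Agent.Helper75.FrobeniusGroup

/-!
# Conjugacy into Frobenius complements (helper75)

* `fc_arith`: the orbit-counting arithmetic.
* `fc_fixed_point`: a subgroup all of whose non-identity elements lie in conjugates of a Frobenius
  complement `H` is contained in a conjugate of `H`.
-/

set_option autoImplicit false

namespace Cfsg.Agent.Helper75

open Cfsg
open scoped Pointwise

universe u

theorem fc_arith {Ω : Type*} [Fintype Ω] [Nonempty Ω] (n : ℕ) (hn : 0 < n) (s : Ω → ℕ)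
    (hs : ∀ ω, s ω ∣ n) (hsum : ∑ ω, s ω + (n - 1) = Fintype.card Ω * n) :
    ∃ ω, s ω = 1 := by
  classical
  have hle : ∀ ω, s ω ≤ n := fun ω => Nat.le_of_dvd hn (hs ω)
  have hpos : ∀ ω, 0 < s ω := fun ω => Nat.pos_of_dvd_of_pos (hs ω) hn
  have key : ∑ ω, (n - s ω) = n - 1 := by
    have h1 : ∑ ω, (n - s ω) + ∑ ω, s ω = Fintype.card Ω * n := by
      rw [← Finset.sum_add_distrib]
      rw [Finset.sum_congr rfl (fun ω _ => Nat.sub_add_cancel (hle ω))]
      simp
    omega
  by_cases hn1 : n = 1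
  · obtain ⟨ω⟩ := ‹Nonempty Ω›
    exact ⟨ω, by have := hs ω; rw [hn1] at this; exact Nat.dvd_one.mp this⟩
  · have hn2 : 2 ≤ n := by omega
    have hne : ∑ ω, (n - s ω) ≠ 0 := by omega
    obtain ⟨ω₀, _, hω₀⟩ := Finset.exists_ne_zero_of_sum_ne_zero hne
    have half : ∀ ω, n - s ω ≠ 0 → 2 * s ω ≤ n := by
      intro ω hω
      obtain ⟨k, hk⟩ := hs ω
      have hk2 : 2 ≤ k := by
        by_contra hcon
        have : k = 0 ∨ k = 1 := by omega
        rcases this with rfl | rfl
        · omega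
        · rw [mul_one] at hk; omega
      calc 2 * s ω = s ω * 2 := by ring
        _ ≤ s ω * k := Nat.mul_le_mul_left _ hk2
        _ = n := hk.symm
    have hrest : ∀ ω, ω ≠ ω₀ → n - s ω = 0 := by
      intro ω hne'
      by_contra hω
      have h1 := half ω hω
      have h0 := half ω₀ hω₀
      have hpair : (n - s ω₀) + (n - s ω) ≤ ∑ ω, (n - s ω) := by
        have : ∑ x ∈ ({ω₀, ω} : Finset Ω), (n - s x) ≤ ∑ ω, (n - s ω) :=
          Finset.sum_le_sum_of_subset (Finset.subset_univ _)
        rwa [Finset.sum_pair hne'.symm] at this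
      have := hle ω
      have := hle ω₀
      omega
    have hsingle : ∑ ω, (n - s ω) = n - s ω₀ :=
      Finset.sum_eq_single ω₀ (fun ω _ h => hrest ω h) (fun h => absurd (Finset.mem_univ _) h)
    refine ⟨ω₀, ?_⟩
    have := hle ω₀
    have := hpos ω₀
    omega

/-- A subgroup all of whose non-identity elements lie in conjugates of a Frobenius complement
`H` is contained in one conjugate of `H`. -/
theorem fc_fixed_point {G : Type u} [Group G] [Finite G] {H : Subgroup G}
    (hH : IsFrobeniusComplement H) (L : Subgroup G)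
    (hL : ∀ x ∈ L, x ≠ 1 → ∃ g : G, x ∈ MulAut.conj g • H) :
    ∃ g : G, L ≤ MulAut.conj g • H := by
  classical
  have := Fintype.ofFinite G
  have hfix : ∀ (x : L) (g : G), x • (g : G ⧸ H) = (g : G ⧸ H) ↔ g⁻¹ * (x : G) * g ∈ H := by
    intro x g
    show (((x : G) * g : G) : G ⧸ H) = (g : G ⧸ H) ↔ _
    rw [QuotientGroup.eq, ← inv_mem_iff (H := H)]
    simp [mul_assoc]
  let _ : Fintype L := Fintype.ofFinite L
  let _ : Fintype (G ⧸ H) := Fintype.ofFinite _
  let _ : ∀ x : L, Fintype (MulAction.fixedBy (G ⧸ H) x) := fun x => Fintype.ofFinite _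
  let _ : Fintype (MulAction.orbitRel.Quotient L (G ⧸ H)) := Fintype.ofFinite _
  let _ : ∀ ω : MulAction.orbitRel.Quotient L (G ⧸ H),
      Fintype (MulAction.orbit L ω.out) := fun ω => Fintype.ofFinite _
  -- each non-identity element has exactly one fixed point
  have hone : ∀ x : L, x ≠ 1 → Fintype.card (MulAction.fixedBy (G ⧸ H) x) = 1 := by
    intro x hx
    have hx' : (x : G) ≠ 1 := fun hc => hx (Subtype.ext hc)
    obtain ⟨g, hg⟩ := hL x x.2 hx'
    rw [fk_conj_mem_iff] at hg
    rw [Fintype.card_eq_one_iff]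
    refine ⟨⟨(g : G ⧸ H), (hfix x g).mpr hg⟩, ?_⟩
    rintro ⟨q, hq⟩
    apply Subtype.ext
    obtain ⟨g', rfl⟩ := QuotientGroup.mk_surjective q
    have hg' : g'⁻¹ * (x : G) * g' ∈ H := (hfix x g').mp hq
    show (g' : G ⧸ H) = (g : G ⧸ H)
    rw [eq_comm, QuotientGroup.eq]
    -- h = g⁻¹ x g ∈ H, y = g⁻¹ g'
    have hne : g⁻¹ * (x : G) * g ≠ 1 := by
      intro hc
      apply hx'
      have : (x : G) = g * (g⁻¹ * (x : G) * g) * g⁻¹ := by group
      rw [this, hc]; group
    have hy : (g⁻¹ * g')⁻¹ * (g⁻¹ * (x : G) * g) * (g⁻¹ * g') ∈ H := by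
      have : (g⁻¹ * g')⁻¹ * (g⁻¹ * (x : G) * g) * (g⁻¹ * g') = g'⁻¹ * (x : G) * g' := by group
      rw [this]; exact hg'
    exact fk_mem_of_conj_mem hH hg hne hy
  -- Burnside
  have hB := MulAction.sum_card_fixedBy_eq_card_orbits_mul_card_group L (G ⧸ H)
  have hsum1 : ∑ x : L, Fintype.card (MulAction.fixedBy (G ⧸ H) x)
      = Fintype.card (G ⧸ H) + (Fintype.card L - 1) := by
    rw [← Finset.add_sum_erase Finset.univ _ (Finset.mem_univ (1 : L))]
    congr 1
    · apply Fintype.card_congr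
      refine Equiv.subtypeUnivEquiv ?_
      intro q
      rw [MulAction.mem_fixedBy, one_smul]
    · rw [Finset.sum_congr rfl (fun x hx => hone x (Finset.ne_of_mem_erase hx)),
        Finset.sum_const, Finset.card_erase_of_mem (Finset.mem_univ _), Finset.card_univ]
      simp
  -- orbit decomposition
  have hO : Fintype.card (G ⧸ H)
      = ∑ ω : MulAction.orbitRel.Quotient L (G ⧸ H), Fintype.card (MulAction.orbit L ω.out) := by
    rw [Fintype.card_congr (MulAction.selfEquivSigmaOrbits L (G ⧸ H)), Fintype.card_sigma]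
  have hdvd : ∀ ω : MulAction.orbitRel.Quotient L (G ⧸ H),
      Fintype.card (MulAction.orbit L ω.out) ∣ Fintype.card L := by
    intro ω
    let _ : Fintype (MulAction.stabilizer L ω.out) := Fintype.ofFinite _
    exact Dvd.intro _ (MulAction.card_orbit_mul_card_stabilizer_eq_card_group L ω.out)
  have : Nonempty (MulAction.orbitRel.Quotient L (G ⧸ H)) := ⟨Quotient.mk'' ((1 : G) : G ⧸ H)⟩
  obtain ⟨ω, hω⟩ := fc_arith (Fintype.card L) Fintype.card_pos
    (fun ω : MulAction.orbitRel.Quotient L (G ⧸ H) => Fintype.card (MulAction.orbit L ω.out))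
    hdvd (by rw [← hO, ← hsum1, hB])
  -- the orbit of size one gives a fixed point
  obtain ⟨g, hg⟩ := QuotientGroup.mk_surjective ω.out
  refine ⟨g, ?_⟩
  intro x hx
  rw [fk_conj_mem_iff]
  rw [← hfix ⟨x, hx⟩ g, hg]
  rw [Fintype.card_eq_one_iff] at hω
  obtain ⟨p, hp⟩ := hω
  have h1 := hp ⟨(⟨x, hx⟩ : L) • ω.out, MulAction.mem_orbit _ _⟩
  have h2 := hp ⟨ω.out, MulAction.mem_orbit_self _⟩
  have h3 := h1.trans h2.symm
  exact congrArg Subtype.val h3

/-- The centralizer of a non-identity element of a Frobenius complement lies in it. -/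
theorem fc_commute_mem {G : Type u} [Group G] {H : Subgroup G}
    (hH : IsFrobeniusComplement H) {h z : G} (hh : h ∈ H) (h1 : h ≠ 1) (hz : z * h = h * z) :
    z ∈ H := by
  apply fk_mem_of_conj_mem hH hh h1
  have : z⁻¹ * h * z = h := by
    rw [mul_assoc, ← hz, ← mul_assoc, inv_mul_cancel, one_mul]
  rw [this]
  exact hh

/-- The order and the index of a Frobenius complement are coprime. -/
theorem fc_coprime {G : Type u} [Group G] [Finite G] {H : Subgroup G}
    (hH : IsFrobeniusComplement H) : Nat.Coprime (Nat.card H) H.index := by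
  apply Nat.coprime_of_dvd
  intro p hp hpH hpI
  haveI := Fact.mk hp
  obtain ⟨h, hh⟩ := exists_prime_orderOf_dvd_card' (G := H) p hpH
  have hh' : orderOf (h : G) = p := by rw [Subgroup.orderOf_coe, hh]
  have h1 : (h : G) ≠ 1 := by
    intro hc
    rw [hc, orderOf_one] at hh'
    exact hp.one_lt.ne hh'
  have hP : IsPGroup p (Subgroup.zpowers (h : G)) :=
    IsPGroup.of_card (n := 1) (by rw [Nat.card_zpowers, hh', pow_one])
  obtain ⟨Q, hQ⟩ := hP.exists_le_sylow
  have hhQ : (h : G) ∈ (Q : Subgroup G) := hQ (Subgroup.mem_zpowers _)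
  have hQne : Nontrivial (Q : Subgroup G) :=
    ⟨⟨⟨(h : G), hhQ⟩, 1, fun hc => h1 (congrArg Subtype.val hc)⟩⟩
  have hcen : Nontrivial (Subgroup.center (Q : Subgroup G)) := IsPGroup.center_nontrivial Q.2
  obtain ⟨⟨z, hz⟩, hz1⟩ := exists_ne (1 : Subgroup.center (Q : Subgroup G))
  have hz1' : (z : G) ≠ 1 := by
    intro hc
    apply hz1
    apply Subtype.ext
    apply Subtype.ext
    exact hc
  rw [Subgroup.mem_center_iff] at hz
  have hzH : (z : G) ∈ H := by
    apply fc_commute_mem hH h.2 h1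
    have := hz ⟨(h : G), hhQ⟩
    exact (congrArg Subtype.val this).symm
  have hQH : (Q : Subgroup G) ≤ H := by
    intro q hq
    apply fc_commute_mem hH hzH hz1'
    have := hz ⟨q, hq⟩
    exact congrArg Subtype.val this
  have hcardQ : Nat.card (Q : Subgroup G) ∣ Nat.card H := Subgroup.card_dvd_of_le hQH
  rw [Sylow.card_eq_multiplicity] at hcardQ
  have hG : Nat.card G = Nat.card H * H.index := (H.card_mul_index).symm
  have hHpos : Nat.card H ≠ 0 := Nat.card_pos.ne'
  have hIpos : H.index ≠ 0 := Subgroup.index_ne_zero_of_finite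
  have hfac : (Nat.card G).factorization p
      = (Nat.card H).factorization p + H.index.factorization p := by
    rw [hG, Nat.factorization_mul hHpos hIpos]; rfl
  have h2 : (Nat.card G).factorization p ≤ (Nat.card H).factorization p :=
    (hp.pow_dvd_iff_le_factorization hHpos).mp hcardQ
  have h3 : 1 ≤ H.index.factorization p :=
    (hp.dvd_iff_one_le_factorization hIpos).mp hpI
  omega

/-- The Frobenius group data attached to a Frobenius complement. -/
theorem fc_data {G : Type u} [Group G] [Finite G] {H : Subgroup G}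
    (hH : IsFrobeniusComplement H) :
    ∃ N : Subgroup G, (N : Set G) = frobeniusKernel H ∧ N.Normal ∧ N ⊓ H = ⊥ ∧ N ⊔ H = ⊤ ∧
      Nat.card N = H.index ∧
      (∀ h ∈ H, h ≠ 1 → ∀ k ∈ N, h * k = k * h → k = 1) := by
  obtain ⟨N, hN, hNn, hc⟩ := frobenius_kernel_theorem H hH
  have hinf : N ⊓ H = ⊥ := hc.disjoint.eq_bot
  refine ⟨N, hN, hNn, hinf, hc.sup_eq_top, ?_, ?_⟩
  · have h1 := hc.card_mul_card
    have h2 := H.card_mul_index
    have hHpos : 0 < Nat.card H := Nat.card_pos
    have : Nat.card N * Nat.card H = H.index * Nat.card H := by rw [h1, ← h2, mul_comm]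
    exact Nat.eq_of_mul_eq_mul_right hHpos this
  · intro h hh h1 k hk hcomm
    have hkH : k ∈ H := fc_commute_mem hH hh h1 hcomm.symm
    have : k ∈ N ⊓ H := ⟨hk, hkH⟩
    rw [hinf] at this
    exact Subgroup.mem_bot.mp this

/-- Elements outside the Frobenius kernel lie in conjugates of the complement. -/
theorem fc_exists_conj_of_not_mem {G : Type u} [Group G] {H N : Subgroup G}
    (hN : (N : Set G) = frobeniusKernel H) {x : G} (hx : x ∉ N) :
    ∃ g : G, x ∈ MulAut.conj g • H := by
  by_contra hcon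
  push Not at hcon
  apply hx
  have : x ∈ frobeniusKernel H := Or.inr hcon
  rw [← hN] at this
  exact this

/-- A subgroup whose order divides the order of a Frobenius complement `H` lies in a conjugate
of `H`. -/
theorem fc_le_conj_of_card_dvd {G : Type u} [Group G] [Finite G] {H : Subgroup G}
    (hH : IsFrobeniusComplement H) (L : Subgroup G) (hL : Nat.card L ∣ Nat.card H) :
    ∃ x : G, L ≤ MulAut.conj x • H := by
  obtain ⟨N, hN, hNn, hinf, hsup, hcard, hfpf⟩ := fc_data hH
  apply fc_fixed_point hH L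
  intro x hx hx1
  by_contra hcon
  apply hx1
  have hxN : x ∈ N := by
    by_contra hxN
    exact hcon (fc_exists_conj_of_not_mem hN hxN)
  have h1 : orderOf x ∣ Nat.card N := Subgroup.orderOf_dvd_natCard N hxN
  have h2 : orderOf x ∣ Nat.card H := (Subgroup.orderOf_dvd_natCard L hx).trans hL
  have h3 : orderOf x ∣ 1 := by
    have hcop := fc_coprime hH
    rw [← hcard] at hcop
    have := Nat.dvd_gcd h2 h1
    rwa [hcop.gcd_eq_one] at this
  exact orderOf_eq_one_iff.mp (Nat.dvd_one.mp h3)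

/-- Normal subgroups of a Frobenius group are comparable with the kernel (one half): a normal
subgroup not contained in the kernel contains it. -/
theorem fc_kernel_le_of_not_le {G : Type u} [Group G] [Finite G] {H : Subgroup G}
    (hH : IsFrobeniusComplement H) {N : Subgroup G} (hN : (N : Set G) = frobeniusKernel H)
    [hNn : N.Normal] (hsup : N ⊔ H = ⊤)
    (hfpf : ∀ h ∈ H, h ≠ 1 → ∀ k ∈ N, h * k = k * h → k = 1)
    (M : Subgroup G) [hM : M.Normal] (hMN : ¬ M ≤ N) : N ≤ M := by
  obtain ⟨x, hxM, hxN⟩ := SetLike.not_le_iff_exists.mp hMN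
  obtain ⟨g, hg⟩ := fc_exists_conj_of_not_mem hN hxN
  rw [fk_conj_mem_iff] at hg
  have hhM : g⁻¹ * x * g ∈ M := by
    have := hM.conj_mem x hxM g⁻¹
    simpa using this
  have hh1 : g⁻¹ * x * g ≠ 1 := by
    intro hc
    apply hxN
    have : x = g * (g⁻¹ * x * g) * g⁻¹ := by group
    rw [this, hc]
    simp
  intro k₀ hk₀
  obtain ⟨v, hv, hvh⟩ := fg_exists_conj hfpf hg hh1 hk₀
  have : k₀ = (v * (g⁻¹ * x * g) * v⁻¹) * (g⁻¹ * x * g)⁻¹ := by
    rw [hvh]; group
  rw [this]
  exact M.mul_mem (hM.conj_mem _ hhM v) (M.inv_mem hhM)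

/-- Of two Frobenius complements, the one of smaller order is conjugate into the other. -/
theorem fc_conj_le_of_card_le {G : Type u} [Group G] [Finite G] (H H₀ : Subgroup G)
    (hH : IsFrobeniusComplement H) (hH₀ : IsFrobeniusComplement H₀)
    (hle : Nat.card H₀ ≤ Nat.card H) : ∃ g : G, MulAut.conj g • H₀ ≤ H := by
  obtain ⟨N, hN, hNn, hinf, hsup, hcard, hfpf⟩ := fc_data hH
  obtain ⟨N₀, hN₀, hN₀n, hinf₀, hsup₀, hcard₀, hfpf₀⟩ := fc_data hH₀
  -- N ≤ N₀
  have hNN₀ : N ≤ N₀ := by
    by_cases h : N₀ ≤ N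
    · -- then equal by cardinality
      have h1 : Nat.card N₀ ≤ Nat.card N := Nat.le_of_dvd Nat.card_pos (Subgroup.card_dvd_of_le h)
      have h2 : Nat.card N * Nat.card H = Nat.card N₀ * Nat.card H₀ := by
        rw [hcard, hcard₀, mul_comm, H.card_mul_index, mul_comm, H₀.card_mul_index]
      have h3 : Nat.card N ≤ Nat.card N₀ := by
        by_contra hlt
        push Not at hlt
        have hpos : 0 < Nat.card H₀ := Nat.card_pos
        have : Nat.card N₀ * Nat.card H₀ < Nat.card N * Nat.card H :=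
          calc Nat.card N₀ * Nat.card H₀ < Nat.card N * Nat.card H₀ :=
                Nat.mul_lt_mul_of_pos_right hlt hpos
            _ ≤ Nat.card N * Nat.card H := Nat.mul_le_mul_left _ hle
        omega
      have h4 : N₀ = N := Subgroup.eq_of_le_of_card_ge h (by omega)
      rw [h4]
    · exact fc_kernel_le_of_not_le hH hN hsup hfpf N₀ h
  -- H₀ meets N trivially, so it is conjugate into H
  have hL : ∀ x ∈ H₀, x ≠ 1 → ∃ g : G, x ∈ MulAut.conj g • H := by
    intro x hx hx1
    apply fc_exists_conj_of_not_mem hN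
    intro hxN
    apply hx1
    have : x ∈ N₀ ⊓ H₀ := ⟨hNN₀ hxN, hx⟩
    rw [hinf₀] at this
    exact Subgroup.mem_bot.mp this
  obtain ⟨g, hg⟩ := fc_fixed_point hH H₀ hL
  refine ⟨g⁻¹, ?_⟩
  intro y hy
  rw [fk_conj_mem_iff, inv_inv] at hy
  have := hg hy
  rw [fk_conj_mem_iff] at this
  have e : g⁻¹ * (g * y * g⁻¹) * g = y := by group
  rwa [e] at this

end Cfsg.Agent.Helper75
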