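import Mathlib
import Cfsg.Agent.Helper77.Blk.Defs
import Cfsg.Agent.Helper63.Mnm5

/-!
# Piece (H2) of helper77's S3888 farm: Huppert III.11.4

`p` odd, `|P : ℧₁(P)| ≤ p ^ 2` implies `P` metacyclic, by induction on `|P|` as in `Helper63.MNM.mnm`,
given the class-two case (H1) as a hypothesis.
-/

set_option autoImplicit false

universe u

namespace Cfsg.Agent.Helper75.Blk

open Subgroup Cfsg.Agent.Helper77.Blk
open scoped commutatorElement

variable {p : ℕ} [hp : Fact p.Prime]

/-- the agemo index does not grow in quotients -/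
theorem H2_index_quotient {P : Type u} [Group P] [Finite P] (N : Subgroup P) [N.Normal] (k : ℕ)
    (h : (Cfsg.powerClosure p 1 (⊤ : Subgroup P)).index ≤ k) :
    (Cfsg.powerClosure p 1 (⊤ : Subgroup (P ⧸ N))).index ≤ k := by
  refine le_trans ?_ h
  have hle : (Cfsg.powerClosure p 1 (⊤ : Subgroup P)).map (QuotientGroup.mk' N) ≤
      Cfsg.powerClosure p 1 (⊤ : Subgroup (P ⧸ N)) := by
    unfold Cfsg.powerClosure
    rw [MonoidHom.map_closure, closure_le]
    rintro _ ⟨_, ⟨x, _, rfl⟩, rfl⟩
    exact Subgroup.subset_closure ⟨(x : P ⧸ N), mem_top _, by simp⟩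
  have h1 := Subgroup.index_dvd_of_le hle
  have h2 := Subgroup.index_map_dvd (Cfsg.powerClosure p 1 (⊤ : Subgroup P))
    (QuotientGroup.mk'_surjective N)
  exact Nat.le_of_dvd (Nat.pos_of_ne_zero Subgroup.index_ne_zero_of_finite) (h1.trans h2)

theorem H2_aux (hp2 : p ≠ 2) (hH1 : PropH1.{u} p) :
    ∀ (N : ℕ) (G : Type u) [Group G] [Finite G], Nat.card G = N → IsPGroup p G →
      (Cfsg.powerClosure p 1 (⊤ : Subgroup G)).index ≤ p ^ 2 → Cfsg.IsMetacyclic G := by
  intro N
  induction N using Nat.strong_induction_on with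
  | _ N ih =>
    intro G _ _ hN hG hidx
    by_cases hab : ∀ a b : G, a * b = b * a
    · refine hH1 G hG 1 (one_pow p) (fun g => by simp) (fun a b => ?_) hidx
      rw [hab a b, mul_inv_cancel_right, mul_inv_cancel]
      exact one_mem _
    have hG'ne : commutator G ≠ ⊥ := by
      intro h
      apply hab
      intro a b
      have h1 : ⁅a, b⁆ ∈ commutator G := by
        rw [commutator_def]
        exact Subgroup.commutator_mem_commutator (mem_top _) (mem_top _)
      rw [h, mem_bot, commutatorElement_eq_one_iff_commute] at h1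
      exact h1.eq
    have h0 := Cfsg.Agent.Helper63.normal_inf_center_ne_bot hG (commutator G) hG'ne
    rw [Ne, eq_bot_iff_forall] at h0
    push Not at h0
    obtain ⟨x, hxmem, hx1⟩ := h0
    obtain ⟨t, ht⟩ := (IsPGroup.iff_orderOf.1 hG) x
    have ht1 : 1 ≤ t := by
      by_contra hlt
      have : t = 0 := by omega
      rw [this, pow_zero, orderOf_eq_one_iff] at ht
      exact hx1 ht
    obtain ⟨n, hn_def⟩ : ∃ n : G, n = x ^ (p ^ (t - 1)) := ⟨_, rfl⟩
    have hon : orderOf n = p := hn_def ▸ Cfsg.Agent.Helper73.orderOf_pow_pred ht ht1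
    have hnmem : n ∈ commutator G ⊓ center G := hn_def ▸ pow_mem hxmem _
    have hnp : n ^ p = 1 := by
      have := pow_orderOf_eq_one n
      rwa [hon] at this
    have hnc : ∀ g : G, g * n = n * g := fun g => mem_center_iff.1 hnmem.2 g
    have hNn : (zpowers n).Normal := by
      refine ⟨fun y hy w => ?_⟩
      obtain ⟨j, rfl⟩ := mem_zpowers_iff.1 hy
      have hc : Commute (n ^ j) w := Commute.zpow_left (hnc w).symm j
      have : w * n ^ j * w⁻¹ = n ^ j := by rw [← hc.eq, mul_inv_cancel_right]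
      rw [this]; exact zpow_mem (mem_zpowers n) j
    have hlt : Nat.card (G ⧸ zpowers n) < N := by
      rw [← hN, Subgroup.card_eq_card_quotient_mul_card_subgroup (zpowers n), Nat.card_zpowers, hon]
      have hpos : 0 < Nat.card (G ⧸ zpowers n) := Nat.card_pos
      have := hp.out.two_le
      nlinarith
    have hm : Cfsg.IsMetacyclic (G ⧸ zpowers n) :=
      ih _ hlt (G ⧸ zpowers n) rfl (hG.to_quotient _) (H2_index_quotient (zpowers n) _ hidx)
    rcases Cfsg.Agent.Helper63.MNM.metacyclic_or_comm hG n hnp hnc hnmem.1 hNn hm with h | h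
    · exact h
    · exact hH1 G hG n hnp hnc h hidx

theorem propH2 (hp2 : p ≠ 2) (hH1 : PropH1.{u} p) : PropH2.{u} p := by
  intro P _ _ hP hidx
  exact H2_aux hp2 hH1 _ P rfl hP hidx

end Cfsg.Agent.Helper75.Blk
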