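import Cfsg.Agent.Helper95.Hig.Basic
import Cfsg.Prelude.Def_Transfer
import Cfsg.Prelude.Def_BaumannBlocks

/-!
HIG farm (helper95, S3050), piece (FIN): from coordinates `ι : Additive A ≃+ (Fin k → Fin 2 → K)` on a
commutative copy `A` of `Q`, equivariant for the conjugation action of `G` through `e : G ⧸ Q ≃* SL₂(K)`,
build the natural-module subgroups `V i` with `Q = ⨁ V i`.
-/

set_option autoImplicit false

namespace Cfsg.Agent.Helper75.Hig

open Cfsg.Agent.Helper40.SL2Hom Cfsg.Agent.Helper95.Hig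

universe u v

section grp
variable {G : Type v} [Group G]
variable {K : Type u} [Field K]

/-- (FIN) the final assembly. -/
theorem fin (Q : Subgroup G) [hn : Q.Normal] (A : Type v) [CommGroup A] (j : A ≃* ↥Q)
    (e : G ⧸ Q ≃* SL2 K) (k : ℕ)
    (ι : Additive A ≃+ (Fin k → Fin 2 → K))
    (hι : ∀ (g : G) (a : A) (i : Fin k),
      ι (Additive.ofMul (j.symm (⟨g * (j a : G) * g⁻¹, hn.conj_mem _ (j a).2 g⟩ : ↥Q))) i
        = ((e (QuotientGroup.mk g) : SL2 K) : Matrix (Fin 2) (Fin 2) K).mulVec
            (ι (Additive.ofMul a) i)) :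
    ∃ V : Fin k → Subgroup G, (∀ i, V i ≤ Q ∧ (V i).Normal ∧
        Cfsg.ActsAsSL2OnSection K ⊤ ⊤ (V i) ⊥) ∧ iSupIndep V ∧ ⨆ i, V i = Q := by
  classical
  -- the coordinate map
  set c : A → (Fin k → Fin 2 → K) := fun a => ι (Additive.ofMul a) with hc
  have c_mul : ∀ a b, c (a * b) = c a + c b := fun a b => by
    simp only [hc, ofMul_mul, map_add]
  have c_one : c 1 = 0 := by simp only [hc, ofMul_one, map_zero]
  have c_inv : ∀ a, c a⁻¹ = - c a := fun a => by simp only [hc, ofMul_inv, map_neg]
  have c_inj : ∀ a, c a = 0 → a = 1 := by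
    intro a h
    have h0 : Additive.ofMul a = 0 := by
      apply ι.injective
      rw [map_zero]
      exact h
    exact h0
  -- the embedding of `A` into `G`
  set F : A →* G := Q.subtype.comp j.toMonoidHom with hF
  have F_coe : ∀ a, F a = (j a : G) := fun a => rfl
  have F_inj : Function.Injective F := Q.subtype_injective.comp j.injective
  have F_mem : ∀ a, F a ∈ Q := fun a => (j a).2
  have F_symm : ∀ (x : G) (hx : x ∈ Q), F (j.symm ⟨x, hx⟩) = x := by
    intro x hx
    rw [F_coe, MulEquiv.apply_symm_apply]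
  have j_F : ∀ (a : A) (h : F a ∈ Q), j.symm ⟨F a, h⟩ = a := by
    intro a h
    apply j.injective
    rw [MulEquiv.apply_symm_apply]
    exact Subtype.ext (F_coe a).symm ▸ rfl
  -- conjugation in coordinates
  have c_conj : ∀ (g : G) (a : A) (i : Fin k),
      c (j.symm ⟨g * F a * g⁻¹, hn.conj_mem _ (F_mem a) g⟩) i =
        ((e (QuotientGroup.mk g) : SL2 K) : Matrix (Fin 2) (Fin 2) K).mulVec (c a i) :=
    fun g a i => hι g a i
  -- the subgroups of `A`
  let Ai : Fin k → Subgroup A := fun i =>
    { carrier := {a | ∀ l, l ≠ i → c a l = 0}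
      one_mem' := by
        intro l _
        rw [c_one]
        rfl
      mul_mem' := by
        intro a b ha hb l hl
        rw [c_mul, Pi.add_apply, ha l hl, hb l hl, add_zero]
      inv_mem' := by
        intro a ha l hl
        rw [c_inv, Pi.neg_apply, ha l hl, neg_zero] }
  let Bi : Fin k → Subgroup A := fun i =>
    { carrier := {a | c a i = 0}
      one_mem' := by
        show c 1 i = 0
        rw [c_one]
        rfl
      mul_mem' := by
        intro a b ha hb
        show c (a * b) i = 0
        rw [c_mul, Pi.add_apply, ha, hb, add_zero]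
      inv_mem' := by
        intro a ha
        show c a⁻¹ i = 0
        rw [c_inv, Pi.neg_apply, ha, neg_zero] }
  have mem_Ai : ∀ i a, a ∈ Ai i ↔ ∀ l, l ≠ i → c a l = 0 := fun i a => Iff.rfl
  have mem_Bi : ∀ i a, a ∈ Bi i ↔ c a i = 0 := fun i a => Iff.rfl
  have hVQ : ∀ i, (Ai i).map F ≤ Q := by
    rintro i _ ⟨a, _, rfl⟩
    exact F_mem a
  have hVn : ∀ i, ((Ai i).map F).Normal := by
    intro i
    constructor
    rintro _ ⟨a, ha, rfl⟩ g
    refine ⟨j.symm ⟨g * F a * g⁻¹, hn.conj_mem _ (F_mem a) g⟩, ?_, F_symm _ _⟩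
    intro l hl
    rw [c_conj g a l, ha l hl, Matrix.mulVec_zero]
  -- membership in `V i` in terms of coordinates
  have mem_V : ∀ i (u : G) (hu : u ∈ (Ai i).map F), ∃ hq : u ∈ Q,
      ∀ l, l ≠ i → c (j.symm ⟨u, hq⟩) l = 0 := by
    rintro i _ ⟨a, ha, rfl⟩
    refine ⟨F_mem a, ?_⟩
    rw [j_F]
    exact ha
  refine ⟨fun i => (Ai i).map F, ?_, ?_, ?_⟩
  · intro i
    refine ⟨hVQ i, hVn i, ?_⟩
    have hVn' := hVn i
    refine ⟨?_, bot_le, ?_⟩
    · rw [Subgroup.normalizer_eq_top]
    -- the two homomorphisms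
    let ρ : ↥(⊤ : Subgroup G) →* SL2 K :=
      e.toMonoidHom.comp ((QuotientGroup.mk' Q).comp (Subgroup.subtype ⊤))
    let ψ : ↥((Ai i).map F) →* Multiplicative (Fin 2 → K) :=
      { toFun := fun u => Multiplicative.ofAdd (c (j.symm ⟨(u : G), hVQ i u.2⟩) i)
        map_one' := by
          have h1 : (⟨((1 : ↥((Ai i).map F)) : G), hVQ i (1 : ↥((Ai i).map F)).2⟩ : ↥Q) = 1 := rfl
          rw [h1, map_one, c_one]
          rfl
        map_mul' := by
          intro u w
          have h1 : (⟨((u * w : ↥((Ai i).map F)) : G), hVQ i (u * w).2⟩ : ↥Q) =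
              ⟨(u : G), hVQ i u.2⟩ * ⟨(w : G), hVQ i w.2⟩ := rfl
          rw [h1, map_mul, c_mul, Pi.add_apply, ofAdd_add] }
    have ψ_apply : ∀ u : ↥((Ai i).map F),
        ψ u = Multiplicative.ofAdd (c (j.symm ⟨(u : G), hVQ i u.2⟩) i) := fun u => rfl
    refine ⟨ρ, ψ, ?_, ?_, ?_, ?_⟩
    · -- the range of `ρ`
      rw [MonoidHom.range_eq_top]
      intro s
      obtain ⟨g, hg⟩ := QuotientGroup.mk_surjective (e.symm s)
      refine ⟨⟨g, Subgroup.mem_top g⟩, ?_⟩
      show e (QuotientGroup.mk g) = s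
      rw [hg, MulEquiv.apply_symm_apply]
    · -- surjectivity of `ψ`
      intro f
      set a : A := Additive.toMul (ι.symm (Pi.single i (Multiplicative.toAdd f))) with ha
      have hca : c a = Pi.single i (Multiplicative.toAdd f) := by
        simp only [hc, ha, ofMul_toMul, AddEquiv.apply_symm_apply]
      have haA : a ∈ Ai i := by
        intro l hl
        rw [hca, Pi.single_eq_of_ne hl]
      refine ⟨⟨F a, Subgroup.mem_map_of_mem F haA⟩, ?_⟩
      rw [ψ_apply]
      simp only [j_F, hca, Pi.single_eq_same, ofAdd_toAdd]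
    · -- the kernel of `ψ`
      intro u
      constructor
      · intro h
        rw [Subgroup.mem_bot]
        obtain ⟨hq, hu⟩ := mem_V i (u : G) u.2
        have h0 : c (j.symm ⟨(u : G), hq⟩) = 0 := by
          funext l
          by_cases hl : l = i
          · subst hl
            rw [ψ_apply, ofAdd_eq_one] at h
            exact h
          · exact hu l hl
        have h1 := c_inj _ h0
        have h2 : (⟨(u : G), hq⟩ : ↥Q) = 1 := by
          rw [← j.apply_symm_apply ⟨(u : G), hq⟩, h1, map_one]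
        exact congrArg Subtype.val h2
      · intro h
        rw [Subgroup.mem_bot] at h
        have : u = 1 := Subtype.ext h
        rw [this, map_one]
    · -- equivariance
      intro g u
      obtain ⟨a, ha, hau⟩ := u.2
      refine ⟨⟨(g : G) * (u : G) * (g : G)⁻¹, hVn'.conj_mem _ u.2 _⟩, rfl, ?_⟩
      rw [ψ_apply, ψ_apply, toAdd_ofAdd, toAdd_ofAdd]
      have h1 : (⟨(u : G), hVQ i u.2⟩ : ↥Q) = ⟨F a, F_mem a⟩ := Subtype.ext hau.symm
      have h2 : (⟨(g : G) * (u : G) * (g : G)⁻¹, hVQ i (hVn'.conj_mem _ u.2 _)⟩ : ↥Q) =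
          ⟨(g : G) * F a * (g : G)⁻¹, hn.conj_mem _ (F_mem a) g⟩ := by
        apply Subtype.ext
        show (g : G) * (u : G) * (g : G)⁻¹ = (g : G) * F a * (g : G)⁻¹
        rw [hau]
      rw [h1, h2, j_F, c_conj]
      rfl
  · -- independence
    rw [iSupIndep_def]
    intro i
    have hle : (⨆ (l : Fin k) (_ : l ≠ i), (Ai l).map F) ≤ (Bi i).map F := by
      refine iSup₂_le (fun l hl => Subgroup.map_mono ?_)
      intro a ha
      exact ha i (Ne.symm hl)
    refine Disjoint.mono_right hle ?_
    rw [Subgroup.disjoint_def]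
    rintro _ ⟨a, ha, rfl⟩ ⟨b, hb, hab⟩
    have hba : b = a := F_inj hab
    subst hba
    have h0 : c b = 0 := by
      funext l
      by_cases hl : l = i
      · subst hl
        exact hb
      · exact ha l hl
    rw [c_inj b h0, map_one]
  · -- the join
    apply le_antisymm
    · exact iSup_le hVQ
    · intro x hx
      set a : A := j.symm ⟨x, hx⟩ with ha
      set b : Fin k → A := fun i => Additive.toMul (ι.symm (Pi.single i (c a i))) with hb
      have hcb : ∀ i, c (b i) = Pi.single i (c a i) := by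
        intro i
        simp only [hc, hb, ofMul_toMul, AddEquiv.apply_symm_apply]
      have hbA : ∀ i, b i ∈ Ai i := by
        intro i l hl
        rw [hcb, Pi.single_eq_of_ne hl]
      have hprod : ∏ i, b i = a := by
        have h1 : Additive.ofMul (∏ i, b i) = Additive.ofMul a := by
          apply ι.injective
          rw [ofMul_prod, map_sum]
          have h2 : ∀ i, ι (Additive.ofMul (b i)) = Pi.single i (c a i) := hcb
          rw [Finset.sum_congr rfl (fun i _ => h2 i), Finset.univ_sum_single]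
        exact Additive.ofMul.injective h1
      have hx' : x = F (∏ i, b i) := by
        rw [hprod, ha, F_symm]
      rw [hx']
      have hmem : ∏ i, b i ∈ (⨆ i, (Ai i).map F).comap F := by
        refine Subgroup.prod_mem _ (fun i _ => ?_)
        rw [Subgroup.mem_comap]
        exact Subgroup.mem_iSup_of_mem i (Subgroup.mem_map_of_mem F (hbA i))
      exact hmem

end grp

end Cfsg.Agent.Helper75.Hig
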