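import Cfsg.Agent.Helper75.InducedIrr
import Cfsg.Agent.Helper75.VirtualChar
import Cfsg.Agent.Helper78.IrrBasic
import Cfsg.Agent.Helper80.Degree
import Cfsg.Prelude.Def_OddOrderChar

/-!
# T.I. subgroups with Frobenius normalizer (helper75)

Tools for the Brauer–Suzuki theory of exceptional characters attached to a subgroup `K` that is a
trivial-intersection set, contains the centralizers of its non-identity elements, and is properly
contained in its normalizer.

* `tf_key`: a class function of `N` orthogonal to all `ζ'(1) ζ - ζ(1) ζ'` (for `ζ, ζ'` irreducible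
  characters not containing `K` in the kernel) is constant on `K \ {1}`.
* `tf_indFun_apply`: inducing from a subgroup `L` a class function supported on a T.I. set `K`
  gives back the same values on `K \ {1}`.
-/

set_option autoImplicit false

namespace Cfsg.Agent.Helper75

open Cfsg
open scoped ComplexConjugate

universe u

section Key

variable {N : Type u} [Group N] [Fintype N]

theorem tf_conj_apply_one (ζ : IrrCharacter N) :
    conj ((ζ : N → ℂ) 1) = (ζ : N → ℂ) 1 := by
  obtain ⟨d, _, hd⟩ := fk_irr_apply_one ζ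
  rw [hd]; simp

theorem tf_apply_one_ne_zero (ζ : IrrCharacter N) : (ζ : N → ℂ) 1 ≠ 0 := by
  obtain ⟨d, hd0, hd⟩ := fk_irr_apply_one ζ
  rw [hd]
  exact_mod_cast hd0.ne'

theorem tf_sum_degree_mul [Fintype (IrrCharacter N)] {k : N} (hk : k ≠ 1) :
    ∑ ζ : IrrCharacter N, (ζ : N → ℂ) 1 * (ζ : N → ℂ) k = 0 := by
  classical
  have h := Helper74.second_orthogonality (G := N) k 1
  rw [if_neg (by rw [isConj_one_left]; exact hk)] at h
  rw [← h]
  refine Finset.sum_congr rfl (fun ζ _ => ?_)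
  rw [tf_conj_apply_one, mul_comm]

/-- A class function orthogonal to all `ζ'(1) ζ - ζ(1) ζ'`, for `ζ, ζ'` irreducible characters
whose kernel does not contain `K`, is constant on the non-identity elements of `K`. -/
theorem tf_key (K : Subgroup N) {Δ : N → ℂ} (hΔ : IsClassFunction N Δ)
    (horth : ∀ ζ ζ' : IrrCharacter N, (∃ k ∈ K, (ζ : N → ℂ) k ≠ (ζ : N → ℂ) 1) →
      (∃ k ∈ K, (ζ' : N → ℂ) k ≠ (ζ' : N → ℂ) 1) →
      classInner Δ (((ζ' : N → ℂ) 1) • (ζ : N → ℂ) - ((ζ : N → ℂ) 1) • (ζ' : N → ℂ)) = 0) :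
    ∃ T : ℂ, ∀ k ∈ K, k ≠ 1 → Δ k = T := by
  classical
  let _ := Helper74.irrFintype N
  have hdec := Helper74.classFunction_eq_sum_irr hΔ
  have hval : ∀ x : N, Δ x = ∑ ζ : IrrCharacter N, classInner Δ (ζ : N → ℂ) * (ζ : N → ℂ) x := by
    intro x
    have := congrFun hdec x
    simpa only [Finset.sum_apply, Pi.smul_apply, smul_eq_mul] using this
  by_cases hrel : ∃ ζ₀ : IrrCharacter N, ∃ k ∈ K, (ζ₀ : N → ℂ) k ≠ (ζ₀ : N → ℂ) 1
  · obtain ⟨ζ₀, hζ₀⟩ := hrel
    set c : ℂ := classInner Δ (ζ₀ : N → ℂ) / (ζ₀ : N → ℂ) 1 with hc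
    have hcoef : ∀ ζ : IrrCharacter N, (∃ k ∈ K, (ζ : N → ℂ) k ≠ (ζ : N → ℂ) 1) →
        classInner Δ (ζ : N → ℂ) = c * (ζ : N → ℂ) 1 := by
      intro ζ hζ
      have h := horth ζ ζ₀ hζ hζ₀
      rw [Helper15.classInner_sub_right, Helper15.classInner_smul_right,
        Helper15.classInner_smul_right, tf_conj_apply_one, tf_conj_apply_one] at h
      have h0 := tf_apply_one_ne_zero ζ₀
      rw [hc]
      field_simp
      linear_combination h
    refine ⟨∑ ζ : IrrCharacter N,
      (classInner Δ (ζ : N → ℂ) - c * (ζ : N → ℂ) 1) * (ζ : N → ℂ) 1, ?_⟩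
    intro k hk hk1
    rw [hval k, ← sub_eq_zero, ← Finset.sum_sub_distrib]
    have hterm : ∀ ζ : IrrCharacter N,
        classInner Δ (ζ : N → ℂ) * (ζ : N → ℂ) k
          - (classInner Δ (ζ : N → ℂ) - c * (ζ : N → ℂ) 1) * (ζ : N → ℂ) 1
        = c * ((ζ : N → ℂ) 1 * (ζ : N → ℂ) k) := by
      intro ζ
      by_cases hζ : ∃ k ∈ K, (ζ : N → ℂ) k ≠ (ζ : N → ℂ) 1
      · rw [hcoef ζ hζ]; ring
      · push Not at hζ
        rw [hζ k hk]; ring
    rw [Finset.sum_congr rfl (fun ζ _ => hterm ζ), ← Finset.mul_sum, tf_sum_degree_mul hk1,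
      mul_zero]
  · push Not at hrel
    refine ⟨Δ 1, ?_⟩
    intro k hk _
    rw [hval k, hval 1]
    exact Finset.sum_congr rfl (fun ζ _ => by rw [hrel ζ k hk])

end Key

section TI

variable {G : Type u} [Group G] [Fintype G]

/-- Inducing from `L` a class function of `L` supported on a subset `K` which meets its
conjugates by elements outside `L` trivially gives back the same values on `K \ {1}`. -/
theorem tf_indFun_apply (K L : Subgroup G)
    (hTI : ∀ g : G, g ∉ L → ∀ k ∈ K, g * k * g⁻¹ ∈ K → k = 1)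
    {α : L → ℂ} (hα : IsClassFunction L α) (hvan : ∀ x : L, (x : G) ∉ K → α x = 0)
    (k : L) (hk : (k : G) ∈ K) (hk1 : k ≠ 1) : indFun L α (k : G) = α k := by
  classical
  let _ : Fintype L := Fintype.ofFinite L
  have hcard : (Nat.card L : ℂ) ≠ 0 := by
    have : Nat.card L ≠ 0 := Nat.card_pos.ne'
    exact_mod_cast this
  have hne : (k : G) ≠ 1 := fun hc => hk1 (Subtype.ext hc)
  rw [Helper15.indFun_apply']
  have hterm : ∀ x : G, extendByZero L α (x * (k : G) * x⁻¹)
      = extendByZero L (fun _ : L => α k) x := by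
    intro x
    by_cases hx : x ∈ L
    · have hmem : x * (k : G) * x⁻¹ ∈ L := L.mul_mem (L.mul_mem hx k.2) (L.inv_mem hx)
      rw [Helper15.extendByZero_of_mem L α hmem, Helper15.extendByZero_of_mem L _ hx]
      exact hα k (⟨x, hx⟩ : L)
    · rw [Helper15.extendByZero_of_not_mem L _ hx]
      by_cases hmem : x * (k : G) * x⁻¹ ∈ L
      · rw [Helper15.extendByZero_of_mem L α hmem]
        apply hvan
        intro hK
        exact hne (hTI x hx (k : G) hk hK)
      · exact Helper15.extendByZero_of_not_mem L α hmem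
  rw [Finset.sum_congr rfl (fun x _ => hterm x), Helper15.sum_extendByZero]
  rw [Finset.sum_const, Finset.card_univ, nsmul_eq_mul, ← Nat.card_eq_fintype_card]
  field_simp

end TI

section Generic1

variable {X : Type u} [Group X]

theorem tf_isIntegral_character [Finite X] {A : X → ℂ} (hA : IsCharacter X A) (x : X) :
    IsIntegral ℤ (A x) := by
  obtain ⟨n, ρ, rfl⟩ := hA
  exact Helper78.isIntegral_character_apply ρ x

theorem tf_sum_character [Fintype X] {A : X → ℂ} (hA : IsCharacter X A) :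
    ∃ n : ℕ, ∑ x : X, A x = (Nat.card X : ℂ) * n := by
  obtain ⟨n, hn⟩ := Helper74.isCharacter_inner_irr_nat hA
    (⟨fun _ => 1, Helper79.isIrrCharacter_one⟩ : IrrCharacter X)
  refine ⟨n, ?_⟩
  have hX : (Nat.card X : ℂ) ≠ 0 := by
    have : Nat.card X ≠ 0 := Nat.card_pos.ne'
    exact_mod_cast this
  rw [Helper15.classInner_apply] at hn
  simp only [map_one, mul_one] at hn
  rw [← hn]
  field_simp

theorem tf_int_of_rat_integral {z : ℂ} (q : ℚ) (hq : z = q) (hz : IsIntegral ℤ z) :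
    ∃ m : ℤ, z = m := by
  have h1 : z = algebraMap ℚ ℂ q := by rw [hq]; simp
  rw [h1, isIntegral_algebraMap_iff (algebraMap ℚ ℂ).injective] at hz
  obtain ⟨m, hm⟩ := IsIntegrallyClosed.algebraMap_eq_of_integral hz
  refine ⟨m, ?_⟩
  rw [hq, ← hm]
  simp

end Generic1

section Generic2

variable {X : Type u} [Group X]

theorem tf_sum_degree_sq_nat [Fintype X] [Fintype (IrrCharacter X)] :
    ∑ φ : IrrCharacter X, charDegree (φ : X → ℂ) * charDegree (φ : X → ℂ) = Nat.card X := by
  have h := Helper74.sum_irr_degree_sq (G := X)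
  have h2 : ∀ φ : IrrCharacter X, (φ : X → ℂ) 1 = (charDegree (φ : X → ℂ) : ℂ) :=
    fun φ => Helper78.irrChar_one_eq_charDegree φ.2
  simp only [h2] at h
  exact_mod_cast h

theorem tf_bezout [Fintype X] [Fintype (IrrCharacter X)] [DecidableEq (IrrCharacter X)]
    (hX : Nontrivial X) :
    ∃ n : IrrCharacter X → ℤ,
      ∑ φ ∈ Finset.univ.erase (⟨fun _ => 1, Helper79.isIrrCharacter_one⟩ : IrrCharacter X),
        n φ * (charDegree (φ : X → ℂ) : ℤ) = 1 := by
  classical
  set P : IrrCharacter X := ⟨fun _ => 1, Helper79.isIrrCharacter_one⟩ with hP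
  set s : Finset (IrrCharacter X) := Finset.univ.erase P with hs
  let f : IrrCharacter X → ℤ := fun φ => (charDegree (φ : X → ℂ) : ℤ)
  obtain ⟨g, hg⟩ := Finset.gcd_eq_sum_mul s f
  have hsum : (∑ φ ∈ s, f φ * f φ) = (Nat.card X : ℤ) - 1 := by
    have h1 := tf_sum_degree_sq_nat (X := X)
    have h2 := Finset.add_sum_erase Finset.univ
      (fun φ : IrrCharacter X => charDegree (φ : X → ℂ) * charDegree (φ : X → ℂ))
      (Finset.mem_univ P)
    have hP1 : charDegree (P : X → ℂ) = 1 := by simp [hP, charDegree]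
    rw [hP1] at h2
    have h3 : (1 : ℤ) + ∑ φ ∈ s, f φ * f φ = (Nat.card X : ℤ) := by
      rw [← h1, ← h2]
      push_cast
      rfl
    linarith
  have hcard : 1 < Nat.card X := Finite.one_lt_card
  have hne : s.Nonempty := by
    by_contra hcon
    rw [Finset.not_nonempty_iff_eq_empty] at hcon
    rw [hcon, Finset.sum_empty] at hsum
    have : (Nat.card X : ℤ) = 1 := by linarith
    have : Nat.card X = 1 := by exact_mod_cast this
    omega
  obtain ⟨φ₁, hφ₁⟩ := hne
  have hd1 : s.gcd f ∣ (Nat.card X : ℤ) := by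
    refine (Finset.gcd_dvd hφ₁).trans ?_
    have := Helper80.IsIrrCharacter.charDegree_dvd_card φ₁.2
    show ((charDegree (φ₁ : X → ℂ) : ℕ) : ℤ) ∣ (Nat.card X : ℤ)
    exact_mod_cast this
  have hd2 : s.gcd f ∣ (Nat.card X : ℤ) - 1 := by
    rw [← hsum]
    exact Finset.dvd_sum (fun φ hφ => Dvd.dvd.mul_right (Finset.gcd_dvd hφ) _)
  have hd3 : s.gcd f ∣ 1 := by
    have := dvd_sub hd1 hd2
    simpa using this
  have hnn : 0 ≤ s.gcd f := by
    have := Finset.normalize_gcd (s := s) (f := f)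
    exact Int.nonneg_of_normalize_eq_self this
  have h1 : s.gcd f = 1 := Int.eq_one_of_dvd_one hnn hd3
  refine ⟨g, ?_⟩
  rw [← h1, hg]
  exact Finset.sum_congr rfl (fun φ _ => mul_comm _ _)

end Generic2

section FrobNormal

variable {N : Type u} [Group N] [Fintype N] {K : Subgroup N} [hK : K.Normal]

theorem tf_hcls (hC : ∀ n ∈ K, n ≠ 1 → Subgroup.centralizer ({n} : Set N) ≤ K) :
    ∀ g : N, g ∉ K → ∀ k : K,
      IsConj (⟨g * k * g⁻¹, hK.conj_mem (k : N) k.2 g⟩ : K) k → k = 1 := by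
  intro g hg k hc
  by_contra hk1
  have hk1' : (k : N) ≠ 1 := fun h => hk1 (Subtype.ext h)
  rw [isConj_iff] at hc
  obtain ⟨u, hu⟩ := hc
  have hu' : (u : N) * (g * k * g⁻¹) * (u : N)⁻¹ = k := congrArg Subtype.val hu
  have hmem : (u : N) * g ∈ Subgroup.centralizer ({(k : N)} : Set N) := by
    rw [Subgroup.mem_centralizer_singleton_iff]
    have e1 : ((u : N) * g) * k = ((u : N) * (g * k * g⁻¹) * (u : N)⁻¹) * ((u : N) * g) := by
      group
    rw [e1, hu']
  have := hC k k.2 hk1' hmem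
  apply hg
  have h2 := K.mul_mem (K.inv_mem u.2) this
  simpa using h2

/-- A non-principal irreducible character of `K` induces to an irreducible character of `N`
whose kernel does not contain `K`. -/
theorem tf_ind_relevant (hC : ∀ n ∈ K, n ≠ 1 → Subgroup.centralizer ({n} : Set N) ≤ K)
    {φ : K → ℂ} (hφ : IsIrrCharacter K φ) (hφ1 : φ ≠ fun _ => 1) :
    IsIrrCharacter N (indFun K φ) ∧ ∃ k ∈ K, indFun K φ k ≠ indFun K φ 1 := by
  classical
  let _ : Fintype K := Fintype.ofFinite K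
  have hirr : IsIrrCharacter N (indFun K φ) := ii_indFun_isIrr (tf_hcls hC) hφ hφ1
  refine ⟨hirr, ?_⟩
  by_contra hcon
  push Not at hcon
  have h1 : classInner (indFun K φ) (indFun K φ) = 1 :=
    Helper74.irr_inner_self (⟨indFun K φ, hirr⟩ : IrrCharacter N)
  rw [Helper15.frobenius_reciprocity' K φ (indFun K φ)
    (Helper15.isClassFunction_indFun K φ)] at h1
  have h2 : (fun k : K => indFun K φ (k : N)) = (indFun K φ 1) • (fun _ : K => (1 : ℂ)) := by
    funext k
    rw [hcon k k.2]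
    simp
  rw [h2, Helper15.classInner_smul_left] at h1
  have h3 : classInner (fun _ : K => (1 : ℂ)) φ = 0 := by
    have hne : (⟨fun _ => 1, Helper79.isIrrCharacter_one⟩ : IrrCharacter K) ≠ ⟨φ, hφ⟩ := by
      intro h
      exact hφ1 (congrArg Subtype.val h).symm
    have h5 := Helper74.irr_inner_ne hne
    exact h5
  have h4 : indFun K φ 1 * classInner (fun _ : K => (1 : ℂ)) φ = 1 := h1
  rw [h3, mul_zero] at h4
  exact zero_ne_one h4

end FrobNormal

section Coherent

variable {G : Type u} [Group G] [Fintype G] (K : Subgroup G)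

/-- The irreducible characters of the normalizer of `K` whose kernel does not contain `K`. -/
def tfS : Set (↥(Subgroup.normalizer (K : Set G)) → ℂ) :=
  {χ | IsIrrCharacter ↥(Subgroup.normalizer (K : Set G)) χ ∧
    ∃ k : ↥(Subgroup.normalizer (K : Set G)), (k : G) ∈ K ∧ χ k ≠ χ 1}

variable {K}

theorem tf_hC' (hC : ∀ k ∈ K, k ≠ 1 → Subgroup.centralizer ({k} : Set G) ≤ K) :
    ∀ n ∈ K.subgroupOf (Subgroup.normalizer (K : Set G)), n ≠ 1 →
      Subgroup.centralizer ({n} : Set ↥(Subgroup.normalizer (K : Set G)))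
        ≤ K.subgroupOf (Subgroup.normalizer (K : Set G)) := by
  intro n hn hn1 x hx
  rw [Subgroup.mem_subgroupOf] at hn ⊢
  have hn1' : (n : G) ≠ 1 := fun h => hn1 (Subtype.ext h)
  apply hC n hn hn1'
  rw [Subgroup.mem_centralizer_singleton_iff] at hx ⊢
  exact_mod_cast congrArg Subtype.val hx

variable [Fintype ↥(Subgroup.normalizer (K : Set G))]

theorem tf_mem_induced (hC : ∀ k ∈ K, k ≠ 1 → Subgroup.centralizer ({k} : Set G) ≤ K)
    {χ : ↥(Subgroup.normalizer (K : Set G)) → ℂ} (hχ : χ ∈ tfS K) :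
    ∃ φ : ↥(K.subgroupOf (Subgroup.normalizer (K : Set G))) → ℂ,
      IsIrrCharacter _ φ ∧ χ = indFun (K.subgroupOf (Subgroup.normalizer (K : Set G))) φ := by
  obtain ⟨hirr, k, hk, hne⟩ := hχ
  exact ii_exists_induced (tf_hC' hC) hirr ⟨k, Subgroup.mem_subgroupOf.mpr hk, hne⟩

theorem tf_vanish (hC : ∀ k ∈ K, k ≠ 1 → Subgroup.centralizer ({k} : Set G) ≤ K)
    {χ : ↥(Subgroup.normalizer (K : Set G)) → ℂ} (hχ : χ ∈ tfS K)
    (x : ↥(Subgroup.normalizer (K : Set G))) (hx : (x : G) ∉ K) : χ x = 0 := by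
  obtain ⟨φ, _, rfl⟩ := tf_mem_induced hC hχ
  exact Helper15.indFun_normal_of_not_mem _ φ (fun h => hx (Subgroup.mem_subgroupOf.mp h))

theorem tf_isClassFunction {χ : ↥(Subgroup.normalizer (K : Set G)) → ℂ} (hχ : χ ∈ tfS K) :
    IsClassFunction _ χ :=
  Helper74.isClassFunction_of_isCharacter (Helper74.isCharacter_of_isIrr hχ.1)

omit [Fintype ↥(Subgroup.normalizer (K : Set G))] in
theorem tf_alpha_mem {χ χ' : ↥(Subgroup.normalizer (K : Set G)) → ℂ} (hχ : χ ∈ tfS K)
    (hχ' : χ' ∈ tfS K) {d d' : ℤ} (hd : χ 1 = d) (hd' : χ' 1 = d') :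
    d' • χ - d • χ' ∈ zspanOn (tfS K) ({1}ᶜ : Set ↥(Subgroup.normalizer (K : Set G))) := by
  refine ⟨?_, ?_⟩
  · exact Submodule.sub_mem _ (Submodule.smul_mem _ _ (Submodule.subset_span hχ))
      (Submodule.smul_mem _ _ (Submodule.subset_span hχ'))
  · intro x hx
    have hx1 : x = 1 := by simpa using hx
    subst hx1
    rw [Pi.sub_apply, Pi.smul_apply, Pi.smul_apply, zsmul_eq_mul, zsmul_eq_mul, hd, hd']
    ring

/-- If `ψ` is a class function of `G` and `β` a class function of the normalizer such that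
`⟨ψ, α^G⟩ = ⟨β, α⟩` for all integer combinations `α` of relevant characters vanishing at `1`,
then `ψ - β` is constant on `K \ {1}`. -/
theorem tf_const {ψ : G → ℂ} (hψ : IsClassFunction G ψ)
    {β : ↥(Subgroup.normalizer (K : Set G)) → ℂ} (hβ : IsClassFunction _ β)
    (h : ∀ α ∈ zspanOn (tfS K) ({1}ᶜ : Set ↥(Subgroup.normalizer (K : Set G))),
      classInner ψ (indFun (Subgroup.normalizer (K : Set G)) α) = classInner β α) :
    ∃ T : ℂ, ∀ k : ↥(Subgroup.normalizer (K : Set G)), (k : G) ∈ K → k ≠ 1 → ψ k - β k = T := by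
  have hΔ : IsClassFunction ↥(Subgroup.normalizer (K : Set G))
      ((fun x : ↥(Subgroup.normalizer (K : Set G)) => ψ x) - β) := by
    refine Helper74.isClassFunction_sub ?_ hβ
    intro g x
    exact hψ g x
  obtain ⟨T, hT⟩ := tf_key (K.subgroupOf (Subgroup.normalizer (K : Set G))) hΔ (by
    intro ζ ζ' hζ hζ'
    obtain ⟨d, _, hd⟩ := fk_irr_apply_one ζ
    obtain ⟨d', _, hd'⟩ := fk_irr_apply_one ζ'
    have hζS : (ζ : ↥(Subgroup.normalizer (K : Set G)) → ℂ) ∈ tfS K := by
      obtain ⟨k, hk, hne⟩ := hζ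
      exact ⟨ζ.2, k, Subgroup.mem_subgroupOf.mp hk, hne⟩
    have hζ'S : (ζ' : ↥(Subgroup.normalizer (K : Set G)) → ℂ) ∈ tfS K := by
      obtain ⟨k, hk, hne⟩ := hζ'
      exact ⟨ζ'.2, k, Subgroup.mem_subgroupOf.mp hk, hne⟩
    have hmem := tf_alpha_mem hζS hζ'S (d := (d : ℤ)) (d' := (d' : ℤ))
      (by rw [hd]; simp) (by rw [hd']; simp)
    have heq : ((ζ' : ↥(Subgroup.normalizer (K : Set G)) → ℂ) 1) •
          (ζ : ↥(Subgroup.normalizer (K : Set G)) → ℂ)
        - ((ζ : ↥(Subgroup.normalizer (K : Set G)) → ℂ) 1) •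
          (ζ' : ↥(Subgroup.normalizer (K : Set G)) → ℂ)
        = (d' : ℤ) • (ζ : ↥(Subgroup.normalizer (K : Set G)) → ℂ)
          - (d : ℤ) • (ζ' : ↥(Subgroup.normalizer (K : Set G)) → ℂ) := by
      funext x
      rw [Pi.sub_apply, Pi.smul_apply, Pi.smul_apply, Pi.sub_apply, Pi.smul_apply, Pi.smul_apply,
        zsmul_eq_mul, zsmul_eq_mul, smul_eq_mul, smul_eq_mul, hd, hd']
      push_cast
      ring
    rw [heq, Helper15.classInner_sub_left, ← h _ hmem,
      Helper15.frobenius_reciprocity' _ _ ψ hψ, sub_self])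
  refine ⟨T, fun k hk hk1 => ?_⟩
  have := hT k (Subgroup.mem_subgroupOf.mpr hk) hk1
  simpa using this

end Coherent

section ConstInt

variable {X : Type u} [Group X] [Fintype X]

/-- If `A - B - C` (three characters) is constant `= T` off the identity of a non-trivial group,
then `T` is an integer. -/
theorem tf_const_int (hX : Nontrivial X) {A B C : X → ℂ} (hA : IsCharacter X A)
    (hB : IsCharacter X B) (hC : IsCharacter X C) {T : ℂ}
    (hT : ∀ x : X, x ≠ 1 → A x - B x - C x = T) : ∃ t : ℤ, T = t := by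
  classical
  obtain ⟨x₀, hx₀⟩ := exists_ne (1 : X)
  have hint : IsIntegral ℤ T := by
    rw [← hT x₀ hx₀]
    exact ((tf_isIntegral_character hA x₀).sub (tf_isIntegral_character hB x₀)).sub
      (tf_isIntegral_character hC x₀)
  obtain ⟨a, ha⟩ := tf_sum_character hA
  obtain ⟨b, hb⟩ := tf_sum_character hB
  obtain ⟨c, hc⟩ := tf_sum_character hC
  obtain ⟨nA, hnA⟩ := Helper74.isCharacter_apply_one hA
  obtain ⟨nB, hnB⟩ := Helper74.isCharacter_apply_one hB
  obtain ⟨nC, hnC⟩ := Helper74.isCharacter_apply_one hC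
  have hcard : 1 < Nat.card X := Finite.one_lt_card
  have hsum : ∑ x : X, (A x - B x - C x)
      = (A 1 - B 1 - C 1) + ((Nat.card X : ℂ) - 1) * T := by
    rw [← Finset.add_sum_erase Finset.univ _ (Finset.mem_univ (1 : X))]
    congr 1
    rw [Finset.sum_congr rfl (fun x hx => hT x (Finset.ne_of_mem_erase hx)), Finset.sum_const,
      Finset.card_erase_of_mem (Finset.mem_univ _), Finset.card_univ, nsmul_eq_mul,
      ← Nat.card_eq_fintype_card, Nat.cast_sub hcard.le]
    simp
  rw [Finset.sum_sub_distrib, Finset.sum_sub_distrib, ha, hb, hc, hnA, hnB, hnC] at hsum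
  have hne : ((Nat.card X : ℂ) - 1) ≠ 0 := by
    intro h
    have h2 : (Nat.card X : ℂ) = 1 := by linear_combination h
    have h3 : Nat.card X = 1 := by exact_mod_cast h2
    omega
  have hTq : T = ((((Nat.card X : ℚ) * a - (Nat.card X : ℚ) * b - (Nat.card X : ℚ) * c
      - ((nA : ℚ) - nB - nC)) / ((Nat.card X : ℚ) - 1) : ℚ) : ℂ) := by
    push_cast
    rw [eq_div_iff hne]
    linear_combination -hsum
  exact tf_int_of_rat_integral _ hTq hint

end ConstInt

end Cfsg.Agent.Helper75
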