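import Cfsg.Agent.Helper75.CAParity

/-!
# Column and row relations for a family of exceptional characters (helper75)
-/

set_option autoImplicit false

namespace Cfsg.Agent.Helper75

open Cfsg
open scoped ComplexConjugate

universe u

section Column

variable {G : Type u} [Group G] [Fintype G] [Fintype (IrrCharacter G)]

/-- Column orthogonality on `K \ {1}`: few irreducible characters outside the family attached to
`K` are non-zero on `K \ {1}`. -/
theorem ca_column {K : Subgroup G} {ε c : ℤ} (D : ExcData K ε c)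
    (hcent : ∀ k ∈ Ksharp K, Nat.card (Subgroup.centralizer ({k} : Set G)) = Nat.card K)
    (U : Finset (IrrCharacter G))
    (hU : ∀ ψ ∈ U, (ψ : G → ℂ) ∉ excFam K ∧
      ψ ≠ ⟨fun _ => 1, Helper79.isIrrCharacter_one⟩ ∧
      ∃ u : ℤ, u ≠ 0 ∧ ∀ k ∈ Ksharp K, (ψ : G → ℂ) k = u) :
    (U.card : ℤ) ≤ (caE K : ℤ) - 1 + 2 * ε * c - (caT K : ℤ) * c ^ 2 := by
  classical
  set ψ₀ : IrrCharacter G := ⟨fun _ => 1, Helper79.isIrrCharacter_one⟩ with hψ₀
  set m : ℤ := (Nat.card K : ℤ) with hm
  set e : ℤ := (caE K : ℤ) with he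
  set t : ℤ := (caT K : ℤ) with htdef
  have hs2 : ∀ ψ ∈ excFam K, ∑ k ∈ Ksharp K, ψ k * conj (ψ k)
      = ((e * m - e ^ 2 - 2 * ε * c * e + c ^ 2 * (m - 1) : ℤ) : ℂ) := D.sum2
  have hcardK : ((Ksharp K).card : ℤ) = m - 1 := by
    have := card_Ksharp K
    have h2 : ((Ksharp K).card : ℤ) + 1 = m := by rw [hm]; exact_mod_cast this
    linarith
  -- the real version of the sums
  let r : IrrCharacter G → ℝ := fun ψ => ∑ k ∈ Ksharp K, Complex.normSq ((ψ : G → ℂ) k)
  have hr : ∀ ψ : IrrCharacter G, ((r ψ : ℝ) : ℂ)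
      = ∑ k ∈ Ksharp K, (ψ : G → ℂ) k * conj ((ψ : G → ℂ) k) := by
    intro ψ
    simp only [r]
    rw [Complex.ofReal_sum]
    exact Finset.sum_congr rfl (fun k _ => (Complex.mul_conj _).symm)
  have hr0 : ∀ ψ, 0 ≤ r ψ := fun ψ => Finset.sum_nonneg (fun k _ => Complex.normSq_nonneg _)
  -- total
  have htotal : ∑ ψ : IrrCharacter G, r ψ = (((m - 1) * m : ℤ) : ℝ) := by
    have h1 : ((∑ ψ : IrrCharacter G, r ψ : ℝ) : ℂ) = (((m - 1) * m : ℤ) : ℂ) := by
      rw [Complex.ofReal_sum, Finset.sum_congr rfl (fun ψ _ => hr ψ), Finset.sum_comm]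
      have : ∀ k ∈ Ksharp K, ∑ ψ : IrrCharacter G, (ψ : G → ℂ) k * conj ((ψ : G → ℂ) k)
          = (m : ℂ) := by
        intro k hk
        have h := Helper74.second_orthogonality (G := G) k k
        rw [if_pos (IsConj.refl k), hcent k hk] at h
        rw [h, hm]
        push_cast; rfl
      rw [Finset.sum_congr rfl this, Finset.sum_const, nsmul_eq_mul]
      have h3 : ((Ksharp K).card : ℂ) = ((m - 1 : ℤ) : ℂ) := by exact_mod_cast hcardK
      rw [h3]
      push_cast; ring
    have h2 : ((∑ ψ : IrrCharacter G, r ψ : ℝ) : ℂ) = ((((m - 1) * m : ℤ) : ℝ) : ℂ) := by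
      rw [h1]; push_cast; ring
    exact_mod_cast h2
  -- pointwise lower bound
  have hlow : ∀ ψ : IrrCharacter G,
      (if ψ = ψ₀ then ((m - 1 : ℤ) : ℝ) else 0)
        + (if (ψ : G → ℂ) ∈ excFam K then
            ((e * m - e ^ 2 - 2 * ε * c * e + c ^ 2 * (m - 1) : ℤ) : ℝ) else 0)
        + (if ψ ∈ U then ((m - 1 : ℤ) : ℝ) else 0) ≤ r ψ := by
    intro ψ
    by_cases h0 : ψ = ψ₀
    · have h1 : (ψ : G → ℂ) ∉ excFam K := by rw [h0]; exact ca_one_not_mem_excFam K
      have h2 : ψ ∉ U := fun h => (hU ψ h).2.1 h0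
      rw [if_pos h0, if_neg h1, if_neg h2, add_zero, add_zero]
      have : r ψ = ((m - 1 : ℤ) : ℝ) := by
        simp only [r]
        rw [h0]
        simp only [hψ₀, map_one, Finset.sum_const, nsmul_eq_mul, mul_one]
        exact_mod_cast hcardK
      rw [this]
    · by_cases h1 : (ψ : G → ℂ) ∈ excFam K
      · have h2 : ψ ∉ U := fun h => (hU ψ h).1 h1
        rw [if_neg h0, if_pos h1, if_neg h2, zero_add, add_zero]
        have h3 : ((r ψ : ℝ) : ℂ) = ((((e * m - e ^ 2 - 2 * ε * c * e + c ^ 2 * (m - 1) : ℤ) : ℤ)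
            : ℝ) : ℂ) := by
          rw [hr ψ, hs2 _ h1]; push_cast; ring
        have h4 : r ψ = (((e * m - e ^ 2 - 2 * ε * c * e + c ^ 2 * (m - 1) : ℤ) : ℤ) : ℝ) := by
          exact_mod_cast h3
        rw [h4]
      · by_cases h2 : ψ ∈ U
        · rw [if_neg h0, if_neg h1, if_pos h2, zero_add, zero_add]
          obtain ⟨_, _, u, hu0, hu⟩ := hU ψ h2
          have h3 : r ψ = ((m - 1 : ℤ) : ℝ) * ((u : ℝ) ^ 2) := by
            simp only [r]
            have : ∀ k ∈ Ksharp K, Complex.normSq ((ψ : G → ℂ) k) = (u : ℝ) ^ 2 := by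
              intro k hk
              rw [hu k hk]
              have : ((u : ℤ) : ℂ) = ((u : ℝ) : ℂ) := by push_cast; rfl
              rw [this, Complex.normSq_ofReal]
              ring
            rw [Finset.sum_congr rfl this, Finset.sum_const, nsmul_eq_mul]
            have : ((Ksharp K).card : ℝ) = ((m - 1 : ℤ) : ℝ) := by exact_mod_cast hcardK
            rw [this]
          rw [h3]
          have hu1 : (1 : ℝ) ≤ (u : ℝ) ^ 2 := by
            have : (1 : ℤ) ≤ u ^ 2 := by
              have : u ≤ -1 ∨ 1 ≤ u := by omega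
              rcases this with h | h <;> nlinarith
            exact_mod_cast this
          have hm1 : (0 : ℝ) ≤ ((m - 1 : ℤ) : ℝ) := by
            have : (0 : ℤ) ≤ m - 1 := by rw [← hcardK]; positivity
            exact_mod_cast this
          nlinarith
        · rw [if_neg h0, if_neg h1, if_neg h2, zero_add, zero_add]
          exact hr0 ψ
  have hsumlow := Finset.sum_le_sum (fun ψ (_ : ψ ∈ (Finset.univ : Finset (IrrCharacter G))) =>
    hlow ψ)
  rw [Finset.sum_add_distrib, Finset.sum_add_distrib, Finset.sum_ite_eq' Finset.univ ψ₀,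
    if_pos (Finset.mem_univ _), ← Finset.sum_filter, ← Finset.sum_filter, Finset.sum_const,
    Finset.sum_const, nsmul_eq_mul, nsmul_eq_mul, ca_card_filter_excFam K, htotal,
    Finset.filter_mem_eq_inter, Finset.univ_inter] at hsumlow
  have hZ : (m - 1) + t * (e * m - e ^ 2 - 2 * ε * c * e + c ^ 2 * (m - 1))
      + (U.card : ℤ) * (m - 1) ≤ (m - 1) * m := by
    rw [htdef]
    exact_mod_cast hsumlow
  have hcount : t * e = m - 1 := by
    have := D.count
    have h2 : (caT K : ℤ) * (caE K : ℤ) + 1 = (Nat.card K : ℤ) := by exact_mod_cast this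
    linarith
  have hm3 : (3 : ℤ) ≤ m := by rw [hm]; exact_mod_cast ca_card_ge_three D
  have hkey : (m - 1) * (1 + (m - e - 2 * ε * c + t * c ^ 2) + (U.card : ℤ)) ≤ (m - 1) * m := by
    have : t * (e * m - e ^ 2 - 2 * ε * c * e + c ^ 2 * (m - 1))
        = (m - 1) * (m - e - 2 * ε * c + t * c ^ 2) := by
      linear_combination (m - e - 2 * ε * c) * hcount
    rw [this] at hZ
    linarith
  have := le_of_mul_le_mul_left hkey (by linarith)
  linarith

end Column

section Row

variable {G : Type u} [Group G] [Fintype G]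

open Classical in
/-- The non-identity elements with no conjugate in `K`. -/
noncomputable def Krest (K : Subgroup G) : Finset G :=
  Finset.univ.filter (fun g => g ≠ 1 ∧ g ∉ Kconj K)

theorem mem_Krest {K : Subgroup G} {g : G} : g ∈ Krest K ↔ g ≠ 1 ∧ g ∉ Kconj K := by
  simp [Krest]

/-- Splitting a sum over the group into the identity, the conjugates of `K \ {1}` and the rest. -/
theorem sum_split (K : Subgroup G) (F : G → ℂ) :
    ∑ g : G, F g = F 1 + ∑ g ∈ Kconj K, F g + ∑ g ∈ Krest K, F g := by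
  classical
  have hpt : ∀ g : G, F g = (if g = 1 then F g else 0) + (if g ∈ Kconj K then F g else 0)
      + (if g ∈ Krest K then F g else 0) := by
    intro g
    by_cases h1 : g = 1
    · have h2 : g ∉ Kconj K := fun h => (mem_Kconj.mp h).1 h1
      have h3 : g ∉ Krest K := fun h => (mem_Krest.mp h).1 h1
      rw [if_pos h1, if_neg h2, if_neg h3]; ring
    · by_cases h2 : g ∈ Kconj K
      · have h3 : g ∉ Krest K := fun h => (mem_Krest.mp h).2 h2
        rw [if_neg h1, if_pos h2, if_neg h3]; ring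
      · have h3 : g ∈ Krest K := mem_Krest.mpr ⟨h1, h2⟩
        rw [if_neg h1, if_neg h2, if_pos h3]; ring
  rw [Finset.sum_congr rfl (fun g _ => hpt g), Finset.sum_add_distrib, Finset.sum_add_distrib,
    Finset.sum_ite_eq' Finset.univ (1 : G), if_pos (Finset.mem_univ _), Finset.sum_ite_mem,
    Finset.univ_inter, Finset.sum_ite_mem, Finset.univ_inter]

variable {K : Subgroup G} [Fintype ↥(Subgroup.normalizer (K : Set G))]

/-- The norm of an exceptional character, split along the conjugates of `K`. -/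
theorem ca_row
    (hTI : ∀ g : G, g ∉ Subgroup.normalizer (K : Set G) → ∀ k ∈ K, g * k * g⁻¹ ∈ K → k = 1)
    {ε c : ℤ} (D : ExcData K ε c) {χ : G → ℂ} (hχ : χ ∈ excFam K) :
    ∑ g ∈ Krest K, χ g * conj (χ g) = (Nat.card G : ℂ) - χ 1 * conj (χ 1)
      - ((Subgroup.normalizer (K : Set G)).index : ℂ)
        * (((caE K : ℤ) * (Nat.card K : ℤ) - (caE K : ℤ) ^ 2 - 2 * ε * c * (caE K : ℤ)
            + c ^ 2 * ((Nat.card K : ℤ) - 1) : ℤ) : ℂ) := by
  have hcf : IsClassFunction G (fun g => χ g * conj (χ g)) := by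
    have hχcf : IsClassFunction G χ :=
      Helper74.isClassFunction_of_isCharacter (Helper74.isCharacter_of_isIrr hχ.1)
    intro g h
    simp only
    rw [hχcf g h]
  have h1 := Helper74.irr_inner_self (⟨χ, hχ.1⟩ : IrrCharacter G)
  rw [Helper15.classInner_apply] at h1
  have hG : (Nat.card G : ℂ) ≠ 0 := by
    have : Nat.card G ≠ 0 := Nat.card_pos.ne'
    exact_mod_cast this
  have h2 : ∑ g : G, χ g * conj (χ g) = (Nat.card G : ℂ) := by
    field_simp at h1
    exact h1
  rw [sum_split K, sum_Kconj hTI hcf, D.sum2 χ hχ] at h2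
  linear_combination h2

end Row

end Cfsg.Agent.Helper75
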