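import Mathlib

/-!
# A counting lemma for classes and families (helper75)
-/

set_option autoImplicit false

namespace Cfsg.Agent.Helper75

/-- If the points `y` (satisfying `P`) are grouped in classes `C y`, each carrying a family `F y`
of size at least `|C y| * A / B`, equal on a class and disjoint for different classes, then any
set `Z` of points has `|Z| * A ≤ B * |⋃_{y ∈ Z} F y|`. -/
theorem ca_class_count {α β : Type*} [DecidableEq α] [DecidableEq β] (P : α → Prop)
    (F : α → Finset β) (C : α → Finset α) (A B : ℕ)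
    (h1 : ∀ y, P y → y ∈ C y)
    (h2 : ∀ y y', P y → P y' → y' ∈ C y → F y' = F y)
    (h3 : ∀ y y', P y → P y' → y' ∉ C y → Disjoint (F y') (F y))
    (h4 : ∀ y, P y → (C y).card * A ≤ B * (F y).card) :
    ∀ Z : Finset α, (∀ y ∈ Z, P y) → Z.card * A ≤ B * (Z.biUnion F).card := by
  intro Z
  induction Z using Finset.strongInduction with
  | H Z ih =>
    intro hZ
    rcases Z.eq_empty_or_nonempty with hE | ⟨y₀, hy₀⟩
    · rw [hE]; simp
    · let Z₁ := Z.filter (fun y => y ∈ C y₀)
      let Z₂ := Z.filter (fun y => y ∉ C y₀)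
      have hPy₀ := hZ y₀ hy₀
      have hy₀1 : y₀ ∈ Z₁ := Finset.mem_filter.mpr ⟨hy₀, h1 y₀ hPy₀⟩
      have hcard : Z₁.card + Z₂.card = Z.card :=
        Finset.card_filter_add_card_filter_not (fun y => y ∈ C y₀)
      have hZ₂ss : Z₂ ⊂ Z := by
        refine Finset.ssubset_iff_subset_ne.mpr ⟨Finset.filter_subset _ _, ?_⟩
        intro h
        have : y₀ ∈ Z₂ := by rw [h]; exact hy₀
        exact (Finset.mem_filter.mp this).2 (h1 y₀ hPy₀)
      have hZ₂P : ∀ y ∈ Z₂, P y := fun y hy => hZ y (Finset.mem_filter.mp hy).1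
      have ih2 := ih Z₂ hZ₂ss hZ₂P
      have hunion : Z.biUnion F = F y₀ ∪ Z₂.biUnion F := by
        ext b
        simp only [Finset.mem_biUnion, Finset.mem_union]
        constructor
        · rintro ⟨y, hy, hb⟩
          by_cases hyC : y ∈ C y₀
          · left
            rw [← h2 y₀ y hPy₀ (hZ y hy) hyC]
            exact hb
          · right
            exact ⟨y, Finset.mem_filter.mpr ⟨hy, hyC⟩, hb⟩
        · rintro (hb | ⟨y, hy, hb⟩)
          · exact ⟨y₀, hy₀, hb⟩
          · exact ⟨y, (Finset.mem_filter.mp hy).1, hb⟩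
      have hdisj : Disjoint (F y₀) (Z₂.biUnion F) := by
        rw [Finset.disjoint_biUnion_right]
        intro y hy
        exact (h3 y₀ y hPy₀ (hZ₂P y hy) (Finset.mem_filter.mp hy).2).symm
      have hcardU : (Z.biUnion F).card = (F y₀).card + (Z₂.biUnion F).card := by
        rw [hunion, Finset.card_union_of_disjoint hdisj]
      have hZ₁le : Z₁.card ≤ (C y₀).card := by
        apply Finset.card_le_card
        intro y hy
        exact (Finset.mem_filter.mp hy).2
      have h4' := h4 y₀ hPy₀
      calc Z.card * A = Z₁.card * A + Z₂.card * A := by rw [← hcard]; ring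
        _ ≤ (C y₀).card * A + B * (Z₂.biUnion F).card :=
            Nat.add_le_add (Nat.mul_le_mul_right _ hZ₁le) ih2
        _ ≤ B * (F y₀).card + B * (Z₂.biUnion F).card := Nat.add_le_add_right h4' _
        _ = B * (Z.biUnion F).card := by rw [hcardU]; ring

end Cfsg.Agent.Helper75
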