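import Cfsg.Agent.Helper75.CAIneq
import Cfsg.Agent.Helper75.CAClassCount

/-!
# Suzuki's CA-theorem: a CA-group of odd order has a non-principal linear character (helper75)
-/

set_option autoImplicit false

namespace Cfsg.Agent.Helper75

open Cfsg
open scoped ComplexConjugate

universe u

/-- Final arithmetic step of the CA-theorem. -/
theorem ca_final_arith (g idx e m t d nz zc uc ε c : ℤ) (hε : ε = 1 ∨ ε = -1)
    (hg : g = idx * (e * m)) (hm : m = t * e + 1) (ht : 2 ≤ t) (he : 1 ≤ e) (hidx : 1 ≤ idx)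
    (hd : 1 ≤ d)
    (hsplit : g - 1 = idx * (m - 1) + nz + zc)
    (hnz : nz ≤ g - d ^ 2 - idx * (e * m - e ^ 2 - 2 * ε * c * e + c ^ 2 * (m - 1)))
    (hz : zc * (2 * e + 1) ≤ g * uc)
    (huc : uc ≤ e - 1 + 2 * ε * c - t * c ^ 2) : d = 1 := by
  set q : ℤ := 2 * ε * c - t * c ^ 2 with hq
  have hq0 : q ≤ 0 := by
    rcases hε with h | h
    · rw [hq, h]
      by_cases hc : c ≤ 0
      · nlinarith [sq_nonneg c]
      · push Not at hc
        nlinarith [sq_nonneg c]
    · rw [hq, h]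
      by_cases hc : 0 ≤ c
      · nlinarith [sq_nonneg c]
      · push Not at hc
        nlinarith [sq_nonneg c]
  have hJ : 1 ≤ idx * e := by nlinarith
  have hmpos : 1 ≤ m := by rw [hm]; nlinarith
  have hgpos : 0 < g := by
    rw [hg]
    have h1 : 0 < idx * e := by linarith
    have h2 : 0 < idx * e * m := mul_pos h1 (by linarith)
    linarith [mul_assoc idx e m]
  have h1 : g * uc ≤ g * (e - 1 + q) := by
    apply mul_le_mul_of_nonneg_left _ hgpos.le
    rw [hq]; linarith
  have hmain : (g - 1) * (2 * e + 1) ≤ (2 * e + 1) * (idx * (m - 1) + (g - d ^ 2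
      - idx * (e * m - e ^ 2 - 2 * ε * c * e + c ^ 2 * (m - 1)))) + g * (e - 1 + q) := by
    have h2 : (g - 1) * (2 * e + 1) = (2 * e + 1) * (idx * (m - 1) + nz) + zc * (2 * e + 1) := by
      rw [hsplit]; ring
    rw [h2]
    have h3 : (2 * e + 1) * (idx * (m - 1) + nz) ≤ (2 * e + 1) * (idx * (m - 1) + (g - d ^ 2
      - idx * (e * m - e ^ 2 - 2 * ε * c * e + c ^ 2 * (m - 1)))) := by
      apply mul_le_mul_of_nonneg_left _ (by linarith)
      linarith
    linarith
  have hid : (2 * e + 1) * (idx * (m - 1) + (g - d ^ 2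
      - idx * (e * m - e ^ 2 - 2 * ε * c * e + c ^ 2 * (m - 1)))) + g * (e - 1 + q)
      - (g - 1) * (2 * e + 1)
      = (2 * e + 1) * (1 - d ^ 2) - (idx * e) * ((t - 2) * (e ^ 2 - 1))
        + (idx * e) * (q * (2 * e + 1 + m)) := by
    rw [hg, hm, hq]
    ring
  have hA : 0 ≤ (idx * e) * ((t - 2) * (e ^ 2 - 1)) := by
    apply mul_nonneg (by linarith)
    apply mul_nonneg (by linarith)
    nlinarith
  have hB : (idx * e) * (q * (2 * e + 1 + m)) ≤ 0 := by
    apply mul_nonpos_of_nonneg_of_nonpos (by linarith)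
    apply mul_nonpos_of_nonpos_of_nonneg hq0
    linarith
  have hfin : (2 * e + 1) * (d ^ 2 - 1) ≤ 0 := by nlinarith
  have hd2 : d ^ 2 ≤ 1 := by
    by_contra hcon
    push Not at hcon
    have : 0 < (2 * e + 1) * (d ^ 2 - 1) := by
      apply mul_pos (by linarith) (by linarith)
    linarith
  nlinarith

section Conj

variable {G : Type u} [Group G]

/-- The family attached to a conjugate subgroup is the same. -/
theorem excFam_conj {K K' : Subgroup G} (h : G) (hKK' : ∀ a : G, a ∈ K' ↔ h⁻¹ * a * h ∈ K) :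
    excFam K' = excFam K := by
  ext θ
  constructor
  · rintro ⟨hθ, a, ha, b, hb, ha1, hb1, hne⟩
    have hcf : IsClassFunction G θ :=
      Helper74.isClassFunction_of_isCharacter (Helper74.isCharacter_of_isIrr hθ)
    refine ⟨hθ, h⁻¹ * a * h, (hKK' a).mp ha, h⁻¹ * b * h, (hKK' b).mp hb, ?_, ?_, ?_⟩
    · intro hc
      apply ha1
      have : a = h * (h⁻¹ * a * h) * h⁻¹ := by group
      rw [this, hc]; group
    · intro hc
      apply hb1
      have : b = h * (h⁻¹ * b * h) * h⁻¹ := by group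
      rw [this, hc]; group
    · have e1 := hcf a h⁻¹
      have e2 := hcf b h⁻¹
      rw [inv_inv] at e1 e2
      rw [e1, e2]
      exact hne
  · rintro ⟨hθ, a, ha, b, hb, ha1, hb1, hne⟩
    have hcf : IsClassFunction G θ :=
      Helper74.isClassFunction_of_isCharacter (Helper74.isCharacter_of_isIrr hθ)
    refine ⟨hθ, h * a * h⁻¹, (hKK' _).mpr (by
        have : h⁻¹ * (h * a * h⁻¹) * h = a := by group
        rw [this]; exact ha), h * b * h⁻¹, (hKK' _).mpr (by
        have : h⁻¹ * (h * b * h⁻¹) * h = b := by group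
        rw [this]; exact hb), ?_, ?_, ?_⟩
    · intro hc
      apply ha1
      have : a = h⁻¹ * (h * a * h⁻¹) * h := by group
      rw [this, hc]; group
    · intro hc
      apply hb1
      have : b = h⁻¹ * (h * b * h⁻¹) * h := by group
      rw [this, hc]; group
    · rw [hcf a h, hcf b h]
      exact hne

end Conj

section CA

variable {G : Type u} [Group G] [Fintype G]

/-- The centralizer of `x`. -/
abbrev caK (x : G) : Subgroup G := Subgroup.centralizer ({x} : Set G)

omit [Fintype G] in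
theorem ca_hC (h : IsCA G) {x : G} (hx : x ≠ 1) :
    ∀ k ∈ caK x, k ≠ 1 → Subgroup.centralizer ({k} : Set G) ≤ caK x :=
  fun _ hk hk1 => (ca_centralizer_eq h hx hk1 hk).le

theorem ca_self_mem_Ksharp {x : G} (hx : x ≠ 1) : x ∈ Ksharp (caK x) :=
  mem_Ksharp.mpr ⟨ca_self_mem x, hx⟩

theorem ca_self_mem_Kconj {x : G} (hx : x ≠ 1) : x ∈ Kconj (caK x) :=
  Ksharp_subset_Kconj _ (ca_self_mem_Ksharp hx)

/-- Elements conjugate into the centralizer of `y₀` have the same family. -/
theorem ca_excFam_eq_of_mem_Kconj (h : IsCA G) {y y₀ : G} (hy₀ : y₀ ≠ 1)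
    (hy : y ∈ Kconj (caK y₀)) : excFam (caK y) = excFam (caK y₀) := by
  obtain ⟨hy1, g, hg⟩ := mem_Kconj.mp hy
  have hg1 : g * y * g⁻¹ ≠ 1 := by
    intro hc
    apply hy1
    have : y = g⁻¹ * (g * y * g⁻¹) * g := by group
    rw [this, hc]; group
  have e := ca_centralizer_eq h hy₀ hg1 hg
  symm
  apply excFam_conj g
  intro a
  show a ∈ Subgroup.centralizer ({y₀} : Set G) ↔ _
  rw [← e, ca_centralizer_conj]

/-- The sets of conjugates of the centralizers of `x` and `y` are disjoint unless `y` is conjugate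
into the centralizer of `x`. -/
theorem ca_Kconj_disjoint (h : IsCA G) {x y : G} (hx : x ≠ 1) (hy : y ≠ 1)
    (hyx : y ∉ Kconj (caK x)) : ∀ w ∈ Kconj (caK x), w ∉ Kconj (caK y) := by
  intro w hw hw'
  apply hyx
  obtain ⟨hw1, g, hg⟩ := mem_Kconj.mp hw
  obtain ⟨_, g', hg'⟩ := mem_Kconj.mp hw'
  have hconj1 : ∀ k : G, k * w * k⁻¹ ≠ 1 := by
    intro k hc
    apply hw1
    have : w = k⁻¹ * (k * w * k⁻¹) * k := by group
    rw [this, hc]; group
  have e1 := ca_centralizer_eq h hx (hconj1 g) hg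
  have e2 := ca_centralizer_eq h hy (hconj1 g') hg'
  -- y ∈ C(g' w g'⁻¹), so g'⁻¹ y g' ∈ C(w)
  have hy2 : y ∈ Subgroup.centralizer ({g' * w * g'⁻¹} : Set G) := by
    rw [e2]; exact ca_self_mem y
  rw [ca_centralizer_conj] at hy2
  refine mem_Kconj.mpr ⟨hy, g * g'⁻¹, ?_⟩
  show _ ∈ Subgroup.centralizer ({x} : Set G)
  rw [← e1, ca_centralizer_conj]
  have : g⁻¹ * (g * g'⁻¹ * y * (g * g'⁻¹)⁻¹) * g = g'⁻¹ * y * g' := by group
  rw [this]
  exact hy2

theorem ca_cent_card (h : IsCA G) {x : G} (hx : x ≠ 1) :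
    ∀ k ∈ Ksharp (caK x), Nat.card (Subgroup.centralizer ({k} : Set G)) = Nat.card (caK x) := by
  intro k hk
  obtain ⟨hkK, hk1⟩ := mem_Ksharp.mp hk
  rw [ca_centralizer_eq h hx hk1 hkK]

omit [Fintype G] in
theorem ca_caE_odd (hodd : Odd (Nat.card G)) (K : Subgroup G) : Odd (caE K) := by
  unfold caE
  have h1 : (K.subgroupOf (Subgroup.normalizer (K : Set G))).index
      ∣ Nat.card ↥(Subgroup.normalizer (K : Set G)) := Subgroup.index_dvd_card _
  have h2 : Nat.card ↥(Subgroup.normalizer (K : Set G)) ∣ Nat.card G :=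
    Subgroup.card_subgroup_dvd_card _
  exact Odd.of_dvd_nat hodd (h1.trans h2)

omit [Fintype G] in
theorem ca_card_odd (hodd : Odd (Nat.card G)) (K : Subgroup G) : Odd (Nat.card K) :=
  Odd.of_dvd_nat hodd (Subgroup.card_subgroup_dvd_card K)

/-- The number of exceptional characters is even in odd order. -/
theorem ca_caT_even (hodd : Odd (Nat.card G)) {K : Subgroup G} {ε c : ℤ} (D : ExcData K ε c) :
    Even (caT K) := by
  have h1 := D.count
  have h2 := ca_card_odd hodd K
  have h3 := ca_caE_odd hodd K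
  by_contra hne
  rw [Nat.not_even_iff_odd] at hne
  have h4 : Odd (caT K * caE K) := hne.mul h3
  have h5 : Even (caT K * caE K + 1) := h4.add_one
  rw [h1] at h5
  exact (Nat.not_even_iff_odd.mpr h2) h5

/-- Every centralizer of a non-identity element of a CA-group of odd order carries a family of
exceptional characters. -/
theorem ca_pkg (hodd : Odd (Nat.card G)) (h : IsCA G) {x : G} (hx : x ≠ 1) :
    ∃ ε c : ℤ, ExcData (caK x) ε c := by
  classical
  let _ : Fintype ↥(Subgroup.normalizer ((caK x : Subgroup G) : Set G)) := Fintype.ofFinite _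
  have hC := ca_hC h hx
  have hab : ∀ a ∈ caK x, ∀ b ∈ caK x, a * b = b * a := h x hx
  have hTI : ∀ g : G, g ∉ Subgroup.normalizer ((caK x : Subgroup G) : Set G) →
      ∀ k ∈ caK x, g * k * g⁻¹ ∈ caK x → k = 1 := fun g hg k hk hgk => ca_TI h hx g hg k hk hgk
  refine ca_exc_package' hC hab hTI ?_
  -- two relevant characters
  let K' := (caK x).subgroupOf (Subgroup.normalizer ((caK x : Subgroup G) : Set G))
  have hle : caK x ≤ Subgroup.normalizer ((caK x : Subgroup G) : Set G) := Subgroup.le_normalizer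
  have hcount := tf_count K' (fun χ' hχ' => by
    obtain ⟨k, hk, hne⟩ := hχ'
    exact tf_rel_degree hC hab ⟨χ'.2, k, Subgroup.mem_subgroupOf.mp hk, hne⟩)
  have hKK' : Nat.card K' = Nat.card (caK x) :=
    Nat.card_congr (Subgroup.subgroupOfEquivOfLe hle).toEquiv
  rw [hKK'] at hcount
  have hoddK := ca_card_odd hodd (caK x)
  have hoddE : Odd K'.index := ca_caE_odd hodd (caK x)
  have hK2 : 2 ≤ Nat.card (caK x) := by
    have : 1 < Nat.card (caK x) := by
      rw [Subgroup.one_lt_card_iff_ne_bot]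
      intro hc
      have : x ∈ caK x := ca_self_mem x
      rw [hc, Subgroup.mem_bot] at this
      exact hx this
    omega
  set r := Nat.card {χ' : IrrCharacter ↥(Subgroup.normalizer ((caK x : Subgroup G) : Set G)) //
      ∃ k ∈ K', (χ' : ↥(Subgroup.normalizer ((caK x : Subgroup G) : Set G)) → ℂ) k
        ≠ (χ' : ↥(Subgroup.normalizer ((caK x : Subgroup G) : Set G)) → ℂ) 1} with hr
  have hr2 : 2 ≤ r := by
    have hr0 : r ≠ 0 := by
      intro h0
      rw [h0] at hcount
      omega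
    have hreven : Even r := by
      by_contra hne
      rw [Nat.not_even_iff_odd] at hne
      have h4 : Odd (r * K'.index) := hne.mul hoddE
      have h5 : Even (r * K'.index + 1) := h4.add_one
      rw [hcount] at h5
      exact (Nat.not_even_iff_odd.mpr hoddK) h5
    obtain ⟨s, hs⟩ := hreven
    omega
  have hfin : Finite {χ' : IrrCharacter ↥(Subgroup.normalizer ((caK x : Subgroup G) : Set G)) //
      ∃ k ∈ K', (χ' : ↥(Subgroup.normalizer ((caK x : Subgroup G) : Set G)) → ℂ) k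
        ≠ (χ' : ↥(Subgroup.normalizer ((caK x : Subgroup G) : Set G)) → ℂ) 1} :=
    @Subtype.finite _ (Helper74.irr_finite) _
  have hnt : Nontrivial {χ' : IrrCharacter ↥(Subgroup.normalizer ((caK x : Subgroup G) : Set G)) //
      ∃ k ∈ K', (χ' : ↥(Subgroup.normalizer ((caK x : Subgroup G) : Set G)) → ℂ) k
        ≠ (χ' : ↥(Subgroup.normalizer ((caK x : Subgroup G) : Set G)) → ℂ) 1} :=
    Finite.one_lt_card_iff_nontrivial.mp (by omega)
  obtain ⟨a, b, hab'⟩ := hnt
  obtain ⟨ka, hka, hnea⟩ := a.2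
  obtain ⟨kb, hkb, hneb⟩ := b.2
  refine ⟨_, ⟨a.1.2, ka, Subgroup.mem_subgroupOf.mp hka, hnea⟩, _,
    ⟨b.1.2, kb, Subgroup.mem_subgroupOf.mp hkb, hneb⟩, ?_⟩
  intro heq
  apply hab'
  exact Subtype.ext (Subtype.ext heq)

/-- The number of non-identity elements conjugate into a T.I. subgroup. -/
theorem ca_card_Kconj {K : Subgroup G}
    (hTI : ∀ g : G, g ∉ Subgroup.normalizer (K : Set G) → ∀ k ∈ K, g * k * g⁻¹ ∈ K → k = 1) :
    (Kconj K).card = (Subgroup.normalizer (K : Set G)).index * (Ksharp K).card := by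
  let _ : Fintype ↥(Subgroup.normalizer (K : Set G)) := Fintype.ofFinite _
  have h1 := sum_Kconj hTI (f := fun _ => (1 : ℂ)) (fun _ _ => rfl)
  simp only [Finset.sum_const, nsmul_eq_mul, mul_one] at h1
  exact_mod_cast h1

omit [Fintype G] in
theorem ca_card_normalizer_nat (K : Subgroup G) :
    Nat.card ↥(Subgroup.normalizer (K : Set G)) = caE K * Nat.card K := by
  have hle : K ≤ Subgroup.normalizer (K : Set G) := Subgroup.le_normalizer
  have h1 := Subgroup.index_mul_card (K.subgroupOf (Subgroup.normalizer (K : Set G)))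
  have h2 : Nat.card (K.subgroupOf (Subgroup.normalizer (K : Set G))) = Nat.card K :=
    Nat.card_congr (Subgroup.subgroupOfEquivOfLe hle).toEquiv
  rw [h2] at h1
  unfold caE
  exact h1.symm

/-- The conjugates of a family's subgroup are few compared to the size of the family. -/
theorem ca_card_Kconj_le {K : Subgroup G}
    (hTI : ∀ g : G, g ∉ Subgroup.normalizer (K : Set G) → ∀ k ∈ K, g * k * g⁻¹ ∈ K → k = 1)
    {ε c : ℤ} (D : ExcData K ε c) {e : ℕ} (he : e ≤ caE K) :
    (Kconj K).card * (2 * e + 1) ≤ Nat.card G * caT K := by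
  have h1 := ca_card_Kconj hTI
  have h2 := card_Ksharp K
  have h3 := D.count
  have h4 := D.two
  have h5 := ca_card_normalizer_nat K
  have h6 := Subgroup.index_mul_card (Subgroup.normalizer (K : Set G))
  have h7 : (Ksharp K).card = caT K * caE K := by omega
  rw [h1, h7, ← h6, h5, ← h3]
  set idx := (Subgroup.normalizer (K : Set G)).index
  set t := caT K
  set f := caE K
  have h8 : 2 * e + 1 ≤ t * f + 1 := by nlinarith
  calc idx * (t * f) * (2 * e + 1) ≤ idx * (t * f) * (t * f + 1) := Nat.mul_le_mul_left _ h8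
    _ = idx * (f * (t * f + 1)) * t := by ring

/-- **Suzuki's CA-theorem, character-theoretic core**: a non-trivial CA-group of odd order has a
non-principal irreducible character of degree one. -/
theorem ca_exists_linear (hodd : Odd (Nat.card G)) (h : IsCA G) (hnt : Nontrivial G) :
    ∃ χ : G → ℂ, IsIrrCharacter G χ ∧ χ 1 = 1 ∧ ∃ a b : G, χ a ≠ χ b := by
  classical
  let _ := Helper74.irrFintype G
  obtain ⟨x₁, hx₁⟩ := exists_ne (1 : G)
  have hne : (Finset.univ.filter (fun x : G => x ≠ 1)).Nonempty :=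
    ⟨x₁, Finset.mem_filter.mpr ⟨Finset.mem_univ _, hx₁⟩⟩
  obtain ⟨x₀, hx₀mem, hmin⟩ := Finset.exists_min_image _ (fun x : G => caE (caK x)) hne
  have hx₀ : x₀ ≠ 1 := (Finset.mem_filter.mp hx₀mem).2
  have hmin' : ∀ y : G, y ≠ 1 → caE (caK x₀) ≤ caE (caK y) :=
    fun y hy => hmin y (Finset.mem_filter.mpr ⟨Finset.mem_univ _, hy⟩)
  obtain ⟨ε, c, D⟩ := ca_pkg hodd h hx₀
  have hTIall : ∀ y : G, y ≠ 1 → ∀ g : G,
      g ∉ Subgroup.normalizer ((caK y : Subgroup G) : Set G) →
      ∀ k ∈ caK y, g * k * g⁻¹ ∈ caK y → k = 1 :=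
    fun y hy g hg k hk hgk => ca_TI h hy g hg k hk hgk
  obtain ⟨χ, hχ, _⟩ := ca_exists_ne D (fun _ => 0)
  obtain ⟨d, hdpos, hd⟩ := fk_irr_apply_one (⟨χ, hχ.1⟩ : IrrCharacter G)
  have hd' : χ 1 = (d : ℂ) := hd
  refine ⟨χ, hχ.1, ?_, ?_⟩
  swap
  · obtain ⟨_, a, _, b, _, _, _, hne⟩ := hχ
    exact ⟨a, b, hne⟩
  -- the elements outside the conjugates of `K`
  have hrestdata : ∀ y ∈ Krest (caK x₀), y ≠ 1 ∧ ∃ ε' c' : ℤ, ExcData (caK y) ε' c' ∧
      (∀ w ∈ Kconj (caK x₀), w ∉ Kconj (caK y)) ∧ ∃ a : ℤ, χ y = a := by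
    intro y hy
    obtain ⟨hy1, hyK⟩ := mem_Krest.mp hy
    obtain ⟨ε', c', D'⟩ := ca_pkg hodd h hy1
    have hdisj := ca_Kconj_disjoint h hx₀ hy1 hyK
    have hnot : χ ∉ excFam (caK y) := ca_excFam_disjoint D D' hdisj hχ
    obtain ⟨a, ha⟩ := ca_const_of_not_mem hχ.1 hnot (ca_self_mem y) hy1
    exact ⟨hy1, ε', c', D', hdisj, a, ha y (ca_self_mem y) hy1⟩
  have hiv : ∀ y ∈ Krest (caK x₀), χ y = ((iv (χ y) : ℤ) : ℂ) := by
    intro y hy
    obtain ⟨_, _, _, _, _, a, ha⟩ := hrestdata y hy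
    rw [iv_eq ha, ha]
  -- row relation in integers
  let _ : Fintype ↥(Subgroup.normalizer ((caK x₀ : Subgroup G) : Set G)) := Fintype.ofFinite _
  have hrow := ca_row (hTIall x₀ hx₀) D hχ
  have hrowZ : ∑ y ∈ Krest (caK x₀), (iv (χ y)) ^ 2
      = (Nat.card G : ℤ) - (d : ℤ) ^ 2
        - ((Subgroup.normalizer ((caK x₀ : Subgroup G) : Set G)).index : ℤ)
          * ((caE (caK x₀) : ℤ) * (Nat.card (caK x₀) : ℤ) - (caE (caK x₀) : ℤ) ^ 2
              - 2 * ε * c * (caE (caK x₀) : ℤ) + c ^ 2 * ((Nat.card (caK x₀) : ℤ) - 1)) := by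
    have h1 : ∑ y ∈ Krest (caK x₀), χ y * conj (χ y)
        = ((∑ y ∈ Krest (caK x₀), (iv (χ y)) ^ 2 : ℤ) : ℂ) := by
      rw [Int.cast_sum]
      apply Finset.sum_congr rfl
      intro y hy
      rw [hiv y hy, map_intCast, iv_intCast]
      push_cast; ring
    rw [h1, hd', map_natCast] at hrow
    have h2 : ((∑ y ∈ Krest (caK x₀), (iv (χ y)) ^ 2 : ℤ) : ℂ)
        = (((Nat.card G : ℤ) - (d : ℤ) ^ 2
        - ((Subgroup.normalizer ((caK x₀ : Subgroup G) : Set G)).index : ℤ)
          * ((caE (caK x₀) : ℤ) * (Nat.card (caK x₀) : ℤ) - (caE (caK x₀) : ℤ) ^ 2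
              - 2 * ε * c * (caE (caK x₀) : ℤ) + c ^ 2 * ((Nat.card (caK x₀) : ℤ) - 1)) : ℤ) : ℂ) := by
      rw [hrow]; push_cast; ring
    exact_mod_cast h2
  -- the elements where `χ` does not vanish, and those where it does
  set NZ := (Krest (caK x₀)).filter (fun y => χ y ≠ 0) with hNZ
  set Z := (Krest (caK x₀)).filter (fun y => ¬ χ y ≠ 0) with hZ
  have hNZZ : NZ.card + Z.card = (Krest (caK x₀)).card :=
    Finset.card_filter_add_card_filter_not (fun y => χ y ≠ 0)
  have hNZle : (NZ.card : ℤ) ≤ ∑ y ∈ Krest (caK x₀), (iv (χ y)) ^ 2 := by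
    have h1 : (NZ.card : ℤ) = ∑ y ∈ NZ, (1 : ℤ) := by simp
    rw [h1]
    calc ∑ y ∈ NZ, (1 : ℤ) ≤ ∑ y ∈ NZ, (iv (χ y)) ^ 2 := by
          apply Finset.sum_le_sum
          intro y hy
          obtain ⟨hyr, hy0⟩ := Finset.mem_filter.mp hy
          have hne0 : iv (χ y) ≠ 0 := by
            intro h0
            apply hy0
            rw [hiv y hyr, h0]; simp
          have : iv (χ y) ≤ -1 ∨ 1 ≤ iv (χ y) := by omega
          rcases this with h' | h' <;> nlinarith
      _ ≤ ∑ y ∈ Krest (caK x₀), (iv (χ y)) ^ 2 := by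
          apply Finset.sum_le_sum_of_subset_of_nonneg (Finset.filter_subset _ _)
          intro y _ _
          positivity
  -- counting the group
  have hGsplit : Nat.card G = 1 + (Kconj (caK x₀)).card + (Krest (caK x₀)).card := by
    have h1 := sum_split (caK x₀) (fun _ : G => (1 : ℂ))
    simp only [Finset.sum_const, nsmul_eq_mul, mul_one, Finset.card_univ] at h1
    rw [← Nat.card_eq_fintype_card] at h1
    exact_mod_cast h1
  -- the class count
  let Fam : G → Finset (IrrCharacter G) :=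
    fun y => Finset.univ.filter (fun ψ : IrrCharacter G => (ψ : G → ℂ) ∈ excFam (caK y))
  have hcount := ca_class_count (fun y : G => y ≠ 1) Fam (fun y => Kconj (caK y))
    (2 * caE (caK x₀) + 1) (Nat.card G)
    (fun y hy => ca_self_mem_Kconj hy)
    (fun y y' hy _ hmem => by
      simp only [Fam]
      rw [ca_excFam_eq_of_mem_Kconj h hy hmem])
    (fun y y' hy hy' hnot => by
      simp only [Fam]
      rw [Finset.disjoint_filter]
      intro ψ _ hψ'
      obtain ⟨ε₁, c₁, D₁⟩ := ca_pkg hodd h hy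
      obtain ⟨ε₂, c₂, D₂⟩ := ca_pkg hodd h hy'
      have hdj := ca_Kconj_disjoint h hy hy' hnot
      exact ca_excFam_disjoint D₂ D₁ (fun g hg hg' => hdj g hg' hg) hψ')
    (fun y hy => by
      obtain ⟨ε₁, c₁, D₁⟩ := ca_pkg hodd h hy
      have := ca_card_Kconj_le (hTIall y hy) D₁ (hmin' y hy)
      simp only [Fam]
      rw [ca_card_filter_excFam]
      exact this)
    Z (fun y hy => (hrestdata y (Finset.mem_filter.mp hy).1).1)
  -- the column bound
  have hcol := ca_column D (ca_cent_card h hx₀) (Z.biUnion Fam) (by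
    intro ψ hψ
    obtain ⟨y, hyZ, hψy⟩ := Finset.mem_biUnion.mp hψ
    obtain ⟨hyr, hy0⟩ := Finset.mem_filter.mp hyZ
    have hy0' : χ y = 0 := by
      by_contra hc
      exact hy0 hc
    have hψy' : (ψ : G → ℂ) ∈ excFam (caK y) := (Finset.mem_filter.mp hψy).2
    obtain ⟨hy1, ε', c', D', hdisj, _⟩ := hrestdata y hyr
    have hnotK : (ψ : G → ℂ) ∉ excFam (caK x₀) :=
      ca_excFam_disjoint D' D (fun g hg hg' => hdisj g hg' hg) hψy'
    refine ⟨hnotK, ?_, ?_⟩
    · intro h0
      rw [h0] at hψy'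
      exact ca_one_not_mem_excFam _ hψy'
    · obtain ⟨a, b, ha, hb, hab⟩ := ca_parity hodd D D' hdisj (ca_caT_even hodd D)
        (ca_caT_even hodd D') (ca_self_mem_Ksharp hx₀) (ca_self_mem_Ksharp hy1) hχ hψy'
      have ha0 : a = 0 := by
        rw [hy0'] at ha
        exact_mod_cast ha.symm
      obtain ⟨u, hu⟩ := ca_const_of_not_mem ψ.2 hnotK (ca_self_mem x₀) hx₀
      have hub : u = b := by
        have := hu x₀ (ca_self_mem x₀) hx₀
        rw [hb] at this
        exact_mod_cast this.symm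
      refine ⟨u, ?_, fun k hk => hu k (mem_Ksharp.mp hk).1 (mem_Ksharp.mp hk).2⟩
      rw [hub]
      rw [ha0, zero_add] at hab
      intro hb0
      rw [hb0, Int.odd_iff] at hab
      omega)
  -- assemble
  have hcardKconj := ca_card_Kconj (hTIall x₀ hx₀)
  have hKsharp := card_Ksharp (caK x₀)
  have hNcard := ca_card_normalizer_nat (caK x₀)
  have hidxmul := Subgroup.index_mul_card (Subgroup.normalizer ((caK x₀ : Subgroup G) : Set G))
  have he1 : 1 ≤ caE (caK x₀) := by
    obtain ⟨s, hs⟩ := ca_caE_odd hodd (caK x₀)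
    omega
  have hidx1 : 1 ≤ (Subgroup.normalizer ((caK x₀ : Subgroup G) : Set G)).index := by
    have : (Subgroup.normalizer ((caK x₀ : Subgroup G) : Set G)).index ≠ 0 :=
      Subgroup.index_ne_zero_of_finite
    omega
  have hfinal := ca_final_arith (Nat.card G : ℤ)
    ((Subgroup.normalizer ((caK x₀ : Subgroup G) : Set G)).index : ℤ) (caE (caK x₀) : ℤ)
    (Nat.card (caK x₀) : ℤ) (caT (caK x₀) : ℤ) (d : ℤ) (NZ.card : ℤ) (Z.card : ℤ)
    ((Z.biUnion Fam).card : ℤ) ε c D.hε
    (by rw [← hidxmul, hNcard]; push_cast; ring)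
    (by have := D.count; exact_mod_cast this.symm)
    (by exact_mod_cast D.two)
    (by exact_mod_cast he1)
    (by exact_mod_cast hidx1)
    (by exact_mod_cast hdpos)
    (by
      have h1 : ((Ksharp (caK x₀)).card : ℤ) = (Nat.card (caK x₀) : ℤ) - 1 := by
        have : ((Ksharp (caK x₀)).card : ℤ) + 1 = (Nat.card (caK x₀) : ℤ) := by
          exact_mod_cast hKsharp
        linarith
      have h2 : (Nat.card G : ℤ) = 1 + ((Kconj (caK x₀)).card : ℤ)
          + ((NZ.card : ℤ) + (Z.card : ℤ)) := by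
        rw [hGsplit, ← hNZZ]; push_cast; ring
      have h3 : ((Kconj (caK x₀)).card : ℤ)
          = ((Subgroup.normalizer ((caK x₀ : Subgroup G) : Set G)).index : ℤ)
            * ((Nat.card (caK x₀) : ℤ) - 1) := by
        rw [← h1, hcardKconj]; push_cast; ring
      rw [h2, h3]; ring)
    (by rw [← hrowZ]; exact hNZle)
    (by exact_mod_cast hcount)
    hcol
  rw [hd']
  have : d = 1 := by exact_mod_cast hfinal
  rw [this]; simp

end CA

end Cfsg.Agent.Helper75
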