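import Mathlib
import Cfsg.Prelude.Def_OddOrderLocal
import Cfsg.Agent.Helper31.BG1436Lite
import Cfsg.Agent.Helper62.FrobActGroup
import Cfsg.Agent.Helper69.Nsy3

/-!
# B-G Theorem 14.4(c) (statement S1436(a)), abstract group theory part (helper75)

* `centralizes_of_frob`: a Frobenius group `F ⋊ ⟨a⟩` (`a` of prime order, f.p.f. on `F`) acting on a
  solvable subgroup `H` of coprime order with `C_H(a) = 1` has `F` centralizing `H`.
-/

set_option autoImplicit false
set_option linter.unusedVariables false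
set_option linter.unusedSectionVars false
set_option linter.style.haveILetI false

namespace Cfsg.Agent.Helper75.BG1436

open Cfsg

variable {G : Type*} [Group G] [Finite G]

/-- a non-identity element of a group `⟨a⟩` of prime order generates it -/
theorem mem_zpowers_of_mem_zpowers_prime {a e : G} {r : ℕ} (hr : r.Prime) (ha : orderOf a = r)
    (he : e ∈ Subgroup.zpowers a) (he1 : e ≠ 1) : a ∈ Subgroup.zpowers e := by
  have h1 : orderOf e = r :=
    Cfsg.Agent.Helper31.BG1436Lite.orderOf_eq_of_mem_zpowers hr ha he he1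
  have hle : Subgroup.zpowers e ≤ Subgroup.zpowers a := Subgroup.zpowers_le.2 he
  have hcard : Nat.card (Subgroup.zpowers a) ≤ Nat.card (Subgroup.zpowers e) := by
    rw [Nat.card_zpowers, Nat.card_zpowers, h1, ha]
  have := Subgroup.eq_of_le_of_card_ge hle hcard
  rw [this]
  exact Subgroup.mem_zpowers a

/-- **Frobenius action**: `F ⋊ ⟨a⟩` Frobenius, acting on a solvable `H` of coprime order with
`C_H(a) = 1`: then `F` centralizes `H`. -/
theorem centralizes_of_frob (F H : Subgroup G) (a : G) {r : ℕ} (hr : r.Prime) (ha : orderOf a = r)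
    (haF : ∀ u ∈ F, a * u * a⁻¹ ∈ F) (hfpfF : ∀ u ∈ F, a * u = u * a → u = 1)
    (hFH : ∀ f ∈ F, ∀ h ∈ H, f * h * f⁻¹ ∈ H) (haH : ∀ h ∈ H, a * h * a⁻¹ ∈ H)
    (hsolv : Group.IsSolvable H)
    (hcop : (Nat.card H).Coprime (Nat.card ↥(F ⊔ Subgroup.zpowers a)))
    (hfpfH : ∀ h ∈ H, a * h = h * a → h = 1) : H ≤ Subgroup.centralizer (F : Set G) := by
  classical
  set E : Subgroup G := Subgroup.zpowers a with hE
  have ha1 : a ≠ 1 := by
    intro h; rw [h, orderOf_one] at ha; exact hr.one_lt.ne ha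
  have hE1 : E ≠ ⊥ := by
    intro h
    have : a ∈ E := Subgroup.mem_zpowers a
    rw [h, Subgroup.mem_bot] at this; exact ha1 this
  have haNF : a ∈ Subgroup.normalizer (F : Set G) := Subgroup.mem_normalizer_fintype haF
  have haNH : a ∈ Subgroup.normalizer (H : Set G) := Subgroup.mem_normalizer_fintype haH
  have hENF : E ≤ Subgroup.normalizer (F : Set G) := Subgroup.zpowers_le.2 haNF
  have hENH : E ≤ Subgroup.normalizer (H : Set G) := Subgroup.zpowers_le.2 haNH
  have hFNH : F ≤ Subgroup.normalizer (H : Set G) :=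
    fun f hf => Subgroup.mem_normalizer_fintype (hFH f hf)
  have hUn : ∀ e ∈ E, ∀ u ∈ F, e * u * e⁻¹ ∈ F := by
    intro e he u hu
    exact (Subgroup.mem_normalizer_iff.1 (hENF he) u).1 hu
  have hcomm_of : ∀ e ∈ E, e ≠ 1 → ∀ u : G, e * u = u * e → a * u = u * a := by
    intro e he he1 u hc
    have h1 := mem_zpowers_of_mem_zpowers_prime hr ha he he1
    obtain ⟨k, hk⟩ := Subgroup.mem_zpowers_iff.1 h1
    have h2 : Commute e u := hc
    rw [← hk]
    exact (h2.zpow_left k).eq
  have hfpf : ∀ e ∈ E, e ≠ 1 → ∀ u ∈ F, e * u = u * e → u = 1 := by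
    intro e he he1 u hu hc
    exact hfpfF u hu (hcomm_of e he he1 u hc)
  have hnormH : ∀ x ∈ F ⊔ E, ∀ h ∈ H, x * h * x⁻¹ ∈ H := by
    intro x hx h hh
    have hx' : x ∈ Subgroup.normalizer (H : Set G) := (sup_le hFNH hENH) hx
    exact (Subgroup.mem_normalizer_iff.1 hx' h).1 hh
  have key := Cfsg.Agent.Helper62.FrobAct.frobenius_fixed_point_formula F E hE1 hUn hfpf
    (Nat.card H) H rfl hnormH hsolv hcop
  have hC2 : H ⊓ Subgroup.centralizer (E : Set G) = ⊥ := by
    rw [eq_bot_iff]
    intro h hh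
    rw [Subgroup.mem_bot]
    apply hfpfH h hh.1
    have := Subgroup.mem_centralizer_iff.1 hh.2 a (Subgroup.mem_zpowers a)
    exact this
  have hC1 : H ⊓ Subgroup.centralizer ((F ⊔ E : Subgroup G) : Set G) = ⊥ := by
    rw [eq_bot_iff, ← hC2]
    exact inf_le_inf_left _ (Subgroup.centralizer_le (by exact_mod_cast (le_sup_right : E ≤ F ⊔ E)))
  rw [hC1, hC2] at key
  simp only [Subgroup.card_bot, one_pow, one_mul] at key
  have h3 : H ⊓ Subgroup.centralizer (F : Set G) = H :=
    Subgroup.eq_of_le_of_card_ge inf_le_left (le_of_eq key)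
  rw [← h3]
  exact inf_le_right

end Cfsg.Agent.Helper75.BG1436
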