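import Mathlib
import Cfsg.Prelude.Def_OddOrderLocal
import Cfsg.Agent.Helper22.BG144C0
import Cfsg.Agent.Helper22.Sup
import Cfsg.Agent.Helper62.CoprimeHall
import Cfsg.Agent.Helper62.FrobActGroup
import Cfsg.Agent.Helper10.BG16ND
import Cfsg.Agent.Helper91.BGPFPlus
import Cfsg.Agent.Helper70.BG14N2
import Cfsg.Agent.Helper31.BGNoMutualTau2Main
import Cfsg.Agent.Helper31.BG1436Lite
import Cfsg.Agent.Helper60.BGAsmD
import Cfsg.Agent.Helper71.BGHall
import Cfsg.Agent.Helper29.BG10F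
import Cfsg.Agent.Helper29.BG11A
import Cfsg.Agent.S1350
import Cfsg.Agent.S1418

/-!
# B-G Theorem 14.4(c2) (statement S1376), Step 5.9 = piece (C3) (helper75)

Interface: `Cfsg/Agent/Helper22/BG144C0.lean`.  Paper proof: board posts #3885 (5.9), #3923 (d)-(f).
Under the facts of Step 5 and the outcome of 5.1-5.7 (`E = M ∩ N* ≤ N*_σ`, `U* = 1`), the case
`N*_F ≠ N*_σ` of S1437 is contradictory.
-/

set_option autoImplicit false
set_option linter.unusedVariables false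
set_option linter.unusedSectionVars false
set_option linter.style.haveILetI false
set_option maxHeartbeats 1000000

namespace Cfsg.Agent.Helper75.BG144C3

open Cfsg Cfsg.Agent.Helper29 Cfsg.Agent.Helper29.BG10 Cfsg.Agent.Helper29.BG11
  Cfsg.Agent.Helper22.BG144C

universe u

variable {G : Type u} [Group G]

/-! ### small group-theoretic helpers -/

theorem le_normalizer_of_conj_mem {W X : Subgroup G}
    (h : ∀ w ∈ W, ∀ x ∈ X, w * x * w⁻¹ ∈ X) : W ≤ Subgroup.normalizer (X : Set G) := by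
  intro w hw
  rw [Subgroup.mem_normalizer_iff]
  intro x
  constructor
  · exact h w hw x
  · intro hx
    have := h w⁻¹ (W.inv_mem hw) _ hx
    simpa [mul_assoc] using this

theorem conj_mem_of_le_normalizer {W X : Subgroup G} (h : W ≤ Subgroup.normalizer (X : Set G))
    {w x : G} (hw : w ∈ W) (hx : x ∈ X) : w * x * w⁻¹ ∈ X :=
  (Subgroup.mem_normalizer_iff.1 (h hw) x).1 hx

theorem conj_mem_sup_of {A B : Subgroup G} {w : G}
    (hA : ∀ x ∈ A, w * x * w⁻¹ ∈ A ⊔ B) (hB : ∀ x ∈ B, w * x * w⁻¹ ∈ A ⊔ B) :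
    ∀ x ∈ A ⊔ B, w * x * w⁻¹ ∈ A ⊔ B := by
  have h1 : A ⊔ B ≤ (A ⊔ B).comap (MulAut.conj w).toMonoidHom := by
    apply sup_le
    · intro x hx
      rw [Subgroup.mem_comap]
      simpa using hA x hx
    · intro x hx
      rw [Subgroup.mem_comap]
      simpa using hB x hx
  intro x hx
  have := h1 hx
  rw [Subgroup.mem_comap] at this
  simpa using this

theorem le_normalizer_sup {W A B : Subgroup G} (hA : W ≤ Subgroup.normalizer (A : Set G))
    (hB : W ≤ Subgroup.normalizer (B : Set G)) :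
    W ≤ Subgroup.normalizer ((A ⊔ B : Subgroup G) : Set G) := by
  apply le_normalizer_of_conj_mem
  intro w hw
  apply conj_mem_sup_of
  · intro x hx
    exact (le_sup_left : A ≤ A ⊔ B) (conj_mem_of_le_normalizer hA hw hx)
  · intro x hx
    exact (le_sup_right : B ≤ A ⊔ B) (conj_mem_of_le_normalizer hB hw hx)

theorem mem_centralizer_of_comm_prime_card {A : Subgroup G} {r : ℕ} (hr : r.Prime)
    (hA : Nat.card A = r) {e u : G} (he : e ∈ A) (he1 : e ≠ 1) (h : e * u = u * e) :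
    u ∈ Subgroup.centralizer (A : Set G) := by
  haveI : Fact r.Prime := ⟨hr⟩
  have htop : Subgroup.zpowers (⟨e, he⟩ : A) = ⊤ :=
    zpowers_eq_top_of_prime_card hA (fun h1 => he1 (by simpa using congrArg Subtype.val h1))
  rw [Subgroup.mem_centralizer_iff]
  intro k hk
  have hmem : (⟨k, hk⟩ : A) ∈ Subgroup.zpowers (⟨e, he⟩ : A) := by rw [htop]; trivial
  obtain ⟨n, hn⟩ := Subgroup.mem_zpowers_iff.1 hmem
  have hk' : e ^ n = k := by simpa using congrArg Subtype.val hn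
  have h1 : Commute e u := h
  rw [← hk']
  exact (h1.zpow_left n).eq

theorem le_centralizer_sup {X A B : Subgroup G} (hA : X ≤ Subgroup.centralizer (A : Set G))
    (hB : X ≤ Subgroup.centralizer (B : Set G)) :
    X ≤ Subgroup.centralizer ((A ⊔ B : Subgroup G) : Set G) := by
  rw [Subgroup.le_centralizer_iff] at hA hB ⊢
  exact sup_le hA hB

variable [Finite G]

/-- a Hall `p'`-subgroup of `S` is a complement of a normal-index-coprime `p`-subgroup -/
theorem isComplIn_of_hall {p : ℕ} (hp : p.Prime) {Q D S : Subgroup G} (hQS : Q ≤ S)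
    (hQp : IsPGroup p Q) (hQi : ¬ p ∣ Q.relIndex S)
    (hD : Cfsg.IsPiHallOf {l | l ≠ p} D S) : Cfsg.IsComplIn Q D S := by
  classical
  obtain ⟨hDS, hDπ, hDi⟩ := hD
  haveI : Fact p.Prime := ⟨hp⟩
  obtain ⟨a, ha⟩ := hQp.exists_card_eq
  have hpd : ¬ p ∣ Nat.card D := fun h => hDπ p hp h rfl
  have hcopQD : (Nat.card Q).Coprime (Nat.card D) := by
    rw [ha]; exact Nat.Coprime.pow_left _ ((Nat.Prime.coprime_iff_not_dvd hp).2 hpd)
  have h1 : Nat.card Q * Q.relIndex S = Nat.card S :=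
    Cfsg.Agent.Helper60.BGAsm.card_mul_relIndex_of_le hQS
  have h2 : Nat.card D * D.relIndex S = Nat.card S :=
    Cfsg.Agent.Helper60.BGAsm.card_mul_relIndex_of_le hDS
  have hdm : Nat.card D ∣ Q.relIndex S := by
    have h3 : Nat.card D ∣ Nat.card Q * Q.relIndex S := by
      rw [h1, ← h2]; exact dvd_mul_right _ _
    exact hcopQD.symm.dvd_of_dvd_mul_left h3
  have hcop2 : (Q.relIndex S).Coprime (D.relIndex S) := by
    apply Nat.coprime_of_dvd
    intro k hk hk1 hk2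
    by_cases hkp : k = p
    · subst hkp; exact hQi hk1
    · exact hDi k hk hkp hk2
  have hmd : Q.relIndex S ∣ Nat.card D := by
    have h3 : Q.relIndex S ∣ Nat.card D * D.relIndex S := by
      rw [h2, ← h1]; exact dvd_mul_left _ _
    exact hcop2.dvd_of_dvd_mul_right h3
  have hmd' : Q.relIndex S = Nat.card D := Nat.dvd_antisymm hmd hdm
  have hcard : Nat.card Q * Nat.card D = Nat.card S := by rw [← hmd']; exact h1
  refine ⟨hQS, hDS, ?_, ?_⟩
  · rw [eq_bot_iff]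
    rintro y ⟨hy1, hy2⟩
    rw [Subgroup.mem_bot]
    have h1 : orderOf y ∣ Nat.card Q := Subgroup.orderOf_dvd_natCard _ hy1
    have h2 : orderOf y ∣ Nat.card D := Subgroup.orderOf_dvd_natCard _ hy2
    exact orderOf_eq_one_iff.1 (Nat.eq_one_of_dvd_coprimes hcopQD h1 h2)
  · intro y hy
    have hc : (Q.subgroupOf S).IsComplement' (D.subgroupOf S) := by
      apply Subgroup.isComplement'_of_coprime
      · rw [Cfsg.Agent.Helper1.card_subgroupOf_of_le hQS,
          Cfsg.Agent.Helper1.card_subgroupOf_of_le hDS, hcard]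
      · rw [Cfsg.Agent.Helper1.card_subgroupOf_of_le hQS,
          Cfsg.Agent.Helper1.card_subgroupOf_of_le hDS]; exact hcopQD
    obtain ⟨⟨⟨a, ha⟩, ⟨b, hb⟩⟩, hab, -⟩ := hc.existsUnique ⟨y, hy⟩
    refine ⟨(a : G), Subgroup.mem_subgroupOf.1 ha, (b : G), Subgroup.mem_subgroupOf.1 hb, ?_⟩
    have := congrArg Subtype.val hab
    simpa using this.symm

/-! ### the main argument, with `K*` a free variable -/

theorem c3_aux (hG : Cfsg.IsMinSimpleOddOrder G) (h37 : H1437 G)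
    {M Nst K Kst Ust : Subgroup G} {p : ℕ}
    (hM : IsCoatom M) (hNst : IsCoatom Nst) (hp : p.Prime) (cardK : Nat.card K = p)
    (hdec : Cfsg.IsSigmaDecomposition Nst Kst Ust)
    (hKeq : K = Cfsg.sigmaCore Nst ⊓ Subgroup.centralizer (Kst : Set G))
    (hpσ : p ∉ Cfsg.sigma M)
    {s : ℕ} {E B : Subgroup G} (hs : s ∈ Cfsg.tau2 M)
    (hE : Cfsg.IsComplIn E (Cfsg.sigmaCore M) M) (hKE : K ≤ E) (hEeq : E = M ⊓ Nst)
    (hBE : B ≤ E) (hBea : Cfsg.IsElementaryAbelian s B) (hBcard : Nat.card B = s ^ 2)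
    (hSyl : ∀ S : Sylow s G, IsMulCommutative (S : Subgroup G))
    (hUst : Ust = ⊥) (hES : E ≤ Cfsg.sigmaCore Nst)
    (hF : Cfsg.fittingHallOf Nst ≠ Cfsg.sigmaCore Nst) : False := by
  classical
  have hcardKst' :
      Nat.card ↥(Cfsg.sigmaCore Nst ⊓ Subgroup.centralizer (Kst : Set G)) = p := by
    rw [← hKeq]; exact cardK
  obtain ⟨-, -, hr, -, -, hbeta, Q, hQF, hNQ, hQp, hQi, hD⟩ := h37 Nst hNst Kst Ust hdec hF
  rw [hcardKst'] at hbeta hQp hQi
  haveI : Fact p.Prime := ⟨hp⟩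
  have hsP : s.Prime := hs.1
  haveI : Fact s.Prime := ⟨hsP⟩
  -- basics on `S = N*_σ`
  have hSN : Cfsg.sigmaCore Nst ≤ Nst := sigmaCore_le Nst
  have hNS : Nst ≤ Subgroup.normalizer (Cfsg.sigmaCore Nst : Set G) := le_normalizer_sigmaCore Nst
  have hKS : K ≤ Cfsg.sigmaCore Nst := by rw [hKeq]; exact inf_le_left
  have hKC : K ≤ Subgroup.centralizer (Kst : Set G) := by rw [hKeq]; exact inf_le_right
  have hpS : p ∣ Nat.card (Cfsg.sigmaCore Nst) := by
    rw [← cardK]; exact Subgroup.card_dvd_of_le hKS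
  have hpσN : p ∈ Cfsg.sigma Nst := primes_sigmaCore Nst p hp hpS
  have hSH : Cfsg.IsPiHallOf (Cfsg.sigma Nst) (Cfsg.sigmaCore Nst) Nst :=
    (Cfsg.Agent.S1350.result hG Nst hNst).1
  have hQN : Q ≤ Nst := by
    refine hQF.trans ?_
    unfold Cfsg.fittingHallOf
    exact Subgroup.map_subtype_le _
  obtain ⟨a, hQa⟩ := hQp.exists_card_eq
  have hQS : Q ≤ Cfsg.sigmaCore Nst := by
    apply Cfsg.Agent.Helper60.BGAsm.le_of_coprime_relIndex hNS hQN
    rw [hQa]
    exact Nat.Coprime.pow_left _ ((Nat.Prime.coprime_iff_not_dvd hp).2 (hSH.2.2 p hp hpσN))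
  have hKQ : K ≤ Q := by
    apply Cfsg.Agent.Helper60.BGAsm.le_of_coprime_relIndex (hSN.trans hNQ) hKS
    rw [cardK]
    exact (Nat.Prime.coprime_iff_not_dvd hp).2 hQi
  have hK1 : K ≠ ⊥ := by
    intro h
    rw [h, Subgroup.card_bot] at cardK
    exact hp.one_lt.ne cardK
  -- `K*`
  have hKstN : Kst ≤ Nst := hdec.hall.1
  have hrκ : Nat.card Kst ∈ Cfsg.kappa Nst := hdec.hall.2.1 _ hr dvd_rfl
  have hrσ : Nat.card Kst ∉ Cfsg.sigma Nst := hrκ.2.2.1
  have hrS : ¬ Nat.card Kst ∣ Nat.card (Cfsg.sigmaCore Nst) :=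
    fun h => hrσ (primes_sigmaCore Nst _ hr h)
  have hcopKS : (Nat.card Kst).Coprime (Nat.card (Cfsg.sigmaCore Nst)) :=
    (Nat.Prime.coprime_iff_not_dvd hr).2 hrS
  have hrp : Nat.card Kst ≠ p := by
    intro h; rw [h] at hrS; exact hrS hpS
  have hpKst : ¬ p ∣ Nat.card Kst := by
    intro h
    rcases (Nat.dvd_prime hr).1 h with h1 | h1
    · exact hp.one_lt.ne' h1
    · exact hrp h1.symm
  have hKst1 : Kst ≠ ⊥ := by
    intro h
    rw [h, Subgroup.card_bot] at hr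
    exact Nat.not_prime_one hr
  have hKstS : Kst ≤ Subgroup.normalizer (Cfsg.sigmaCore Nst : Set G) := hKstN.trans hNS
  have hsolvN : Group.IsSolvable ↥Nst := hG.2.2.2 Nst hNst.1
  haveI hsolvS : Group.IsSolvable ↥(Cfsg.sigmaCore Nst) :=
    Group.isSolvable_of_isSolvable_injective (Subgroup.inclusion_injective hSN)
  have hsolvQ : Group.IsSolvable ↥Q :=
    Group.isSolvable_of_isSolvable_injective (Subgroup.inclusion_injective hQN)
  -- the `K*`-invariant complement `D1`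
  obtain ⟨⟨D1, hD1H, hKstD1⟩, -⟩ :=
    Cfsg.Agent.Helper62.invariant_hall_main Kst (Cfsg.sigmaCore Nst) hKstS hcopKS {l | l ≠ p}
  have hD1c : Cfsg.IsComplIn Q D1 (Cfsg.sigmaCore Nst) :=
    isComplIn_of_hall hp hQS hQp hQi hD1H
  obtain ⟨-, hNQ01, -, hcardQ1, -, -⟩ := hD D1 hD1c
  rw [hcardKst'] at hcardQ1
  have hD1S : D1 ≤ Cfsg.sigmaCore Nst := hD1H.1
  have hpD1 : ¬ p ∣ Nat.card D1 := fun h => hD1H.2.1 p hp h rfl
  -- `Q ∩ C(K*) = K`
  have hQCK : Q ⊓ Subgroup.centralizer (Kst : Set G) = K := by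
    apply le_antisymm
    · rw [hKeq]; exact inf_le_inf_right _ hQS
    · exact le_inf hKQ hKC
  -- the fixed-point formula
  have hfpf : ∀ e ∈ Kst, e ≠ 1 → ∀ u ∈ D1, e * u = u * e → u = 1 := by
    intro e he he1 u hu hcomm
    have h1 : u ∈ Subgroup.centralizer (Kst : Set G) :=
      mem_centralizer_of_comm_prime_card hr rfl he he1 hcomm
    have h2 : u ∈ K := by rw [hKeq]; exact ⟨hD1S hu, h1⟩
    have h3 : u ∈ Q ⊓ D1 := ⟨hKQ h2, hu⟩
    rw [hD1c.2.2.1, Subgroup.mem_bot] at h3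
    exact h3
  have hD1KstN : D1 ⊔ Kst ≤ Nst := sup_le (hD1S.trans hSN) hKstN
  have hcopQ : (Nat.card Q).Coprime (Nat.card ↥(D1 ⊔ Kst)) := by
    rw [hQa]
    apply Nat.Coprime.pow_left
    rw [Nat.Prime.coprime_iff_not_dvd hp, sup_comm]
    exact Cfsg.Agent.Helper22.not_dvd_card_sup_of_le_normalizer p hp Kst D1 hKstD1 hpKst hpD1
  have hformula := Cfsg.Agent.Helper62.FrobAct.frobenius_fixed_point_formula D1 Kst hKst1
    (fun e he u hu => conj_mem_of_le_normalizer hKstD1 he hu) hfpf (Nat.card Q) Q rfl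
    (fun x hx h hh => conj_mem_of_le_normalizer hNQ (hD1KstN hx) hh) hsolvQ hcopQ
  rw [hQCK, cardK] at hformula
  have hq01pos : 0 < Nat.card ↥(Q ⊓ Subgroup.centralizer (D1 : Set G)) := Nat.card_pos
  have hfix1 : Nat.card ↥(Q ⊓ Subgroup.centralizer ((D1 ⊔ Kst : Subgroup G) : Set G)) = 1 := by
    have h1 : Nat.card ↥(Q ⊓ Subgroup.centralizer ((D1 ⊔ Kst : Subgroup G) : Set G)) ^ Nat.card Kst
        * (Nat.card ↥(Q ⊓ Subgroup.centralizer (D1 : Set G)) * p ^ Nat.card Kst)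
        = 1 * (Nat.card ↥(Q ⊓ Subgroup.centralizer (D1 : Set G)) * p ^ Nat.card Kst) := by
      rw [← hcardQ1, hformula, hcardQ1]; ring
    have h2 : 0 < Nat.card ↥(Q ⊓ Subgroup.centralizer (D1 : Set G)) * p ^ Nat.card Kst :=
      Nat.mul_pos hq01pos (pow_pos hp.pos _)
    have h3 := Nat.eq_of_mul_eq_mul_right h2 h1
    exact (Nat.pow_eq_one.1 h3).resolve_right hr.ne_zero
  have hKD1 : K ⊓ Subgroup.centralizer (D1 : Set G) = ⊥ := by
    rw [eq_bot_iff]
    have h1 : K ⊓ Subgroup.centralizer (D1 : Set G) ≤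
        Q ⊓ Subgroup.centralizer ((D1 ⊔ Kst : Subgroup G) : Set G) :=
      le_inf (inf_le_left.trans hKQ) (le_centralizer_sup inf_le_right (inf_le_left.trans hKC))
    rw [Subgroup.card_eq_one.1 hfix1] at h1
    exact h1
  -- (i) `E ≤ N(K)`
  have hpτ : p ∉ Cfsg.tau2 M := fun h =>
    Cfsg.Agent.Helper31.BGNoMutualTau2.not_mem_beta_of_mem_tau2 hG hM h Nst hbeta
  have hsp : s ≠ p := by
    intro h; rw [h] at hs; exact hpτ hs
  have hU := Cfsg.Agent.Helper31.BG1436Lite.uniquenessThm hG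
  have hpα : p ∉ Cfsg.alpha M := fun h => hpσ (alpha_subset_sigma hG hU hM h)
  have hr2 : Cfsg.PRankLE p 2 ↥M := by
    by_contra h; exact hpα ⟨hp, h⟩
  have hr1 : Cfsg.PRankLE p 1 ↥M := by
    by_contra h; exact hpτ ⟨hp, hpσ, hr2, h⟩
  have hp2 : p ≠ 2 := by
    intro h2
    have hdvd : p ∣ Nat.card G := by
      rw [← cardK]; exact Subgroup.card_subgroup_dvd_card K
    have hodd := hG.1
    rw [Nat.odd_iff] at hodd
    rw [h2] at hdvd
    omega
  have hEN : E ≤ Nst := by rw [hEeq]; exact inf_le_right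
  have hcyc : IsCyclic ↥(Q ⊓ E) :=
    Cfsg.Agent.Helper91.BGPF.isCyclic_of_pRankLE_one_of_le hp2 hr1 (inf_le_right.trans hE.1)
      (hQp.to_le inf_le_left)
  have hEP1 : E ≤ Subgroup.normalizer ((Q ⊓ E : Subgroup G) : Set G) := by
    apply le_normalizer_of_conj_mem
    intro w hw x hx
    exact ⟨conj_mem_of_le_normalizer hNQ (hEN hw) hx.1,
      E.mul_mem (E.mul_mem hw hx.2) (E.inv_mem hw)⟩
  have hEK : E ≤ Subgroup.normalizer (K : Set G) :=
    hEP1.trans (Cfsg.Agent.Helper70.BG14.normalizer_le_normalizer_of_le_cyclic hcyc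
      (le_inf hKQ hKE))
  -- (ii) the complement `D ⊇ B`
  have hBS : B ≤ Cfsg.sigmaCore Nst := hBE.trans hES
  have hBπ : ∀ l : ℕ, l.Prime → l ∣ Nat.card B → l ∈ {l : ℕ | l ≠ p} := by
    intro l hl hd
    rw [hBcard] at hd
    have h1 : l = s := (Nat.prime_dvd_prime_iff_eq hl hsP).1 (hl.dvd_of_dvd_pow hd)
    rw [h1]; exact hsp
  obtain ⟨D, hDH, hBD⟩ :=
    Cfsg.Agent.Helper71.BGHall.exists_isPiHallOf_ge {l : ℕ | l ≠ p} (Cfsg.sigmaCore Nst) hBS hBπ
  have hDc : Cfsg.IsComplIn Q D (Cfsg.sigmaCore Nst) := isComplIn_of_hall hp hQS hQp hQi hDH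
  obtain ⟨hDnil, hNQ0, hQ0lt, hcardQ, hQab, hQmin⟩ := hD D hDc
  rw [hcardKst'] at hcardQ
  have hDS : D ≤ Cfsg.sigmaCore Nst := hDH.1
  obtain ⟨hsup, -, hcomm, hDsp, -, hsel, -, -⟩ :=
    Cfsg.Agent.Helper10.BG16ND.nilpotent_pCore_decomp s D hDnil
  have hBDs : B ≤ Subgroup.map D.subtype (Cfsg.pCore s ↥D) := by
    intro b hb
    exact hsel b (hBD hb) ⟨1, by rw [pow_one]; exact hBea.2 b hb⟩
  obtain ⟨P, hP⟩ := hDsp.exists_le_sylow
  have hPcomm : ∀ u ∈ (P : Subgroup G), ∀ v ∈ (P : Subgroup G), u * v = v * u := by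
    intro u hu v hv
    have := hSyl P
    have h1 := mul_comm' (⟨u, hu⟩ : ↥(P : Subgroup G)) ⟨v, hv⟩
    exact congrArg Subtype.val h1
  have hDCB : D ≤ Subgroup.centralizer (B : Set G) := by
    rw [← hsup]
    apply sup_le
    · intro d hd
      rw [Subgroup.mem_centralizer_iff]
      intro b hb
      exact hPcomm b (hP (hBDs hb)) d (hP hd)
    · intro d hd
      rw [Subgroup.mem_centralizer_iff]
      intro b hb
      exact hcomm b (hBDs hb) d hd
  obtain ⟨-, ⟨hCB, hMNB, -⟩, -⟩ :=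
    Cfsg.Agent.S1418.result hG M hM E hE s hs B ⟨hBE, hBea, hBcard⟩
  have hDE : D ≤ E := by
    rw [← hMNB]; exact hDCB.trans hCB
  have hDK : D ≤ Subgroup.normalizer (K : Set G) := hDE.trans hEK
  -- `K ∩ Q₀ = 1`
  obtain ⟨n, hnS, hn⟩ := Cfsg.Agent.Helper62.isPiHallOf_conj_of_solvable hD1H hDH
  have hQ0le : Q ⊓ Subgroup.centralizer (D : Set G) ≤ Q ⊓ Subgroup.centralizer (D1 : Set G) := by
    intro y hy
    have hyQ : y ∈ Q := (Subgroup.mem_inf.1 hy).1
    have hyC : y ∈ Subgroup.centralizer (D : Set G) := (Subgroup.mem_inf.1 hy).2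
    have hnN : n ∈ Nst := hSN hnS
    have hninv : n⁻¹ ∈ Nst := Nst.inv_mem hnN
    have h1 : n⁻¹ * y * n ∈ Q ⊓ Subgroup.centralizer (D1 : Set G) := by
      refine Subgroup.mem_inf.2 ⟨?_, ?_⟩
      · have := conj_mem_of_le_normalizer hNQ hninv hyQ
        simpa using this
      · rw [Subgroup.mem_centralizer_iff]
        intro d1 hd1
        have hd : n * d1 * n⁻¹ ∈ D := by
          rw [← hn]
          have := Subgroup.smul_mem_pointwise_smul d1 (MulAut.conj n) D1 hd1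
          simpa [MulAut.smul_def] using this
        have hc := (Subgroup.mem_centralizer_iff.1 hyC) _ hd
        calc d1 * (n⁻¹ * y * n) = n⁻¹ * (n * d1 * n⁻¹ * y) * n := by group
          _ = n⁻¹ * (y * (n * d1 * n⁻¹)) * n := by rw [hc]
          _ = n⁻¹ * y * n * d1 := by group
    have h2 := conj_mem_of_le_normalizer hNQ01 hnN h1
    have h3 : n * (n⁻¹ * y * n) * n⁻¹ = y := by group
    rwa [h3] at h2
  have hKQ0 : K ⊓ (Q ⊓ Subgroup.centralizer (D : Set G)) = ⊥ := by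
    rw [eq_bot_iff, ← hKD1]
    exact le_inf inf_le_left (inf_le_right.trans (hQ0le.trans inf_le_right))
  -- `X = Q₀ K` is normal in `N*`
  have hNle : Nst ≤ Kst ⊔ (Q ⊔ D) := by
    intro m hm
    obtain ⟨a', ha', b', hb', rfl⟩ := hdec.compl.2.2.2 m hm
    rw [hUst, Subgroup.mem_bot] at ha'
    rw [ha', one_mul]
    have h1 : Kst ⊔ Cfsg.sigmaCore Nst ≤ Kst ⊔ (Q ⊔ D) := by
      apply sup_le_sup_left
      intro y hy
      obtain ⟨a2, ha2, b2, hb2, rfl⟩ := hDc.2.2.2 y hy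
      exact Subgroup.mul_mem _ (Subgroup.mem_sup_left ha2) (Subgroup.mem_sup_right hb2)
    exact h1 hb'
  have hKstCK : Kst ≤ Subgroup.centralizer (K : Set G) := Subgroup.le_centralizer_iff.1 hKC
  have hKstX : Kst ≤ Subgroup.normalizer
      (((Q ⊓ Subgroup.centralizer (D : Set G)) ⊔ K : Subgroup G) : Set G) :=
    le_normalizer_sup (hKstN.trans hNQ0) (hKstCK.trans (Subgroup.centralizer_le_normalizer _))
  have hDX : D ≤ Subgroup.normalizer
      (((Q ⊓ Subgroup.centralizer (D : Set G)) ⊔ K : Subgroup G) : Set G) :=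
    le_normalizer_sup ((hDS.trans hSN).trans hNQ0) hDK
  have hQX : Q ≤ Subgroup.normalizer
      (((Q ⊓ Subgroup.centralizer (D : Set G)) ⊔ K : Subgroup G) : Set G) := by
    apply le_normalizer_of_conj_mem
    intro w hw
    apply conj_mem_sup_of
    · intro y hy
      exact Subgroup.mem_sup_left (conj_mem_of_le_normalizer (hQN.trans hNQ0) hw hy)
    · intro k hk
      have h1 := (hQab w hw k (hKQ hk)).2
      have h2 : w * k * w⁻¹ = (w * k * w⁻¹ * k⁻¹) * k := by group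
      rw [h2]
      exact Subgroup.mul_mem _ (Subgroup.mem_sup_left h1) (Subgroup.mem_sup_right hk)
  have hNX : Nst ≤ Subgroup.normalizer
      (((Q ⊓ Subgroup.centralizer (D : Set G)) ⊔ K : Subgroup G) : Set G) :=
    hNle.trans (sup_le hKstX (sup_le hQX hDX))
  have hQ0X : Q ⊓ Subgroup.centralizer (D : Set G) <
      (Q ⊓ Subgroup.centralizer (D : Set G)) ⊔ K := by
    refine lt_of_le_of_ne le_sup_left ?_
    intro h
    have h1 : K ≤ Q ⊓ Subgroup.centralizer (D : Set G) := by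
      rw [h]; exact le_sup_right
    have h2 : K ≤ ⊥ := by
      rw [← hKQ0]; exact le_inf le_rfl h1
    exact hK1 (le_bot_iff.1 h2)
  have hXQ : (Q ⊓ Subgroup.centralizer (D : Set G)) ⊔ K ≤ Q := sup_le inf_le_left hKQ
  have hXeq : (Q ⊓ Subgroup.centralizer (D : Set G)) ⊔ K = Q := by
    by_contra h
    exact hQmin _ hQ0X (lt_of_le_of_ne hXQ h) hNX
  -- the count
  have hKNQ0 : K ≤ Subgroup.normalizer ((Q ⊓ Subgroup.centralizer (D : Set G) : Subgroup G) : Set G) :=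
    (hKQ.trans hQN).trans hNQ0
  have hdvd := Cfsg.Agent.Helper22.card_sup_dvd_of_le_normalizer K
    (Q ⊓ Subgroup.centralizer (D : Set G)) hKNQ0
  rw [sup_comm, hXeq, hcardQ, cardK, mul_comm p] at hdvd
  have hq0pos : 0 < Nat.card ↥(Q ⊓ Subgroup.centralizer (D : Set G)) := Nat.card_pos
  have h1 : p ^ Nat.card Kst ∣ p := Nat.dvd_of_mul_dvd_mul_left hq0pos hdvd
  have h2 : p ^ Nat.card Kst ≤ p := Nat.le_of_dvd hp.pos h1
  have h3 : p ^ 2 ≤ p ^ Nat.card Kst := Nat.pow_le_pow_right hp.pos hr.two_le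
  have h4 : 2 ≤ p := hp.two_le
  nlinarith

/-- **Piece (C3)** of S1376 (B-G 14.4(c2), Step 5.9). -/
theorem c3 (hG : Cfsg.IsMinSimpleOddOrder G) (h37 : H1437 G)
    {M N Nst K U Ust : Subgroup G} {x : G} {p q : ℕ}
    (c : Ctx M N Nst K U Ust x p q) : C3 M N Nst K U Ust := by
  intro s E B hs hE hKE hEeq hBE hBea hBcard hSyl hUst hES hF
  exact c3_aux hG h37 c.hM c.pair.hMs c.hp c.cardK c.decSt c.pair.hKst c.p_not_sigma
    hs hE hKE hEeq hBE hBea hBcard hSyl hUst hES hF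

end Cfsg.Agent.Helper75.BG144C3
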