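import Mathlib
import Cfsg.Agent.Helper44.CliffDefs

/-!
# (C3) of helper44's WANTED #9890 for S3084: the transpose of a Pauli operator
-/

set_option autoImplicit false
open scoped MatrixGroups

namespace Cfsg.Agent.Helper75.Cliff

open Matrix Cfsg.Agent.Helper44.Cliff

variable {n : ℕ}

/-- (C3) transpose = inverse -/
theorem T_transpose (u : U0 n) : (T u)ᵀ = sg (q0 u) • T u := by
  ext x y
  rw [Matrix.transpose_apply, Matrix.smul_apply, T_apply, T_apply, smul_eq_mul]
  by_cases h : y = x + u.2
  · have h' : x = y + u.2 := by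
      rw [h, add_assoc, add_self_X, add_zero]
    rw [if_pos h', if_pos h, h, dotProduct_add, sg_add]
    unfold q0
    rw [mul_comm (sg (u.1 ⬝ᵥ u.2))]
  · have h' : ¬ x = y + u.2 := by
      intro hx
      apply h
      rw [hx, add_assoc, add_self_X, add_zero]
    rw [if_neg h', if_neg h, mul_zero]

/-- (C5), with the trace formula (C2) as a hypothesis -/
theorem trace_T_mul_transpose_of
    (htr : ∀ w : U0 n, Matrix.trace (T w) = if w = 0 then (2 : ZMod 3) ^ n else 0) (u v : U0 n) :
    Matrix.trace (T v * (T u)ᵀ) = if u = v then (2 : ZMod 3) ^ n else 0 := by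
  rw [T_transpose, Matrix.mul_smul, T_mul, smul_smul, Matrix.trace_smul, htr, smul_eq_mul]
  by_cases h : u = v
  · subst h
    rw [if_pos rfl, if_pos (add_self_U0 u), bet_self, sg_mul_self, one_mul]
  · have h' : ¬ v + u = 0 := by
      intro h0
      apply h
      have : v + u + u = u := by rw [h0, zero_add]
      rw [add_assoc, add_self_U0, add_zero] at this
      exact this.symm
    rw [if_neg h, if_neg h', mul_zero]

end Cfsg.Agent.Helper75.Cliff
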