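import Mathlib
import Cfsg.Agent.Helper44.CliffDefs
import Cfsg.Agent.Helper89.CliffC2
import Cfsg.Agent.Helper75.CliffC3

/-!
# (C5) of helper44's WANTED #9890 for S3084: orthogonality of the Pauli operators
-/

set_option autoImplicit false
open scoped MatrixGroups

namespace Cfsg.Agent.Helper75.Cliff

open Matrix Cfsg.Agent.Helper44.Cliff

variable {n : ℕ}

/-- (C5) orthogonality.  From (C2), (C3), `T_mul`. -/
theorem trace_T_mul_transpose (u v : U0 n) :
    Matrix.trace (T v * (T u)ᵀ) = if u = v then (2 : ZMod 3) ^ n else 0 :=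
  trace_T_mul_transpose_of (fun w => Cfsg.Agent.Helper89.Cliff.trace_T w) u v

end Cfsg.Agent.Helper75.Cliff
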