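import Mathlib

/-!
# Norm-one elements of finite fields (helper75)

Linear-algebra lemma behind the final field-theoretic argument of the odd order theorem
(Bender–Glauberman, Appendix C): a matrix `A` with `det A ≠ 0` and `det (κ A + 1) = 1` for all
`κ` in a finite field `K` has size at least `|K|`.
-/

set_option autoImplicit false

namespace Cfsg.Agent.Helper75

open Polynomial Matrix

/-- If `det (κ • A + 1) = 1` for all `κ` in a finite field `K` and `det A ≠ 0`, with `A` of positive
size `n`, then `|K| ≤ n`. -/
theorem nf_card_le_of_det_eq_one {K : Type*} [Field K] [Fintype K] {n : Type*} [DecidableEq n]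
    [Fintype n] [Nonempty n] (A : Matrix n n K) (hA : A.det ≠ 0)
    (h : ∀ κ : K, (κ • A + 1).det = 1) : Fintype.card K ≤ Fintype.card n := by
  classical
  set g : K[X] := det ((X : K[X]) • A.map C + (1 : Matrix n n K).map C) with hg
  have hdeg : g.natDegree ≤ Fintype.card n := natDegree_det_X_add_C_le A 1
  have hcoeff : g.coeff (Fintype.card n) = A.det := coeff_det_X_add_C_card A 1
  have hcard : 0 < Fintype.card n := Fintype.card_pos
  have hne : g - 1 ≠ 0 := by
    intro h0
    have : (g - 1).coeff (Fintype.card n) = 0 := by rw [h0]; simp
    rw [coeff_sub, hcoeff, coeff_one, if_neg hcard.ne', sub_zero] at this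
    exact hA this
  have hdeg' : (g - 1).natDegree ≤ Fintype.card n :=
    (natDegree_sub_le _ _).trans (max_le hdeg (by simp))
  have heval : ∀ κ : K, (g - 1).eval κ = 0 := by
    intro κ
    rw [eval_sub, eval_one, hg]
    have h1 : eval κ (det ((X : K[X]) • A.map C + (1 : Matrix n n K).map C))
        = det ((evalRingHom κ).mapMatrix ((X : K[X]) • A.map C + (1 : Matrix n n K).map C)) := by
      rw [← RingHom.map_det]; rfl
    rw [h1]
    have h2 : (evalRingHom κ).mapMatrix ((X : K[X]) • A.map C + (1 : Matrix n n K).map C)
        = κ • A + 1 := by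
      ext i j
      by_cases hij : i = j
      · subst hij; simp; ring
      · simp [Matrix.one_apply, hij]; ring
    rw [h2, h κ, sub_self]
  have hsub : (Finset.univ : Finset K).val ⊆ (g - 1).roots := by
    intro κ _
    rw [mem_roots hne]
    exact heval κ
  calc Fintype.card K = (Finset.univ : Finset K).card := Finset.card_univ.symm
    _ ≤ (g - 1).natDegree := card_le_degree_of_subset_roots hsub
    _ ≤ Fintype.card n := hdeg'

end Cfsg.Agent.Helper75
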