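import Cfsg.Agent.Helper25.FSwan.Defs2
import Cfsg.Agent.Helper55.DT_IBI

/-!
# Fong–Swan farm (helper25, S4440), leaf (PERM)

Two lists of irreducible Brauer characters with the same sum are permutations of each other
(linear independence of `IBr`), and an irreducible Brauer character is not a sum of two or more.
-/

set_option autoImplicit false
set_option linter.unusedSectionVars false
set_option linter.unusedVariables false

namespace Cfsg.Agent.Helper75.FS

open Cfsg Cfsg.Agent.Helper16 Cfsg.Agent.Helper16.DT Cfsg.Agent.Helper25.FS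

universe u

variable {p : ℕ} [Fact p.Prime] {M : Ideal AlgInt} [M.IsMaximal] {G : Type u} [Group G]

/-- (PERM) two lists of irreducible Brauer characters with the same sum are permutations of each
other. -/
theorem perm_of_sum_eq (hpM : (p : AlgInt) ∈ M) [Finite G] (l l' : List (G → ℂ))
    (hl : ∀ ψ ∈ l, ψ ∈ IBr p M G) (hl' : ∀ ψ ∈ l', ψ ∈ IBr p M G) (h : l.sum = l'.sum) :
    l.Perm l' := by
  classical
  have : Fintype G := Fintype.ofFinite G
  have hli := Cfsg.Agent.Helper55.DT.IBr_linearIndependent (p := p) (M := M) (G := G) hpM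
  rw [List.perm_iff_count]
  intro ψ
  set s : Finset (G → ℂ) := l.toFinset ∪ l'.toFinset with hs
  have hsI : ∀ m ∈ s, m ∈ IBr p M G := by
    intro m hm
    rcases Finset.mem_union.1 hm with h1 | h1
    · exact hl m (List.mem_toFinset.1 h1)
    · exact hl' m (List.mem_toFinset.1 h1)
  have e1 : l.sum = ∑ m ∈ s, (l.count m : ℂ) • m := by
    rw [Finset.sum_list_count_of_subset l s Finset.subset_union_left]
    refine Finset.sum_congr rfl (fun m _ => ?_)
    rw [Nat.cast_smul_eq_nsmul]
  have e2 : l'.sum = ∑ m ∈ s, (l'.count m : ℂ) • m := by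
    rw [Finset.sum_list_count_of_subset l' s Finset.subset_union_right]
    refine Finset.sum_congr rfl (fun m _ => ?_)
    rw [Nat.cast_smul_eq_nsmul]
  have hz : ∑ m ∈ s, ((l.count m : ℂ) - (l'.count m : ℂ)) • m = 0 := by
    simp only [sub_smul, Finset.sum_sub_distrib]
    rw [← e1, ← e2, h, sub_self]
  have hz' : ∑ x ∈ s.subtype (· ∈ IBr p M G),
      ((l.count (x : G → ℂ) : ℂ) - (l'.count (x : G → ℂ) : ℂ)) • (x : G → ℂ) = 0 := by
    rw [Finset.sum_subtype_of_mem
      (f := fun m : G → ℂ => ((l.count m : ℂ) - (l'.count m : ℂ)) • m) hsI]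
    exact hz
  have hall := linearIndependent_iff'.1 hli _ _ hz'
  by_cases hψ : ψ ∈ s
  · have h3 := hall ⟨ψ, hsI ψ hψ⟩ (Finset.mem_subtype.2 hψ)
    have h4 : (l.count ψ : ℂ) = (l'.count ψ : ℂ) := sub_eq_zero.1 h3
    exact_mod_cast h4
  · have h1 : ψ ∉ l := fun hm => hψ (Finset.mem_union_left _ (List.mem_toFinset.2 hm))
    have h2 : ψ ∉ l' := fun hm => hψ (Finset.mem_union_right _ (List.mem_toFinset.2 hm))
    rw [List.count_eq_zero_of_not_mem h1, List.count_eq_zero_of_not_mem h2]

/-- (PERM) corollary: an irreducible Brauer character is not a sum of two or more. -/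
theorem eq_singleton_of_sum_eq (hpM : (p : AlgInt) ∈ M) [Finite G] {φ : G → ℂ}
    (hφ : φ ∈ IBr p M G) (l : List (G → ℂ)) (hl : ∀ ψ ∈ l, ψ ∈ IBr p M G) (h : l.sum = φ) :
    l = [φ] := by
  have hperm : l.Perm [φ] := by
    refine perm_of_sum_eq hpM l [φ] hl ?_ ?_
    · intro ψ hψ
      rw [List.mem_singleton] at hψ
      rw [hψ]
      exact hφ
    · rw [h, List.sum_singleton]
  exact List.perm_singleton.1 hperm

end Cfsg.Agent.Helper75.FS
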