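import Cfsg.Agent.Helper25.FSwan.Defs2

/-!
# Fong–Swan farm (helper25, S4440), leaf (K4): irreducibility of a Kronecker product

If the group algebra of `L` maps onto the full matrix algebra under `ρ`, and `σ` is irreducible and
trivial on `L`, then `ρ ⊗ σ` is irreducible.
-/

set_option autoImplicit false
set_option linter.unusedSectionVars false
set_option linter.unusedVariables false

namespace Cfsg.Agent.Helper75.FS

open Cfsg Cfsg.Agent.Helper16 Cfsg.Agent.Helper16.DT Cfsg.Agent.Helper25.FS

universe u

section Kron

variable {K : Type*} [Field K]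

/-- (K4) irreducibility of a Kronecker product. -/
theorem isIrredMat_kronRep {A : Type*} [Group A] (L : Subgroup A) [Fintype L] {ι κ : Type*}
    [Fintype ι] [DecidableEq ι] [Nonempty ι] [Fintype κ] [DecidableEq κ]
    (ρ : A →* Matrix ι ι K) (σ : A →* Matrix κ κ K)
    (hsurj : ∀ X : Matrix ι ι K, ∃ x : L → K, gaAct (ρ.comp L.subtype) x = X)
    (hσ : IsIrredMat σ) (hσL : ∀ n ∈ L, σ n = 1) : IsIrredMat (kronRep ρ σ) := by
  classical
  obtain ⟨hκ, hσirr⟩ := hσ
  have hκ' : Nonempty κ := hκ
  refine ⟨inferInstance, ?_⟩
  intro W hW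
  -- the components of `kronRep`
  have hkron : ∀ (g : A) (w : ι × κ → K) (i : ι) (k : κ),
      (kronRep ρ σ g).mulVec w (i, k) = ∑ j, ∑ l, ρ g i j * σ g k l * w (j, l) := by
    intro g w i k
    rw [Matrix.mulVec, dotProduct, Fintype.sum_prod_type]
    rfl
  -- Step 1: `W` is stable under `X ⊗ 1`
  have hT : ∀ (X : Matrix ι ι K) (w : ι × κ → K), w ∈ W →
      (fun q : ι × κ => ∑ j, X q.1 j * w (j, q.2)) ∈ W := by
    intro X w hw
    obtain ⟨x, hx⟩ := hsurj X
    have h1 : (fun q : ι × κ => ∑ j, X q.1 j * w (j, q.2)) =
        ∑ n : L, x n • ((kronRep ρ σ (n : A)).mulVec w) := by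
      funext q
      obtain ⟨i, k⟩ := q
      rw [Finset.sum_apply]
      simp only [Pi.smul_apply, smul_eq_mul]
      have h2 : ∀ n : L, (kronRep ρ σ (n : A)).mulVec w (i, k) = ∑ j, ρ (n : A) i j * w (j, k) := by
        intro n
        rw [hkron]
        refine Finset.sum_congr rfl (fun j _ => ?_)
        rw [hσL n n.2]
        rw [Finset.sum_eq_single k]
        · rw [Matrix.one_apply_eq, mul_one]
        · intro l _ hl
          rw [Matrix.one_apply_ne (Ne.symm hl), mul_zero, zero_mul]
        · intro h
          exact absurd (Finset.mem_univ k) h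
      simp only [h2]
      have h3 : ∀ j, X i j = ∑ n : L, x n * ρ (n : A) i j := by
        intro j
        rw [← hx]
        unfold gaAct
        rw [Matrix.sum_apply]
        rfl
      simp only [h3, Finset.sum_mul, Finset.mul_sum]
      rw [Finset.sum_comm]
      refine Finset.sum_congr rfl (fun n _ => Finset.sum_congr rfl (fun j _ => ?_))
      ring
    rw [h1]
    exact Submodule.sum_mem _ (fun n _ => Submodule.smul_mem _ _ (hW _ _ hw))
  -- the embedding of `κ → K` at the row `i`
  let emb : ι → (κ → K) → (ι × κ → K) := fun i u q => if q.1 = i then u q.2 else 0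
  have emb_apply : ∀ i u (q : ι × κ), emb i u q = if q.1 = i then u q.2 else 0 := fun _ _ _ => rfl
  obtain ⟨i₀⟩ := (inferInstance : Nonempty ι)
  -- the subspace `W'`
  let W' : Submodule K (κ → K) :=
    { carrier := {u | emb i₀ u ∈ W}
      add_mem' := by
        intro u u' hu hu'
        have : emb i₀ (u + u') = emb i₀ u + emb i₀ u' := by
          funext q
          simp only [emb_apply, Pi.add_apply]
          split_ifs <;> simp
        show emb i₀ (u + u') ∈ W
        rw [this]
        exact W.add_mem hu hu'
      zero_mem' := by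
        have : emb i₀ (0 : κ → K) = 0 := by
          funext q
          simp only [emb_apply, Pi.zero_apply]
          split_ifs <;> rfl
        show emb i₀ (0 : κ → K) ∈ W
        rw [this]
        exact W.zero_mem
      smul_mem' := by
        intro c u hu
        have : emb i₀ (c • u) = c • emb i₀ u := by
          funext q
          simp only [emb_apply, Pi.smul_apply, smul_eq_mul]
          split_ifs <;> simp
        show emb i₀ (c • u) ∈ W
        rw [this]
        exact W.smul_mem c hu }
  have mem_W' : ∀ u, u ∈ W' ↔ emb i₀ u ∈ W := fun u => Iff.rfl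
  -- moving rows with matrix units
  have hmove : ∀ (a b : ι) (w : ι × κ → K), w ∈ W → emb a (fun k => w (b, k)) ∈ W := by
    intro a b w hw
    have h1 := hT (Matrix.single a b (1 : K)) w hw
    have h2 : (fun q : ι × κ => ∑ j, Matrix.single a b (1 : K) q.1 j * w (j, q.2)) =
        emb a (fun k => w (b, k)) := by
      funext q
      obtain ⟨i, k⟩ := q
      simp only [emb_apply]
      rw [Finset.sum_eq_single b]
      · by_cases hia : i = a
        · subst hia
          simp
        · rw [if_neg hia, Matrix.single_apply, if_neg (fun h => hia h.1.symm), zero_mul]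
      · intro j _ hj
        rw [Matrix.single_apply, if_neg (fun h => hj h.2.symm), zero_mul]
      · intro h
        exact absurd (Finset.mem_univ b) h
    rw [← h2]
    exact h1
  -- Claim A
  have hA1 : ∀ v, v ∈ W → ∀ i, (fun k => v (i, k)) ∈ W' := by
    intro v hv i
    rw [mem_W']
    exact hmove i₀ i v hv
  have hA2 : ∀ v : ι × κ → K, (∀ i, (fun k => v (i, k)) ∈ W') → v ∈ W := by
    intro v hv
    have h1 : v = ∑ i, emb i (fun k => v (i, k)) := by
      funext q
      obtain ⟨i, k⟩ := q
      rw [Finset.sum_apply]
      simp only [emb_apply]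
      rw [Finset.sum_eq_single i]
      · rw [if_pos rfl]
      · intro j _ hj
        rw [if_neg (Ne.symm hj)]
      · intro h
        exact absurd (Finset.mem_univ i) h
    rw [h1]
    refine Submodule.sum_mem _ (fun i _ => ?_)
    have h2 := hmove i i₀ _ ((mem_W' _).1 (hv i))
    have h3 : (fun k => emb i₀ (fun k => v (i, k)) (i₀, k)) = fun k => v (i, k) := by
      funext k
      simp only [emb_apply, if_pos]
    rw [h3] at h2
    exact h2
  -- Claim B: `W'` is invariant under `σ`
  have hB : ∀ g, ∀ u ∈ W', (σ g).mulVec u ∈ W' := by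
    intro g u hu
    have h1 := hW g _ ((mem_W' u).1 hu)
    -- the rows of this vector
    have h2 : ∀ a k, (kronRep ρ σ g).mulVec (emb i₀ u) (a, k) = ρ g a i₀ * (σ g).mulVec u k := by
      intro a k
      rw [hkron, Finset.sum_eq_single i₀]
      · simp only [emb_apply, if_pos]
        rw [Matrix.mulVec, dotProduct, Finset.mul_sum]
        refine Finset.sum_congr rfl (fun l _ => ?_)
        ring
      · intro j _ hj
        refine Finset.sum_eq_zero (fun l _ => ?_)
        simp only [emb_apply]
        rw [if_neg hj, mul_zero]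
      · intro h
        exact absurd (Finset.mem_univ i₀) h
    -- some entry of the column `i₀` of `ρ g` is nonzero
    have h3 : ∃ a, ρ g a i₀ ≠ 0 := by
      by_contra hcon
      push Not at hcon
      have h4 : ρ g⁻¹ * ρ g = 1 := by rw [← map_mul, inv_mul_cancel, map_one]
      have h5 := congrFun (congrFun h4 i₀) i₀
      rw [Matrix.mul_apply, Matrix.one_apply_eq] at h5
      rw [Finset.sum_eq_zero (fun a _ => by rw [hcon a, mul_zero])] at h5
      exact zero_ne_one h5
    obtain ⟨a, ha⟩ := h3
    have h6 := hA1 _ h1 a
    have h7 : (fun k => (kronRep ρ σ g).mulVec (emb i₀ u) (a, k)) = ρ g a i₀ • (σ g).mulVec u := by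
      funext k
      rw [h2]
      rfl
    rw [h7] at h6
    have h8 := W'.smul_mem (ρ g a i₀)⁻¹ h6
    rwa [smul_smul, inv_mul_cancel₀ ha, one_smul] at h8
  rcases hσirr W' hB with hbot | htop
  · left
    rw [eq_bot_iff]
    intro v hv
    rw [Submodule.mem_bot]
    funext q
    obtain ⟨i, k⟩ := q
    have h1 := hA1 v hv i
    rw [hbot, Submodule.mem_bot] at h1
    exact congrFun h1 k
  · right
    rw [eq_top_iff]
    intro v _
    refine hA2 v (fun i => ?_)
    rw [htop]
    exact Submodule.mem_top

end Kron

end Cfsg.Agent.Helper75.FS
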