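import Cfsg.Agent.Helper75.TIFNCoherent

/-!
# Exceptional characters attached to a coherent set (helper75)

Continuation of `TIFNCoherent`: an irreducible character of `G` is `± star χ` for a relevant `χ`
iff it is not constant on `K \ {1}`.
-/

set_option autoImplicit false

namespace Cfsg.Agent.Helper75

open Cfsg
open scoped ComplexConjugate

universe u

section IndOne

variable {N : Type u} [Group N] [Fintype N] {K : Subgroup N} [hK : K.Normal]

/-- The character induced from the principal character of a normal subgroup is constant on it. -/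
theorem tf_ind_one_apply (k : K) :
    indFun K (fun _ : K => (1 : ℂ)) (k : N) = indFun K (fun _ : K => (1 : ℂ)) 1 := by
  have h1 := Helper15.indFun_normal_apply K (fun _ : K => (1 : ℂ)) k
  have h2 := Helper15.indFun_normal_apply K (fun _ : K => (1 : ℂ)) 1
  rw [h1]
  rw [show ((1 : K) : N) = 1 from rfl] at h2
  rw [h2]
  rfl

end IndOne

section Exc

variable {G : Type u} [Group G] [Fintype G] {K : Subgroup G}
  [Fintype ↥(Subgroup.normalizer (K : Set G))]
  {star : (↥(Subgroup.normalizer (K : Set G)) → ℂ) → (G → ℂ)}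

/-- A relevant character is induced from a non-principal irreducible character of `K`. -/
theorem tf_mem_induced' (hC : ∀ k ∈ K, k ≠ 1 → Subgroup.centralizer ({k} : Set G) ≤ K)
    {χ : ↥(Subgroup.normalizer (K : Set G)) → ℂ} (hχ : χ ∈ tfS K) :
    ∃ φ : ↥(K.subgroupOf (Subgroup.normalizer (K : Set G))) → ℂ,
      IsIrrCharacter _ φ ∧ φ ≠ (fun _ => 1) ∧
      χ = indFun (K.subgroupOf (Subgroup.normalizer (K : Set G))) φ := by
  obtain ⟨φ, hφ, hχφ⟩ := tf_mem_induced hC hχ
  refine ⟨φ, hφ, ?_, hχφ⟩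
  intro h1
  obtain ⟨_, k, hk, hne⟩ := hχ
  apply hne
  rw [hχφ, h1]
  exact tf_ind_one_apply (⟨k, Subgroup.mem_subgroupOf.mpr hk⟩ :
    ↥(K.subgroupOf (Subgroup.normalizer (K : Set G))))

/-- A relevant character which is constant on `K \ {1}` is the only relevant character. -/
theorem tf_unique_of_const (hC : ∀ k ∈ K, k ≠ 1 → Subgroup.centralizer ({k} : Set G) ≤ K)
    {χ χ' : ↥(Subgroup.normalizer (K : Set G)) → ℂ} (hχ : χ ∈ tfS K) (hχ' : χ' ∈ tfS K)
    {c : ℂ} (hc : ∀ k : ↥(Subgroup.normalizer (K : Set G)), (k : G) ∈ K → k ≠ 1 → χ k = c) :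
    χ' = χ := by
  classical
  let K' := K.subgroupOf (Subgroup.normalizer (K : Set G))
  let _ : Fintype K' := Fintype.ofFinite K'
  obtain ⟨φ, hφ, hφ1, hχ'φ⟩ := tf_mem_induced' hC hχ'
  by_contra hne
  have h0 : classInner χ χ' = 0 := by
    have : (⟨χ, hχ.1⟩ : IrrCharacter _) ≠ ⟨χ', hχ'.1⟩ := by
      intro h
      exact hne (congrArg Subtype.val h).symm
    have h5 := Helper74.irr_inner_ne this
    exact h5
  rw [hχ'φ, Helper15.frobenius_reciprocity' K' φ χ (tf_isClassFunction hχ),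
    Helper15.classInner_apply] at h0
  have hsum : ∑ k : K', χ (k : ↥(Subgroup.normalizer (K : Set G))) * conj (φ k)
      = (χ 1 - c) * conj (φ 1) + c * ∑ k : K', conj (φ k) := by
    rw [← Finset.add_sum_erase Finset.univ _ (Finset.mem_univ (1 : K')),
      ← Finset.add_sum_erase Finset.univ (fun k : K' => conj (φ k)) (Finset.mem_univ (1 : K')),
      mul_add, Finset.mul_sum]
    have : ∀ k ∈ Finset.univ.erase (1 : K'),
        χ (k : ↥(Subgroup.normalizer (K : Set G))) * conj (φ k) = c * conj (φ k) := by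
      intro k hk
      have hk1 : (k : ↥(Subgroup.normalizer (K : Set G))) ≠ 1 :=
        fun h => Finset.ne_of_mem_erase hk (Subtype.ext h)
      rw [hc _ (Subgroup.mem_subgroupOf.mp k.2) hk1]
    rw [Finset.sum_congr rfl this]
    simp only [OneMemClass.coe_one]
    ring
  have hz : ∑ k : K', conj (φ k) = 0 := by
    have hne1 : (⟨fun _ => 1, Helper79.isIrrCharacter_one⟩ : IrrCharacter K') ≠ ⟨φ, hφ⟩ := by
      intro h
      exact hφ1 (congrArg Subtype.val h).symm
    have h5 := Helper74.irr_inner_ne hne1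
    rw [Helper15.classInner_apply] at h5
    have hK' : (Nat.card K' : ℂ)⁻¹ ≠ 0 := by
      apply inv_ne_zero
      have : Nat.card K' ≠ 0 := Nat.card_pos.ne'
      exact_mod_cast this
    have h6 := (mul_eq_zero.mp h5).resolve_left hK'
    simpa using h6
  rw [hsum, hz, mul_zero, add_zero] at h0
  have hK' : (Nat.card K' : ℂ)⁻¹ ≠ 0 := by
    apply inv_ne_zero
    have : Nat.card K' ≠ 0 := Nat.card_pos.ne'
    exact_mod_cast this
  have h7 := (mul_eq_zero.mp h0).resolve_left hK'
  obtain ⟨_, k, hk, hkne⟩ := hχ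
  have hk1 : k ≠ 1 := fun h => hkne (by rw [h])
  rcases mul_eq_zero.mp h7 with h8 | h8
  · apply hkne
    rw [hc k hk hk1]
    linear_combination -h8
  · have h9 : φ 1 = 0 := by
      have := congrArg (starRingEnd ℂ) h8
      simpa using this
    exact tf_apply_one_ne_zero (⟨φ, hφ⟩ : IrrCharacter K') h9

/-- Variant of `tf_const` asking the orthogonality only against the special combinations
`d' ζ - d ζ'`. -/
theorem tf_const' {ψ : G → ℂ} (hψ : IsClassFunction G ψ)
    {β : ↥(Subgroup.normalizer (K : Set G)) → ℂ} (hβ : IsClassFunction _ β)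
    (h : ∀ ζ ∈ tfS K, ∀ ζ' ∈ tfS K, ∀ d d' : ℤ, ζ 1 = d → ζ' 1 = d' →
      classInner ψ (indFun (Subgroup.normalizer (K : Set G)) (d' • ζ - d • ζ'))
        = classInner β (d' • ζ - d • ζ')) :
    ∃ T : ℂ, ∀ k : ↥(Subgroup.normalizer (K : Set G)), (k : G) ∈ K → k ≠ 1 → ψ k - β k = T := by
  have hΔ : IsClassFunction ↥(Subgroup.normalizer (K : Set G))
      ((fun x : ↥(Subgroup.normalizer (K : Set G)) => ψ x) - β) := by
    refine Helper74.isClassFunction_sub ?_ hβ
    intro g x
    exact hψ g x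
  obtain ⟨T, hT⟩ := tf_key (K.subgroupOf (Subgroup.normalizer (K : Set G))) hΔ (by
    intro ζ ζ' hζ hζ'
    obtain ⟨d, _, hd⟩ := fk_irr_apply_one ζ
    obtain ⟨d', _, hd'⟩ := fk_irr_apply_one ζ'
    have hζS : (ζ : ↥(Subgroup.normalizer (K : Set G)) → ℂ) ∈ tfS K := by
      obtain ⟨k, hk, hne⟩ := hζ
      exact ⟨ζ.2, k, Subgroup.mem_subgroupOf.mp hk, hne⟩
    have hζ'S : (ζ' : ↥(Subgroup.normalizer (K : Set G)) → ℂ) ∈ tfS K := by
      obtain ⟨k, hk, hne⟩ := hζ'
      exact ⟨ζ'.2, k, Subgroup.mem_subgroupOf.mp hk, hne⟩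
    have hh := h _ hζS _ hζ'S (d : ℤ) (d' : ℤ) (by rw [hd]; simp) (by rw [hd']; simp)
    have heq : ((ζ' : ↥(Subgroup.normalizer (K : Set G)) → ℂ) 1) •
          (ζ : ↥(Subgroup.normalizer (K : Set G)) → ℂ)
        - ((ζ : ↥(Subgroup.normalizer (K : Set G)) → ℂ) 1) •
          (ζ' : ↥(Subgroup.normalizer (K : Set G)) → ℂ)
        = (d' : ℤ) • (ζ : ↥(Subgroup.normalizer (K : Set G)) → ℂ)
          - (d : ℤ) • (ζ' : ↥(Subgroup.normalizer (K : Set G)) → ℂ) := by
      funext x
      rw [Pi.sub_apply, Pi.smul_apply, Pi.smul_apply, Pi.sub_apply, Pi.smul_apply, Pi.smul_apply,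
        zsmul_eq_mul, zsmul_eq_mul, smul_eq_mul, smul_eq_mul, hd, hd']
      push_cast
      ring
    rw [heq, Helper15.classInner_sub_left, ← hh,
      Helper15.frobenius_reciprocity' _ _ ψ hψ, sub_self])
  refine ⟨T, fun k hk hk1 => ?_⟩
  have := hT k (Subgroup.mem_subgroupOf.mpr hk) hk1
  simpa using this

/-- **S0852**: an irreducible character of `G` is `± star χ` for some relevant `χ` iff it is not
constant on `K \ {1}`. -/
theorem tf_S0852
    (hC : ∀ k ∈ K, k ≠ 1 → Subgroup.centralizer ({k} : Set G) ≤ K)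
    (hadd : ∀ α ∈ zspan (tfS K), ∀ β ∈ zspan (tfS K), star (α + β) = star α + star β)
    (hsmul : ∀ α ∈ zspan (tfS K), ∀ n : ℤ, star (n • α) = n • star α)
    (hiso : ∀ α ∈ zspan (tfS K), ∀ β ∈ zspan (tfS K),
      classInner (star α) (star β) = classInner α β)
    (hgen : ∀ α ∈ zspan (tfS K), IsGeneralizedCharacter G (star α))
    (hext : ∀ α ∈ zspanOn (tfS K) ({1}ᶜ : Set ↥(Subgroup.normalizer (K : Set G))),
      star α = indFun (Subgroup.normalizer (K : Set G)) α)
    (htwo : ∃ χ ∈ tfS K, ∃ ξ ∈ tfS K, χ ≠ ξ)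
    {ψ : G → ℂ} (hψ : IsIrrCharacter G ψ) :
    (∃ χ ∈ tfS K, ψ = star χ ∨ ψ = -star χ) ↔
      ∃ a ∈ K, ∃ b ∈ K, a ≠ 1 ∧ b ≠ 1 ∧ ψ a ≠ ψ b := by
  classical
  constructor
  · rintro ⟨χ, hχ, hor⟩
    by_contra hcon
    push Not at hcon
    obtain ⟨T, hT⟩ := tf_diff_const hiso hgen hext hχ
    obtain ⟨k₀, hk₀K, hk₀ne⟩ := hχ.2
    have hk₀1 : k₀ ≠ 1 := fun h => hk₀ne (by rw [h])
    have hk₀1' : (k₀ : G) ≠ 1 := fun h => hk₀1 (Subtype.ext h)
    have hconst : ∀ k : ↥(Subgroup.normalizer (K : Set G)), (k : G) ∈ K → k ≠ 1 →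
        χ k = star χ k₀ - T := by
      intro k hk hk1
      have hk1' : (k : G) ≠ 1 := fun h => hk1 (Subtype.ext h)
      have h1 := hT k hk hk1
      have h2 := hcon (k : G) hk (k₀ : G) hk₀K hk1' hk₀1'
      have h3 : star χ k = star χ k₀ := by
        rcases hor with h | h
        · rw [h] at h2; exact h2
        · rw [h] at h2
          simpa using h2
      rw [← h3]
      linear_combination -h1
    obtain ⟨χ₂, hχ₂, ξ₂, hξ₂, hne⟩ := htwo
    apply hne
    rw [tf_unique_of_const hC hχ hχ₂ hconst, tf_unique_of_const hC hχ hξ₂ hconst]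
  · rintro ⟨a, ha, b, hb, ha1, hb1, hab⟩
    by_contra hcon
    push Not at hcon
    have horth : ∀ χ ∈ tfS K, classInner ψ (star χ) = 0 := by
      intro χ hχ
      have hχz : χ ∈ zspan (tfS K) := Submodule.subset_span hχ
      have hnorm : classInner (star χ) (star χ) = 1 := by
        rw [hiso χ hχz χ hχz]
        exact Helper74.irr_inner_self (⟨χ, hχ.1⟩ : IrrCharacter _)
      obtain ⟨θ, hθ⟩ := vc_pm_irr (hgen χ hχz) hnorm
      obtain ⟨hc1, hc2⟩ := hcon χ hχ
      have hne : (⟨ψ, hψ⟩ : IrrCharacter G) ≠ θ := by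
        intro h
        have h' : ψ = (θ : G → ℂ) := congrArg Subtype.val h
        rcases hθ with h2 | h2
        · exact hc1 (by rw [h2, h'])
        · exact hc2 (by rw [h2, neg_neg, h'])
      have h0 := Helper74.irr_inner_ne hne
      rcases hθ with h2 | h2
      · rw [h2]; exact h0
      · rw [h2, Helper15.classInner_neg_right]
        have h0' : classInner ψ (θ : G → ℂ) = 0 := h0
        rw [h0', neg_zero]
    have hψcf : IsClassFunction G ψ :=
      Helper74.isClassFunction_of_isCharacter (Helper74.isCharacter_of_isIrr hψ)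
    obtain ⟨T, hT⟩ := tf_const' (K := K) hψcf
      (β := (0 : ↥(Subgroup.normalizer (K : Set G)) → ℂ)) Helper74.isClassFunction_zero (by
        intro ζ hζ ζ' hζ' d d' hd hd'
        rw [← hext _ (tf_alpha_mem hζ hζ' hd hd'), tf_star_alpha hadd hsmul hζ hζ',
          Helper15.classInner_zero_left, Helper15.classInner_sub_right,
          ← Int.cast_smul_eq_zsmul ℂ d' (star ζ), ← Int.cast_smul_eq_zsmul ℂ d (star ζ'),
          Helper15.classInner_smul_right, Helper15.classInner_smul_right,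
          horth ζ hζ, horth ζ' hζ']
        simp)
    have hle : K ≤ Subgroup.normalizer (K : Set G) := Subgroup.le_normalizer
    have hTa := hT ⟨a, hle ha⟩ ha (fun h => ha1 (congrArg Subtype.val h))
    have hTb := hT ⟨b, hle hb⟩ hb (fun h => hb1 (congrArg Subtype.val h))
    apply hab
    simp only [Pi.zero_apply, sub_zero] at hTa hTb
    rw [hTa, hTb]

end Exc


end Cfsg.Agent.Helper75
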