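import Mathlib
import Cfsg.Prelude.Def_Local
import Cfsg.Agent.Lib.Cores
import Cfsg.Agent.Helper60.S4472GT1
import Cfsg.Agent.Helper76.S4472GT2

/-!
# Piece (GT3) of helper25's S4472 farm: the Hall pair `H ⊴ X`

`exists_hall_pair_of` takes the conclusions of (GT1) and (GT2) (for the group `G`) as explicit hypotheses.
-/

set_option autoImplicit false

namespace Cfsg.Agent.Helper75.S4472GT3

open Cfsg Subgroup

universe u

theorem exists_hall_pair_of {G : Type u} [Group G] [Finite G] (p : ℕ) [hp : Fact p.Prime]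
    (hGT1 : ∃ K : Subgroup G, K.Normal ∧ pCore p G ≤ K ∧ ((pCore p G).relIndex K).Coprime p ∧
      ∀ x : G, (∃ j : ℕ, x ^ (p ^ j) = 1) → (∀ k ∈ K, x * k * x⁻¹ * k⁻¹ ∈ pCore p G) →
        x ∈ pCore p G)
    (hGT2 : ∀ (D K : Subgroup G) [D.Normal] [K.Normal], D ≤ K → IsPGroup p D →
      (D.relIndex K).Coprime p →
      ∃ H : Subgroup G, H ≤ K ∧ D ⊓ H = ⊥ ∧ D ⊔ H = K ∧ (Nat.card H).Coprime p ∧
        D ⊔ Subgroup.normalizer (H : Set G) = ⊤) :
    ∃ X H : Subgroup G, H ≤ X ∧ X ≤ Subgroup.normalizer (H : Set G) ∧ (Nat.card H).Coprime p ∧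
      (∃ c : ℕ, H.relIndex X = p ^ c) ∧
      ∀ N : Subgroup G, N ≤ X → X ≤ Subgroup.normalizer (N : Set G) → N ⊓ H = ⊥ →
        ((pCore p G).index).factorization p + (Nat.card N).factorization p ≤
          (Nat.card X).factorization p := by
  classical
  have hDn : (pCore p G).Normal := by
    have := Cfsg.Agent.Lib.pCore_characteristic (G := G) p
    infer_instance
  have hDp : IsPGroup p (pCore p G) := Cfsg.Agent.Lib.isPGroup_pCore p
  obtain ⟨K, hKn, hDK, hcop, hstar⟩ := hGT1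
  obtain ⟨H, hHK, hDH, hDHK, hHcop, hfrat⟩ := hGT2 (pCore p G) K hDK hDp hcop
  obtain ⟨D, hD⟩ : ∃ D : Subgroup G, D = pCore p G := ⟨_, rfl⟩
  rw [← hD] at hDn hDp hDK hcop hstar hDH hDHK hfrat ⊢
  obtain ⟨M, hM⟩ : ∃ M : Subgroup G, M = Subgroup.normalizer (H : Set G) := ⟨_, rfl⟩
  rw [← hM] at hfrat
  have hHM : H ≤ M := hM ▸ Subgroup.le_normalizer
  -- a Sylow `p`-subgroup of `M`
  obtain ⟨Q⟩ : Nonempty (Sylow p M) := inferInstance
  obtain ⟨Q', hQ'⟩ : ∃ Q' : Subgroup G, Q' = (Q : Subgroup M).map M.subtype := ⟨_, rfl⟩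
  have hQ'M : Q' ≤ M := by
    rw [hQ']
    rintro _ ⟨q, _, rfl⟩
    exact q.2
  have hQ'card : Nat.card Q' = p ^ (Nat.card M).factorization p := by
    rw [hQ', Subgroup.card_map_of_injective M.subtype_injective]
    exact Q.card_eq_multiplicity
  have hXM : H ⊔ Q' ≤ M := sup_le hHM hQ'M
  -- the index of `H` in `X`
  have hrel : ∃ c : ℕ, H.relIndex (H ⊔ Q') = p ^ c := by
    have hH'n : (H.subgroupOf M).Normal :=
      (Subgroup.normal_subgroupOf_iff_le_normalizer hHM).2 (le_of_eq hM)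
    have h1 : (H.subgroupOf M).relIndex (H.subgroupOf M ⊔ (Q : Subgroup M)) =
        (H.subgroupOf M).relIndex (Q : Subgroup M) := Subgroup.relIndex_sup_left _ _
    have h2 : H.relIndex (H ⊔ Q') =
        (H.subgroupOf M).relIndex (H.subgroupOf M ⊔ (Q : Subgroup M)) := by
      rw [← Subgroup.relIndex_map_map_of_injective _ _ M.subtype_injective, Subgroup.map_sup,
        Subgroup.map_subgroupOf_eq_of_le hHM, hQ']
    have h3 : (H.subgroupOf M).relIndex (Q : Subgroup M) ∣ Nat.card (Q : Subgroup M) :=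
      Subgroup.relIndex_dvd_card _ _
    rw [Q.card_eq_multiplicity] at h3
    obtain ⟨c, _, hc⟩ := (Nat.dvd_prime_pow hp.out).1 h3
    exact ⟨c, by rw [h2, h1, hc]⟩
  refine ⟨H ⊔ Q', H, le_sup_left, hM ▸ hXM, hHcop, hrel, ?_⟩
  intro N hNX hXN hNH
  obtain ⟨c, hc⟩ := hrel
  have hHX : H ≤ H ⊔ Q' := le_sup_left
  -- `N` centralizes `H`
  have hcent : ∀ x ∈ N, ∀ h ∈ H, x * h * x⁻¹ * h⁻¹ = 1 := by
    intro x hx h hh
    have h1 : x * h * x⁻¹ * h⁻¹ ∈ N := by
      have hhN : h ∈ Subgroup.normalizer (N : Set G) := hXN (hHX hh)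
      have h3 : h * x⁻¹ * h⁻¹ ∈ N := (Subgroup.mem_normalizer_iff.1 hhN x⁻¹).1 (inv_mem hx)
      have h4 := mul_mem hx h3
      have h5 : x * (h * x⁻¹ * h⁻¹) = x * h * x⁻¹ * h⁻¹ := by group
      rwa [h5] at h4
    have h2 : x * h * x⁻¹ * h⁻¹ ∈ H := by
      have hxM : x ∈ Subgroup.normalizer (H : Set G) := hM ▸ hXM (hNX hx)
      have h3 : x * h * x⁻¹ ∈ H := (Subgroup.mem_normalizer_iff.1 hxM h).1 hh
      exact mul_mem h3 (inv_mem hh)
    have h6 : x * h * x⁻¹ * h⁻¹ ∈ N ⊓ H := ⟨h1, h2⟩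
    rw [hNH] at h6
    exact Subgroup.mem_bot.1 h6
  -- `N` is a `p`-group
  have hpow : ∀ x ∈ N, x ^ (p ^ c) = 1 := by
    intro x hx
    have hxX : x ∈ H ⊔ Q' := hNX hx
    have hn : (H.subgroupOf (H ⊔ Q')).Normal :=
      (Subgroup.normal_subgroupOf_iff_le_normalizer hHX).2 (hM ▸ hXM)
    have h1 := Subgroup.pow_index_mem (H.subgroupOf (H ⊔ Q')) (⟨x, hxX⟩ : ↥(H ⊔ Q'))
    rw [show (H.subgroupOf (H ⊔ Q')).index = p ^ c from hc, Subgroup.mem_subgroupOf] at h1
    have hxH : x ^ (p ^ c) ∈ H := by simpa using h1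
    have h2 : x ^ (p ^ c) ∈ N ⊓ H := ⟨pow_mem hx _, hxH⟩
    rw [hNH] at h2
    exact Subgroup.mem_bot.1 h2
  -- `N ≤ D`
  have hND : N ≤ D := by
    intro x hx
    apply hstar x ⟨c, hpow x hx⟩
    intro k hk
    rw [← hDHK] at hk
    obtain ⟨d, hd, h, hh, rfl⟩ := Subgroup.mem_sup_of_normal_left.1 hk
    have e : h * x⁻¹ * h⁻¹ = x⁻¹ := by
      have h1 := hcent x hx h hh
      calc h * x⁻¹ * h⁻¹ = x⁻¹ * (x * h * x⁻¹ * h⁻¹) := by group
        _ = x⁻¹ := by rw [h1, mul_one]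
    have h2 : x * (d * h) * x⁻¹ * (d * h)⁻¹ = x * d * (h * x⁻¹ * h⁻¹) * d⁻¹ := by group
    rw [h2, e]
    exact mul_mem (hDn.conj_mem d hd x) (inv_mem hd)
  have hNDM : N ≤ D ⊓ M := le_inf hND (hNX.trans hXM)
  -- counting
  have hidx : D.index = D.relIndex M := by
    rw [← Subgroup.relIndex_top_right, ← hfrat]
    exact Subgroup.relIndex_sup_left _ _
  have hcardM : Nat.card ↥(D ⊓ M) * D.relIndex M = Nat.card M := by
    have h1 := Subgroup.relIndex_mul_relIndex (⊥ : Subgroup G) (D ⊓ M) M bot_le inf_le_right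
    rwa [Subgroup.relIndex_bot_left, Subgroup.relIndex_bot_left, Subgroup.inf_relIndex_right] at h1
  have hrelne : D.relIndex M ≠ 0 := by
    intro h
    rw [h, mul_zero] at hcardM
    exact (Nat.card_pos (α := M)).ne' hcardM.symm
  have hvM : (Nat.card M).factorization p =
      (Nat.card ↥(D ⊓ M)).factorization p + (D.relIndex M).factorization p := by
    rw [← hcardM, Nat.factorization_mul Nat.card_pos.ne' hrelne]
    rfl
  have hvN : (Nat.card N).factorization p ≤ (Nat.card ↥(D ⊓ M)).factorization p :=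
    (Nat.factorization_le_iff_dvd Nat.card_pos.ne' Nat.card_pos.ne').2
      (Subgroup.card_dvd_of_le hNDM) p
  have hvX : (Nat.card M).factorization p ≤ (Nat.card ↥(H ⊔ Q')).factorization p := by
    have h1 : Nat.card Q' ∣ Nat.card ↥(H ⊔ Q') := Subgroup.card_dvd_of_le le_sup_right
    have h2 := (Nat.factorization_le_iff_dvd Nat.card_pos.ne' Nat.card_pos.ne').2 h1 p
    rwa [hQ'card, Nat.Prime.factorization_pow hp.out, Finsupp.single_eq_same] at h2
  rw [hidx]
  omega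

/-- **(GT3)** with the exact type of the skeleton, using the landed pieces (GT1) of helper60 and (GT2) of helper76. -/
theorem exists_hall_pair {G : Type u} [Group G] [Finite G] (p : ℕ) [Fact p.Prime]
    (hsolv : IsPSolvable p G) :
    ∃ X H : Subgroup G, H ≤ X ∧ X ≤ Subgroup.normalizer (H : Set G) ∧ (Nat.card H).Coprime p ∧
      (∃ c : ℕ, H.relIndex X = p ^ c) ∧
      ∀ N : Subgroup G, N ≤ X → X ≤ Subgroup.normalizer (N : Set G) → N ⊓ H = ⊥ →
        ((pCore p G).index).factorization p + (Nat.card N).factorization p ≤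
          (Nat.card X).factorization p :=
  exists_hall_pair_of p (Cfsg.Agent.Helper60.PSolvLin.exists_K p hsolv)
    (fun D K _ _ hDK hD hcop =>
      Cfsg.Agent.Helper76.S4472GT2.exists_complement_frattini p D K hDK hD hcop)

end Cfsg.Agent.Helper75.S4472GT3
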