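import Cfsg.Agent.Helper75.FrobeniusGroup

/-!
# Irreducibility of characters induced from a normal subgroup (helper75)

If an element `g` fixes no non-trivial conjugacy class of the normal subgroup `K`, it fixes no
non-principal irreducible character of `K` (Brauer's permutation lemma).  If this holds for all
`g ∉ K`, every non-principal irreducible character of `K` induces irreducibly.
-/

set_option autoImplicit false

namespace Cfsg.Agent.Helper75

open Cfsg
open scoped ComplexConjugate Pointwise

universe u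

variable {G : Type u} [Group G] [Fintype G] {K : Subgroup G} [hK : K.Normal]

/-- An element fixing no non-identity class of `K` fixes no non-principal irreducible character
of `K`. -/
theorem ii_irr_fixed {g : G}
    (hcls : ∀ k : K, IsConj (⟨g⁻¹ * k * g⁻¹⁻¹, hK.conj_mem (k : G) k.2 g⁻¹⟩ : K) k → k = 1)
    {τ : K → ℂ} (hτ : IsIrrCharacter K τ) (hfix : Helper15.conjFun K g τ = τ) :
    τ = fun _ => 1 := by
  classical
  let _ : Fintype K := Fintype.ofFinite K
  let _ : Fintype (IrrCharacter K) := Helper74.irrFintype K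
  let _ : Fintype (ConjClasses K) := Fintype.ofFinite _
  let σ : Equiv.Perm (IrrCharacter K) :=
    { toFun := fun χ => ⟨Helper15.conjFun K g χ.1, Helper15.isIrrCharacter_conjFun K χ.2 g⟩
      invFun := fun χ => ⟨Helper15.conjFun K g⁻¹ χ.1, Helper15.isIrrCharacter_conjFun K χ.2 g⁻¹⟩
      left_inv := fun χ => Subtype.ext (Helper15.conjFun_inv_conjFun K g χ.1)
      right_inv := fun χ => Subtype.ext (Helper15.conjFun_conjFun_inv K g χ.1) }
  let t : Equiv.Perm (ConjClasses K) := fgClassPerm (MulAut.conjNormal g⁻¹ : K ≃* K)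
  have hcompat : ∀ (χ : IrrCharacter K) (a a' : K), t (ConjClasses.mk a) = ConjClasses.mk a' →
      (σ χ : K → ℂ) a' = (χ : K → ℂ) a := by
    intro χ a a' haa
    have h1 : IsConj ((MulAut.conjNormal g⁻¹ : K ≃* K) a) a' :=
      ConjClasses.mk_eq_mk_iff_isConj.mp haa
    rw [isConj_iff] at h1
    obtain ⟨c, hc⟩ := h1
    have hcf : IsClassFunction K (σ χ : K → ℂ) := Helper74.irr_isClassFunction (σ χ)
    rw [← hc, hcf]
    show Helper15.conjFun K g χ.1 _ = _
    rw [Helper15.conjFun_apply]
    refine congrArg (χ : K → ℂ) (Subtype.ext ?_)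
    simp [MulAut.conjNormal_apply, mul_assoc]
  have hbp := Helper81.brauer_perm σ t hcompat
  have hfixcls : Nat.card {c // t c = c} = 1 := by
    rw [Nat.card_eq_one_iff_unique]
    refine ⟨⟨?_⟩, ⟨⟨ConjClasses.mk 1, ?_⟩⟩⟩
    · rintro ⟨c, hc⟩ ⟨c', hc'⟩
      apply Subtype.ext
      have key : ∀ d : ConjClasses K, t d = d → d = ConjClasses.mk 1 := by
        intro d hd
        obtain ⟨k, rfl⟩ := ConjClasses.exists_rep d
        rw [fgClassPerm_mk, ConjClasses.mk_eq_mk_iff_isConj] at hd
        have := hcls k hd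
        rw [this]
      show c = c'
      rw [key c hc, key c' hc']
    · rw [fgClassPerm_mk, map_one]
  rw [hfixcls] at hbp
  rw [Nat.card_eq_one_iff_unique] at hbp
  obtain ⟨hsub, _⟩ := hbp
  have hone : IsIrrCharacter K (fun _ => (1 : ℂ)) := Helper79.isIrrCharacter_one
  have h1 : σ ⟨τ, hτ⟩ = ⟨τ, hτ⟩ := Subtype.ext hfix
  have h2 : σ ⟨fun _ => (1 : ℂ), hone⟩ = ⟨fun _ => (1 : ℂ), hone⟩ := Subtype.ext (by
    funext n; rfl)
  have h3 := hsub.elim (⟨⟨τ, hτ⟩, h1⟩ : {χ // σ χ = χ}) ⟨⟨fun _ => (1 : ℂ), hone⟩, h2⟩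
  exact congrArg (fun x => (x.1 : K → ℂ)) h3

/-- If no element outside `K` fixes a non-identity class of `K`, every non-principal irreducible
character of `K` induces irreducibly. -/
theorem ii_indFun_isIrr
    (hcls : ∀ g : G, g ∉ K → ∀ k : K,
      IsConj (⟨g * k * g⁻¹, hK.conj_mem (k : G) k.2 g⟩ : K) k → k = 1)
    {τ : K → ℂ} (hτ : IsIrrCharacter K τ) (hτ1 : τ ≠ fun _ => 1) :
    IsIrrCharacter G (indFun K τ) := by
  classical
  let _ : Fintype K := Fintype.ofFinite K
  have hcard : (Nat.card K : ℂ) ≠ 0 := by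
    have : Nat.card K ≠ 0 := Nat.card_pos.ne'
    exact_mod_cast this
  have hchar : IsCharacter G (indFun K τ) :=
    Helper15.isCharacter_indFun K (Helper74.isCharacter_of_isIrr hτ)
  have hτcf : IsClassFunction K τ := Helper74.irr_isClassFunction ⟨τ, hτ⟩
  apply Helper15.isIrrCharacter_of_inner_self_eq_one hchar
  rw [Helper15.frobenius_reciprocity K τ _ (Helper15.isClassFunction_indFun K τ),
    Helper15.indFun_normal_restrict, Helper15.classInner_smul_right,
    Helper15.classInner_finset_sum_right]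
  have hterm : ∀ g : G, classInner τ (Helper15.conjFun K g τ) = if g ∈ K then 1 else 0 := by
    intro g
    split_ifs with hg
    · rw [Helper15.conjFun_of_mem K hτcf hg]
      exact Helper74.irr_inner_self ⟨τ, hτ⟩
    · have hne : (⟨τ, hτ⟩ : IrrCharacter K)
          ≠ ⟨Helper15.conjFun K g τ, Helper15.isIrrCharacter_conjFun K hτ g⟩ := by
        intro heq
        apply hτ1
        have hg' : g⁻¹ ∉ K := fun hc => hg (by simpa using K.inv_mem hc)
        exact ii_irr_fixed (hcls g⁻¹ hg') hτ (congrArg Subtype.val heq).symm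
      exact Helper74.irr_inner_ne hne
  simp only [hterm]
  rw [Finset.sum_boole, ← Fintype.card_subtype, ← Nat.card_eq_fintype_card]
  have : (starRingEnd ℂ) (Nat.card K : ℂ)⁻¹ = (Nat.card K : ℂ)⁻¹ := by
    rw [map_inv₀, Complex.conj_natCast]
  rw [this]
  exact inv_mul_cancel₀ hcard

/-- If `K` contains the centralizer of each of its non-identity elements, an irreducible character
of `G` not containing `K` in its kernel is induced from an irreducible character of `K`. -/
theorem ii_exists_induced
    (hC : ∀ n ∈ K, n ≠ 1 → Subgroup.centralizer ({n} : Set G) ≤ K) {χ : G → ℂ}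
    (hχ : IsIrrCharacter G χ) (hker : ∃ n ∈ K, χ n ≠ χ 1) :
    ∃ φ : K → ℂ, IsIrrCharacter K φ ∧ χ = indFun K φ := by
  classical
  let _ : Fintype K := Fintype.ofFinite K
  let _ := Helper74.irrFintype K
  have hcls : ∀ g : G, g ∉ K → ∀ k : K,
      IsConj (⟨g * k * g⁻¹, hK.conj_mem (k : G) k.2 g⟩ : K) k → k = 1 := by
    intro g hg k hc
    by_contra hk1
    have hk1' : (k : G) ≠ 1 := fun h => hk1 (Subtype.ext h)
    rw [isConj_iff] at hc
    obtain ⟨u, hu⟩ := hc
    have hu' : (u : G) * (g * k * g⁻¹) * (u : G)⁻¹ = k := congrArg Subtype.val hu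
    have hmem : (u : G) * g ∈ Subgroup.centralizer ({(k : G)} : Set G) := by
      rw [Subgroup.mem_centralizer_singleton_iff]
      have e1 : ((u : G) * g) * k = ((u : G) * (g * k * g⁻¹) * (u : G)⁻¹) * ((u : G) * g) := by
        group
      rw [e1, hu']
    have := hC k k.2 hk1' hmem
    apply hg
    have h2 := K.mul_mem (K.inv_mem u.2) this
    simpa using h2
  have hχc : IsCharacter G χ := Helper74.isCharacter_of_isIrr hχ
  have hχcf : IsClassFunction G χ := Helper74.isClassFunction_of_isCharacter hχc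
  have hres : IsCharacter K (fun k : K => χ k) := Helper74.isCharacter_restrict K hχc
  have hdec := Helper74.isCharacter_eq_sum_irr hres
  -- a non-principal constituent of the restriction
  obtain ⟨φ, hφ1, hφ⟩ : ∃ φ : IrrCharacter K, (φ : K → ℂ) ≠ (fun _ => 1) ∧
      classInner (fun k : K => χ k) (φ : K → ℂ) ≠ 0 := by
    by_contra hcon
    push Not at hcon
    obtain ⟨n, hn, hne⟩ := hker
    apply hne
    have hconst : ∀ k : K, χ k = classInner (fun k : K => χ k) (fun _ => (1 : ℂ)) := by
      intro k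
      have := congrFun hdec k
      rw [this]
      simp only [Finset.sum_apply, Pi.smul_apply, smul_eq_mul]
      rw [Finset.sum_eq_single (⟨fun _ => (1 : ℂ), Helper79.isIrrCharacter_one⟩ : IrrCharacter K)]
      · simp
      · intro ψ _ hψ
        have hψ1 : (ψ : K → ℂ) ≠ fun _ => 1 := fun h => hψ (Subtype.ext h)
        have := hcon ψ hψ1
        rw [this, zero_mul]
      · intro h; exact absurd (Finset.mem_univ _) h
    have h1 := hconst ⟨n, hn⟩
    have h2 := hconst 1
    simp only [OneMemClass.coe_one] at h2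
    rw [h2]
    exact h1
  refine ⟨φ, φ.2, ?_⟩
  have hirr : IsIrrCharacter G (indFun K (φ : K → ℂ)) := ii_indFun_isIrr hcls φ.2 hφ1
  have hrec : classInner (indFun K (φ : K → ℂ)) χ = classInner (φ : K → ℂ) (fun k : K => χ k) :=
    Helper15.frobenius_reciprocity K (φ : K → ℂ) χ hχcf
  have hne : classInner (indFun K (φ : K → ℂ)) χ ≠ 0 := by
    rw [hrec, ← Helper15.classInner_conj_symm]
    intro h0
    apply hφ
    have := congrArg (starRingEnd ℂ) h0
    simpa using this
  by_contra hneq
  apply hne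
  have : (⟨indFun K (φ : K → ℂ), hirr⟩ : IrrCharacter G) ≠ ⟨χ, hχ⟩ := by
    intro h
    exact hneq (congrArg Subtype.val h).symm
  exact Helper74.irr_inner_ne this

end Cfsg.Agent.Helper75
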