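import Cfsg.Agent.Helper75.FrobeniusGroup

/-!
# Class number of a Frobenius group (helper75)

`G = K ⋊ H` with fixed-point-free action: `|H| k(G) + 1 = |H| k(H) + k(K)`, by counting commuting
pairs.
-/

set_option autoImplicit false

namespace Cfsg.Agent.Helper75

open Cfsg

universe u

section CommPairs

/-- The sum of the centralizer orders is the class number times the group order. -/
theorem cl_sum_card_commute (X : Type*) [Group X] [Fintype X] :
    ∑ a : X, Nat.card {b : X // Commute a b} = Nat.card (ConjClasses X) * Nat.card X := by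
  rw [← card_comm_eq_card_conjClasses_mul_card,
    Nat.card_congr (Equiv.subtypeProdEquivSigmaSubtype (Commute (S := X))), Nat.card_sigma]

end CommPairs

section Main

variable {G : Type u} [Group G] [Finite G] {K H : Subgroup G} [hK : K.Normal]

/-- Uniqueness of the decomposition `k * h`. -/
theorem cl_mul_unique (hKH : K ⊓ H = ⊥) {k₁ k₂ h₁ h₂ : G} (hk₁ : k₁ ∈ K) (hk₂ : k₂ ∈ K)
    (hh₁ : h₁ ∈ H) (hh₂ : h₂ ∈ H) (he : k₁ * h₁ = k₂ * h₂) : k₁ = k₂ ∧ h₁ = h₂ := by
  have h1 : k₂⁻¹ * k₁ = h₂ * h₁⁻¹ := by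
    have : k₂⁻¹ * (k₁ * h₁) * h₁⁻¹ = k₂⁻¹ * (k₂ * h₂) * h₁⁻¹ := by rw [he]
    have e1 : k₂⁻¹ * (k₁ * h₁) * h₁⁻¹ = k₂⁻¹ * k₁ := by group
    have e2 : k₂⁻¹ * (k₂ * h₂) * h₁⁻¹ = h₂ * h₁⁻¹ := by group
    rw [e1, e2] at this
    exact this
  have h2 : k₂⁻¹ * k₁ ∈ K ⊓ H :=
    ⟨K.mul_mem (K.inv_mem hk₂) hk₁, by rw [h1]; exact H.mul_mem hh₂ (H.inv_mem hh₁)⟩
  rw [hKH, Subgroup.mem_bot] at h2
  have h3 : k₁ = k₂ := (inv_mul_eq_one.mp h2).symm
  refine ⟨h3, ?_⟩
  rw [h3] at he
  exact mul_left_cancel he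

/-- The centralizer of a non-identity element of `H` lies in `H`. -/
theorem cl_commute_mem (hKH : K ⊓ H = ⊥) (hKH' : K ⊔ H = ⊤)
    (hfpf : ∀ h ∈ H, h ≠ 1 → ∀ k ∈ K, h * k = k * h → k = 1) {h x : G} (hh : h ∈ H) (h1 : h ≠ 1)
    (hc : h * x = x * h) : x ∈ H := by
  obtain ⟨k, hk, h₁, hh₁, rfl⟩ := fg_exists_mul hKH' x
  have e : (h * k * h⁻¹) * (h * h₁) = k * (h₁ * h) := by
    have : (h * k * h⁻¹) * (h * h₁) = h * (k * h₁) := by group
    rw [this, hc]; group
  obtain ⟨e1, _⟩ := cl_mul_unique hKH (hK.conj_mem k hk h) hk (H.mul_mem hh hh₁)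
    (H.mul_mem hh₁ hh) e
  have hk1 : k = 1 := by
    apply hfpf h hh h1 k hk
    have : h * k = (h * k * h⁻¹) * h := by group
    rw [this, e1]
  rw [hk1, one_mul]
  exact hh₁

/-- The bijection `K × (H ∖ 1) ≃ G ∖ K`, `(v, h) ↦ v h v⁻¹`. -/
noncomputable def clEquiv (hKH : K ⊓ H = ⊥) (hKH' : K ⊔ H = ⊤)
    (hfpf : ∀ h ∈ H, h ≠ 1 → ∀ k ∈ K, h * k = k * h → k = 1) :
    K × {h : H // h ≠ 1} ≃ {y : G // y ∉ K} :=
  Equiv.ofBijective
    (fun p => ⟨(p.1 : G) * (p.2.1 : G) * (p.1 : G)⁻¹, by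
      intro hmem
      apply p.2.2
      have h1 : (p.2.1 : G) ∈ K := by
        have := hK.conj_mem _ hmem (p.1 : G)⁻¹
        simpa [mul_assoc] using this
      have h2 : (p.2.1 : G) ∈ K ⊓ H := ⟨h1, p.2.1.2⟩
      rw [hKH, Subgroup.mem_bot] at h2
      exact Subtype.ext h2⟩)
    (by
      constructor
      · rintro ⟨v, ⟨h, hh1⟩⟩ ⟨v', ⟨h', hh1'⟩⟩ heq
        have he : (v : G) * (h : G) * (v : G)⁻¹ = (v' : G) * (h' : G) * (v' : G)⁻¹ :=
          congrArg Subtype.val heq
        -- w = v'⁻¹ v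
        have hw : ((v' : G)⁻¹ * (v : G)) * (h : G) * ((v' : G)⁻¹ * (v : G))⁻¹ = (h' : G) := by
          have : ((v' : G)⁻¹ * (v : G)) * (h : G) * ((v' : G)⁻¹ * (v : G))⁻¹
              = (v' : G)⁻¹ * ((v : G) * (h : G) * (v : G)⁻¹) * (v' : G) := by group
          rw [this, he]; group
        have hwK : (v' : G)⁻¹ * (v : G) ∈ K := K.mul_mem (K.inv_mem v'.2) v.2
        have hhh : (h' : G) * (h : G)⁻¹ ∈ K ⊓ H := by
          refine ⟨?_, H.mul_mem h'.2 (H.inv_mem h.2)⟩
          rw [← hw]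
          have : ((v' : G)⁻¹ * (v : G)) * (h : G) * ((v' : G)⁻¹ * (v : G))⁻¹ * (h : G)⁻¹
              = ((v' : G)⁻¹ * (v : G)) * ((h : G) * ((v' : G)⁻¹ * (v : G))⁻¹ * (h : G)⁻¹) := by
            group
          rw [this]
          exact K.mul_mem hwK (hK.conj_mem _ (K.inv_mem hwK) _)
        rw [hKH, Subgroup.mem_bot] at hhh
        have hh' : (h' : G) = (h : G) := mul_inv_eq_one.mp hhh
        have hcomm : (h : G) * ((v' : G)⁻¹ * (v : G)) = ((v' : G)⁻¹ * (v : G)) * (h : G) := by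
          rw [hh'] at hw
          have : ((v' : G)⁻¹ * (v : G)) * (h : G)
              = (((v' : G)⁻¹ * (v : G)) * (h : G) * ((v' : G)⁻¹ * (v : G))⁻¹)
                * ((v' : G)⁻¹ * (v : G)) := by group
          rw [this, hw]
        have hw1 := hfpf (h : G) h.2 (fun hc => hh1 (Subtype.ext hc)) _ hwK hcomm
        have hv : (v : G) = (v' : G) := (inv_mul_eq_one.mp hw1).symm
        have hv' : v = v' := Subtype.ext hv
        have hh'' : h = h' := Subtype.ext hh'.symm
        subst hv' hh''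
        rfl
      · rintro ⟨y, hy⟩
        obtain ⟨k₀, hk₀, h, hh, rfl⟩ := fg_exists_mul hKH' y
        have h1 : h ≠ 1 := by
          rintro rfl
          apply hy
          simpa using hk₀
        obtain ⟨v, hv, hvh⟩ := fg_exists_conj hfpf hh h1 hk₀
        exact ⟨(⟨v, hv⟩, ⟨⟨h, hh⟩, fun hc => h1 (congrArg Subtype.val hc)⟩), Subtype.ext hvh⟩)

theorem clEquiv_apply (hKH : K ⊓ H = ⊥) (hKH' : K ⊔ H = ⊤)
    (hfpf : ∀ h ∈ H, h ≠ 1 → ∀ k ∈ K, h * k = k * h → k = 1) (p : K × {h : H // h ≠ 1}) :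
    ((clEquiv hKH hKH' hfpf p : {y : G // y ∉ K}) : G)
      = (p.1 : G) * (p.2.1 : G) * (p.1 : G)⁻¹ := rfl

/-- Centralizer orders of conjugates of elements of `H`. -/
theorem cl_card_commute_conj (hKH : K ⊓ H = ⊥) (hKH' : K ⊔ H = ⊤)
    (hfpf : ∀ h ∈ H, h ≠ 1 → ∀ k ∈ K, h * k = k * h → k = 1) (v : G) (h : H) (h1 : h ≠ 1) :
    Nat.card {b : G // Commute (v * (h : G) * v⁻¹) b}
      = Nat.card {b : H // Commute h b} := by
  have h1' : (h : G) ≠ 1 := fun hc => h1 (Subtype.ext hc)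
  apply Nat.card_congr
  refine
    { toFun := fun b => ⟨⟨v⁻¹ * b.1 * v, ?_⟩, ?_⟩
      invFun := fun c => ⟨v * (c.1 : G) * v⁻¹, ?_⟩
      left_inv := ?_
      right_inv := ?_ }
  · have hb : (v * (h : G) * v⁻¹) * b.1 = b.1 * (v * (h : G) * v⁻¹) := b.2
    apply cl_commute_mem hKH hKH' hfpf h.2 h1'
    have e1 : (h : G) * (v⁻¹ * b.1 * v) = v⁻¹ * ((v * (h : G) * v⁻¹) * b.1) * v := by group
    have e2 : (v⁻¹ * b.1 * v) * (h : G) = v⁻¹ * (b.1 * (v * (h : G) * v⁻¹)) * v := by group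
    rw [e1, e2, hb]
  · have hb : (v * (h : G) * v⁻¹) * b.1 = b.1 * (v * (h : G) * v⁻¹) := b.2
    show h * _ = _ * h
    apply Subtype.ext
    show (h : G) * (v⁻¹ * b.1 * v) = (v⁻¹ * b.1 * v) * (h : G)
    have e1 : (h : G) * (v⁻¹ * b.1 * v) = v⁻¹ * ((v * (h : G) * v⁻¹) * b.1) * v := by group
    have e2 : (v⁻¹ * b.1 * v) * (h : G) = v⁻¹ * (b.1 * (v * (h : G) * v⁻¹)) * v := by group
    rw [e1, e2, hb]
  · have hc : h * c.1 = c.1 * h := c.2
    have hc' : (h : G) * (c.1 : G) = (c.1 : G) * (h : G) := congrArg Subtype.val hc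
    show (v * (h : G) * v⁻¹) * (v * (c.1 : G) * v⁻¹) = (v * (c.1 : G) * v⁻¹) * (v * (h : G) * v⁻¹)
    have e1 : (v * (h : G) * v⁻¹) * (v * (c.1 : G) * v⁻¹) = v * ((h : G) * (c.1 : G)) * v⁻¹ := by
      group
    have e2 : (v * (c.1 : G) * v⁻¹) * (v * (h : G) * v⁻¹) = v * ((c.1 : G) * (h : G)) * v⁻¹ := by
      group
    rw [e1, e2, hc']
  · intro b
    apply Subtype.ext
    show v * (v⁻¹ * b.1 * v) * v⁻¹ = b.1
    group
  · intro c
    apply Subtype.ext
    apply Subtype.ext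
    show v⁻¹ * (v * (c.1 : G) * v⁻¹) * v = (c.1 : G)
    group

/-- Centralizer orders of non-identity elements of `K`. -/
theorem cl_card_commute_kernel (hKH' : K ⊔ H = ⊤)
    (hfpf : ∀ h ∈ H, h ≠ 1 → ∀ k ∈ K, h * k = k * h → k = 1) (y : K) (hy : y ≠ 1) :
    Nat.card {b : G // Commute (y : G) b} = Nat.card {b : K // Commute y b} := by
  have hy' : (y : G) ≠ 1 := fun hc => hy (Subtype.ext hc)
  apply Nat.card_congr
  refine
    { toFun := fun b => ⟨⟨b.1, ?_⟩, ?_⟩
      invFun := fun c => ⟨(c.1 : G), ?_⟩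
      left_inv := fun b => rfl
      right_inv := fun c => rfl }
  · by_contra hb
    have hc : (y : G) * b.1 = b.1 * (y : G) := b.2
    exact hy' (fg_cent hKH' hfpf hb y.2 hc.symm)
  · have hc : (y : G) * b.1 = b.1 * (y : G) := b.2
    show y * _ = _ * y
    exact Subtype.ext hc
  · have hc : y * c.1 = c.1 * y := c.2
    exact congrArg Subtype.val hc

theorem cl_card_commute_one (X : Type*) [Group X] :
    Nat.card {b : X // Commute (1 : X) b} = Nat.card X :=
  Nat.card_congr (Equiv.subtypeUnivEquiv (fun b => Commute.one_left b))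

/-- **Class number of a Frobenius group.** -/
theorem cl_class_number (hKH : K ⊓ H = ⊥) (hKH' : K ⊔ H = ⊤)
    (hfpf : ∀ h ∈ H, h ≠ 1 → ∀ k ∈ K, h * k = k * h → k = 1) :
    Nat.card H * Nat.card (ConjClasses G) + 1
      = Nat.card H * Nat.card (ConjClasses H) + Nat.card (ConjClasses K) := by
  classical
  have := Fintype.ofFinite G
  have hG := cl_sum_card_commute G
  have hKs := cl_sum_card_commute K
  have hHs := cl_sum_card_commute H
  -- |G| = |K| |H|
  have hcard : Nat.card G = Nat.card K * Nat.card H := by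
    rw [← Nat.card_prod]
    symm
    apply Nat.card_congr
    refine Equiv.ofBijective (fun p : K × H => (p.1 : G) * (p.2 : G)) ⟨?_, ?_⟩
    · rintro ⟨k₁, h₁⟩ ⟨k₂, h₂⟩ he
      obtain ⟨e1, e2⟩ := cl_mul_unique hKH k₁.2 k₂.2 h₁.2 h₂.2 he
      exact Prod.ext (Subtype.ext e1) (Subtype.ext e2)
    · intro g
      obtain ⟨k, hk, h, hh, rfl⟩ := fg_exists_mul hKH' g
      exact ⟨(⟨k, hk⟩, ⟨h, hh⟩), rfl⟩
  -- split the sum over G
  have hsplit : ∑ y : K, Nat.card {b : G // Commute (y : G) b}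
      + ∑ y : {y : G // y ∉ K}, Nat.card {b : G // Commute (y : G) b}
      = ∑ y : G, Nat.card {b : G // Commute y b} :=
    Fintype.sum_subtype_add_sum_subtype (fun y : G => y ∈ K)
      (fun y => Nat.card {b : G // Commute y b})
  -- part A
  have hA : ∑ y : K, Nat.card {b : G // Commute (y : G) b} + Nat.card K
      = ∑ y : K, Nat.card {b : K // Commute y b} + Nat.card G := by
    have hterm : ∀ y : K, Nat.card {b : G // Commute (y : G) b} + (if y = 1 then Nat.card K else 0)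
        = Nat.card {b : K // Commute y b} + (if y = 1 then Nat.card G else 0) := by
      intro y
      by_cases hy : y = 1
      · subst hy
        rw [if_pos rfl, if_pos rfl, cl_card_commute_one K]
        have : Nat.card {b : G // Commute ((1 : K) : G) b} = Nat.card G := cl_card_commute_one G
        rw [this, add_comm]
      · rw [if_neg hy, if_neg hy, cl_card_commute_kernel hKH' hfpf y hy]
    have := Finset.sum_congr (rfl : (Finset.univ : Finset K) = Finset.univ) (fun y _ => hterm y)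
    rw [Finset.sum_add_distrib, Finset.sum_add_distrib, Finset.sum_ite_eq', Finset.sum_ite_eq'] at this
    simpa using this
  -- part B
  have hH1 : ∑ h : H, Nat.card {b : H // Commute h b}
      = Nat.card H + ∑ h : {h : H // h ≠ 1}, Nat.card {b : H // Commute h.1 b} := by
    rw [← Finset.add_sum_erase Finset.univ _ (Finset.mem_univ (1 : H)), cl_card_commute_one H]
    congr 1
    exact Finset.sum_subtype (Finset.univ.erase (1 : H)) (p := fun h => h ≠ 1)
      (fun x => by simp) (fun h => Nat.card {b : H // Commute h b})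
  have hB : ∑ y : {y : G // y ∉ K}, Nat.card {b : G // Commute (y : G) b}
      + Nat.card K * Nat.card H
      = Nat.card K * ∑ h : H, Nat.card {b : H // Commute h b} := by
    rw [← (clEquiv hKH hKH' hfpf).sum_comp (fun y => Nat.card {b : G // Commute (y : G) b})]
    have hterm : ∀ p : K × {h : H // h ≠ 1},
        Nat.card {b : G // Commute ((clEquiv hKH hKH' hfpf p : {y : G // y ∉ K}) : G) b}
          = Nat.card {b : H // Commute p.2.1 b} := by
      intro p
      rw [clEquiv_apply]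
      exact cl_card_commute_conj hKH hKH' hfpf (p.1 : G) p.2.1 p.2.2
    rw [Finset.sum_congr rfl (fun p _ => hterm p), Fintype.sum_prod_type]
    simp only [Finset.sum_const, Finset.card_univ, smul_eq_mul]
    rw [hH1, ← Nat.card_eq_fintype_card]
    ring
  -- combine
  have hKpos : 0 < Nat.card K := Nat.card_pos
  have hfinal : Nat.card K * (Nat.card H * Nat.card (ConjClasses G) + 1)
      = Nat.card K * (Nat.card H * Nat.card (ConjClasses H) + Nat.card (ConjClasses K)) := by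
    have e1 : Nat.card (ConjClasses G) * Nat.card G + Nat.card K + Nat.card K * Nat.card H
        = Nat.card (ConjClasses K) * Nat.card K + Nat.card G
          + Nat.card K * (Nat.card (ConjClasses H) * Nat.card H) := by
      rw [← hG, ← hKs, ← hHs, ← hsplit]
      omega
    rw [hcard] at e1
    nlinarith [e1]
  exact Nat.eq_of_mul_eq_mul_left hKpos hfinal

end Main

end Cfsg.Agent.Helper75
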