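import Mathlib

/-!
# CA-groups (helper75)

Group-theoretic part of Suzuki's CA-theorem: in a group in which the centralizer of every
non-identity element is abelian, these centralizers are T.I. Hall subgroups; a minimal non-solvable
CA-group of odd order is simple and the centralizers are properly contained in their normalizers.
-/

set_option autoImplicit false

namespace Cfsg.Agent.Helper75

universe u

/-- The centralizer of every non-identity element is abelian. -/
def IsCA (G : Type u) [Group G] : Prop :=
  ∀ x : G, x ≠ 1 → ∀ a ∈ Subgroup.centralizer ({x} : Set G),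
    ∀ b ∈ Subgroup.centralizer ({x} : Set G), a * b = b * a

section Basic

variable {G : Type u} [Group G]

theorem ca_centralizer_le (h : IsCA G) {x y : G} (hx : x ≠ 1)
    (hyx : y ∈ Subgroup.centralizer ({x} : Set G)) :
    Subgroup.centralizer ({x} : Set G) ≤ Subgroup.centralizer ({y} : Set G) := by
  intro a ha
  rw [Subgroup.mem_centralizer_singleton_iff]
  exact h x hx a ha y hyx

theorem ca_centralizer_eq (h : IsCA G) {x y : G} (hx : x ≠ 1) (hy : y ≠ 1)
    (hyx : y ∈ Subgroup.centralizer ({x} : Set G)) :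
    Subgroup.centralizer ({y} : Set G) = Subgroup.centralizer ({x} : Set G) := by
  refine le_antisymm ?_ (ca_centralizer_le h hx hyx)
  apply ca_centralizer_le h hy
  rw [Subgroup.mem_centralizer_singleton_iff] at hyx ⊢
  exact hyx.symm

theorem ca_self_mem (x : G) : x ∈ Subgroup.centralizer ({x} : Set G) := by
  rw [Subgroup.mem_centralizer_singleton_iff]

theorem ca_centralizer_conj (x g : G) (a : G) :
    a ∈ Subgroup.centralizer ({g * x * g⁻¹} : Set G) ↔
      g⁻¹ * a * g ∈ Subgroup.centralizer ({x} : Set G) := by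
  rw [Subgroup.mem_centralizer_singleton_iff, Subgroup.mem_centralizer_singleton_iff]
  constructor
  · intro h
    have : g⁻¹ * (a * (g * x * g⁻¹)) * g = g⁻¹ * ((g * x * g⁻¹) * a) * g := by rw [h]
    calc g⁻¹ * a * g * x = g⁻¹ * (a * (g * x * g⁻¹)) * g := by group
      _ = g⁻¹ * ((g * x * g⁻¹) * a) * g := this
      _ = x * (g⁻¹ * a * g) := by group
  · intro h
    calc a * (g * x * g⁻¹) = g * ((g⁻¹ * a * g) * x) * g⁻¹ := by group
      _ = g * (x * (g⁻¹ * a * g)) * g⁻¹ := by rw [h]
      _ = g * x * g⁻¹ * a := by group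

/-- The centralizer of a non-identity element of a CA-group is a T.I. set. -/
theorem ca_TI (h : IsCA G) {x : G} (hx : x ≠ 1) (g : G)
    (hg : g ∉ Subgroup.normalizer ((Subgroup.centralizer ({x} : Set G) : Subgroup G) : Set G))
    (k : G) (hk : k ∈ Subgroup.centralizer ({x} : Set G))
    (hgk : g * k * g⁻¹ ∈ Subgroup.centralizer ({x} : Set G)) : k = 1 := by
  by_contra hk1
  apply hg
  have hgk1 : g * k * g⁻¹ ≠ 1 := by
    intro h1
    apply hk1
    have : k = g⁻¹ * (g * k * g⁻¹) * g := by group
    rw [this, h1]; group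
  have e1 := ca_centralizer_eq h hx hk1 hk
  have e2 := ca_centralizer_eq h hx hgk1 hgk
  rw [Subgroup.mem_normalizer_iff]
  intro a
  have h1 : a ∈ Subgroup.centralizer ({x} : Set G) ↔ a ∈ Subgroup.centralizer ({k} : Set G) := by
    rw [e1]
  have h2 : g * a * g⁻¹ ∈ Subgroup.centralizer ({x} : Set G) ↔
      g * a * g⁻¹ ∈ Subgroup.centralizer ({g * k * g⁻¹} : Set G) := by rw [e2]
  rw [h1, h2, ca_centralizer_conj]
  have : g⁻¹ * (g * a * g⁻¹) * g = a := by group
  rw [this]

theorem ca_subgroup (h : IsCA G) (H : Subgroup G) : IsCA H := by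
  intro x hx a ha b hb
  have hx' : (x : G) ≠ 1 := fun hc => hx (Subtype.ext hc)
  rw [Subgroup.mem_centralizer_singleton_iff] at ha hb
  have ha' : (a : G) ∈ Subgroup.centralizer ({(x : G)} : Set G) := by
    rw [Subgroup.mem_centralizer_singleton_iff]
    exact_mod_cast congrArg Subtype.val ha
  have hb' : (b : G) ∈ Subgroup.centralizer ({(x : G)} : Set G) := by
    rw [Subgroup.mem_centralizer_singleton_iff]
    exact_mod_cast congrArg Subtype.val hb
  exact Subtype.ext (h x hx' a ha' b hb')

theorem ca_mulEquiv {H : Type u} [Group H] (h : IsCA G) (e : H ≃* G) : IsCA H := by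
  intro x hx a ha b hb
  have hx' : e x ≠ 1 := by
    intro hc
    apply hx
    exact e.injective (by rw [hc, map_one])
  rw [Subgroup.mem_centralizer_singleton_iff] at ha hb
  have ha' : e a ∈ Subgroup.centralizer ({e x} : Set G) := by
    rw [Subgroup.mem_centralizer_singleton_iff, ← map_mul, ← map_mul, ha]
  have hb' : e b ∈ Subgroup.centralizer ({e x} : Set G) := by
    rw [Subgroup.mem_centralizer_singleton_iff, ← map_mul, ← map_mul, hb]
  apply e.injective
  rw [map_mul, map_mul]
  exact h (e x) hx' _ ha' _ hb'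

end Basic

section Finite

variable {G : Type u} [Group G] [Finite G]

/-- If a prime divides the order of the centralizer `M` of a non-identity element of a CA-group,
then `M` contains a Sylow `p`-subgroup of the group. -/
theorem ca_sylow_le (h : IsCA G) {x : G} (hx : x ≠ 1) {p : ℕ} [hp : Fact p.Prime]
    (hdvd : p ∣ Nat.card (Subgroup.centralizer ({x} : Set G))) :
    ∃ P : Sylow p G, (P : Subgroup G) ≤ Subgroup.centralizer ({x} : Set G) := by
  classical
  let M := Subgroup.centralizer ({x} : Set G)
  obtain ⟨y, hy⟩ := exists_prime_orderOf_dvd_card' (G := M) p hdvd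
  have hy1 : (y : G) ≠ 1 := by
    intro hc
    have : y = 1 := Subtype.ext hc
    rw [this, orderOf_one] at hy
    exact hp.out.one_lt.ne hy
  have hyo : orderOf (y : G) = p := by rw [← hy]; exact Subgroup.orderOf_coe y
  have hpg : IsPGroup p (Subgroup.zpowers (y : G)) := by
    apply IsPGroup.of_card (n := 1)
    rw [Nat.card_zpowers, hyo, pow_one]
  obtain ⟨P, hP⟩ := hpg.exists_le_sylow
  refine ⟨P, ?_⟩
  have hyP : (y : G) ∈ (P : Subgroup G) := hP (Subgroup.mem_zpowers _)
  have hnt : Nontrivial (P : Subgroup G) :=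
    ⟨⟨⟨y, hyP⟩, 1, fun hc => hy1 (congrArg Subtype.val hc)⟩⟩
  obtain ⟨z, hz⟩ := (Subgroup.nontrivial_iff_exists_ne_one _).mp
    (P.2.center_nontrivial (G := (P : Subgroup G)))
  obtain ⟨hzc, hz1⟩ := hz
  have hz1' : ((z : (P : Subgroup G)) : G) ≠ 1 := by
    intro hc
    apply hz1
    exact Subtype.ext hc
  -- z commutes with y, so z ∈ C(y) = M
  have hMy : Subgroup.centralizer ({(y : G)} : Set G) = M := ca_centralizer_eq h hx hy1 y.2
  have hzM : ((z : (P : Subgroup G)) : G) ∈ M := by
    rw [← hMy, Subgroup.mem_centralizer_singleton_iff]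
    have := Subgroup.mem_center_iff.mp hzc ⟨y, hyP⟩
    have h2 := congrArg Subtype.val this
    simpa using h2.symm
  have hMz : Subgroup.centralizer ({((z : (P : Subgroup G)) : G)} : Set G) = M :=
    ca_centralizer_eq h hx hz1' hzM
  intro a ha
  show a ∈ M
  rw [← hMz, Subgroup.mem_centralizer_singleton_iff]
  have := Subgroup.mem_center_iff.mp hzc ⟨a, ha⟩
  have h2 := congrArg Subtype.val this
  simpa using h2

/-- Centralizers of non-identity elements of a finite CA-group are Hall subgroups. -/
theorem ca_coprime (h : IsCA G) {x : G} (hx : x ≠ 1) :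
    (Nat.card (Subgroup.centralizer ({x} : Set G))).Coprime
      (Subgroup.centralizer ({x} : Set G)).index := by
  rw [Nat.coprime_iff_gcd_eq_one]
  by_contra hne
  obtain ⟨p, hp, hpd⟩ := Nat.exists_prime_and_dvd hne
  have : Fact p.Prime := ⟨hp⟩
  have hd1 := hpd.trans (Nat.gcd_dvd_left _ _)
  have hd2 := hpd.trans (Nat.gcd_dvd_right _ _)
  obtain ⟨P, hP⟩ := ca_sylow_le h hx hd1
  -- index of M divides index of P, which is prime to p
  have hidx : (Subgroup.centralizer ({x} : Set G)).index ∣ (P : Subgroup G).index :=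
    Subgroup.index_dvd_of_le hP
  exact (P.not_dvd_index) (hd2.trans hidx)

end Finite

end Cfsg.Agent.Helper75
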