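import Cfsg.Agent.Helper75.CACount
import Cfsg.Agent.Helper75.CAGroup

/-!
# Families of exceptional characters in a CA-group (helper75)
-/

set_option autoImplicit false

namespace Cfsg.Agent.Helper75

open Cfsg
open scoped ComplexConjugate

universe u

section Data

variable {G : Type u} [Group G] [Fintype G]

/-- The index of `K` in its normalizer. -/
noncomputable def caE (K : Subgroup G) : ℕ := (K.subgroupOf (Subgroup.normalizer (K : Set G))).index

/-- The number of exceptional characters attached to `K`. -/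
noncomputable def caT (K : Subgroup G) : ℕ :=
  Nat.card {ψ : IrrCharacter G // (ψ : G → ℂ) ∈ excFam K}

/-- The numerical data of the family of exceptional characters attached to `K`. -/
structure ExcData (K : Subgroup G) (ε c : ℤ) : Prop where
  hε : ε = 1 ∨ ε = -1
  sum1 : ∀ ψ ∈ excFam K, ∑ k ∈ Ksharp K, ψ k
    = ((-ε * (caE K : ℤ) + c * ((Nat.card K : ℤ) - 1) : ℤ) : ℂ)
  sum2 : ∀ ψ ∈ excFam K, ∑ k ∈ Ksharp K, ψ k * conj (ψ k)
    = (((caE K : ℤ) * (Nat.card K : ℤ) - (caE K : ℤ) ^ 2 - 2 * ε * c * (caE K : ℤ)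
        + c ^ 2 * ((Nat.card K : ℤ) - 1) : ℤ) : ℂ)
  off : ∀ ψ ∈ excFam K, ∀ ψ' ∈ excFam K, ∀ g : G, (g = 1 ∨ ∀ h : G, h * g * h⁻¹ ∉ K) →
    ψ g = ψ' g
  two : 2 ≤ caT K
  count : caT K * caE K + 1 = Nat.card K

theorem ca_exc_package' {K : Subgroup G} [Fintype ↥(Subgroup.normalizer (K : Set G))]
    (hC : ∀ k ∈ K, k ≠ 1 → Subgroup.centralizer ({k} : Set G) ≤ K)
    (hab : ∀ a ∈ K, ∀ b ∈ K, a * b = b * a)
    (hTI : ∀ g : G, g ∉ Subgroup.normalizer (K : Set G) → ∀ k ∈ K, g * k * g⁻¹ ∈ K → k = 1)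
    (htwo : ∃ ζ ∈ tfS K, ∃ ζ' ∈ tfS K, ζ ≠ ζ') : ∃ ε c : ℤ, ExcData K ε c := by
  obtain ⟨ε, c, h1, h2, h3, h4, h5, h6⟩ := ca_exc_package hC hab hTI htwo
  exact ⟨ε, c, ⟨h1, h2, h3, h4, h5, h6⟩⟩

/-- An irreducible character outside `excFam K` takes a constant integer value on `K \ {1}`. -/
theorem ca_const_of_not_mem {K : Subgroup G} {θ : G → ℂ} (hθ : IsIrrCharacter G θ)
    (hnot : θ ∉ excFam K) {x : G} (hx : x ∈ K) (hx1 : x ≠ 1) :
    ∃ a : ℤ, ∀ k ∈ K, k ≠ 1 → θ k = a := by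
  classical
  let _ : Fintype K := Fintype.ofFinite K
  have hconst : ∀ k ∈ K, k ≠ 1 → θ k = θ x := by
    intro k hk hk1
    by_contra hne
    exact hnot ⟨hθ, k, hk, x, hx, hk1, hx1, hne⟩
  have hnt : Nontrivial K := ⟨⟨⟨x, hx⟩, 1, fun h => hx1 (congrArg Subtype.val h)⟩⟩
  have hA : IsCharacter K (fun k : K => θ (k : G)) :=
    Helper74.isCharacter_restrict K (Helper74.isCharacter_of_isIrr hθ)
  obtain ⟨t, ht⟩ := tf_const_int hnt hA Helper74.isCharacter_zero Helper74.isCharacter_zero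
    (T := θ x) (by
      intro k hk1
      simp only [Pi.zero_apply, sub_zero]
      exact hconst k k.2 (fun h => hk1 (Subtype.ext h)))
  exact ⟨t, fun k hk hk1 => by rw [hconst k hk hk1, ht]⟩

omit [Fintype G] in
theorem ca_one_not_mem_excFam (K : Subgroup G) : (fun _ : G => (1 : ℂ)) ∉ excFam K := by
  rintro ⟨_, a, _, b, _, _, _, hne⟩
  exact hne rfl

/-- `excFam K` is closed under complex conjugation. -/
theorem ca_conj_mem_excFam {K : Subgroup G} {ψ : IrrCharacter G}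
    (h : ((Helper74.irrConj ψ : IrrCharacter G) : G → ℂ) ∈ excFam K) :
    (ψ : G → ℂ) ∈ excFam K := by
  obtain ⟨_, a, ha, b, hb, ha1, hb1, hne⟩ := h
  refine ⟨ψ.2, a, ha, b, hb, ha1, hb1, ?_⟩
  intro heq
  apply hne
  rw [Helper74.irrConj_apply, Helper74.irrConj_apply, heq]

/-- Existence of a second member of `excFam K`. -/
theorem ca_exists_ne {K : Subgroup G} {ε c : ℤ} (D : ExcData K ε c) (ψ : G → ℂ) :
    ∃ ψ₂ ∈ excFam K, ψ₂ ≠ ψ := by
  classical
  have h2 := D.two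
  unfold caT at h2
  have hfin : Finite {ψ : IrrCharacter G // (ψ : G → ℂ) ∈ excFam K} :=
    @Subtype.finite _ (Helper74.irr_finite) _
  have hnt : Nontrivial {ψ : IrrCharacter G // (ψ : G → ℂ) ∈ excFam K} :=
    Finite.one_lt_card_iff_nontrivial.mp (by omega)
  obtain ⟨a, b, hab⟩ := hnt
  by_cases ha : ((a : IrrCharacter G) : G → ℂ) = ψ
  · refine ⟨_, b.2, ?_⟩
    intro hb
    apply hab
    apply Subtype.ext
    apply Subtype.ext
    rw [ha, hb]
  · exact ⟨_, a.2, ha⟩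

/-- Families attached to subgroups whose sets of conjugates are disjoint are disjoint. -/
theorem ca_excFam_disjoint {K K' : Subgroup G} {ε c ε' c' : ℤ} (D : ExcData K ε c)
    (D' : ExcData K' ε' c') (hdisj : ∀ g ∈ Kconj K, g ∉ Kconj K') {ψ : G → ℂ}
    (hψ : ψ ∈ excFam K) : ψ ∉ excFam K' := by
  classical
  intro hψ'
  obtain ⟨ψ₂, hψ₂, hne₂⟩ := ca_exists_ne D ψ
  obtain ⟨ψ₃, hψ₃, hne₃⟩ := ca_exists_ne D' ψ
  have hzero : classInner (ψ - ψ₂) (ψ - ψ₃) = 0 := by
    rw [Helper15.classInner_apply, Finset.sum_eq_zero, mul_zero]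
    intro g _
    by_cases hg : g ∈ Kconj K
    · have hg' := hdisj g hg
      have : ψ g = ψ₃ g := by
        apply D'.off ψ hψ' ψ₃ hψ₃ g
        by_cases hg1 : g = 1
        · exact Or.inl hg1
        · right
          intro h hh
          exact hg' (mem_Kconj.mpr ⟨hg1, h, hh⟩)
      simp [this]
    · have : ψ g = ψ₂ g := by
        apply D.off ψ hψ ψ₂ hψ₂ g
        by_cases hg1 : g = 1
        · exact Or.inl hg1
        · right
          intro h hh
          exact hg (mem_Kconj.mpr ⟨hg1, h, hh⟩)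
      simp [this]
  rw [Helper15.classInner_sub_left, Helper15.classInner_sub_right, Helper15.classInner_sub_right,
    ca_irr_inner hψ.1 hψ.1, ca_irr_inner hψ.1 hψ₃.1, ca_irr_inner hψ₂.1 hψ.1,
    ca_irr_inner hψ₂.1 hψ₃.1, if_pos rfl, if_neg (Ne.symm hne₃), if_neg hne₂] at hzero
  by_cases h23 : ψ₂ = ψ₃
  · rw [if_pos h23] at hzero
    norm_num at hzero
  · rw [if_neg h23] at hzero
    norm_num at hzero

end Data

end Cfsg.Agent.Helper75
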