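-- helper75: S2500 part (5), leaf (GU) for helper38 (#12550).
import Mathlib
import Cfsg.Agent.Helper38.Cov2P5.Defs

set_option autoImplicit false

namespace Cfsg.Agent.Helper75.P5

open Matrix Polynomial Module Cfsg.Agent.S2587 Cfsg.Agent.S2578 Cfsg.Agent.Helper45.GU
  Cfsg.Agent.Helper38.Cov2

variable {F : Type*} [Field F] [Fintype F] {q : ℕ}

/-- (GU) `GL`-conjugate elements of `SU_3(q)` are conjugate under a unitary matrix (S2587) -/
theorem exists_unitary_conj (hF : Fintype.card F = q ^ 2) (bar : F →+* F)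
    (hbar : ∀ x, bar x = x ^ q) (A B : ↥(Cfsg.SU 3 F q)) (y : Matrix (Fin 3) (Fin 3) F)
    (hy : IsUnit y.det) (h : y * mat A = mat B * y) :
    ∃ Y : Matrix (Fin 3) (Fin 3) F, st bar Y * Y = 1 ∧ Y * mat A = mat B * Y := by
  classical
  -- lift to `GU`
  have hmem : ∀ s : ↥(Cfsg.SU 3 F q),
      (Matrix.SpecialLinearGroup.toGL (s : SpecialLinearGroup (Fin 3) F)) ∈ Cfsg.GU 3 F q := by
    intro s
    rw [mem_GU_iff 3 bar hbar]
    exact (mem_SU_iff 3 bar hbar s.1).1 s.2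
  set A' : ↥(Cfsg.GU 3 F q) := ⟨_, hmem A⟩ with hA'
  set B' : ↥(Cfsg.GU 3 F q) := ⟨_, hmem B⟩ with hB'
  have hA'm : (((A' : GL (Fin 3) F)) : Matrix (Fin 3) (Fin 3) F) = mat A := rfl
  have hB'm : (((B' : GL (Fin 3) F)) : Matrix (Fin 3) (Fin 3) F) = mat B := rfl
  have hconj : IsConj (A' : GL (Fin 3) F) (B' : GL (Fin 3) F) := by
    rw [isConj_iff]
    refine ⟨Matrix.GeneralLinearGroup.mkOfDetNeZero y hy.ne_zero, ?_⟩
    rw [mul_inv_eq_iff_eq_mul]
    apply Units.ext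
    rw [Units.val_mul, Units.val_mul, hA'm, hB'm]
    exact h
  obtain ⟨c, hc⟩ := isConj_iff.1 ((Cfsg.Agent.S2587.result hF A' B').2 hconj)
  refine ⟨((c : GL (Fin 3) F) : Matrix (Fin 3) (Fin 3) F), ?_, ?_⟩
  · have h1 := (mem_GU_iff 3 bar hbar (c : GL (Fin 3) F)).1 c.2
    have h2 := unitary_of_herm bar ((c : GL (Fin 3) F) : Matrix (Fin 3) (Fin 3) F) h1
    have h3 := congrArg Matrix.transpose h2
    rw [Matrix.transpose_mul, Matrix.transpose_transpose, Matrix.transpose_one] at h3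
    exact h3
  · have h1 := mul_inv_eq_iff_eq_mul.1 hc
    have h2 := congrArg
      (fun x : ↥(Cfsg.GU 3 F q) => ((x : GL (Fin 3) F) : Matrix (Fin 3) (Fin 3) F)) h1
    simp only [Subgroup.coe_mul, Units.val_mul] at h2
    rw [hA'm, hB'm] at h2
    exact h2

end Cfsg.Agent.Helper75.P5
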