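import Cfsg.Agent.Helper38.FP.Defs

/-!
# (AD) of helper38's farm #10138/#10154 for S2276: adjusting the block components by conjugation
-/

set_option autoImplicit false
set_option linter.unusedVariables false

namespace Cfsg.Agent.Helper75.FP

open Equiv Cfsg.Agent.Helper38.FP

variable {α : Type} [Fintype α] [DecidableEq α] {p : ℕ}

/-- (AD) adjusting the block components by conjugation.  HINT: `c := prodDesc (fun j => u ^ j *
Perm.ofSubtype (y j) * u⁻¹ ^ j) k`; the `i`-th factor is supported on `blk B u i`; for `i ≠ j < k`,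
`u⁻¹ ^ j * (i-th factor) * u ^ j` fixes `B` pointwise (`FP.disjoint_blk`), so `u⁻¹ ^ j * c * u ^ j ∈ stab`
restricts to `y j` (`Perm.subtypePerm_ofSubtype`). -/
theorem exists_adjust (B : Finset α) (u : Perm α) (k : ℕ)
    (hB : ∀ a ∈ B, ∀ j : ℕ, 0 < j → j < k → (u ^ j) a ∉ B)
    (hBk : ∀ a, (u ^ k) a ∈ B ↔ a ∈ B)
    (y : ℕ → Perm {a // a ∈ B}) :
    ∃ c : Perm α, Perm.sign c = prodDesc (fun j => Perm.sign (y j)) k ∧
      ∀ (w₁ : Perm α) (j : ℕ), j < k →
        ∀ (h1 : u⁻¹ ^ j * w₁ * u ^ j ∈ stab (fun a => a ∈ B)),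
          ∃ h2 : u⁻¹ ^ j * (c * w₁ * c⁻¹) * u ^ j ∈ stab (fun a => a ∈ B),
            restr (fun a => a ∈ B) ⟨_, h2⟩ = y j * restr (fun a => a ∈ B) ⟨_, h1⟩ * (y j)⁻¹ := by
  classical
  set f : ℕ → Perm α := fun i => u ^ i * Perm.ofSubtype (y i) * u⁻¹ ^ i with hf
  have hdisj := disjoint_blk B u k hB
  have hcancel : ∀ (i : ℕ) (b : α), (u ^ i) ((u⁻¹ ^ i) b) = b := by
    intro i b
    simp [inv_pow]
  have hcancel' : ∀ (i : ℕ) (b : α), (u⁻¹ ^ i) ((u ^ i) b) = b := by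
    intro i b
    simp [inv_pow]
  -- `f i` fixes `blk j` pointwise for `i ≠ j`
  have hfix : ∀ i < k, ∀ j < k, i ≠ j → ∀ a ∈ B, f i ((u ^ j) a) = (u ^ j) a := by
    intro i hi j hj hij a ha
    have hnot : (u⁻¹ ^ i) ((u ^ j) a) ∉ B := by
      intro hmem
      have h1 : (u ^ j) a ∈ blk B u i := (mem_blk B u i _).2 hmem
      have h2 : (u ^ j) a ∈ blk B u j := Finset.mem_image_of_mem _ ha
      exact Finset.disjoint_left.1 (hdisj i hi j hj hij) h1 h2
    show (u ^ i * Perm.ofSubtype (y i) * u⁻¹ ^ i) ((u ^ j) a) = (u ^ j) a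
    rw [Perm.mul_apply, Perm.mul_apply, Perm.ofSubtype_apply_of_not_mem _ hnot, hcancel]
  have hact : ∀ (j : ℕ) (a : α) (ha : a ∈ B),
      f j ((u ^ j) a) = (u ^ j) ((y j ⟨a, ha⟩ : α)) := by
    intro j a ha
    show (u ^ j * Perm.ofSubtype (y j) * u⁻¹ ^ j) ((u ^ j) a) = _
    rw [Perm.mul_apply, Perm.mul_apply, hcancel', Perm.ofSubtype_apply_of_mem _ ha]
  -- partial products
  have hprod : ∀ m ≤ k, ∀ j < k, ∀ (a : α) (ha : a ∈ B),
      prodDesc f m ((u ^ j) a) =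
        if j < m then (u ^ j) ((y j ⟨a, ha⟩ : α)) else (u ^ j) a := by
    intro m
    induction m with
    | zero =>
      intro _ j _ a ha
      simp
    | succ m ih =>
      intro hm j hj a ha
      rw [prodDesc_succ, Perm.mul_apply, ih (by omega) j hj a ha]
      by_cases h1 : j < m
      · rw [if_pos h1, if_pos (by omega)]
        exact hfix m (by omega) j hj (by omega) _ (y j ⟨a, ha⟩).2
      · rw [if_neg h1]
        by_cases h2 : j = m
        · subst h2
          rw [if_pos (by omega)]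
          exact hact j a ha
        · rw [if_neg (by omega)]
          exact hfix m (by omega) j hj (fun h => h2 h.symm) a ha
  have hc : ∀ j < k, ∀ (a : α) (ha : a ∈ B),
      prodDesc f k ((u ^ j) a) = (u ^ j) ((y j ⟨a, ha⟩ : α)) := by
    intro j hj a ha
    rw [hprod k le_rfl j hj a ha, if_pos hj]
  -- the sign
  have hsign : Perm.sign (prodDesc f k) = prodDesc (fun j => Perm.sign (y j)) k := by
    rw [map_prodDesc Perm.sign f k]
    apply prodDesc_congr
    intro j _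
    show Perm.sign (u ^ j * Perm.ofSubtype (y j) * u⁻¹ ^ j) = Perm.sign (y j)
    rw [map_mul, map_mul, map_pow, map_pow, map_inv, Perm.sign_ofSubtype,
      mul_comm (Perm.sign u ^ j), mul_assoc, inv_pow, mul_inv_cancel, mul_one]
  refine ⟨prodDesc f k, hsign, ?_⟩
  intro w₁ j hj h1
  set c : Perm α := prodDesc f k with hcdef
  set d : Perm α := u⁻¹ ^ j * c * u ^ j with hd
  have hdB : ∀ (a : α) (ha : a ∈ B), d a = (y j ⟨a, ha⟩ : α) := by
    intro a ha
    show (u⁻¹ ^ j * c * u ^ j) a = _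
    rw [Perm.mul_apply, Perm.mul_apply, hc j hj a ha, hcancel']
  have hmaps : ∀ a ∈ B, d a ∈ B := by
    intro a ha
    rw [hdB a ha]
    exact (y j ⟨a, ha⟩).2
  have hdstab : d ∈ stab (fun a => a ∈ B) := by
    intro a
    constructor
    · intro h
      have h' : d.symm (d a) ∈ B := Equiv.Perm.perm_symm_on_of_perm_on_finset hmaps h
      simpa using h'
    · intro h
      exact hmaps a h
  have heq : u⁻¹ ^ j * (c * w₁ * c⁻¹) * u ^ j = d * (u⁻¹ ^ j * w₁ * u ^ j) * d⁻¹ := by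
    rw [hd]
    simp only [inv_pow]
    group
  have h2 : u⁻¹ ^ j * (c * w₁ * c⁻¹) * u ^ j ∈ stab (fun a => a ∈ B) := by
    rw [heq]
    exact Subgroup.mul_mem _ (Subgroup.mul_mem _ hdstab h1) (Subgroup.inv_mem _ hdstab)
  refine ⟨h2, ?_⟩
  have hsub : (⟨_, h2⟩ : stab (fun a => a ∈ B)) =
      ⟨d, hdstab⟩ * ⟨_, h1⟩ * (⟨d, hdstab⟩ : stab (fun a => a ∈ B))⁻¹ := Subtype.ext heq
  rw [hsub, map_mul, map_mul, map_inv]
  have hrd : restr (fun a => a ∈ B) ⟨d, hdstab⟩ = y j := by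
    ext ⟨a, ha⟩
    show d a = (y j ⟨a, ha⟩ : α)
    exact hdB a ha
  rw [hrd]

end Cfsg.Agent.Helper75.FP
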