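import Cfsg.Agent.Helper38.FP.Defs

/-!
# (B5) of helper38's farm #10138/#10147 for S2276: `Claim 3 α` when `card α = 5`
-/

set_option autoImplicit false

namespace Cfsg.Agent.Helper75.FP

open Equiv Cfsg.Agent.Helper38.FP

variable {α : Type} [Fintype α] [DecidableEq α] {p : ℕ}

/-- the `3`-cycle `(0 1 2)` -/
def b5u : Perm (Fin 5) := ⟨![1, 2, 0, 3, 4], ![2, 0, 1, 3, 4], by decide, by decide⟩

/-- the `3`-cycle `(2 3 4)` -/
def b5w : Perm (Fin 5) := ⟨![0, 1, 3, 4, 2], ![0, 1, 4, 2, 3], by decide, by decide⟩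

theorem b5_good : Good 3 b5u b5w := by
  have : Fact (Nat.Prime 3) := ⟨Nat.prime_three⟩
  refine ⟨?_, ?_⟩
  · exact not_isPEl_of_pow (b5u * b5w) 1 5 (by decide) (by decide) (by norm_num)
  · have hu : b5u ∈ Subgroup.closure ({b5u, b5w} : Set (Perm (Fin 5))) :=
      Subgroup.subset_closure (by simp)
    have hw : b5w ∈ Subgroup.closure ({b5u, b5w} : Set (Perm (Fin 5))) :=
      Subgroup.subset_closure (by simp)
    refine not_solvable_closure_of_cert b5u b5w b5u (b5w * b5u⁻¹ * b5w) b5w hu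
      (Subgroup.mul_mem _ (Subgroup.mul_mem _ hw (Subgroup.inv_mem _ hu)) hw) hw
      (by decide) (by decide)

/-- a nontrivial `3`-element of `Perm (Fin 5)` is a `3`-cycle -/
theorem b5_isThreeCycle (u : Perm (Fin 5)) (hu1 : u ≠ 1) (hu : IsPEl 3 u) : u.IsThreeCycle := by
  obtain ⟨k, hk⟩ := hu
  have hge : ∀ n ∈ u.cycleType, 3 ≤ n ∧ (n ≤ 5 → n = 3) := by
    intro n hn
    have h2 := Perm.two_le_of_mem_cycleType hn
    have hd : n ∣ 3 ^ k := hk ▸ Perm.dvd_of_mem_cycleType hn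
    obtain ⟨j, _, rfl⟩ := (Nat.dvd_prime_pow Nat.prime_three).1 hd
    rcases j with _ | _ | j
    · norm_num at h2
    · exact ⟨by norm_num, fun _ => by norm_num⟩
    · have : 9 ≤ 3 ^ (j + 1 + 1) := by
        calc 9 = 3 ^ 2 := by norm_num
          _ ≤ 3 ^ (j + 1 + 1) := Nat.pow_le_pow_right (by norm_num) (by omega)
      exact ⟨by omega, fun h => by omega⟩
  have hsum : u.cycleType.sum ≤ 5 := by
    rw [Perm.sum_cycleType]
    exact le_trans u.support.card_le_univ (by simp)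
  have hne : u.cycleType ≠ 0 := by
    intro h
    exact hu1 (Perm.cycleType_eq_zero.1 h)
  obtain ⟨a, ha⟩ := Multiset.exists_mem_of_ne_zero hne
  obtain ⟨m', hm'⟩ := Multiset.exists_cons_of_mem ha
  have hm0 : m' = 0 := by
    by_contra h0
    obtain ⟨b, hb⟩ := Multiset.exists_mem_of_ne_zero h0
    obtain ⟨m'', hm''⟩ := Multiset.exists_cons_of_mem hb
    have h3a := (hge a ha).1
    have h3b := (hge b (by rw [hm']; exact Multiset.mem_cons_of_mem hb)).1
    rw [hm', hm'', Multiset.sum_cons, Multiset.sum_cons] at hsum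
    omega
  rw [hm', hm0] at hsum
  simp at hsum
  have ha3 : a = 3 := (hge a ha).2 hsum
  unfold Perm.IsThreeCycle
  rw [hm', hm0, ha3]
  rfl

theorem claim_fin5 : Claim 3 (Fin 5) := by
  intro u w hu1 hw1 hpu hpw
  have h5 : 5 ≤ Nat.card (Fin 5) := by simp
  have hu3 := b5_isThreeCycle u hu1 hpu
  have hw3 := b5_isThreeCycle w hw1 hpw
  have hu0 : b5u.IsThreeCycle := b5_isThreeCycle b5u (by decide) ⟨1, by
    rw [pow_one]
    exact orderOf_eq_prime (by decide) (by decide)⟩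
  have hw0 : b5w.IsThreeCycle := b5_isThreeCycle b5w (by decide) ⟨1, by
    rw [pow_one]
    exact orderOf_eq_prime (by decide) (by decide)⟩
  -- conjugators in the alternating group
  have hcu : IsConj (⟨b5u, hu0.mem_alternatingGroup⟩ : alternatingGroup (Fin 5))
      ⟨u, hu3.mem_alternatingGroup⟩ := alternatingGroup.isThreeCycle_isConj h5 hu0 hu3
  have hcw : IsConj (⟨b5w, hw0.mem_alternatingGroup⟩ : alternatingGroup (Fin 5))
      ⟨w, hw3.mem_alternatingGroup⟩ := alternatingGroup.isThreeCycle_isConj h5 hw0 hw3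
  obtain ⟨a, ha⟩ := isConj_iff.1 hcu
  obtain ⟨b, hb⟩ := isConj_iff.1 hcw
  have ha' : (a : Perm (Fin 5)) * b5u * (a : Perm (Fin 5))⁻¹ = u := congrArg Subtype.val ha
  have hb' : (b : Perm (Fin 5)) * b5w * (b : Perm (Fin 5))⁻¹ = w := congrArg Subtype.val hb
  have hsa : Perm.sign (a : Perm (Fin 5)) = 1 := Perm.mem_alternatingGroup.1 a.2
  have hsb : Perm.sign (b : Perm (Fin 5)) = 1 := Perm.mem_alternatingGroup.1 b.2
  refine ⟨(a : Perm (Fin 5)) * (b : Perm (Fin 5))⁻¹, ?_, ?_⟩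
  · rw [map_mul, map_inv, hsa, hsb]; simp
  · have h := b5_good.conj (a : Perm (Fin 5))
    rw [ha'] at h
    have e : (a : Perm (Fin 5)) * (b : Perm (Fin 5))⁻¹ * w * ((a : Perm (Fin 5)) * (b : Perm (Fin 5))⁻¹)⁻¹ =
        (a : Perm (Fin 5)) * b5w * (a : Perm (Fin 5))⁻¹ := by
      rw [← hb']; group
    rw [e]
    exact h

/-- (B5) HINT: transport to `Fin 5` (`FP.Claim.transport`, `Fintype.equivFinOfCardEq`).  Nontrivial
3-elements of `Perm (Fin 5)` are 3-cycles (`cycleType = {3}`), all conjugate in `A₅`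
(`alternatingGroup.isThreeCycle_isConj`); `u₀ = (0 1 2)`, `w₀ = (2 3 4)`: product of order 5, closure
`A₅` (`FP.not_solvable_closure_of_cert`). -/
theorem claim_five (hcard : Fintype.card α = 5) : Claim 3 α :=
  claim_fin5.transport (Fintype.equivFinOfCardEq hcard).symm

end Cfsg.Agent.Helper75.FP
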