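import Cfsg.Agent.Helper39.C320.Defs

/-!
# (A6) of helper39's WANTED #10066 for S1903: `C_P(x) = Z`
-/

set_option autoImplicit false

namespace Cfsg.Agent.Helper75.C320

open Cfsg.Agent.Helper39.C320

variable {G : Type*} [Group G] [Finite G]

variable {P Z : Subgroup G} {x : G}

/-- arithmetic: a multiple of `4` dividing `64` and congruent to `4` mod `5` is `4` or `64` -/
theorem eq_four_or_of_dvd_h75 (n : ℕ) (h4 : 4 ∣ n) (h64 : n ∣ 64) (hmod : n ≡ 4 [MOD 5]) :
    n = 4 ∨ n = 64 := by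
  have hle : n ≤ 64 := Nat.le_of_dvd (by norm_num) h64
  have h1 : 64 % n = 0 := Nat.mod_eq_zero_of_dvd h64
  have h2 : n % 4 = 0 := Nat.mod_eq_zero_of_dvd h4
  have h3 : n % 5 = 4 := hmod
  interval_cases n <;> omega

/-- (A6) `C_P(x) = Z` -/
theorem Setup.fix (h : Setup P Z x)
    (hcen : ∀ z ∈ Z, ∀ g : G, g * z = z * g)
    (hnc : ¬ ∀ p ∈ P, x * p = p * x)
    (hmod : ∀ K : Subgroup G, (∀ k ∈ K, x * k * x⁻¹ ∈ K) →
      Nat.card K ≡ Nat.card (K ⊓ Subgroup.centralizer {x} : Subgroup G) [MOD 5]) :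
    ∀ p ∈ P, x * p = p * x → p ∈ Z := by
  have hN : P.Normal := h.normP
  have hPinv : ∀ k ∈ P, x * k * x⁻¹ ∈ P := fun k hk => hN.conj_mem k hk x
  have hm := hmod P hPinv
  set F : Subgroup G := P ⊓ Subgroup.centralizer {x} with hF
  have hmemF : ∀ g : G, g ∈ F ↔ g ∈ P ∧ x * g = g * x := by
    intro g
    rw [hF, Subgroup.mem_inf, Subgroup.mem_centralizer_singleton_iff]
    constructor <;> rintro ⟨h1, h2⟩ <;> exact ⟨h1, h2.symm⟩
  have hZF : Z ≤ F := by
    intro z hz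
    rw [hmemF]
    exact ⟨h.Z_le hz, hcen z hz x⟩
  have hFP : F ≤ P := inf_le_left
  have h4 : 4 ∣ Nat.card F := by
    have := Subgroup.card_dvd_of_le hZF
    rwa [h.cardZ] at this
  have h64 : Nat.card F ∣ 64 := by
    have := Subgroup.card_dvd_of_le hFP
    rwa [h.cardP] at this
  have hmod5 : Nat.card F ≡ 4 [MOD 5] := by
    rw [h.cardP] at hm
    exact hm.symm.trans (by decide)
  rcases eq_four_or_of_dvd_h75 _ h4 h64 hmod5 with hc | hc
  · -- `F = Z`
    have hEq : Z = F := Subgroup.eq_of_le_of_card_ge hZF (by rw [hc, h.cardZ])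
    intro p hp hxp
    rw [hEq, hmemF]
    exact ⟨hp, hxp⟩
  · -- `F = P`: impossible
    exfalso
    apply hnc
    have hEq : F = P := Subgroup.eq_of_le_of_card_ge hFP (by rw [hc, h.cardP])
    intro p hp
    have hpF : p ∈ F := by rw [hEq]; exact hp
    exact ((hmemF p).1 hpF).2

end Cfsg.Agent.Helper75.C320
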