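import Cfsg.Agent.Helper39.C320.Defs
import Cfsg.Agent.Helper75.C320A6

/-!
# (A7) of helper39's WANTED #10066 for S1903: the `x`-invariant subgroups between `Z` and `P`
-/

set_option autoImplicit false

namespace Cfsg.Agent.Helper75.C320

open Cfsg.Agent.Helper39.C320

variable {G : Type*} [Group G] [Finite G]

variable {P Z : Subgroup G} {x : G}

/-- (A7) the only `x`-invariant subgroups between `Z` and `P` are `Z` and `P` -/
theorem Setup.inv (h : Setup P Z x)
    (hcen : ∀ z ∈ Z, ∀ g : G, g * z = z * g)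
    (hfix : ∀ p ∈ P, x * p = p * x → p ∈ Z)
    (hmod : ∀ K : Subgroup G, (∀ k ∈ K, x * k * x⁻¹ ∈ K) →
      Nat.card K ≡ Nat.card (K ⊓ Subgroup.centralizer {x} : Subgroup G) [MOD 5]) :
    ∀ K : Subgroup G, Z ≤ K → K ≤ P → (∀ k ∈ K, x * k * x⁻¹ ∈ K) → K = Z ∨ K = P := by
  intro K hZK hKP hKinv
  have hm := hmod K hKinv
  have hFZ : (K ⊓ Subgroup.centralizer {x} : Subgroup G) = Z := by
    apply le_antisymm
    · intro k hk
      rw [Subgroup.mem_inf, Subgroup.mem_centralizer_singleton_iff] at hk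
      exact hfix k (hKP hk.1) hk.2.symm
    · intro z hz
      rw [Subgroup.mem_inf, Subgroup.mem_centralizer_singleton_iff]
      exact ⟨hZK hz, (hcen z hz x).symm⟩
  rw [hFZ, h.cardZ] at hm
  have h4 : 4 ∣ Nat.card K := by
    have := Subgroup.card_dvd_of_le hZK
    rwa [h.cardZ] at this
  have h64 : Nat.card K ∣ 64 := by
    have := Subgroup.card_dvd_of_le hKP
    rwa [h.cardP] at this
  rcases eq_four_or_of_dvd_h75 _ h4 h64 hm with hc | hc
  · left
    exact (Subgroup.eq_of_le_of_card_ge hZK (by rw [hc, h.cardZ])).symm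
  · right
    exact Subgroup.eq_of_le_of_card_ge hKP (by rw [hc, h.cardP])

end Cfsg.Agent.Helper75.C320
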