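import Mathlib

/-!
Frobenius' theorem: if `m ∣ |G|` then `m ∣ #{x : x ^ m = 1}`
(in the form `gcd(k, |G|) ∣ #{x : x ^ k = 1}` for all `k`).
-/

set_option autoImplicit false

namespace Cfsg.Agent.Helper75

open Subgroup
open scoped Pointwise

universe u v

section Fiber

variable {G : Type u} [Group G]

theorem frob_pow_eq_one_iff_gcd [Finite G] (x : G) (k : ℕ) :
    x ^ k = 1 ↔ x ^ (Nat.gcd k (Nat.card G)) = 1 := by
  rw [← orderOf_dvd_iff_pow_eq_one, ← orderOf_dvd_iff_pow_eq_one, Nat.dvd_gcd_iff]
  exact ⟨fun h => ⟨h, orderOf_dvd_natCard x⟩, fun h => h.1⟩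

theorem frob_card_pow_eq_one_gcd [Finite G] (k : ℕ) :
    Nat.card {x : G // x ^ k = 1} = Nat.card {x : G // x ^ (Nat.gcd k (Nat.card G)) = 1} := by
  apply Nat.card_congr
  exact Equiv.subtypeEquivRight (fun x => frob_pow_eq_one_iff_gcd x k)

/-- `Y` is normal in its centralizer. -/
instance frob_normal_subgroupOf_centralizer (Y : Subgroup G) :
    (Y.subgroupOf (Subgroup.centralizer (Y : Set G))).Normal := by
  constructor
  intro y hy c
  rw [Subgroup.mem_subgroupOf] at hy ⊢
  have hc := c.2
  rw [Subgroup.mem_centralizer_iff] at hc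
  have : ((c * y * c⁻¹ : Subgroup.centralizer (Y : Set G)) : G) = (y : G) := by
    push_cast
    rw [← hc _ hy]; group
  rw [this]; exact hy

end Fiber

section Fiber2

variable {G : Type u} [Group G]

/-- solutions of `w ^ m = 1` in `C_G(Y)/Y`. -/
abbrev frobW (Y : Subgroup G) (m : ℕ) : Type u :=
  {w : (Subgroup.centralizer (Y : Set G)) ⧸ (Y.subgroupOf (Subgroup.centralizer (Y : Set G))) // w ^ m = 1}

theorem frob_mem_centralizer {x : G} {m : ℕ} {Y : Subgroup G} (h : Subgroup.zpowers (x ^ m) = Y) :
    x ∈ Subgroup.centralizer (Y : Set G) := by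
  rw [Subgroup.mem_centralizer_iff]
  intro y hy
  rw [SetLike.mem_coe, ← h, Subgroup.mem_zpowers_iff] at hy
  obtain ⟨k, rfl⟩ := hy
  have : Commute ((x ^ m) ^ k) x := ((Commute.refl x).pow_left m).zpow_left k
  exact this.eq

theorem frob_zpowers_coe_eq [Finite G] {Y : Subgroup G} (y : Y) (h : orderOf y = Nat.card Y) :
    Subgroup.zpowers (y : G) = Y := by
  apply Subgroup.eq_of_le_of_card_ge
  · rw [Subgroup.zpowers_le]; exact y.2
  · rw [Nat.card_zpowers, Subgroup.orderOf_coe, h]

theorem frob_card_fiber [Finite G] {p : ℕ} [Fact p.Prime] (Y : Subgroup G) (b m : ℕ)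
    (hpm : p.Coprime m) (hcard : Nat.card Y = p ^ (b + 1)) (hcyc : IsCyclic Y) :
    Nat.card {x : G // Subgroup.zpowers (x ^ m) = Y} =
      Nat.card (frobW Y m) * Nat.totient (p ^ (b + 1)) := by
  classical
  have hYm : (Nat.card Y).Coprime m := by
    rw [hcard]; exact Nat.Coprime.pow_left _ hpm
  -- generators of Y
  have hgen : Nat.card {y : Y // orderOf y = p ^ (b + 1)} = Nat.totient (p ^ (b + 1)) := by
    have := Fintype.ofFinite Y
    have h1 := IsCyclic.card_orderOf_eq_totient (α := Y) (d := p ^ (b + 1))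
      (by rw [← Nat.card_eq_fintype_card, hcard])
    rw [← h1, Nat.card_eq_fintype_card, Fintype.card_subtype]
  rw [← hgen, ← Nat.card_prod]
  -- the bijection
  let Φ : {x : G // Subgroup.zpowers (x ^ m) = Y} → frobW Y m × {y : Y // orderOf y = p ^ (b + 1)} :=
    fun x =>
      (⟨QuotientGroup.mk ⟨x.1, frob_mem_centralizer x.2⟩, by
          rw [← QuotientGroup.mk_pow, QuotientGroup.eq_one_iff, Subgroup.mem_subgroupOf]
          show x.1 ^ m ∈ Y
          have := Subgroup.mem_zpowers (x.1 ^ m)
          rw [x.2] at this; exact this⟩,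
        ⟨⟨x.1 ^ m, by
          have := Subgroup.mem_zpowers (x.1 ^ m)
          rw [x.2] at this; exact this⟩, by
          rw [Subgroup.orderOf_mk, ← Nat.card_zpowers, x.2, hcard]⟩)
  apply Nat.card_congr
  apply Equiv.ofBijective Φ
  constructor
  · -- injective
    rintro ⟨x, hx⟩ ⟨x', hx'⟩ h
    have h1 := congrArg (fun q => (q.1 : (Subgroup.centralizer (Y : Set G)) ⧸ (Y.subgroupOf (Subgroup.centralizer (Y : Set G))))) h
    have h2 := congrArg (fun q => ((q.2 : Y) : G)) h
    simp only [Φ] at h1 h2
    rw [QuotientGroup.eq, Subgroup.mem_subgroupOf] at h1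
    have hy : x⁻¹ * x' ∈ Y := h1
    have hxC := frob_mem_centralizer hx
    rw [Subgroup.mem_centralizer_iff] at hxC
    have hcomm : Commute x (x⁻¹ * x') := (hxC _ hy).symm
    have h3 : x' = x * (x⁻¹ * x') := by group
    have h4 : x' ^ m = x ^ m * (x⁻¹ * x') ^ m := by
      conv_lhs => rw [h3]
      exact hcomm.mul_pow m
    rw [← h2] at h4
    have h5 : (x⁻¹ * x') ^ m = 1 := by
      have := mul_left_cancel (a := x ^ m) (b := 1) (c := (x⁻¹ * x') ^ m) (by rw [mul_one]; exact h4)
      exact this.symm
    have h6 : orderOf (x⁻¹ * x') ∣ m := orderOf_dvd_of_pow_eq_one h5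
    have h7 : orderOf (x⁻¹ * x') ∣ Nat.card Y := by
      have := orderOf_dvd_natCard (⟨x⁻¹ * x', hy⟩ : Y)
      rwa [Subgroup.orderOf_mk] at this
    have h8 : orderOf (x⁻¹ * x') = 1 := Nat.eq_one_of_dvd_coprimes hYm h7 h6
    rw [orderOf_eq_one_iff, inv_mul_eq_one] at h8
    exact Subtype.ext h8
  · -- surjective
    rintro ⟨⟨w, hw⟩, ⟨y₀, hy₀⟩⟩
    obtain ⟨z, rfl⟩ := QuotientGroup.mk_surjective w
    rw [← QuotientGroup.mk_pow, QuotientGroup.eq_one_iff, Subgroup.mem_subgroupOf] at hw
    have hzm : (z : G) ^ m ∈ Y := hw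
    let u : Y := ⟨(z : G) ^ m, hzm⟩⁻¹ * y₀
    let y : Y := (powCoprime hYm).symm u
    have hyu : y ^ m = u := (powCoprime hYm).apply_symm_apply u
    have hzC := z.2
    rw [Subgroup.mem_centralizer_iff] at hzC
    have hcomm : Commute (z : G) (y : G) := (hzC _ y.2).symm
    have hxm : ((z : G) * (y : G)) ^ m = (y₀ : G) := by
      rw [hcomm.mul_pow]
      have : ((y : G)) ^ m = ((z : G) ^ m)⁻¹ * (y₀ : G) := by
        have := congrArg (fun q : Y => (q : G)) hyu
        simpa [u] using this
      rw [this]; group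
    have hy₀' : orderOf y₀ = Nat.card Y := by rw [hy₀, hcard]
    have hzp : Subgroup.zpowers (((z : G) * (y : G)) ^ m) = Y := by
      rw [hxm]; exact frob_zpowers_coe_eq y₀ hy₀'
    refine ⟨⟨(z : G) * (y : G), hzp⟩, ?_⟩
    apply Prod.ext
    · apply Subtype.ext
      simp only [Φ]
      rw [QuotientGroup.eq, Subgroup.mem_subgroupOf]
      show ((⟨(z : G) * (y : G), _⟩ : Subgroup.centralizer (Y : Set G))⁻¹ * z : Subgroup.centralizer (Y : Set G)).1 ∈ Y
      have : (z : G) ∈ Subgroup.centralizer (Y : Set G) := z.2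
      simp only [Subgroup.coe_mul, Subgroup.coe_inv]
      have : ((z : G) * (y : G))⁻¹ * (z : G) = (y : G)⁻¹ := by
        group
      rw [this]
      exact Y.inv_mem y.2
    · apply Subtype.ext
      apply Subtype.ext
      exact hxm

end Fiber2

/-- orbit-sum divisibility: if `f` is invariant and `n ∣ |orbit x| * f x` for all `x` then
`n ∣ ∑ x, f x`. -/
theorem frob_dvd_sum {G : Type u} {X : Type v} [Group G] [MulAction G X] [Fintype X]
    (f : X → ℕ) (hf : ∀ (g : G) (x : X), f (g • x) = f x) (n : ℕ)
    (h : ∀ x, n ∣ (MulAction.stabilizer G x).index * f x) : n ∣ ∑ x, f x := by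
  classical
  have hfin : Finite (MulAction.orbitRel.Quotient G X) := Quotient.finite _
  have := Fintype.ofFinite (MulAction.orbitRel.Quotient G X)
  rw [← Finset.sum_fiberwise Finset.univ (fun x => (Quotient.mk'' x : MulAction.orbitRel.Quotient G X)) f]
  apply Finset.dvd_sum
  intro ω _
  have h1 : ∀ x ∈ Finset.univ.filter (fun x => (Quotient.mk'' x : MulAction.orbitRel.Quotient G X) = ω),
      f x = f ω.out := by
    intro x hx
    rw [Finset.mem_filter] at hx
    have h2 : (Quotient.mk'' x : MulAction.orbitRel.Quotient G X) = Quotient.mk'' ω.out := by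
      rw [hx.2, Quotient.out_eq']
    rw [Quotient.eq''] at h2
    have h3 : x ∈ MulAction.orbit G ω.out := h2
    obtain ⟨g, rfl⟩ := h3
    exact hf g _
  rw [Finset.sum_congr rfl h1, Finset.sum_const, smul_eq_mul]
  have h4 : (Finset.univ.filter (fun x => (Quotient.mk'' x : MulAction.orbitRel.Quotient G X) = ω)).card =
      (MulAction.stabilizer G ω.out).index := by
    rw [MulAction.index_stabilizer, Set.ncard_eq_toFinset_card']
    congr 1
    ext x
    simp only [Finset.mem_filter, Finset.mem_univ, true_and, Set.mem_toFinset]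
    constructor
    · intro hx
      have h2 : (Quotient.mk'' x : MulAction.orbitRel.Quotient G X) = Quotient.mk'' ω.out := by
        rw [hx, Quotient.out_eq']
      rw [Quotient.eq''] at h2
      exact h2
    · intro hx
      have : (Quotient.mk'' x : MulAction.orbitRel.Quotient G X) = Quotient.mk'' ω.out :=
        Quotient.eq''.mpr hx
      rw [this, Quotient.out_eq']
  rw [h4]
  exact h ω.out

section Step

variable {G : Type u} [Group G]

/-- conjugation action of `G` on its subgroups. -/
@[reducible] def frobAction : MulAction G (Subgroup G) :=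
  MulAction.compHom (Subgroup G) (MulAut.conj : G →* MulAut G)

theorem frobAction_smul_def (g : G) (Y : Subgroup G) :
    (frobAction.toSMul.smul g Y : Subgroup G) = MulAut.conj g • Y := rfl

theorem frob_stabilizer_eq (Y : Subgroup G) :
    @MulAction.stabilizer G (Subgroup G) _ frobAction Y = Subgroup.normalizer (Y : Set G) := by
  let _ := frobAction (G := G)
  ext g
  rw [MulAction.mem_stabilizer_iff, Subgroup.mem_normalizer_iff]
  show MulAut.conj g • Y = Y ↔ _
  constructor
  · intro h x
    conv_rhs => rw [← h]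
    rw [Subgroup.mem_pointwise_smul_iff_inv_smul_mem, MulAut.smul_def, MulAut.conj_inv_apply]
    have : g⁻¹ * (g * x * g⁻¹) * g = x := by group
    rw [this]
  · intro h
    ext x
    rw [Subgroup.mem_pointwise_smul_iff_inv_smul_mem, MulAut.smul_def, MulAut.conj_inv_apply]
    rw [h (g⁻¹ * x * g)]
    have : g * (g⁻¹ * x * g) * g⁻¹ = x := by group
    rw [this]

/-- arithmetic core of the induction step. -/
theorem frob_arith {p b m I k c' cW φ N : ℕ} (hpm : p.Coprime m)
    (hN : N = I * (k * (p ^ (b + 1) * c'))) (hm : m ∣ N) (hk : k ∣ φ) (hφ : p ^ b ∣ φ)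
    (hW : Nat.gcd m c' ∣ cW) : p ^ b * m ∣ I * (cW * φ) := by
  have hcop : (p ^ b).Coprime m := Nat.Coprime.pow_left _ hpm
  apply Nat.Coprime.mul_dvd_of_dvd_of_dvd hcop
  · exact Dvd.dvd.mul_left (Dvd.dvd.mul_left hφ cW) I
  · have h1 : m ∣ p ^ (b + 1) * (I * k * c') := by
      rw [hN] at hm
      have : I * (k * (p ^ (b + 1) * c')) = p ^ (b + 1) * (I * k * c') := by ring
      rwa [this] at hm
    have hcop2 : m.Coprime (p ^ (b + 1)) := (Nat.Coprime.pow_left _ hpm).symm
    have h2 : m ∣ I * k * c' := hcop2.dvd_of_dvd_mul_left h1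
    have h3 : m ∣ I * φ * c' := by
      obtain ⟨t, rfl⟩ := hk
      have : I * (k * t) * c' = (I * k * c') * t := by ring
      rw [this]; exact Dvd.dvd.mul_right h2 t
    have h4 : m ∣ I * φ * m := Dvd.intro_left _ rfl
    have h5 : m ∣ Nat.gcd (I * φ * c') (I * φ * m) := Nat.dvd_gcd h3 h4
    rw [Nat.gcd_mul_left, Nat.gcd_comm] at h5
    have h6 : I * φ * Nat.gcd m c' ∣ I * φ * cW := Nat.mul_dvd_mul_left _ hW
    have h7 := h5.trans h6
    have : I * φ * cW = I * (cW * φ) := by ring
    rwa [this] at h7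

end Step

section Step2

variable {G : Type u} [Group G]

theorem frob_conj_zpowers (g a : G) (Y : Subgroup G) (h : Subgroup.zpowers a = MulAut.conj g • Y) :
    Subgroup.zpowers (g⁻¹ * a * g) = Y := by
  have h1 : g⁻¹ * a * g = (MulAut.conj g⁻¹ : G ≃* G).toMonoidHom a := by simp
  rw [h1, ← MonoidHom.map_zpowers (MulAut.conj g⁻¹ : G ≃* G).toMonoidHom a]
  have h2 : Subgroup.map (MulAut.conj g⁻¹ : G ≃* G).toMonoidHom (Subgroup.zpowers a) =
      MulAut.conj g⁻¹ • Subgroup.zpowers a := rfl
  rw [h2, h, map_inv, inv_smul_smul]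

theorem frob_conj_pow (g x : G) (m : ℕ) : (g⁻¹ * x * g) ^ m = g⁻¹ * x ^ m * g := by
  have := conj_pow (a := g⁻¹) (b := x) (i := m)
  simpa using this

theorem frob_orderOf_conj (g a : G) : orderOf (g⁻¹ * a * g) = orderOf a := by
  have h1 : g⁻¹ * a * g = (MulAut.conj g⁻¹) a := by simp
  rw [h1, MulEquiv.orderOf_eq]

theorem frob_card_centralizer_factor [Finite G] (Y : Subgroup G) [hY : IsMulCommutative Y] :
    Nat.card G = (Subgroup.normalizer (Y : Set G)).index *
      (((Subgroup.centralizer (Y : Set G)).subgroupOf (Subgroup.normalizer (Y : Set G))).index *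
        (Nat.card Y * Nat.card ((Subgroup.centralizer (Y : Set G)) ⧸
          (Y.subgroupOf (Subgroup.centralizer (Y : Set G)))))) := by
  have hYC : Y ≤ Subgroup.centralizer (Y : Set G) := Subgroup.le_centralizer Y
  have hCN : Subgroup.centralizer (Y : Set G) ≤ Subgroup.normalizer (Y : Set G) :=
    Subgroup.centralizer_le_normalizer _
  have h1 := Subgroup.index_mul_card (Subgroup.normalizer (Y : Set G))
  have h2 := Subgroup.index_mul_card ((Subgroup.centralizer (Y : Set G)).subgroupOf (Subgroup.normalizer (Y : Set G)))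
  have h3 : Nat.card ((Subgroup.centralizer (Y : Set G)).subgroupOf (Subgroup.normalizer (Y : Set G))) =
      Nat.card (Subgroup.centralizer (Y : Set G)) :=
    Nat.card_congr (Subgroup.subgroupOfEquivOfLe hCN).toEquiv
  have h4 := Subgroup.card_eq_card_quotient_mul_card_subgroup (Y.subgroupOf (Subgroup.centralizer (Y : Set G)))
  have h5 : Nat.card (Y.subgroupOf (Subgroup.centralizer (Y : Set G))) = Nat.card Y :=
    Nat.card_congr (Subgroup.subgroupOfEquivOfLe hYC).toEquiv
  rw [← h1, ← h2, h3, h4, h5, mul_comm (Nat.card Y)]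

theorem frob_index_dvd_totient [Finite G] (Y : Subgroup G) [hcyc : IsCyclic Y] :
    ((Subgroup.centralizer (Y : Set G)).subgroupOf (Subgroup.normalizer (Y : Set G))).index ∣
      Nat.totient (Nat.card Y) := by
  rw [← Subgroup.normalizerMonoidHom_ker, Subgroup.index_ker, ← IsCyclic.card_mulAut Y]
  exact Subgroup.card_subgroup_dvd_card _

end Step2

section Step3

variable {G : Type u} [Group G]

theorem frob_step [Finite G] {p : ℕ} [hp : Fact p.Prime] (b m : ℕ)
    (hpm : p.Coprime m) (hdvd : m ∣ Nat.card G)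
    (IH : ∀ (H : Type u) [Group H] [Finite H], Nat.card H < Nat.card G →
      ∀ k, Nat.gcd k (Nat.card H) ∣ Nat.card {h : H // h ^ k = 1}) :
    p ^ b * m ∣ Nat.card {x : G // orderOf (x ^ m) = p ^ (b + 1)} := by
  classical
  let _ := frobAction (G := G)
  have := Fintype.ofFinite (Subgroup G)
  let F : {x : G // orderOf (x ^ m) = p ^ (b + 1)} → Subgroup G := fun x => Subgroup.zpowers (x.1 ^ m)
  have h1 : Nat.card {x : G // orderOf (x ^ m) = p ^ (b + 1)} =
      ∑ Y : Subgroup G, Nat.card {x : {x : G // orderOf (x ^ m) = p ^ (b + 1)} // F x = Y} := by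
    rw [← Nat.card_sigma]; exact Nat.card_congr (Equiv.sigmaFiberEquiv F).symm
  rw [h1]
  -- monotonicity under conjugation
  have hle : ∀ (g : G) (Y : Subgroup G),
      Nat.card {x : {x : G // orderOf (x ^ m) = p ^ (b + 1)} // F x = g • Y} ≤
        Nat.card {x : {x : G // orderOf (x ^ m) = p ^ (b + 1)} // F x = Y} := by
    intro g Y
    apply Nat.card_le_card_of_injective
      (fun x : {x : {x : G // orderOf (x ^ m) = p ^ (b + 1)} // F x = g • Y} =>
        (⟨⟨g⁻¹ * x.1.1 * g, by rw [frob_conj_pow, frob_orderOf_conj]; exact x.1.2⟩, by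
          show Subgroup.zpowers ((g⁻¹ * x.1.1 * g) ^ m) = Y
          rw [frob_conj_pow]
          exact frob_conj_zpowers g _ Y x.2⟩ :
          {x : {x : G // orderOf (x ^ m) = p ^ (b + 1)} // F x = Y}))
    intro x x' h
    have h2 : g⁻¹ * x.1.1 * g = g⁻¹ * x'.1.1 * g := congrArg (fun q => q.1.1) h
    have h3 : x.1.1 = x'.1.1 := mul_left_cancel (mul_right_cancel h2)
    exact Subtype.ext (Subtype.ext h3)
  apply frob_dvd_sum (G := G)
    (f := fun Y => Nat.card {x : {x : G // orderOf (x ^ m) = p ^ (b + 1)} // F x = Y})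
  · intro g Y
    apply le_antisymm (hle g Y)
    have := hle g⁻¹ (g • Y)
    rwa [inv_smul_smul] at this
  · intro Y
    rw [frob_stabilizer_eq]
    by_cases hempty : IsEmpty {x : {x : G // orderOf (x ^ m) = p ^ (b + 1)} // F x = Y}
    · have : Nat.card {x : {x : G // orderOf (x ^ m) = p ^ (b + 1)} // F x = Y} = 0 :=
        Nat.card_eq_zero.mpr (Or.inl hempty)
      simp only [this, mul_zero, dvd_zero]
    · obtain ⟨⟨⟨x₀, hx₀⟩, hF⟩⟩ := not_isEmpty_iff.mp hempty
      have hF' : Subgroup.zpowers (x₀ ^ m) = Y := hF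
      have hYcard : Nat.card Y = p ^ (b + 1) := by rw [← hF', Nat.card_zpowers, hx₀]
      have hYcyc : IsCyclic Y := by rw [← hF']; infer_instance
      have hYcomm : IsMulCommutative Y := by rw [← hF']; infer_instance
      have h2 : Nat.card {x : {x : G // orderOf (x ^ m) = p ^ (b + 1)} // F x = Y} =
          Nat.card {x : G // Subgroup.zpowers (x ^ m) = Y} := by
        apply Nat.card_congr
        exact {
          toFun := fun x => ⟨x.1.1, x.2⟩
          invFun := fun x => ⟨⟨x.1, by rw [← Nat.card_zpowers, x.2, hYcard]⟩, x.2⟩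
          left_inv := fun x => rfl
          right_inv := fun x => rfl }
      rw [h2, frob_card_fiber Y b m hpm hYcard hYcyc]
      have hfac := frob_card_centralizer_factor Y
      rw [hYcard] at hfac
      have hk := frob_index_dvd_totient Y
      rw [hYcard] at hk
      have hφ : p ^ b ∣ Nat.totient (p ^ (b + 1)) := by
        rw [Nat.totient_prime_pow_succ hp.out]; exact Dvd.intro _ rfl
      -- the quotient is smaller than G
      have hlt : Nat.card ((Subgroup.centralizer (Y : Set G)) ⧸
          (Y.subgroupOf (Subgroup.centralizer (Y : Set G)))) < Nat.card G := by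
        have hpos : 0 < Nat.card ((Subgroup.centralizer (Y : Set G)) ⧸
          (Y.subgroupOf (Subgroup.centralizer (Y : Set G)))) := Nat.card_pos
        have h2le : 2 ≤ p ^ (b + 1) := by
          calc 2 ≤ p := hp.out.two_le
            _ = p ^ 1 := (pow_one p).symm
            _ ≤ p ^ (b + 1) := Nat.pow_le_pow_right hp.out.pos (by omega)
        have hIpos : 0 < (Subgroup.normalizer (Y : Set G)).index := Nat.pos_of_ne_zero Subgroup.index_ne_zero_of_finite
        have hkpos : 0 < ((Subgroup.centralizer (Y : Set G)).subgroupOf (Subgroup.normalizer (Y : Set G))).index :=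
          Nat.pos_of_ne_zero Subgroup.index_ne_zero_of_finite
        rw [hfac]
        calc Nat.card ((Subgroup.centralizer (Y : Set G)) ⧸ (Y.subgroupOf (Subgroup.centralizer (Y : Set G))))
            < p ^ (b + 1) * Nat.card ((Subgroup.centralizer (Y : Set G)) ⧸ (Y.subgroupOf (Subgroup.centralizer (Y : Set G)))) := by
              nlinarith
          _ ≤ ((Subgroup.centralizer (Y : Set G)).subgroupOf (Subgroup.normalizer (Y : Set G))).index *
              (p ^ (b + 1) * Nat.card ((Subgroup.centralizer (Y : Set G)) ⧸ (Y.subgroupOf (Subgroup.centralizer (Y : Set G))))) :=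
              Nat.le_mul_of_pos_left _ hkpos
          _ ≤ _ := Nat.le_mul_of_pos_left _ hIpos
      have hW := IH _ hlt m
      exact frob_arith hpm hfac hdvd hk hφ hW

end Step3

section Main

variable {G : Type u} [Group G]

theorem frob_orderOf_eq_iff {p : ℕ} [hp : Fact p.Prime] (y : G) (b : ℕ) :
    orderOf y = p ^ (b + 1) ↔ y ^ (p ^ (b + 1)) = 1 ∧ y ^ (p ^ b) ≠ 1 := by
  constructor
  · intro h
    refine ⟨by rw [← h]; exact pow_orderOf_eq_one y, ?_⟩
    intro h1
    have h2 := orderOf_dvd_of_pow_eq_one h1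
    rw [h] at h2
    have h3 := Nat.le_of_dvd (pow_pos hp.out.pos b) h2
    have h4 : p ^ b < p ^ (b + 1) := Nat.pow_lt_pow_right hp.out.one_lt (by omega)
    omega
  · rintro ⟨h1, h2⟩
    exact orderOf_eq_prime_pow h2 h1

/-- splitting the solutions of `x ^ (n p) = 1`. -/
theorem frob_card_split [Finite G] {p : ℕ} [hp : Fact p.Prime] (b m : ℕ) :
    Nat.card {x : G // x ^ (p ^ b * m * p) = 1} =
      Nat.card {x : G // x ^ (p ^ b * m) = 1} + Nat.card {x : G // orderOf (x ^ m) = p ^ (b + 1)} := by
  classical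
  have := Fintype.ofFinite G
  simp only [Nat.card_eq_fintype_card, Fintype.card_subtype]
  rw [← Finset.card_filter_add_card_filter_not (s := Finset.univ.filter (fun x : G => x ^ (p ^ b * m * p) = 1))
    (fun x : G => x ^ (p ^ b * m) = 1), Finset.filter_filter, Finset.filter_filter]
  congr 2
  · ext x
    simp only [Finset.mem_filter, Finset.mem_univ, true_and]
    constructor
    · exact fun h => h.2
    · intro h
      exact ⟨by rw [pow_mul, h, one_pow], h⟩
  · ext x
    simp only [Finset.mem_filter, Finset.mem_univ, true_and]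
    rw [frob_orderOf_eq_iff]
    have e1 : x ^ (p ^ b * m * p) = (x ^ m) ^ (p ^ (b + 1)) := by
      rw [← pow_mul]; congr 1; ring
    have e2 : x ^ (p ^ b * m) = (x ^ m) ^ (p ^ b) := by
      rw [← pow_mul]; congr 1; ring
    rw [e1, e2]

theorem frobenius_gcd : ∀ (N : ℕ) (G : Type u) [Group G] [Finite G], Nat.card G = N →
    ∀ k, Nat.gcd k (Nat.card G) ∣ Nat.card {g : G // g ^ k = 1} := by
  intro N
  induction N using Nat.strong_induction_on with
  | _ N IHN =>
  intro G _ _ hN
  have IH : ∀ (H : Type u) [Group H] [Finite H], Nat.card H < Nat.card G →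
      ∀ k, Nat.gcd k (Nat.card H) ∣ Nat.card {h : H // h ^ k = 1} := by
    intro H _ _ hlt k
    exact IHN (Nat.card H) (hN ▸ hlt) H rfl k
  -- divisor version
  have key : ∀ d n : ℕ, n * d = Nat.card G → n ∣ Nat.card {g : G // g ^ n = 1} := by
    intro d
    induction d using Nat.strong_induction_on with
    | _ d IHd =>
    intro n hnd
    rcases Nat.lt_or_ge d 2 with hd | hd
    · interval_cases d
      · exfalso
        rw [mul_zero] at hnd
        exact Nat.card_pos.ne hnd
      · rw [mul_one] at hnd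
        have : Nat.card {g : G // g ^ n = 1} = Nat.card G := by
          apply Nat.card_congr
          apply Equiv.subtypeUnivEquiv
          intro g
          rw [hnd]; exact pow_card_eq_one'
        rw [this, hnd]
    · obtain ⟨p, hp, hpd⟩ := Nat.exists_prime_and_dvd (show d ≠ 1 by omega)
      obtain ⟨d', rfl⟩ := hpd
      have := Fact.mk hp
      have hd'pos : 0 < d' := by
        rcases Nat.eq_zero_or_pos d' with h | h
        · rw [h] at hd; omega
        · exact h
      have hd'lt : d' < p * d' := by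
        have := hp.two_le
        nlinarith
      have hnp : n * p * d' = Nat.card G := by rw [← hnd]; ring
      have h1 := IHd d' hd'lt (n * p) hnp
      have hnpos : n ≠ 0 := by
        rintro rfl
        rw [zero_mul] at hnd
        exact Nat.card_pos.ne hnd
      -- decompose n = p^b * m
      set b := n.factorization p with hb
      set m := n / p ^ b with hm
      have hnbm : p ^ b * m = n := Nat.ordProj_mul_ordCompl_eq_self n p
      have hpm : p.Coprime m := Nat.coprime_ordCompl hp hnpos
      have hmG : m ∣ Nat.card G := by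
        rw [← hnd, ← hnbm]
        exact Dvd.dvd.mul_right (Dvd.intro_left _ rfl) _
      have h2 := frob_step (G := G) b m hpm hmG IH
      have h3 := frob_card_split (G := G) (p := p) b m
      rw [hnbm] at h2 h3
      rw [h3] at h1
      have h4 : n ∣ Nat.card {x : G // x ^ n = 1} + Nat.card {x : G // orderOf (x ^ m) = p ^ (b + 1)} :=
        (Dvd.intro _ rfl).trans h1
      exact (Nat.dvd_add_left h2).mp h4
  intro k
  rw [frob_card_pow_eq_one_gcd k]
  obtain ⟨d, hd⟩ := Nat.gcd_dvd_right k (Nat.card G)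
  exact key d _ hd.symm

/-- **Frobenius' theorem**. -/
theorem frobenius_dvd [Finite G] (m : ℕ) (hm : m ∣ Nat.card G) :
    m ∣ Nat.card {g : G // g ^ m = 1} := by
  have := frobenius_gcd (Nat.card G) G rfl m
  rwa [Nat.gcd_eq_left hm] at this

end Main

section Weisner

variable {G : Type u} [Group G]

theorem weisner_coprime (N n : ℕ) (hN : 0 < N) : Nat.Coprime (N / Nat.gcd N (n ^ N)) n := by
  rw [Nat.coprime_iff_gcd_eq_one]
  by_contra hne
  obtain ⟨q, hq, hqd⟩ := Nat.exists_prime_and_dvd hne
  have hqk : q ∣ N / Nat.gcd N (n ^ N) := hqd.trans (Nat.gcd_dvd_left _ _)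
  have hqn : q ∣ n := hqd.trans (Nat.gcd_dvd_right _ _)
  have hl : Nat.gcd N (n ^ N) ∣ N := Nat.gcd_dvd_left _ _
  have hkl : N / Nat.gcd N (n ^ N) * Nat.gcd N (n ^ N) = N := Nat.div_mul_cancel hl
  set a := N.factorization q with ha
  have h1 : q ^ a ∣ N := Nat.ordProj_dvd N q
  have h2 : a < N := Nat.factorization_lt q hN.ne'
  have h3 : q ^ a ∣ n ^ N := (pow_dvd_pow q h2.le).trans (pow_dvd_pow_of_dvd hqn N)
  have h4 : q ^ a ∣ Nat.gcd N (n ^ N) := Nat.dvd_gcd h1 h3
  have h5 : q ^ (a + 1) ∣ N := by
    rw [← hkl, pow_succ, mul_comm]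
    exact Nat.mul_dvd_mul hqk h4
  exact Nat.pow_succ_factorization_not_dvd hN.ne' hq h5

/-- `n ∣ o(x) ↔ n ∣ o(x ^ k)` when `n` and `k` are coprime. -/
theorem weisner_dvd_orderOf_pow_iff (x : G) {n k : ℕ} (hk : 0 < k) (hnk : Nat.Coprime n k) :
    n ∣ orderOf (x ^ k) ↔ n ∣ orderOf x := by
  constructor
  · intro h
    exact h.trans (orderOf_pow_dvd k)
  · intro h
    rw [orderOf_pow' x hk.ne']
    have h1 : Nat.gcd (orderOf x) k ∣ orderOf x := Nat.gcd_dvd_left _ _
    have h2 : Nat.Coprime n (Nat.gcd (orderOf x) k) :=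
      Nat.Coprime.coprime_dvd_right (Nat.gcd_dvd_right _ _) hnk
    have h3 : Nat.gcd (orderOf x) k * (orderOf x / Nat.gcd (orderOf x) k) = orderOf x :=
      Nat.mul_div_cancel' h1
    rw [← h3] at h
    exact h2.dvd_of_dvd_mul_left h

/-- **Weisner**: the number of elements whose order is divisible by `n` is divisible by the
largest divisor of `|G|` coprime to `n`. -/
theorem weisner [Finite G] (n : ℕ) :
    (Nat.card G / Nat.gcd (Nat.card G) (n ^ Nat.card G)) ∣ Nat.card {g : G // n ∣ orderOf g} := by
  classical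
  have := Fintype.ofFinite G
  set N := Nat.card G with hN
  have hNpos : 0 < N := Nat.card_pos
  set k := N / Nat.gcd N (n ^ N) with hk
  have hkN : k ∣ N := Nat.div_dvd_of_dvd (Nat.gcd_dvd_left _ _)
  have hkpos : 0 < k := Nat.pos_of_dvd_of_pos hkN hNpos
  have hcop : Nat.Coprime n k := (weisner_coprime N n hNpos).symm
  -- f d = #{x : (x^k)^d = 1} is divisible by k
  have hf : ∀ d : ℕ, k ∣ (Finset.univ.filter (fun x : G => (x ^ k) ^ d = 1)).card := by
    intro d
    have h1 := frobenius_gcd N G rfl (k * d)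
    have h2 : k ∣ Nat.gcd (k * d) (Nat.card G) := Nat.dvd_gcd (Dvd.intro _ rfl) hkN
    have h3 := h2.trans h1
    rw [Nat.card_eq_fintype_card, Fintype.card_subtype] at h3
    have h4 : (Finset.univ.filter (fun x : G => (x ^ k) ^ d = 1)) =
        (Finset.univ.filter (fun x : G => x ^ (k * d) = 1)) := by
      ext x
      simp only [Finset.mem_filter, Finset.mem_univ, true_and, pow_mul]
    rw [h4]; exact h3
  -- h d = #{x : o(x^k) = d} is divisible by k, by strong induction
  have hh : ∀ d : ℕ, 0 < d → k ∣ (Finset.univ.filter (fun x : G => orderOf (x ^ k) = d)).card := by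
    intro d
    induction d using Nat.strong_induction_on with
    | _ d IH =>
    intro hd
    -- f d = Σ_{d' ∣ d} h d'
    have h1 : (Finset.univ.filter (fun x : G => (x ^ k) ^ d = 1)).card =
        ∑ d' ∈ d.divisors, (Finset.univ.filter (fun x : G => orderOf (x ^ k) = d')).card := by
      rw [Finset.card_eq_sum_card_fiberwise (f := fun x : G => orderOf (x ^ k)) (t := d.divisors)]
      · apply Finset.sum_congr rfl
        intro d' hd'
        congr 1
        ext x
        simp only [Finset.mem_filter, Finset.mem_univ, true_and]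
        constructor
        · exact fun h => h.2
        · intro h
          refine ⟨?_, h⟩
          rw [← orderOf_dvd_iff_pow_eq_one, h]
          exact Nat.dvd_of_mem_divisors hd'
      · intro x hx
        simp only [Finset.coe_filter, Finset.mem_univ, true_and, Set.mem_ofPred_eq] at hx
        simp only [Finset.mem_coe, Nat.mem_divisors]
        exact ⟨orderOf_dvd_of_pow_eq_one hx, hd.ne'⟩
    have h2 : d.divisors = insert d (d.divisors.erase d) := by
      rw [Finset.insert_erase]; exact Nat.mem_divisors_self d hd.ne'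
    rw [h2, Finset.sum_insert (Finset.notMem_erase d _)] at h1
    have h3 : k ∣ ∑ d' ∈ d.divisors.erase d, (Finset.univ.filter (fun x : G => orderOf (x ^ k) = d')).card := by
      apply Finset.dvd_sum
      intro d' hd'
      rw [Finset.mem_erase] at hd'
      have hd'd := Nat.dvd_of_mem_divisors hd'.2
      have hd'pos : 0 < d' := Nat.pos_of_dvd_of_pos hd'd hd
      have hd'lt : d' < d := lt_of_le_of_ne (Nat.le_of_dvd hd hd'd) hd'.1
      exact IH d' hd'lt hd'pos
    have h4 := hf d
    rw [h1] at h4
    exact (Nat.dvd_add_left h3).mp h4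
  -- final count
  rw [Nat.card_eq_fintype_card, Fintype.card_subtype]
  have h1 : (Finset.univ.filter (fun x : G => n ∣ orderOf x)) =
      (Finset.univ.filter (fun x : G => n ∣ orderOf (x ^ k))) := by
    ext x
    simp only [Finset.mem_filter, Finset.mem_univ, true_and]
    exact (weisner_dvd_orderOf_pow_iff x hkpos hcop).symm
  rw [h1, Finset.card_eq_sum_card_fiberwise (f := fun x : G => orderOf (x ^ k)) (t := N.divisors)]
  · apply Finset.dvd_sum
    intro d hd
    have hdpos : 0 < d := Nat.pos_of_mem_divisors hd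
    by_cases hnd : n ∣ d
    · have : (Finset.univ.filter (fun x : G => n ∣ orderOf (x ^ k))).filter (fun x => orderOf (x ^ k) = d) =
          Finset.univ.filter (fun x : G => orderOf (x ^ k) = d) := by
        ext x
        simp only [Finset.mem_filter, Finset.mem_univ, true_and]
        constructor
        · exact fun h => h.2
        · intro h; exact ⟨h ▸ hnd, h⟩
      rw [this]
      exact hh d hdpos
    · have : (Finset.univ.filter (fun x : G => n ∣ orderOf (x ^ k))).filter (fun x => orderOf (x ^ k) = d) = ∅ := by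
        ext x
        simp only [Finset.mem_filter, Finset.mem_univ, true_and, Finset.notMem_empty, iff_false]
        rintro ⟨h1, h2⟩
        exact hnd (h2 ▸ h1)
      rw [this, Finset.card_empty]
      exact dvd_zero k
  · intro x _
    simp only [Finset.mem_coe, Nat.mem_divisors]
    exact ⟨orderOf_dvd_natCard _, hNpos.ne'⟩

end Weisner

end Cfsg.Agent.Helper75
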