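import Mathlib
import Cfsg.Prelude.Def_GeometricClasses
import Cfsg.Agent.Helper43.EB.Defs

/-! (B3)/(B4)/(B5) of helper43's WANTED #9543 for S5877: the normaliser condition, non-scalarity and
the underlying endomorphism of `Matrix.GeneralLinearGroup.toLin g`.  `concGroup R` of the skeleton is
written out: `(R ⊔ scalars).map toLin.toMonoidHom`. -/

set_option autoImplicit false

namespace Cfsg.Agent.Helper75.EBB3

open Cfsg.Agent.Helper43.EB Module

variable {F : Type*} [Field F] {n : ℕ}

/-- (B3) the normaliser condition -/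
theorem toLin_mem_normalizer (R : Subgroup (Matrix.GeneralLinearGroup (Fin n) F))
    {g : Matrix.GeneralLinearGroup (Fin n) F}
    (hg : g ∈ Cfsg.Geo.subgroupNormalizer (R ⊔ Cfsg.Geo.scalars (Fin n) F)) :
    Matrix.GeneralLinearGroup.toLin g ∈
      Subgroup.normalizer ((((R ⊔ Cfsg.Geo.scalars (Fin n) F).map
        (Matrix.GeneralLinearGroup.toLin (n := Fin n) (R := F)).toMonoidHom :
          Subgroup (Module.End F (Fin n → F))ˣ)) : Set (Module.End F (Fin n → F))ˣ) := by
  have h := Subgroup.le_normalizer_map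
    (H := R ⊔ Cfsg.Geo.scalars (Fin n) F)
    (Matrix.GeneralLinearGroup.toLin (n := Fin n) (R := F)).toMonoidHom
  exact h (Subgroup.mem_map_of_mem _ hg)

/-- (B5) the underlying endomorphism -/
theorem toLin_val (g : Matrix.GeneralLinearGroup (Fin n) F) :
    ((Matrix.GeneralLinearGroup.toLin g : (Module.End F (Fin n → F))ˣ) : Module.End F (Fin n → F)) =
      Matrix.toLin' (g : Matrix (Fin n) (Fin n) F) := by
  rfl

/-- (B4) non-scalar -/
theorem not_isScalar_toLin {g : Matrix.GeneralLinearGroup (Fin n) F}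
    (hns : g ∉ Cfsg.Geo.scalars (Fin n) F) :
    ¬ IsScalar ((Matrix.GeneralLinearGroup.toLin g : (Module.End F (Fin n → F))ˣ) : Module.End F (Fin n → F)) := by
  rintro ⟨c, hc⟩
  apply hns
  rw [toLin_val] at hc
  have hM : (g : Matrix (Fin n) (Fin n) F) = c • (1 : Matrix (Fin n) (Fin n) F) := by
    apply Matrix.toLin'.injective
    rw [hc, map_smul, Matrix.toLin'_one]
    rfl
  rw [Cfsg.Geo.mem_scalars_iff]
  by_cases hc0 : c = 0
  · -- then `g = 0`, so `n = 0` and everything is trivial
    have hdet : IsUnit (g : Matrix (Fin n) (Fin n) F).det :=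
      (Matrix.isUnit_iff_isUnit_det _).1 g.isUnit
    rw [hM, hc0, zero_smul] at hdet
    rcases Nat.eq_zero_or_pos n with hn | hn
    · subst hn
      exact ⟨1, Subsingleton.elim _ _⟩
    · exfalso
      have : Nonempty (Fin n) := ⟨⟨0, hn⟩⟩
      rw [Matrix.det_zero] at hdet
      exact not_isUnit_zero hdet
  · exact ⟨Units.mk0 c hc0, by simpa using hM⟩

end Cfsg.Agent.Helper75.EBB3
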