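import Mathlib
import Cfsg.Agent.Helper96.StLift.Root
import Cfsg.Agent.Helper96.StN.Conj

/-!
# Lifts of root elements with disjoint index pairs commute when `|K| ≥ 3`

Piece (L3) of helper96's plan for S2086.
-/

set_option autoImplicit false

namespace Cfsg.Agent.Helper75.StLiftDisj

open scoped commutatorElement
open Cfsg.Agent.Helper96.StN Cfsg.Agent.Helper96.StLift

variable {D : Type*} [Group D] {E : Type*} [Group E] {p : E →* D}
  {K : Type*} [Field K] {ι : Type*} {X : ι → ι → K → D}

/-- the symbol of a disjoint pair is antisymmetric (conjugate by `w_ik(1) w_jl(1)`) -/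
theorem lc_disjoint_swap [DecidableEq ι] (hp : Function.Surjective p)
    (hc : p.ker ≤ Subgroup.center E) (hX : StRel X) (h3 : ∀ i j : ι, ∃ k, k ≠ i ∧ k ≠ j)
    {i j k l : ι} (hij : i ≠ j) (hkl : k ≠ l) (hik : i ≠ k)
    (hil : i ≠ l) (hjk : j ≠ k) (hjl : j ≠ l) (t u : K) :
    lc hp (X i j t) (X k l u) = (lc hp (X i j u) (X k l t))⁻¹ := by
  have h1 := W_isMono hX h3 hik (one_ne_zero (α := K))
  have h2 := W_isMono hX h3 hjl (one_ne_zero (α := K))
  have hm := h1.mul h2
  have h := lc_root_mono hp hc hX hij hkl hjk hil hm t u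
  have ei : (Equiv.swap i k * Equiv.swap j l) i = k := by
    rw [Equiv.Perm.mul_apply, Equiv.swap_apply_of_ne_of_ne hij hil, Equiv.swap_apply_left]
  have ej : (Equiv.swap i k * Equiv.swap j l) j = l := by
    rw [Equiv.Perm.mul_apply, Equiv.swap_apply_left,
      Equiv.swap_apply_of_ne_of_ne hil.symm hkl.symm]
  have ek : (Equiv.swap i k * Equiv.swap j l) k = i := by
    rw [Equiv.Perm.mul_apply, Equiv.swap_apply_of_ne_of_ne hjk.symm hkl, Equiv.swap_apply_right]
  have el : (Equiv.swap i k * Equiv.swap j l) l = j := by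
    rw [Equiv.Perm.mul_apply, Equiv.swap_apply_right,
      Equiv.swap_apply_of_ne_of_ne hij.symm hjk]
  rw [ei, ej, ek, el] at h
  have c1 : wp i k (1 : K) (Equiv.swap j l i) * wp j l (1 : K) i *
      (wp i k (1 : K) (Equiv.swap j l j) * wp j l (1 : K) j)⁻¹ * t = t := by
    rw [Equiv.swap_apply_of_ne_of_ne hij hil, Equiv.swap_apply_left]
    simp [wp, hij, hil, hil.symm, hkl.symm]
  have c2 : wp i k (1 : K) (Equiv.swap j l k) * wp j l (1 : K) k *
      (wp i k (1 : K) (Equiv.swap j l l) * wp j l (1 : K) l)⁻¹ * u = u := by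
    rw [Equiv.swap_apply_of_ne_of_ne hjk.symm hkl, Equiv.swap_apply_right]
    simp [wp, hik.symm, hjk.symm, hij.symm, hjk, hjl.symm]
  rw [c1, c2] at h
  rw [h, lc_inv]

/-- **Piece (L3)** -/
theorem cl_disjoint [DecidableEq ι] [Fintype K] (hp : Function.Surjective p)
    (hc : p.ker ≤ Subgroup.center E) (hX : StRel X) (h3 : ∀ i j : ι, ∃ k, k ≠ i ∧ k ≠ j)
    (hq : 3 ≤ Fintype.card K) {i j k l : ι} (hij : i ≠ j) (hkl : k ≠ l) (hik : i ≠ k)
    (hil : i ≠ l) (hjk : j ≠ k) (hjl : j ≠ l) (t u : K) :
    lc hp (X i j t) (X k l u) = 1 := by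
  have addL : ∀ t t' u : K, lc hp (X i j (t + t')) (X k l u) =
      lc hp (X i j t) (X k l u) * lc hp (X i j t') (X k l u) :=
    lc_root_add_left hp hc hX hij hkl hjk hil
  have zeroL : ∀ u : K, lc hp (X i j 0) (X k l u) = 1 := fun u =>
    lc_root_zero_left hp hc hX hij _
  have zeroR : ∀ t : K, lc hp (X i j t) (X k l 0) = 1 := fun t =>
    lc_root_zero_right hp hc hX hkl _
  have negL : ∀ t u : K, lc hp (X i j (-t)) (X k l u) = (lc hp (X i j t) (X k l u))⁻¹ :=
    lc_root_neg_left hp hc hX hij hkl hjk hil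
  have negR : ∀ t u : K, lc hp (X i j t) (X k l (-u)) = (lc hp (X i j t) (X k l u))⁻¹ :=
    lc_root_neg_right hp hc hX hij hkl hjk hil
  by_cases hA : ∃ a : K, a ≠ 0 ∧ a * a ≠ 1
  · -- a torus element acting by `a²` on `(i,j)` and trivially on `(k,l)`
    obtain ⟨a, ha, ha2⟩ := hA
    have hm := Hd_isMono hX h3 hij ha
    have key : ∀ t : K, lc hp (X i j t) (X k l u) = lc hp (X i j (a * a * t)) (X k l u) := by
      intro t
      have h := lc_root_mono hp hc hX hij hkl hjk hil hm t u
      rw [Equiv.Perm.one_apply, Equiv.Perm.one_apply, Equiv.Perm.one_apply,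
        Equiv.Perm.one_apply] at h
      have c1 : Cfsg.Agent.Helper96.StN.hp i j a i * (Cfsg.Agent.Helper96.StN.hp i j a j)⁻¹ * t =
          a * a * t := by
        simp [Cfsg.Agent.Helper96.StN.hp, hij.symm]
      have c2 : Cfsg.Agent.Helper96.StN.hp i j a k * (Cfsg.Agent.Helper96.StN.hp i j a l)⁻¹ * u =
          u := by
        simp [Cfsg.Agent.Helper96.StN.hp, hik.symm, hil.symm, hjk.symm, hjl.symm]
      rw [c1, c2] at h
      exact h
    have hb : a * a - 1 ≠ 0 := sub_ne_zero.mpr ha2
    have kill : ∀ t : K, lc hp (X i j ((a * a - 1) * t)) (X k l u) = 1 := by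
      intro t
      have e : (a * a - 1) * t = a * a * t + -t := by ring
      rw [e, addL, negL, ← key t, mul_inv_cancel]
    have e : t = (a * a - 1) * ((a * a - 1)⁻¹ * t) := by
      rw [mul_inv_cancel_left₀ hb]
    rw [e]
    exact kill _
  · -- `K = 𝔽₃`
    push Not at hA
    have h012 : ∀ a : K, a = 0 ∨ a = 1 ∨ a = -1 := by
      intro a
      by_cases ha : a = 0
      · exact Or.inl ha
      · right
        have h := hA a ha
        have h' : (a - 1) * (a + 1) = 0 := by ring_nf; rw [← h]; ring
        rcases mul_eq_zero.mp h' with h1 | h1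
        · exact Or.inl (sub_eq_zero.mp h1)
        · exact Or.inr (eq_neg_of_add_eq_zero_left h1)
    have h111 : (1 : K) + 1 + 1 = 0 := by
      rcases h012 ((1 : K) + 1) with h | h | h
      · exfalso
        classical
        have hneg : (-1 : K) = 1 := neg_eq_of_add_eq_zero_left h
        have hsub : (Finset.univ : Finset K) ⊆ {0, 1} := by
          intro a _
          rcases h012 a with h | h | h
          · simp [h]
          · simp [h]
          · simp [h, hneg]
        have hcard := Finset.card_le_card hsub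
        rw [Finset.card_univ] at hcard
        have := Finset.card_le_two (a := (0 : K)) (b := 1)
        omega
      · exfalso
        have : (1 : K) = 0 := by
          have := congrArg (fun x => x - 1) h
          simpa using this
        exact one_ne_zero this
      · rw [h, neg_add_cancel]
    have hsw := lc_disjoint_swap hp hc hX h3 hij hkl hik hil hjk hjl (1 : K) 1
    have h2 : lc hp (X i j 1) (X k l 1) * lc hp (X i j 1) (X k l 1) = 1 := by
      nth_rewrite 1 [hsw]
      exact inv_mul_cancel _
    have h3' : lc hp (X i j 1) (X k l 1) * lc hp (X i j 1) (X k l 1) *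
        lc hp (X i j 1) (X k l 1) = 1 := by
      rw [← addL, ← addL, h111, zeroL]
    have h11 : lc hp (X i j 1) (X k l 1) = 1 := by
      rw [h2, one_mul] at h3'
      exact h3'
    rcases h012 t with rfl | rfl | rfl
    · exact zeroL u
    · rcases h012 u with rfl | rfl | rfl
      · exact zeroR _
      · exact h11
      · rw [negR, h11, inv_one]
    · rcases h012 u with rfl | rfl | rfl
      · exact zeroR _
      · rw [negL, h11, inv_one]
      · rw [negL, negR, h11, inv_one, inv_one]

end Cfsg.Agent.Helper75.StLiftDisj
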