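import Mathlib
import Cfsg.Prelude.Def_CaseTheorems
import Cfsg.Agent.Helper54.SCG.Defs
import Cfsg.Agent.S0508
import Cfsg.Agent.Lib.Cores

set_option autoImplicit false

/-!
# S3921 (helper54 SCG farm), leaf (DH): dihedral Sylow 2-subgroup and `C(t)` a 2-group give `PSL₂(F)`
-/

namespace Cfsg.Agent.Helper75.SCG

open Matrix Cfsg.Agent.Helper54.SCG

/-- (DH) `Cfsg.Agent.S0508.result` with O = ⊥: `Cfsg.oddCore` of a 2-group is ⊥ (every normal subgroup of order
coprime to 2 is trivial), `centralizer ⊥ = ⊤`; ha, hb, hc are vacuous. -/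
theorem DH_psl2_of_dihedral {G : Type*} [Group G] [Finite G] [IsSimpleGroup G] (S : Sylow 2 G)
    (n : ℕ) (hn : 2 ≤ n) (hS : Nonempty (↥(S : Subgroup G) ≃* DihedralGroup n)) (t : G)
    (ht : orderOf t = 2) (htS : t ∈ (S : Subgroup G))
    (htZ : ∀ s ∈ (S : Subgroup G), s * t = t * s)
    (hC : IsPGroup 2 ↥(Subgroup.centralizer ({t} : Set G))) :
    ∃ (F : Type) (_ : Field F) (_ : Fintype F), Odd (Fintype.card F) ∧
      Nonempty (G ≃* Matrix.ProjectiveSpecialLinearGroup (Fin 2) F) := by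
  have hodd : Odd (Nat.card (Cfsg.oddCore ↥(Subgroup.centralizer ({t} : Set G)))) :=
    Cfsg.Agent.Lib.odd_card_oddCore
  have hcore : Cfsg.oddCore ↥(Subgroup.centralizer ({t} : Set G)) = ⊥ := by
    obtain ⟨k, hk⟩ := (IsPGroup.iff_card).1
      (hC.to_subgroup (Cfsg.oddCore ↥(Subgroup.centralizer ({t} : Set G))))
    rw [hk] at hodd
    have hk0 : k = 0 := by
      by_contra h0
      have : Even (2 ^ k) := (Nat.even_pow.2 ⟨even_two, h0⟩)
      exact (Nat.not_even_iff_odd.2 hodd) this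
    rw [hk0, pow_zero] at hk
    exact Subgroup.card_eq_one.1 hk
  have hO : (⊥ : Subgroup G) = (Cfsg.oddCore (Subgroup.centralizer ({t} : Set G))).map
      (Subgroup.centralizer ({t} : Set G)).subtype := by
    rw [hcore, Subgroup.map_bot]
  have hcent : Subgroup.centralizer (((⊥ : Subgroup G) : Subgroup G) : Set G) = ⊤ := by
    rw [Subgroup.coe_bot, Subgroup.centralizer_eq_top_iff_subset]
    intro x hx
    rw [Set.mem_singleton_iff] at hx
    rw [hx]
    exact Subgroup.one_mem _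
  refine Cfsg.Agent.S0508.result S n hn hS t ht htS htZ ⊥ hO (fun h => absurd rfl h) ?_ ?_
  · intro s _ hs
    rw [hcent] at hs
    exact absurd (Subgroup.mem_top s) hs
  · intro Y hY hY0
    exact absurd (le_bot_iff.1 hY) hY0

end Cfsg.Agent.Helper75.SCG
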