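import Mathlib
import Cfsg.Prelude.Def_CaseTheorems
import Cfsg.Agent.Helper54.SCG.Defs
import Cfsg.Agent.S0201

set_option autoImplicit false

/-!
# S3921 (helper54 SCG farm), leaf (NQ): no generalized quaternion Sylow 2-subgroup in a simple group
-/

namespace Cfsg.Agent.Helper75.SCG

open Matrix Cfsg.Agent.Helper54.SCG

/-- (NQ) Brauer–Suzuki `Cfsg.Agent.S0201.result`: the centre would have order 2. -/
theorem NQ_not_quaternion_sylow {G : Type*} [Group G] [Finite G] [IsSimpleGroup G]
    (hna : ¬ IsMulCommutative G) (S : Sylow 2 G) (n : ℕ)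
    (e : Nonempty (↥(S : Subgroup G) ≃* QuaternionGroup (2 ^ (n + 1)))) : False := by
  obtain ⟨e⟩ := e
  have hcardS : Nat.card (S : Subgroup G) = 4 * 2 ^ (n + 1) := by
    rw [Nat.card_congr e.toEquiv, Nat.card_eq_fintype_card, QuaternionGroup.card]
  have h2 : 2 ∣ Nat.card G := by
    refine dvd_trans ?_ (Subgroup.card_subgroup_dvd_card (S : Subgroup G))
    rw [hcardS]
    exact ⟨2 * 2 ^ (n + 1), by ring⟩
  have hO : ∀ N : Subgroup G, N.Normal → Odd (Nat.card N) → N = ⊥ := by
    intro N hN hodd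
    rcases hN.eq_bot_or_eq_top with h | h
    · exact h
    · exfalso
      rw [h, Subgroup.card_top] at hodd
      exact (Nat.not_even_iff_odd.2 hodd) (even_iff_two_dvd.2 h2)
  have hZ := Cfsg.Agent.S0201.result S n e hO
  rcases (inferInstance : (Subgroup.center G).Normal).eq_bot_or_eq_top with h | h
  · rw [h, Subgroup.card_bot] at hZ
    omega
  · apply hna
    refine ⟨⟨fun a b => ?_⟩⟩
    have ha : a ∈ Subgroup.center G := by rw [h]; exact Subgroup.mem_top a
    exact (Subgroup.mem_center_iff.1 ha b).symm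

end Cfsg.Agent.Helper75.SCG
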