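import Cfsg.Agent.Helper57.BP.Lemmas
import Cfsg.Agent.Helper79.ClassMult
import Cfsg.Agent.Helper76.FaithfulCentral

/-!
# Piece (U1) of helper57's #8294 (S4504): twisting the class multiplication constants by a
central character.
-/

set_option autoImplicit false

namespace Cfsg.Agent.Helper75.BP

open Cfsg Cfsg.Agent.Helper16 Cfsg.Agent.Helper16.DefOne Cfsg.Agent.Helper82.DefOne
  Cfsg.Agent.Helper77.DefOne Cfsg.Agent.Helper57.BH Cfsg.Agent.Helper57.BP
open scoped ComplexConjugate

universe u

variable {G : Type u} [Group G] [Fintype G] {p : ℕ} [Fact p.Prime] (P : Sylow p G)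

section U1

open Classical Cfsg.Agent.Helper76

/-- the summand of the class-constant formula -/
private noncomputable def u1term (u v : G) (χ : IrrCharacter G) (w : G) : ℂ :=
  (χ : G → ℂ) u * (χ : G → ℂ) v * conj ((χ : G → ℂ) w) / (χ : G → ℂ) 1

omit [Fintype G] in
private theorem u1_tsum_eq [Fintype (IrrCharacter G)] (S : Set (IrrCharacter G)) (u v w : G) :
    Cfsg.Agent.Helper57.BP.tsum S u v w = ∑ χ : IrrCharacter G, if χ ∈ S then u1term u v χ w else 0 := by
  unfold Cfsg.Agent.Helper57.BP.tsum
  rw [finsum_mem_def, finsum_eq_sum_of_fintype]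
  refine Finset.sum_congr rfl fun χ _ => ?_
  by_cases h : χ ∈ S
  · rw [Set.indicator_of_mem h, if_pos h]; rfl
  · rw [Set.indicator_of_notMem h, if_neg h]

/-- Burnside: the full sum is a nonnegative real -/
private theorem u1_full_real [Fintype (IrrCharacter G)] (u v w : G) :
    ∃ r : ℝ, 0 ≤ r ∧ ∑ χ : IrrCharacter G, u1term u v χ w = (r : ℂ) := by
  have h := Cfsg.Agent.Helper79.card_conj_mul_conj_eq (G := G) u v w
  have hG : (Nat.card G : ℂ) ≠ 0 := by
    have : 0 < Nat.card G := Nat.card_pos
    exact_mod_cast this.ne'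
  set n := (Finset.univ.filter
    (fun ab : G × G => ab.1 * u * ab.1⁻¹ * (ab.2 * v * ab.2⁻¹) = w)).card with hn
  refine ⟨(n : ℝ) / (Nat.card G : ℝ), by positivity, ?_⟩
  have h2 : ∑ χ : IrrCharacter G, u1term u v χ w = (n : ℂ) / (Nat.card G : ℂ) := by
    rw [eq_div_iff hG, mul_comm]
    exact h.symm
  rw [h2]
  push_cast
  rfl

omit [Fintype G] in
/-- moving a central element out of the summand -/
private theorem u1term_central (u v w : G) (χ : IrrCharacter G) (ζ : G)
    (hζ : ζ ∈ Subgroup.center G) :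
    u1term u v χ (ζ * w) = conj (centralLam (χ : G → ℂ) ζ) * u1term u v χ w := by
  unfold u1term
  rw [centralLam_spec χ.2 hζ w, map_mul]
  ring

omit [Fintype G] in
private theorem u1_mem_overChar_iff (ψ χ : IrrCharacter G) :
    χ ∈ overChar ψ ↔
      centralLamHom ψ.2 (Subgroup.center G) le_rfl = centralLamHom χ.2 (Subgroup.center G) le_rfl := by
  have hψ1 := irr_one_ne_zero ψ.2
  have hχ1 := irr_one_ne_zero χ.2
  constructor
  · intro h
    ext ζ
    show centralLam (ψ : G → ℂ) ζ = centralLam (χ : G → ℂ) ζ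
    unfold centralLam
    have := h ζ ζ.2
    rw [div_eq_div_iff hψ1 hχ1]
    exact this.symm
  · intro h ζ hζ
    have := DFunLike.congr_fun h ⟨ζ, hζ⟩
    change centralLam (ψ : G → ℂ) ζ = centralLam (χ : G → ℂ) ζ at this
    unfold centralLam at this
    rw [div_eq_div_iff hψ1 hχ1] at this
    exact this.symm

omit [Fintype G] in
private theorem u1_mem_overOne_iff (χ : IrrCharacter G) :
    χ ∈ overOne G ↔
      (1 : Subgroup.center G →* ℂ) = centralLamHom χ.2 (Subgroup.center G) le_rfl := by
  have hχ1 := irr_one_ne_zero χ.2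
  constructor
  · intro h
    ext ζ
    show (1 : ℂ) = centralLam (χ : G → ℂ) ζ
    unfold centralLam
    rw [h ζ ζ.2, div_self hχ1]
  · intro h ζ hζ
    have := DFunLike.congr_fun h ⟨ζ, hζ⟩
    change (1 : ℂ) = centralLam (χ : G → ℂ) ζ at this
    unfold centralLam at this
    rw [eq_div_iff hχ1, one_mul] at this
    exact this.symm

/-- the key identity: summing the full class-constant sums against a character of the centre -/
private theorem u1_key [Fintype (IrrCharacter G)] (lam : Subgroup.center G →* ℂ)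
    (S : Set (IrrCharacter G))
    (hS : ∀ χ : IrrCharacter G, χ ∈ S ↔ lam = centralLamHom χ.2 (Subgroup.center G) le_rfl)
    (u v w : G) :
    ∑ ζ : Subgroup.center G, lam ζ * ∑ χ : IrrCharacter G, u1term u v χ ((ζ : G) * w) =
      (Fintype.card (Subgroup.center G) : ℂ) * Cfsg.Agent.Helper57.BP.tsum S u v w := by
  rw [u1_tsum_eq]
  simp only [Finset.mul_sum]
  rw [Finset.sum_comm]
  refine Finset.sum_congr rfl fun χ _ => ?_
  have h1 : ∀ ζ : Subgroup.center G, lam ζ * u1term u v χ ((ζ : G) * w) =
      (lam ζ * conj (centralLamHom χ.2 (Subgroup.center G) le_rfl ζ)) * u1term u v χ w := by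
    intro ζ
    rw [u1term_central u v w χ ζ ζ.2]
    show _ = lam ζ * conj (centralLam (χ : G → ℂ) ζ) * _
    ring
  simp only [h1]
  rw [← Finset.sum_mul, sum_monoidHom_mul_conj]
  by_cases h : χ ∈ S
  · rw [if_pos h, if_pos ((hS χ).mp h)]
  · rw [if_neg h, if_neg (fun h' => h ((hS χ).mpr h'))]
    simp

end U1

open Classical in
/-- (U1) twisting the class multiplication constants by a central character (any finite group) -/
theorem norm_tsum_overChar_le (ψ : IrrCharacter G) (u v w : G) :
    ‖Cfsg.Agent.Helper57.BP.tsum (overChar ψ) u v w‖ ≤ (Cfsg.Agent.Helper57.BP.tsum (overOne G) u v w).re := by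
  haveI : Fintype (IrrCharacter G) := Fintype.ofFinite _
  -- the nonnegative reals
  choose r hr0 hr using fun ζ : Subgroup.center G => u1_full_real u v ((ζ : G) * w)
  set lam := Cfsg.Agent.Helper76.centralLamHom ψ.2 (Subgroup.center G) le_rfl with hlam
  have hA := u1_key lam (overChar ψ) (fun χ => u1_mem_overChar_iff ψ χ) u v w
  have hB := u1_key (1 : Subgroup.center G →* ℂ) (overOne G) (fun χ => u1_mem_overOne_iff χ) u v w
  simp only [hr] at hA hB
  have hZ : (0 : ℝ) < (Fintype.card (Subgroup.center G) : ℝ) := by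
    have : 0 < Fintype.card (Subgroup.center G) := Fintype.card_pos
    exact_mod_cast this
  -- the real part of the `overOne` sum
  have hB' : (Fintype.card (Subgroup.center G) : ℝ) * (Cfsg.Agent.Helper57.BP.tsum (overOne G) u v w).re =
      ∑ ζ : Subgroup.center G, r ζ := by
    have := congrArg Complex.re hB
    simp only [MonoidHom.one_apply, one_mul, Complex.re_sum, Complex.ofReal_re] at this
    rw [this]
    simp
  -- the norm of the `overChar` sum
  have hA' : (Fintype.card (Subgroup.center G) : ℝ) * ‖Cfsg.Agent.Helper57.BP.tsum (overChar ψ) u v w‖ ≤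
      ∑ ζ : Subgroup.center G, r ζ := by
    have h1 : ‖(Fintype.card (Subgroup.center G) : ℂ) * Cfsg.Agent.Helper57.BP.tsum (overChar ψ) u v w‖ =
        (Fintype.card (Subgroup.center G) : ℝ) * ‖Cfsg.Agent.Helper57.BP.tsum (overChar ψ) u v w‖ := by
      rw [norm_mul]
      congr 1
      simp
    rw [← h1, ← hA]
    refine (norm_sum_le _ _).trans ?_
    refine Finset.sum_le_sum fun ζ _ => ?_
    rw [norm_mul, Cfsg.Agent.Helper76.norm_monoidHom_eq_one lam ζ, one_mul, Complex.norm_real,
      Real.norm_of_nonneg (hr0 ζ)]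
  rw [← hB'] at hA'
  exact le_of_mul_le_mul_left hA' hZ

end Cfsg.Agent.Helper75.BP
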