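import Cfsg.Agent.Helper57.BP.Lemmas
import Cfsg.Agent.Helper70.DefOneXG

/-!
# Piece (V3) of helper57's #8294 (S4504): sums over the `p`-singular elements when the
`p`-regular elements of `C_G(P)` are central and `|P| = p`.
-/

set_option autoImplicit false

namespace Cfsg.Agent.Helper75.BP

open Cfsg Cfsg.Agent.Helper16 Cfsg.Agent.Helper16.DefOne Cfsg.Agent.Helper82.DefOne
  Cfsg.Agent.Helper77.DefOne Cfsg.Agent.Helper57.BH Cfsg.Agent.Helper57.BP
open scoped ComplexConjugate

universe u

variable {G : Type u} [Group G] [Fintype G] {p : ℕ} [Fact p.Prime] (P : Sylow p G)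

section V3

omit [Fintype G] in
private theorem v3_card_sylow [Finite G] (hP : Nat.card P = p) (Q : Sylow p G) :
    Nat.card Q = p := by
  rw [Q.card_eq_multiplicity, ← P.card_eq_multiplicity]
  exact hP

omit [Fintype G] in
private theorem v3_order_of_mem [Finite G] (hP : Nat.card P = p) (Q : Sylow p G) (u : G)
    (hu : u ∈ (Q : Subgroup G)) (hu1 : u ≠ 1) : orderOf u = p := by
  have hp : p.Prime := Fact.out
  have h1 : orderOf u ∣ p := by
    have := Subgroup.orderOf_dvd_natCard (Q : Subgroup G) hu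
    rwa [v3_card_sylow P hP Q] at this
  rcases (Nat.dvd_prime hp).mp h1 with h | h
  · exact absurd (orderOf_eq_one_iff.mp h) hu1
  · exact h

omit [Fintype G] in
private theorem v3_exists_sylow [Finite G] (u : G) (hu : orderOf u = p) :
    ∃ Q : Sylow p G, u ∈ (Q : Subgroup G) := by
  have hp : p.Prime := Fact.out
  have hpg : IsPGroup p (Subgroup.zpowers u) := by
    apply IsPGroup.of_card (n := 1)
    rw [Nat.card_zpowers, hu, pow_one]
  obtain ⟨Q, hQ⟩ := hpg.exists_le_sylow
  exact ⟨Q, hQ (Subgroup.mem_zpowers u)⟩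

omit [Fintype G] in
private theorem v3_sylow_eq_zpowers [Finite G] (hP : Nat.card P = p) (Q : Sylow p G) (u : G)
    (hu : u ∈ (Q : Subgroup G)) (hu1 : u ≠ 1) : (Q : Subgroup G) = Subgroup.zpowers u := by
  have hle : Subgroup.zpowers u ≤ (Q : Subgroup G) := by
    rw [Subgroup.zpowers_le]; exact hu
  symm
  apply Subgroup.eq_of_le_of_card_ge hle
  rw [Nat.card_zpowers, v3_order_of_mem P hP Q u hu hu1, v3_card_sylow P hP Q]

omit [Fintype G] in
private theorem v3_sylow_unique [Finite G] (hP : Nat.card P = p) (Q Q' : Sylow p G) (u : G)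
    (hu : u ∈ (Q : Subgroup G)) (hu' : u ∈ (Q' : Subgroup G)) (hu1 : u ≠ 1) : Q = Q' := by
  apply Sylow.ext
  rw [v3_sylow_eq_zpowers P hP Q u hu hu1, v3_sylow_eq_zpowers P hP Q' u hu' hu1]

/-- the `p'`-part of a `p`-singular element is central -/
private theorem v3_decomp (hP : Nat.card P = p)
    (hcent : ∀ c : cen P, ¬ p ∣ orderOf c → (c : G) ∈ Subgroup.center G)
    (g : G) (hg : p ∣ orderOf g) :
    ∃ u ζ : G, orderOf u = p ∧ ζ ∈ Subgroup.center G ∧ u * ζ = g := by
  have hp : p.Prime := Fact.out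
  obtain ⟨u, y, hu, hy, huy, ⟨k, huk⟩, hyreg⟩ :=
    Cfsg.Agent.Helper70.DefOneXG.exists_pPart_decomp (p := p) g
  have hcomm : Commute u y := by
    obtain ⟨a, rfl⟩ := Subgroup.mem_zpowers_iff.mp hu
    obtain ⟨b, rfl⟩ := Subgroup.mem_zpowers_iff.mp hy
    exact (Commute.refl g).zpow_zpow a b
  have hu1 : u ≠ 1 := by
    rintro rfl
    rw [one_mul] at huy
    rw [huy] at hyreg
    exact hyreg hg
  -- `u` lies in a Sylow subgroup
  have hpg : IsPGroup p (Subgroup.zpowers u) := by
    intro x
    obtain ⟨a, ha⟩ := Subgroup.mem_zpowers_iff.mp x.2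
    refine ⟨k, ?_⟩
    apply Subtype.ext
    rw [Subgroup.coe_pow, ← ha, Subgroup.coe_one, ← zpow_natCast, ← zpow_mul, mul_comm, zpow_mul,
      zpow_natCast, huk, one_zpow]
  obtain ⟨Q, hQ⟩ := hpg.exists_le_sylow
  have huQ : u ∈ (Q : Subgroup G) := hQ (Subgroup.mem_zpowers u)
  have huord : orderOf u = p := v3_order_of_mem P hP Q u huQ hu1
  have hQz : (Q : Subgroup G) = Subgroup.zpowers u := v3_sylow_eq_zpowers P hP Q u huQ hu1
  -- `y` centralizes `Q`
  have hyQ : ∀ x ∈ (Q : Subgroup G), y * x = x * y := by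
    intro x hx
    rw [hQz] at hx
    obtain ⟨a, rfl⟩ := Subgroup.mem_zpowers_iff.mp hx
    exact ((hcomm.symm).zpow_right a).eq
  -- conjugate into `P`
  obtain ⟨h, hh⟩ := MulAction.exists_smul_eq G Q P
  have hmem : ∀ x ∈ (P : Subgroup G), h⁻¹ * x * h ∈ (Q : Subgroup G) := by
    intro x hx
    rw [← hh, Sylow.coe_subgroup_smul, Subgroup.mem_pointwise_smul_iff_inv_smul_mem] at hx
    rw [MulAut.smul_def, ← map_inv, MulAut.conj_apply, inv_inv] at hx
    exact hx
  have hc : h * y * h⁻¹ ∈ cen P := by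
    rw [Subgroup.mem_centralizer_iff]
    intro x hx
    have h1 := hyQ (h⁻¹ * x * h) (hmem x hx)
    calc x * (h * y * h⁻¹) = h * ((h⁻¹ * x * h) * y) * h⁻¹ := by group
      _ = h * (y * (h⁻¹ * x * h)) * h⁻¹ := by rw [h1]
      _ = h * y * h⁻¹ * x := by group
  have hcreg : ¬ p ∣ orderOf (⟨h * y * h⁻¹, hc⟩ : cen P) := by
    rw [Subgroup.orderOf_mk]
    have : orderOf (h * y * h⁻¹) = orderOf y := by
      have := (MulAut.conj h).orderOf_eq y
      rwa [MulAut.conj_apply] at this
    rw [this]
    exact hyreg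
  have hcz := hcent ⟨h * y * h⁻¹, hc⟩ hcreg
  have hyz : y ∈ Subgroup.center G := by
    have h2 : h⁻¹ * (h * y * h⁻¹) * h⁻¹⁻¹ ∈ Subgroup.center G :=
      (inferInstance : (Subgroup.center G).Normal).conj_mem _ hcz h⁻¹
    have h3 : h⁻¹ * (h * y * h⁻¹) * h⁻¹⁻¹ = y := by group
    rwa [h3] at h2
  exact ⟨u, y, huord, hyz, huy⟩

omit [Fintype G] in
/-- uniqueness of the decomposition -/
private theorem v3_unique [Finite G]
    (hZreg : ∀ ζ : G, ζ ∈ Subgroup.center G → ¬ p ∣ orderOf ζ)
    (u u' ζ ζ' : G) (hu : orderOf u = p) (hu' : orderOf u' = p)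
    (hζ : ζ ∈ Subgroup.center G) (hζ' : ζ' ∈ Subgroup.center G) (h : u * ζ = u' * ζ') :
    u = u' ∧ ζ = ζ' := by
  have hp : p.Prime := Fact.out
  have h1 : u⁻¹ * u' = ζ * ζ'⁻¹ := by
    have : u' = u * ζ * ζ'⁻¹ := by rw [h]; group
    rw [this]; group
  have hz : u⁻¹ * u' ∈ Subgroup.center G := by
    rw [h1]; exact Subgroup.mul_mem _ hζ (Subgroup.inv_mem _ hζ')
  have hcomm : Commute u⁻¹ u' := by
    have hc : Commute (u⁻¹ * u') u := ((Subgroup.mem_center_iff.mp hz) u).symm
    -- u⁻¹ u' u = u u⁻¹ u' = u'  ⇒  u' u = u u'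
    have : u' * u = u * u' := by
      have := hc.eq
      calc u' * u = u * (u⁻¹ * u' * u) := by group
        _ = u * (u * (u⁻¹ * u')) := by rw [this]
        _ = u * u' := by group
    exact (Commute.inv_left (show Commute u u' from this.symm))
  have hpow : (u⁻¹ * u') ^ p = 1 := by
    rw [hcomm.mul_pow, inv_pow, ← hu, pow_orderOf_eq_one, hu, ← hu', pow_orderOf_eq_one]
    simp
  have hdvd : orderOf (u⁻¹ * u') ∣ p := orderOf_dvd_of_pow_eq_one hpow
  have hreg := hZreg _ hz
  have hone : orderOf (u⁻¹ * u') = 1 := by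
    rcases (Nat.dvd_prime hp).mp hdvd with h2 | h2
    · exact h2
    · exact absurd (h2 ▸ dvd_refl _) hreg
  have huu : u = u' := by
    have := orderOf_eq_one_iff.mp hone
    exact (inv_mul_eq_one.mp this)
  refine ⟨huu, ?_⟩
  subst huu
  exact mul_left_cancel h

end V3

open Classical in
/-- (V3) sums over the `p`-singular elements -/
theorem sum_singular_eq (hP : Nat.card P = p)
    (hcent : ∀ c : cen P, ¬ p ∣ orderOf c → (c : G) ∈ Subgroup.center G)
    (hZreg : ∀ ζ : G, ζ ∈ Subgroup.center G → ¬ p ∣ orderOf ζ)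
    (F : G → ℝ) (hF : ∀ g h : G, F (g * h * g⁻¹) = F h)
    (hFZ : ∀ g ζ : G, ζ ∈ Subgroup.center G → F (g * ζ) = F g) :
    ∑ g ∈ Finset.univ.filter (fun g : G => p ∣ orderOf g), F g =
      (Nat.card (Subgroup.center G) : ℝ) * (Nat.card (Sylow p G) : ℝ) *
        ∑ u ∈ Finset.univ.filter (fun u : G => u ∈ (P : Subgroup G) ∧ u ≠ 1), F u := by
  have hp : p.Prime := Fact.out
  haveI : Fintype (Sylow p G) := Fintype.ofFinite _
  -- Step 1: singular elements = (elements of order p) × centre
  have step1 : ∑ g ∈ Finset.univ.filter (fun g : G => p ∣ orderOf g), F g =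
      (Nat.card (Subgroup.center G) : ℝ) *
        ∑ u ∈ Finset.univ.filter (fun u : G => orderOf u = p), F u := by
    have hprod : ∑ a ∈ (Finset.univ.filter (fun u : G => orderOf u = p)) ×ˢ
        (Finset.univ : Finset (Subgroup.center G)), F (a.1 * (a.2 : G)) =
        ∑ g ∈ Finset.univ.filter (fun g : G => p ∣ orderOf g), F g := by
      apply Finset.sum_bij (fun a _ => a.1 * (a.2 : G))
      · rintro ⟨u, ζ⟩ ha
        simp only [Finset.mem_product, Finset.mem_filter, Finset.mem_univ, true_and, and_true]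
          at ha ⊢
        have hcomm : Commute u (ζ : G) := by
          have := (Subgroup.mem_center_iff.mp ζ.2) u
          exact this
        have hco : (orderOf u).Coprime (orderOf (ζ : G)) := by
          rw [ha]
          exact (Nat.Prime.coprime_iff_not_dvd hp).mpr (hZreg _ ζ.2)
        rw [hcomm.orderOf_mul_eq_mul_orderOf_of_coprime hco, ha]
        exact dvd_mul_right _ _
      · rintro ⟨u, ζ⟩ ha ⟨u', ζ'⟩ ha' heq
        simp only [Finset.mem_product, Finset.mem_filter, Finset.mem_univ, true_and, and_true]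
          at ha ha'
        obtain ⟨h1, h2⟩ := v3_unique hZreg u u' ζ ζ' ha ha' ζ.2 ζ'.2 heq
        exact Prod.ext h1 (Subtype.ext h2)
      · intro g hg
        simp only [Finset.mem_filter, Finset.mem_univ, true_and] at hg
        obtain ⟨u, ζ, hu, hζ, huζ⟩ := v3_decomp P hP hcent g hg
        refine ⟨(u, ⟨ζ, hζ⟩), ?_, huζ⟩
        simp only [Finset.mem_product, Finset.mem_filter, Finset.mem_univ, true_and, and_true]
        exact hu
      · intro a _
        rfl
    rw [← hprod, Finset.sum_product]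
    have : ∀ u ∈ Finset.univ.filter (fun u : G => orderOf u = p),
        ∑ ζ : Subgroup.center G, F (u * (ζ : G)) = (Nat.card (Subgroup.center G) : ℝ) * F u := by
      intro u _
      have : ∀ ζ : Subgroup.center G, F (u * (ζ : G)) = F u := fun ζ => hFZ u ζ ζ.2
      simp only [this, Finset.sum_const, Finset.card_univ, nsmul_eq_mul, Nat.card_eq_fintype_card]
    rw [Finset.sum_congr rfl this, Finset.mul_sum]
  -- Step 2: elements of order p = disjoint union of Q \ 1
  have step2 : ∑ u ∈ Finset.univ.filter (fun u : G => orderOf u = p), F u =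
      ∑ Q : Sylow p G,
        ∑ u ∈ Finset.univ.filter (fun u : G => u ∈ (Q : Subgroup G) ∧ u ≠ 1), F u := by
    simp only [Finset.sum_filter]
    rw [Finset.sum_comm]
    refine Finset.sum_congr rfl fun u _ => ?_
    by_cases hu : orderOf u = p
    · rw [if_pos hu]
      obtain ⟨Q0, hQ0⟩ := v3_exists_sylow u hu
      have hu1 : u ≠ 1 := by
        rintro rfl
        rw [orderOf_one] at hu
        exact hp.one_lt.ne' hu.symm
      rw [Finset.sum_eq_single Q0]
      · rw [if_pos ⟨hQ0, hu1⟩]
      · intro Q _ hQ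
        rw [if_neg]
        rintro ⟨hmem, _⟩
        exact hQ (v3_sylow_unique P hP Q Q0 u hmem hQ0 hu1)
      · intro h
        exact absurd (Finset.mem_univ _) h
    · rw [if_neg hu]
      symm
      apply Finset.sum_eq_zero
      intro Q _
      rw [if_neg]
      rintro ⟨hmem, hu1⟩
      exact hu (v3_order_of_mem P hP Q u hmem hu1)
  -- Step 3: each Sylow contributes the same
  have step3 : ∀ Q : Sylow p G,
      ∑ u ∈ Finset.univ.filter (fun u : G => u ∈ (Q : Subgroup G) ∧ u ≠ 1), F u =
        ∑ u ∈ Finset.univ.filter (fun u : G => u ∈ (P : Subgroup G) ∧ u ≠ 1), F u := by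
    intro Q
    obtain ⟨h, hh⟩ := MulAction.exists_smul_eq G P Q
    symm
    apply Finset.sum_bij (fun u _ => h * u * h⁻¹)
    · intro u hu
      simp only [Finset.mem_filter, Finset.mem_univ, true_and] at hu ⊢
      refine ⟨?_, ?_⟩
      · rw [← hh, Sylow.coe_subgroup_smul]
        have : h * u * h⁻¹ = MulAut.conj h • u := by
          rw [MulAut.smul_def, MulAut.conj_apply]
        rw [this]
        exact Subgroup.smul_mem_pointwise_smul _ _ _ hu.1
      · intro h1
        apply hu.2
        have : u = h⁻¹ * (h * u * h⁻¹) * h := by group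
        rw [this, h1]
        group
    · intro u _ u' _ heq
      have : u = h⁻¹ * (h * u * h⁻¹) * h := by group
      rw [this, heq]
      group
    · intro w hw
      simp only [Finset.mem_filter, Finset.mem_univ, true_and] at hw
      refine ⟨h⁻¹ * w * h, ?_, by group⟩
      simp only [Finset.mem_filter, Finset.mem_univ, true_and]
      refine ⟨?_, ?_⟩
      · have hw1 := hw.1
        rw [← hh, Sylow.coe_subgroup_smul, Subgroup.mem_pointwise_smul_iff_inv_smul_mem] at hw1
        rw [MulAut.smul_def, ← map_inv, MulAut.conj_apply, inv_inv] at hw1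
        exact hw1
      · intro h1
        apply hw.2
        have : w = h * (h⁻¹ * w * h) * h⁻¹ := by group
        rw [this, h1]
        group
    · intro u _
      exact (hF h u).symm
  rw [step1, step2, Finset.sum_congr rfl (fun Q _ => step3 Q), Finset.sum_const, Finset.card_univ,
    nsmul_eq_mul, Nat.card_eq_fintype_card (α := Sylow p G)]
  ring

end Cfsg.Agent.Helper75.BP
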