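import Mathlib
import Cfsg.Prelude.Def_Perm
import Cfsg.Agent.Helper61.NeuDefs
import Cfsg.Agent.S0674

set_option autoImplicit false

/-! Piece (HI) of helper61's #8146 (S3611): abstract form of S0674 (the heart of the permutation
module of a non-solvable transitive group of prime degree is irreducible), for an abstract group
acting faithfully. -/

namespace Cfsg.Agent.Helper75.Neu

open MulAction Cfsg.Agent.Helper61.Neu

/-- (HI) abstract form of S0674 -/
theorem heart_irred {G : Type*} [Group G] {Ω : Type*} [Fintype Ω] [DecidableEq Ω] [MulAction G Ω]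
    [FaithfulSMul G Ω] [IsPretransitive G Ω] {p : ℕ} [Fact p.Prime] (hΩ : Fintype.card Ω = p)
    (hG : ¬ Group.IsSolvable G) {K : Type*} [Field K] [CharP K p]
    (W : Submodule K (Ω → K)) (hW : ∀ g : G, ∀ f ∈ W, Cfsg.permRep K G Ω g f ∈ W)
    (h₁ : (Cfsg.permConstants K G Ω).toSubmodule ≤ W)
    (h₂ : W ≤ (Cfsg.permSumZero K G Ω).toSubmodule) :
    W = (Cfsg.permConstants K G Ω).toSubmodule ∨ W = (Cfsg.permSumZero K G Ω).toSubmodule := by
  classical
  set φ : G →* Equiv.Perm Ω := MulAction.toPermHom G Ω with hφ
  have hinj : Function.Injective φ := MulAction.toPerm_injective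
  let G' : Subgroup (Equiv.Perm Ω) := φ.range
  -- transitivity of G'
  have : IsPretransitive G' Ω := by
    refine ⟨fun a b => ?_⟩
    obtain ⟨g, hg⟩ := MulAction.exists_smul_eq G a b
    exact ⟨⟨φ g, ⟨g, rfl⟩⟩, hg⟩
  -- non-solvability of G'
  have hG' : ¬ Group.IsSolvable G' := by
    intro hs
    apply hG
    have e : G ≃* G' := MonoidHom.ofInjective hinj
    exact Group.isSolvable_of_isSolvable_injective (f := e.toMonoidHom) e.injective
  -- the subrepresentation
  let W' : Subrepresentation (Cfsg.permRep K G' Ω) :=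
    { toSubmodule := W
      apply_mem_toSubmodule := by
        rintro ⟨g', g, rfl⟩ f hf
        have := hW g f hf
        have heq : Cfsg.permRep K G' Ω ⟨φ g, ⟨g, rfl⟩⟩ f = Cfsg.permRep K G Ω g f := by
          funext x
          show f ((⟨φ g, ⟨g, rfl⟩⟩ : G')⁻¹ • x) = f (g⁻¹ • x)
          congr 1
        rw [heq]
        exact this }
  have key := Cfsg.Agent.S0674.result hΩ G' hG' W' h₁ h₂
  rcases key with h | h
  · left
    have := congrArg Subrepresentation.toSubmodule h
    exact this
  · right
    have := congrArg Subrepresentation.toSubmodule h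
    exact this

end Cfsg.Agent.Helper75.Neu
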