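-- helper75: piece (UWA) of helper84's S2282 design: the element `UW'`, unitarity and the action on the basis.
import Mathlib
import Cfsg.Agent.Helper84.RUn.Defs

set_option autoImplicit false
set_option linter.unusedSectionVars false

namespace Cfsg.Agent.Helper75.RUn

open Matrix Cfsg.Agent.Helper84.RUn Cfsg.Agent.Helper84.PSU

variable {K : Type*} [Field K] {j : ℕ}

local notation "Vec" => (I (j + 2) 1 → K)
local notation "Mat" => Matrix (I (j + 2) 1) (I (j + 2) 1) K
local notation "Mk" => Matrix (Fin (j + 2)) (Fin (j + 2)) K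

variable (bar : K →+* K) (hb : ∀ x, bar (bar x) = x)

set_option quotPrecheck false in
local notation "SUk" => ↥(SUm (j + 2) 1 bar)

/-! ### the matrices `MpM`, `MqM` -/

theorem MpM_apply (i l : Fin (j + 2)) :
    (MpM : Mk) i l = if i = l then 1 else if 1 ≤ i.val ∧ i.val < l.val then 1 else 0 := rfl

theorem MqM_apply (i l : Fin (j + 2)) :
    (MqM : Mk) i l = if i = l then 1 else if 1 ≤ l.val ∧ l.val + 1 = i.val then -1 else 0 := rfl

theorem MpM_map : (MpM : Mk).map bar = MpM := by
  ext i l
  rw [Matrix.map_apply, MpM_apply]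
  split_ifs <;> simp

theorem MqM_map : (MqM : Mk).map bar = MqM := by
  ext i l
  rw [Matrix.map_apply, MqM_apply]
  split_ifs <;> simp

theorem MpM_transpose_mul_MqM_aux : (MpM : Mk)ᵀ * (MqM : Mk) = 1 := by
  ext a b
  rw [Matrix.mul_apply]
  simp only [Matrix.transpose_apply]
  have key : ∀ i : Fin (j + 2), (MpM : Mk) i a * (MqM : Mk) i b =
      (if i = b then (MpM : Mk) b a else 0) +
        (if 1 ≤ b.val ∧ b.val + 1 = i.val then -(MpM : Mk) i a else 0) := by
    intro i
    rw [MqM_apply]
    by_cases h1 : i = b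
    · subst h1
      rw [if_pos rfl, if_pos rfl, if_neg (by omega), mul_one, add_zero]
    · rw [if_neg h1, if_neg h1, zero_add]
      by_cases h2 : 1 ≤ b.val ∧ b.val + 1 = i.val
      · rw [if_pos h2, if_pos h2, mul_neg, mul_one]
      · rw [if_neg h2, if_neg h2, mul_zero]
  rw [Finset.sum_congr rfl (fun i _ => key i), Finset.sum_add_distrib, Finset.sum_ite_eq' Finset.univ b,
    if_pos (Finset.mem_univ _)]
  by_cases hb' : 1 ≤ b.val ∧ b.val + 1 < j + 2
  · rw [Finset.sum_eq_single (⟨b.val + 1, hb'.2⟩ : Fin (j + 2))]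
    · rw [if_pos ⟨hb'.1, rfl⟩, MpM_apply, MpM_apply, Matrix.one_apply]
      simp only [Fin.ext_iff]
      split_ifs <;> first | omega | simp
    · intro i _ hi
      rw [if_neg]
      rintro ⟨-, h⟩
      exact hi (Fin.ext h.symm)
    · intro h
      exact absurd (Finset.mem_univ _) h
  · rw [Finset.sum_eq_zero, add_zero, MpM_apply, Matrix.one_apply]
    · have hbm := b.isLt
      have ham := a.isLt
      simp only [Fin.ext_iff]
      split_ifs <;> first | omega | simp
    · intro i _
      rw [if_neg]
      rintro ⟨h1, h2⟩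
      have := i.isLt
      exact hb' ⟨h1, by omega⟩

theorem MpM_transpose_mul_MqM : (MpM : Mk)ᵀ * (MqM : Mk).map bar = 1 := by
  rw [MqM_map, MpM_transpose_mul_MqM_aux]

theorem MqM_transpose_mul_MpM : (MqM : Mk)ᵀ * (MpM : Mk).map bar = 1 := by
  rw [MpM_map]
  have h := congrArg Matrix.transpose (MpM_transpose_mul_MqM_aux (K := K) (j := j))
  rwa [Matrix.transpose_mul, Matrix.transpose_transpose, Matrix.transpose_one] at h

theorem det_MpM : (MpM : Mk).det = 1 := by
  rw [Matrix.det_of_upperTriangular]
  · apply Finset.prod_eq_one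
    intro i _
    rw [MpM_apply, if_pos rfl]
  · intro i l hil
    have hil' : l.val < i.val := hil
    rw [MpM_apply, if_neg (by intro h; rw [h] at hil'; omega), if_neg (by omega)]

theorem det_MqM : (MqM : Mk).det = 1 := by
  have h := congrArg Matrix.det (MpM_transpose_mul_MqM_aux (K := K) (j := j))
  rwa [Matrix.det_mul, Matrix.det_transpose, det_MpM, one_mul, Matrix.det_one] at h

/-! ### the element `UW'` -/

/-- `det_eichM` with both orthogonality relations as hypotheses (no involutivity of `bar` needed) -/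
theorem det_eichM' {k r : ℕ} {u y : I k r → K} (c : K) (huu : hf bar u u = 0) (hyu : hf bar y u = 0)
    (huy : hf bar u y = 0) : (eichM bar u y c).det = 1 := by
  have h1 : eichM bar u y c = 1 + rk bar (y + c • u) u + rk bar (-u) y := by
    apply mat_ext_mulVec
    intro x
    rw [eichM_mulVec, Matrix.add_mulVec, Matrix.add_mulVec, Matrix.one_mulVec, rk_mulVec, rk_mulVec]
    module
  rw [h1, det_one_add_two_rk]
  simp only [hf_add_left, hf_smul_left, hf_neg_left, huu, hyu, huy]
  ring

include hb in
theorem isU_UWM {c : K} (hc : c + bar c + 1 = 0) : IsU bar (UWM bar c : Mat) := by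
  unfold UWM
  refine IsU.mul bar (isU_lvM bar (MpM_transpose_mul_MqM bar) (MqM_transpose_mul_MpM bar) ?_) ?_
  · rw [Matrix.transpose_one, one_mul]
    exact Matrix.map_one bar (map_zero bar) (map_one bar)
  · refine isU_eichM bar hb ?_ ?_ ?_
    · exact hf_bv_ee bar _ _
    · exact hf_bv_we bar _ _
    · rw [vW, hf_bv_ww, if_pos rfl]
      exact hc

theorem det_UWM (c : K) : (UWM bar c : Mat).det = 1 := by
  unfold UWM
  rw [Matrix.det_mul, det_lvM, det_MpM, det_MqM, Matrix.det_one, one_mul, one_mul, one_mul]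
  exact det_eichM' bar c (hf_bv_ee bar _ _) (hf_bv_we bar _ _) (hf_bv_ew bar _ _)

end Cfsg.Agent.Helper75.RUn
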