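import Mathlib
import Cfsg.Agent.Helper78.Brandt.Defs

/-!
# Passing from a symmetric algebra with a central idempotent `ε` to the block algebra `A ⧸ (1 - ε)`

Piece (B-REL) of helper78's plan for S4607.
-/

set_option autoImplicit false

namespace Cfsg.Agent.Helper75.BrandtREL

open Module Cfsg.Agent.Helper78.Brandt

universe u v

variable {k : Type u} [Field k] {A : Type v} [Ring A] [Algebra k A]

/-- the left ideal `{a | a * ε = 0}` (it is `A (1 - ε)` when `ε` is idempotent) -/
def annIdeal (ε : A) : Ideal A := LinearMap.ker (LinearMap.toSpanSingleton A A ε)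

theorem mem_annIdeal {ε a : A} : a ∈ annIdeal ε ↔ a * ε = 0 := by
  simp [annIdeal, LinearMap.mem_ker]

theorem annIdeal_isTwoSided {ε : A} (hεc : ∀ a : A, ε * a = a * ε) : (annIdeal ε).IsTwoSided := by
  refine ⟨fun {a} b ha => ?_⟩
  rw [mem_annIdeal] at ha ⊢
  rw [mul_assoc, ← hεc b, ← mul_assoc, ha, zero_mul]

section quot

variable (I : Ideal A) [I.IsTwoSided] {ε : A} (hI : ∀ a, a ∈ I ↔ a * ε = 0)
  (hε : IsIdempotentElem ε) (hεc : ∀ a : A, ε * a = a * ε)

include hI in
theorem mk_eq_mk_iff (a b : A) :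
    Ideal.Quotient.mk I a = Ideal.Quotient.mk I b ↔ a * ε = b * ε := by
  rw [Ideal.Quotient.eq, hI, sub_mul, sub_eq_zero]

include hI hε in
theorem mk_mul_eps (a : A) : Ideal.Quotient.mk I (a * ε) = Ideal.Quotient.mk I a := by
  rw [mk_eq_mk_iff I hI, mul_assoc, hε.eq]

/-- the quotient map as a `k`-linear map -/
def piLin : A →ₗ[k] A ⧸ I := (Ideal.Quotient.mkₐ k I).toLinearMap

@[simp] theorem piLin_apply (a : A) : piLin (k := k) I a = Ideal.Quotient.mk I a := rfl

include hI hε in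
theorem injective_domRestrict (W : Submodule k A) (hW : W ≤ leftSpace k ε) :
    Function.Injective ((piLin (k := k) I).domRestrict W) := by
  intro x y hxy
  have h1 : Ideal.Quotient.mk I (x : A) = Ideal.Quotient.mk I (y : A) := hxy
  rw [mk_eq_mk_iff I hI] at h1
  obtain ⟨a, ha⟩ := mem_leftSpace.1 (hW x.2)
  obtain ⟨b, hb⟩ := mem_leftSpace.1 (hW y.2)
  apply Subtype.ext
  rw [← ha, ← hb, mul_assoc, hε.eq, mul_assoc, hε.eq] at h1
  rw [← ha, ← hb]
  exact h1

include hI hε in
/-- the quotient map is injective on subspaces of `A ε` -/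
theorem finrank_map_piLin (W : Submodule k A) (hW : W ≤ leftSpace k ε) :
    finrank k (W.map (piLin (k := k) I)) = finrank k W := by
  rw [← LinearMap.range_domRestrict,
    LinearMap.finrank_range_of_inj (injective_domRestrict I hI hε W hW)]

include hI hε in
theorem surjective_domRestrict :
    Function.Surjective ((piLin (k := k) I).domRestrict (leftSpace k ε)) := by
  intro x
  obtain ⟨a, rfl⟩ := Ideal.Quotient.mk_surjective x
  exact ⟨⟨a * ε, mem_leftSpace.2 ⟨a, rfl⟩⟩, mk_mul_eps I hI hε a⟩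

/-- `A ε ≃ A ⧸ I` -/
noncomputable def leftEquiv : leftSpace k ε ≃ₗ[k] A ⧸ I :=
  LinearEquiv.ofBijective ((piLin (k := k) I).domRestrict (leftSpace k ε))
    ⟨injective_domRestrict I hI hε _ le_rfl, surjective_domRestrict I hI hε⟩

/-- the section `π a ↦ a ε` -/
noncomputable def sect : (A ⧸ I) →ₗ[k] A :=
  (leftSpace k ε).subtype ∘ₗ (leftEquiv (k := k) I hI hε).symm.toLinearMap

theorem sect_mk (a : A) : sect (k := k) I hI hε (Ideal.Quotient.mk I a) = a * ε := by
  unfold sect
  have h1 : (leftEquiv (k := k) I hI hε).symm (Ideal.Quotient.mk I a) =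
      ⟨a * ε, mem_leftSpace.2 ⟨a, rfl⟩⟩ := by
    rw [LinearEquiv.symm_apply_eq]
    exact (mk_mul_eps I hI hε a).symm
  simp only [LinearMap.coe_comp, LinearEquiv.coe_coe, Function.comp_apply, h1]
  rfl

/-- the induced symmetrizing form -/
noncomputable def lamQ (lam : A →ₗ[k] k) : (A ⧸ I) →ₗ[k] k := lam ∘ₗ sect (k := k) I hI hε

theorem lamQ_mk (lam : A →ₗ[k] k) (a : A) :
    lamQ I hI hε lam (Ideal.Quotient.mk I a) = lam (a * ε) := by
  unfold lamQ
  rw [LinearMap.comp_apply, sect_mk]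

include hεc in
theorem isSymmForm_lamQ (lam : A →ₗ[k] k) (h : IsSymmForm k lam) :
    IsSymmForm k (lamQ I hI hε lam) := by
  constructor
  · intro x y
    obtain ⟨a, rfl⟩ := Ideal.Quotient.mk_surjective x
    obtain ⟨b, rfl⟩ := Ideal.Quotient.mk_surjective y
    rw [← map_mul, ← map_mul, lamQ_mk, lamQ_mk]
    have e1 : a * b * ε = a * (b * ε) := mul_assoc _ _ _
    have e2 : b * a * ε = (b * ε) * a := by
      rw [mul_assoc b ε a, hεc a, mul_assoc]
    rw [e1, e2]
    exact h.comm _ _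
  · intro x hx
    obtain ⟨a, rfl⟩ := Ideal.Quotient.mk_surjective x
    have h0 : a * ε = 0 := by
      apply h.nondeg
      intro b
      have := hx (Ideal.Quotient.mk I b)
      rw [← map_mul, lamQ_mk] at this
      rw [mul_assoc a ε b, hεc b, ← mul_assoc]
      exact this
    rw [Ideal.Quotient.eq_zero_iff_mem, hI]
    exact h0

include hI hε hεc in
/-- the center of the quotient comes from `Z(A) ε` -/
theorem center_le_map :
    Subalgebra.toSubmodule (Subalgebra.center k (A ⧸ I)) ≤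
      (Submodule.map (LinearMap.mulRight k ε)
        (Subalgebra.toSubmodule (Subalgebra.center k A))).map (piLin (k := k) I) := by
  intro x hx
  rw [Subalgebra.mem_toSubmodule, Subalgebra.mem_center_iff] at hx
  obtain ⟨z, rfl⟩ := Ideal.Quotient.mk_surjective x
  have hz : z * ε ∈ Subalgebra.center k A := by
    rw [Subalgebra.mem_center_iff]
    intro b
    have h1 := hx (Ideal.Quotient.mk I b)
    rw [← map_mul, ← map_mul, mk_eq_mk_iff I hI] at h1
    -- h1 : b * z * ε = z * b * ε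
    calc b * (z * ε) = b * z * ε := (mul_assoc _ _ _).symm
      _ = z * b * ε := h1
      _ = z * (b * ε) := mul_assoc _ _ _
      _ = z * (ε * b) := by rw [hεc b]
      _ = z * ε * b := (mul_assoc _ _ _).symm
  refine ⟨z * ε, ⟨z * ε, hz, ?_⟩, ?_⟩
  · rw [LinearMap.mulRight_apply, mul_assoc, hε.eq]
  · exact mk_mul_eps I hI hε z

include hI hε in
theorem map_leftSpace (e : A) :
    (leftSpace k e).map (piLin (k := k) I) = leftSpace k (Ideal.Quotient.mk I e) := by
  ext x
  constructor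
  · rintro ⟨y, hy, rfl⟩
    obtain ⟨a, rfl⟩ := mem_leftSpace.1 hy
    exact mem_leftSpace.2 ⟨Ideal.Quotient.mk I a, (map_mul (Ideal.Quotient.mk I) a e).symm⟩
  · intro hx
    obtain ⟨a', rfl⟩ := mem_leftSpace.1 hx
    obtain ⟨a, rfl⟩ := Ideal.Quotient.mk_surjective a'
    exact ⟨a * e, mem_leftSpace.2 ⟨a, rfl⟩, map_mul (Ideal.Quotient.mk I) a e⟩

end quot

/-- the conclusion of `abstract_RT` / `relative_RT`, with the total dimension `N` as a parameter -/
def RTConcl (k : Type u) [Field k] (A : Type v) [Ring A] [Algebra k A] (N : ℕ) : Prop :=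
  (∃ (n c : ℕ) (e : A), 0 < n ∧ 1 ≤ c ∧ c ≤ 2 ∧ IsIdempotentElem e ∧
      N = c * n ^ 2 ∧ finrank k (leftSpace k e) = c * n) ∨
  (∃ (n₁ n₂ : ℕ) (e₁ e₂ : A), IsIdempotentElem e₁ ∧ IsIdempotentElem e₂ ∧
      N = n₁ ^ 2 + n₂ ^ 2 ∧ finrank k (leftSpace k e₁) = n₁ ∧
      finrank k (leftSpace k e₂) = n₂)

/-- **Piece (B-REL)**, with `abstract_RT` (for algebras in the universe of `A`) as a hypothesis. -/
theorem relative_RT_of_abstract [FiniteDimensional k A]
    (hRT : ∀ (A' : Type v) [Ring A'] [Algebra k A'] [FiniteDimensional k A'] [Nontrivial A']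
      (lam' : A' →ₗ[k] k), IsSymmForm k lam' → finrank k (Subalgebra.center k A') ≤ 2 →
      RTConcl k A' (finrank k A'))
    (lam : A →ₗ[k] k) (h : IsSymmForm k lam) (ε : A)
    (hε : IsIdempotentElem ε) (hεc : ∀ a : A, ε * a = a * ε) (hε0 : ε ≠ 0)
    (hZ : finrank k (Submodule.map (LinearMap.mulRight k ε)
      (Subalgebra.toSubmodule (Subalgebra.center k A))) ≤ 2) :
    RTConcl k A (finrank k (leftSpace k ε)) := by
  have : (annIdeal ε).IsTwoSided := annIdeal_isTwoSided hεc
  set I := annIdeal ε with hIdef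
  have hI : ∀ a, a ∈ I ↔ a * ε = 0 := fun a => mem_annIdeal
  have hfd : FiniteDimensional k (A ⧸ I) :=
    Module.Finite.of_surjective (Ideal.Quotient.mkₐ k I).toLinearMap
      (Ideal.Quotient.mkₐ_surjective k _)
  have hnt : Nontrivial (A ⧸ I) := by
    refine ⟨⟨Ideal.Quotient.mk I 1, Ideal.Quotient.mk I 0, ?_⟩⟩
    rw [Ne, mk_eq_mk_iff I hI, one_mul, zero_mul]
    exact hε0
  have hdim : finrank k (A ⧸ I) = finrank k (leftSpace k ε) :=
    (leftEquiv (k := k) I hI hε).finrank_eq.symm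
  have hZ' : finrank k (Subalgebra.center k (A ⧸ I)) ≤ 2 := by
    have h1 := Submodule.finrank_mono (center_le_map (k := k) I hI hε hεc)
    rw [finrank_map_piLin I hI hε] at h1
    · exact le_trans h1 hZ
    · rintro x ⟨z, -, rfl⟩
      exact mem_leftSpace.2 ⟨z, rfl⟩
  -- lifting idempotents
  have lift : ∀ e' : A ⧸ I, IsIdempotentElem e' → ∃ e : A, IsIdempotentElem e ∧
      finrank k (leftSpace k e) = finrank k (leftSpace k e') := by
    intro e' he'
    obtain ⟨z, rfl⟩ := Ideal.Quotient.mk_surjective e'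
    have hzz : z * z * ε = z * ε := by
      have := he'.eq
      rw [← map_mul, mk_eq_mk_iff I hI] at this
      exact this
    refine ⟨z * ε, ?_, ?_⟩
    · unfold IsIdempotentElem
      calc z * ε * (z * ε) = z * (ε * z) * ε := by simp only [mul_assoc]
        _ = z * (z * ε) * ε := by rw [hεc z]
        _ = z * z * ε * ε := by simp only [mul_assoc]
        _ = z * ε := by rw [hzz, mul_assoc, hε.eq]
    · rw [← finrank_map_piLin (k := k) I hI hε (leftSpace k (z * ε)), map_leftSpace I hI hε,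
        mk_mul_eps I hI hε]
      rintro x hx
      obtain ⟨a, rfl⟩ := mem_leftSpace.1 hx
      exact mem_leftSpace.2 ⟨a * z, by rw [mul_assoc]⟩
  rcases hRT (A ⧸ I) (lamQ I hI hε lam) (isSymmForm_lamQ I hI hε hεc lam h) hZ' with
    ⟨n, c, e', hn, hc1, hc2, he', hA, hl⟩ | ⟨n₁, n₂, e₁', e₂', he₁', he₂', hA, hl₁, hl₂⟩
  · obtain ⟨e, he, hle⟩ := lift e' he'
    exact Or.inl ⟨n, c, e, hn, hc1, hc2, he, by rw [← hdim, hA], by rw [hle, hl]⟩
  · obtain ⟨e₁, he₁, hle₁⟩ := lift e₁' he₁'
    obtain ⟨e₂, he₂, hle₂⟩ := lift e₂' he₂'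
    exact Or.inr ⟨n₁, n₂, e₁, e₂, he₁, he₂, by rw [← hdim, hA], by rw [hle₁, hl₁],
      by rw [hle₂, hl₂]⟩

end Cfsg.Agent.Helper75.BrandtREL
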