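import Cfsg.Agent.Helper61.HallDefs
import Cfsg.Agent.Helper61.HallKit
import Cfsg.Agent.Helper68.HallT1
import Cfsg.Agent.Helper63.HallBW
import Cfsg.Agent.Helper79.HallT4
import Cfsg.Agent.Helper81.HallT8
import Cfsg.Agent.Helper11.HallT7

/-!
# M. Hall's theorem (S4221), piece (T10) `odd_caseI` (helper75 for helper61)

Odd degree, case I: the group `T = H ⊓ C(t)` fixes `x`. Then `H = stab4 p1 p2 p3 p4` is trivial.
-/

set_option autoImplicit false

namespace Cfsg.Agent.Helper75.HallT10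

open MulAction Cfsg.Agent.Helper61.Hall

variable {G : Type*} [Group G] {Ω : Type*} [MulAction G Ω]

/-- `C(u)` is transitive on the points moved by the involution `u` (from `exists_conj`), as soon
as `u` has two distinct 2-cycles. -/
theorem htrans_of (h4 : IsMultiplyPretransitive G Ω 4) (hodd : OddStab4 G Ω) {u : G}
    (hu : u * u = 1) {a b : Ω} (ha : u • a ≠ a) (hb : u • b ≠ b) (hba : b ≠ a)
    (hbua : b ≠ u • a) :
    ∀ q q' : Ω, u • q ≠ q → u • q' ≠ q' → ∃ g : G, g * u = u * g ∧ g • q = q' := by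
  have huu : ∀ r : Ω, u • u • r = r := fun r => by rw [← mul_smul, hu, one_smul]
  have key : ∀ q : Ω, u • q ≠ q → ∃ c : Ω, u • c ≠ c ∧ c ≠ q ∧ c ≠ u • q := by
    intro q hq
    by_cases h : q = a ∨ q = u • a
    · refine ⟨b, hb, ?_, ?_⟩
      · rcases h with h | h
        · rw [h]; exact hba
        · rw [h]; exact hbua
      · rcases h with h | h
        · rw [h]; exact hbua
        · rw [h, huu]; exact hba
    · push Not at h
      refine ⟨a, ha, fun e => h.1 e.symm, fun e => h.2 ?_⟩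
      rw [e, huu]
  intro q q' hq hq'
  obtain ⟨c, hc, hcq, hcuq⟩ := key q hq
  obtain ⟨c', hc', hcq', hcuq'⟩ := key q' hq'
  obtain ⟨g, hg, hgq, -⟩ :=
    Cfsg.Agent.Helper68.HallT.exists_conj h4 hodd hu hu hq hc hcq hcuq hq' hc' hcq' hcuq'
  refine ⟨g, ?_, hgq⟩
  have := congrArg (· * g) hg
  simpa using this

theorem odd_caseI [Fintype Ω] [Finite G] [FaithfulSMul G Ω] (h4 : IsMultiplyPretransitive G Ω 4)
    (hodd : OddStab4 G Ω) (hn : 8 ≤ Fintype.card Ω)
    {s t : G} {p1 p2 p3 p4 x y z : Ω} (cfg : Config s t p1 p2 p3 p4)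
    (hxy : x ≠ y) (hxz : x ≠ z) (hyz : y ≠ z)
    (hfs : ∀ q, s • q = q ↔ q = p3 ∨ q = p4 ∨ q = x)
    (hfst : ∀ q, (s * t) • q = q ↔ q = p1 ∨ q = p2 ∨ q = x)
    (hft : ∀ q, t • q = q ↔ q = x ∨ q = y ∨ q = z) (sy : s • y = z) (sz : s • z = y)
    (hT : stab4 G p1 p2 p3 p4 ⊓ Subgroup.centralizer {t} ≤ stabilizer G x) :
    stab4 G p1 p2 p3 p4 = ⊥ := by
  classical
  -- basic facts
  have st1 : (s * t) • p1 = p1 := by rw [mul_smul, cfg.t1, cfg.s2]
  have st2 : (s * t) • p2 = p2 := by rw [mul_smul, cfg.t2, cfg.s1]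
  have st3 : (s * t) • p3 = p4 := by rw [mul_smul, cfg.t3, cfg.s4]
  have st4 : (s * t) • p4 = p3 := by rw [mul_smul, cfg.t4, cfg.s3]
  have hstst : (s * t) * (s * t) = 1 := by
    calc (s * t) * (s * t) = s * (t * s) * t := by group
      _ = s * (s * t) * t := by rw [cfg.hst]
      _ = (s * s) * (t * t) := by group
      _ = 1 := by rw [cfg.hs, cfg.ht, one_mul]
  have sx : s • x = x := (hfs x).2 (Or.inr (Or.inr rfl))
  have stx : (s * t) • x = x := (hfst x).2 (Or.inr (Or.inr rfl))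
  have ty : t • y = y := (hft y).2 (Or.inr (Or.inl rfl))
  have tz : t • z = z := (hft z).2 (Or.inr (Or.inr rfl))
  have h1x : p1 ≠ x := by
    intro e; rw [← e, cfg.s1] at sx; exact cfg.h12 sx.symm
  have h2x : p2 ≠ x := by
    intro e; rw [← e, cfg.s2] at sx; exact cfg.h12 sx
  have h3x : p3 ≠ x := by
    intro e; rw [← e, st3] at stx; exact cfg.h34 stx.symm
  have h4x : p4 ≠ x := by
    intro e; rw [← e, st4] at stx; exact cfg.h34 stx
  have hy1 : y ≠ p1 := by
    intro e; rw [e, cfg.t1] at ty; exact cfg.h12 ty.symm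
  have hy2 : y ≠ p2 := by
    intro e; rw [e, cfg.t2] at ty; exact cfg.h12 ty
  have hy3 : y ≠ p3 := by
    intro e; rw [e, cfg.t3] at ty; exact cfg.h34 ty.symm
  have hy4 : y ≠ p4 := by
    intro e; rw [e, cfg.t4] at ty; exact cfg.h34 ty
  have sp1 : s • p1 ≠ p1 := by rw [cfg.s1]; exact cfg.h12.symm
  have tp1 : t • p1 ≠ p1 := by rw [cfg.t1]; exact cfg.h12.symm
  have tp3 : t • p3 ≠ p3 := by rw [cfg.t3]; exact cfg.h34.symm
  have stp3 : (s * t) • p3 ≠ p3 := by rw [st3]; exact cfg.h34.symm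
  have sy' : s • y ≠ y := by rw [sy]; exact hyz.symm
  have sty : (s * t) • y = z := by rw [mul_smul, ty, sy]
  have sty' : (s * t) • y ≠ y := by rw [sty]; exact hyz.symm
  have hHodd : Odd (Nat.card (stab4 G p1 p2 p3 p4)) :=
    hodd p1 p2 p3 p4 cfg.h12 cfg.h13 cfg.h14 cfg.h23 cfg.h24 cfg.h34
  have hH' : stab4 G p3 p4 p1 p2 = stab4 G p1 p2 p3 p4 := by
    ext g; simp only [mem_stab4]; tauto
  -- the constant `k`
  obtain ⟨k, hk⟩ := Cfsg.Agent.Helper68.HallT.cenConst_exists h4 hodd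
  have hTk : Nat.card (stab4 G p1 p2 p3 p4 ⊓ Subgroup.centralizer {t} : Subgroup G) = k := by
    have := hk t p1 p3 cfg.ht tp1 tp3 cfg.h13.symm (by rw [cfg.t1]; exact cfg.h23.symm)
    rw [cfg.t1, cfg.t3, inf_comm] at this
    exact this
  -- (1) `H` fixes `x`
  have hidx := Cfsg.Agent.Helper81.HallT8.odd_index_eq hodd cfg hfs hfst
  have hHx : stab4 G p1 p2 p3 p4 ≤ stabilizer G x := by
    rw [inf_eq_left.mpr hT] at hidx
    have hpos : 0 < Nat.card (stab4 G p1 p2 p3 p4 ⊓ Subgroup.centralizer {t} : Subgroup G) :=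
      Nat.card_pos
    have hcard : Nat.card (stab4 G p1 p2 p3 p4) =
        Nat.card (stab4 G p1 p2 p3 p4 ⊓ stabilizer G x : Subgroup G) :=
      Nat.eq_of_mul_eq_mul_right hpos hidx
    have heq : stab4 G p1 p2 p3 p4 ⊓ stabilizer G x = stab4 G p1 p2 p3 p4 :=
      Subgroup.eq_of_le_of_card_ge inf_le_left hcard.le
    rw [← heq]; exact inf_le_right
  -- (2) `T` fixes `Fix(t)` pointwise
  have hTform : ∀ g ∈ (Subgroup.centralizer {t} ⊓ stab4 G p1 (t • p1) p3 (t • p3) : Subgroup G),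
      ∀ q : Ω, t • q = q → g • q = q := by
    rw [cfg.t1, cfg.t3]
    intro g hg q hq
    have hgc : g * t = t * g := mem_cen.mp hg.1
    have hgH : g ∈ stab4 G p1 p2 p3 p4 := hg.2
    have hgx : g • x = x := hT ⟨hgH, hg.1⟩
    have hperm : ∀ r : Ω, t • r = r → t • (g • r) = g • r := by
      intro r hr
      rw [← mul_smul, ← hgc, mul_smul, hr]
    have hinj : ∀ a b : Ω, g • a = g • b → a = b := fun a b h => MulAction.injective g h
    have hgy : g • y = y := by
      rcases (hft (g • y)).1 (hperm y ty) with h | h | h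
      · exact absurd (hinj _ _ (h.trans hgx.symm)) hxy.symm
      · exact h
      · exfalso
        rcases (hft (g • z)).1 (hperm z tz) with h' | h' | h'
        · exact hxz.symm (hinj _ _ (h'.trans hgx.symm))
        · exact not_swap_of_odd hHodd hgH hyz h h'
        · exact hyz (hinj _ _ (h.trans h'.symm))
    have hgz : g • z = z := by
      rcases (hft (g • z)).1 (hperm z tz) with h | h | h
      · exact absurd (hinj _ _ (h.trans hgx.symm)) hxz.symm
      · exact absurd (hinj _ _ (h.trans hgy.symm)) hyz.symm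
      · exact h
    rcases (hft q).1 hq with h | h | h <;> rw [h] <;> assumption
  -- the groups `L_q`
  have hL : ∀ q : Ω, q ≠ p1 → q ≠ p2 → q ≠ p3 → q ≠ p4 → q ≠ x →
      (Subgroup.centralizer {s} ⊓ stab4 G p1 p2 q (s • q) : Subgroup G) ≤
        stab4 G p1 p2 p3 p4 ⊓ Subgroup.centralizer {s} ⊓ stabilizer G q ∧
      Nat.card (Subgroup.centralizer {s} ⊓ stab4 G p1 p2 q (s • q) : Subgroup G) = k := by
    intro q hq1 hq2 hq3 hq4 hqx
    have hsq : s • q ≠ q := fun h => by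
      rcases (hfs q).1 h with h | h | h
      · exact hq3 h
      · exact hq4 h
      · exact hqx h
    have hf := Cfsg.Agent.Helper11.HallT7.cen_stab4_fixes h4 hodd cfg.ht tp1 tp3
      cfg.h13.symm (by rw [cfg.t1]; exact cfg.h23.symm) hTform (u := s) (a := p1) (c := q)
      cfg.hs sp1 hsq hq1 (by rw [cfg.s1]; exact hq2)
    have hkk := hk s p1 q cfg.hs sp1 hsq hq1 (by rw [cfg.s1]; exact hq2)
    rw [cfg.s1] at hf hkk
    refine ⟨?_, hkk⟩
    intro g hg
    have hgs := mem_stab4.mp hg.2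
    exact ⟨⟨mem_stab4.mpr ⟨hgs.1, hgs.2.1, hf g hg p3 cfg.s3, hf g hg p4 cfg.s4⟩, hg.1⟩,
      hgs.2.2.1⟩
  -- normalisation
  have hsinv : s⁻¹ = s := inv_eq_of_mul_eq_one_right cfg.hs
  have htinv : t⁻¹ = t := inv_eq_of_mul_eq_one_right cfg.ht
  have hsX : ∀ g ∈ stab4 G p1 p2 p3 p4, s * g * s⁻¹ ∈ stab4 G p1 p2 p3 p4 := by
    intro g hg
    obtain ⟨g1, g2, g3, g4⟩ := mem_stab4.mp hg
    rw [hsinv, mem_stab4]
    refine ⟨?_, ?_, ?_, ?_⟩
    · rw [mul_smul, mul_smul, cfg.s1, g2, cfg.s2]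
    · rw [mul_smul, mul_smul, cfg.s2, g1, cfg.s1]
    · rw [mul_smul, mul_smul, cfg.s3, g3, cfg.s3]
    · rw [mul_smul, mul_smul, cfg.s4, g4, cfg.s4]
  have htX : ∀ g ∈ stab4 G p1 p2 p3 p4, t * g * t⁻¹ ∈ stab4 G p1 p2 p3 p4 := by
    intro g hg
    obtain ⟨g1, g2, g3, g4⟩ := mem_stab4.mp hg
    rw [htinv, mem_stab4]
    refine ⟨?_, ?_, ?_, ?_⟩
    · rw [mul_smul, mul_smul, cfg.t1, g2, cfg.t2]
    · rw [mul_smul, mul_smul, cfg.t2, g1, cfg.t1]
    · rw [mul_smul, mul_smul, cfg.t3, g4, cfg.t4]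
    · rw [mul_smul, mul_smul, cfg.t4, g3, cfg.t3]
  -- T7 for `s` and for `s * t`
  have hn6 : 6 ≤ Fintype.card Ω := by omega
  have T7s := (Cfsg.Agent.Helper11.HallT7.odd_cen_structure h4 hodd hk hn6 cfg.h12 cfg.h13
    cfg.h14 h1x cfg.h23 cfg.h24 h2x cfg.h34 h3x h4x cfg.hs cfg.s1 cfg.s2 hfs).2.2.2
  have T7st := (Cfsg.Agent.Helper11.HallT7.odd_cen_structure h4 hodd hk hn6 cfg.h34
    cfg.h13.symm cfg.h23.symm h3x cfg.h14.symm cfg.h24.symm h4x cfg.h12 h1x h2x hstst st3 st4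
    hfst).2.2.2
  rw [hH'] at T7st
  by_cases hA : stab4 G p1 p2 p3 p4 ⊓ Subgroup.centralizer {s} = ⊥ ∧
      stab4 G p1 p2 p3 p4 ⊓ Subgroup.centralizer {s * t} = ⊥
  · -- case (4): `A = A' = ⊥`
    obtain ⟨hA1, hA2⟩ := hA
    have hk1 : k = 1 := by
      obtain ⟨hle, hc⟩ := hL y hy1 hy2 hy3 hy4 hxy.symm
      have hbot : (Subgroup.centralizer {s} ⊓ stab4 G p1 p2 y (s • y) : Subgroup G) = ⊥ := by
        rw [eq_bot_iff]
        intro g hg
        have := (hle hg).1
        rw [hA1] at this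
        exact this
      rw [hbot] at hc
      rw [← hc]
      exact Subgroup.card_bot
    have hbw := Cfsg.Agent.Helper63.HallBW.brauer_wielandt (stab4 G p1 p2 p3 p4) hHodd cfg.hs
      cfg.ht cfg.hst hsX htX
    rw [hA2, hTk, hk1, hA1, Subgroup.card_bot] at hbw
    have hdvd : Nat.card (stab4 G p1 p2 p3 p4) ∣ 1 := ⟨_, by rw [hbw]⟩
    exact Subgroup.card_eq_one.mp (Nat.dvd_one.mp hdvd)
  · -- case (3): `A ≠ ⊥` or `A' ≠ ⊥`
    exfalso
    have hfixH : ∀ q : Ω, (∀ h ∈ stab4 G p1 p2 p3 p4, h • q = q) ↔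
        q = p1 ∨ q = p2 ∨ q = p3 ∨ q = p4 ∨ q = x := by
      intro q
      constructor
      · intro hq
        by_contra hne
        push Not at hne
        obtain ⟨hq1, hq2, hq3, hq4, hqx⟩ := hne
        apply hA
        constructor
        · exact T7s q hq1 hq2 hq3 hq4 hqx (fun g hg => hq g hg.1)
        · exact T7st q hq3 hq4 hq1 hq2 hqx (fun g hg => hq g hg.1)
      · rintro (h | h | h | h | h) <;> intro g hg <;> rw [h]
        · exact (mem_stab4.mp hg).1
        · exact (mem_stab4.mp hg).2.1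
        · exact (mem_stab4.mp hg).2.2.1
        · exact (mem_stab4.mp hg).2.2.2
        · exact hHx hg
    have hfixH' : ∀ q : Ω, (∀ h ∈ stab4 G p3 p4 p1 p2, h • q = q) ↔
        q = p3 ∨ q = p4 ∨ q = p1 ∨ q = p2 ∨ q = x := by
      intro q
      rw [hH', hfixH q]
      tauto
    have hcs : stab4 G p1 p2 p3 p4 ≤ Subgroup.centralizer {s} :=
      Cfsg.Agent.Helper79.HallT.pair_centralizes h4 cfg.hs cfg.h12 cfg.h13 cfg.h14 h1x cfg.h23
        cfg.h24 h2x cfg.h34 h3x h4x cfg.s1 hfs hfixH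
        (htrans_of h4 hodd cfg.hs sp1 sy' hy1 (by rw [cfg.s1]; exact hy2))
    have hcst : stab4 G p1 p2 p3 p4 ≤ Subgroup.centralizer {s * t} := by
      have := Cfsg.Agent.Helper79.HallT.pair_centralizes h4 hstst cfg.h34 cfg.h13.symm
        cfg.h23.symm h3x cfg.h14.symm cfg.h24.symm h4x cfg.h12 h1x h2x st3 hfst hfixH'
        (htrans_of h4 hodd hstst stp3 sty' hy3 (by rw [st3]; exact hy4))
      rwa [hH'] at this
    have hct : stab4 G p1 p2 p3 p4 ≤ Subgroup.centralizer {t} := by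
      intro h hh
      have h1 := mem_cen.mp (hcs hh)
      have h2 := mem_cen.mp (hcst hh)
      rw [mem_cen]
      apply mul_left_cancel (a := s)
      calc s * (h * t) = (s * h) * t := by group
        _ = (h * s) * t := by rw [h1]
        _ = h * (s * t) := by group
        _ = (s * t) * h := h2
        _ = s * (t * h) := by group
    have hHk : Nat.card (stab4 G p1 p2 p3 p4) = k := by
      rw [← hTk, inf_eq_left.mpr hct]
    obtain ⟨hle, hc⟩ := hL y hy1 hy2 hy3 hy4 hxy.symm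
    have hLH : (Subgroup.centralizer {s} ⊓ stab4 G p1 p2 y (s • y) : Subgroup G) =
        stab4 G p1 p2 p3 p4 :=
      Subgroup.eq_of_le_of_card_ge (fun g hg => (hle hg).1.1) (by rw [hc, hHk])
    have hy : ∀ h ∈ stab4 G p1 p2 p3 p4, h • y = y := by
      intro h hh
      rw [← hLH] at hh
      exact (hle hh).2
    rcases (hfixH y).1 hy with h | h | h | h | h
    · exact hy1 h
    · exact hy2 h
    · exact hy3 h
    · exact hy4 h
    · exact hxy h.symm

end Cfsg.Agent.Helper75.HallT10
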