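import Mathlib
import Cfsg.Prelude.Def_Perm
import Cfsg.Agent.Helper61.N2Lab

set_option autoImplicit false

/-! (LABSQ) for S3612 (helper61): if the normaliser of a Sylow `p`-subgroup of a transitive group
of prime degree `p` has order `p (p - 1) / 2`, then in a suitable labelling of the points by `ZMod p`
the group contains the translation `j ↦ j + 1` and all the maps `j ↦ s j` with `s` a non-zero
square. -/

namespace Cfsg.Agent.Helper75.N2

open MulAction Cfsg.Agent.Helper61.N2

/-- the group of multipliers of a subgroup acting by affine maps in the labelling `e` -/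
def multSubgroup {G : Type*} [Group G] {Ω : Type*} [MulAction G Ω] {p : ℕ} (e : ZMod p ≃ Ω)
    (N : Subgroup G) : Subgroup (ZMod p)ˣ where
  carrier := {u | ∃ n ∈ N, ∃ c : ZMod p, ∀ j, n • e j = e ((u : ZMod p) * j + c)}
  one_mem' := ⟨1, N.one_mem, 0, fun j => by simp⟩
  mul_mem' := by
    rintro u u' ⟨n, hn, c, h⟩ ⟨n', hn', c', h'⟩
    refine ⟨n * n', N.mul_mem hn hn', (u : ZMod p) * c' + c, fun j => ?_⟩
    rw [mul_smul, h', h]
    congr 1
    push_cast
    ring
  inv_mem' := by
    rintro u ⟨n, hn, c, h⟩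
    refine ⟨n⁻¹, N.inv_mem hn, -((u⁻¹ : (ZMod p)ˣ) : ZMod p) * c, fun j => ?_⟩
    rw [inv_smul_eq_iff, h]
    congr 1
    have hu : (u : ZMod p) * ((u⁻¹ : (ZMod p)ˣ) : ZMod p) = 1 := by
      rw [← Units.val_mul, mul_inv_cancel, Units.val_one]
    calc j = ((u : ZMod p) * ((u⁻¹ : (ZMod p)ˣ) : ZMod p)) * j
          - ((u : ZMod p) * ((u⁻¹ : (ZMod p)ˣ) : ZMod p)) * c + c := by rw [hu]; ring
      _ = _ := by ring

/-- (LABSQ) all non-zero squares are multipliers -/
theorem exists_label_sq {G : Type*} [Group G] [Finite G] {Ω : Type*} [Fintype Ω]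
    [DecidableEq Ω] [MulAction G Ω] [FaithfulSMul G Ω] [IsPretransitive G Ω] {p : ℕ}
    [Fact p.Prime] (hΩ : Fintype.card Ω = p) (hp2 : p ≠ 2) (P : Sylow p G)
    (hN : 2 * Nat.card ↥(Subgroup.normalizer ((P : Subgroup G) : Set G)) = p * (p - 1)) :
    ∃ e : ZMod p ≃ Ω, (∃ t : G, ∀ j, t • e j = e (j + 1)) ∧
      ∀ s : ZMod p, s ≠ 0 → IsSquare s → ∃ m : G, ∀ j, m • e j = e (s * j) := by
  classical
  have hp : p.Prime := Fact.out
  haveI hne0 : NeZero p := ⟨hp.ne_zero⟩
  obtain ⟨e, ⟨t, -, ht⟩, haff⟩ := exists_label_trans hΩ P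
  refine ⟨e, ⟨t, ht⟩, ?_⟩
  set N : Subgroup G := Subgroup.normalizer ((P : Subgroup G) : Set G) with hNdef
  set M : Subgroup (ZMod p)ˣ := multSubgroup e N with hMdef
  -- the injection `N → M × ZMod p`
  have hex : ∀ n : N, ∃ x : M × ZMod p, ∀ j, (n : G) • e j = e (((x.1 : (ZMod p)ˣ) : ZMod p) * j + x.2) := by
    intro n
    obtain ⟨k, c, hk, h⟩ := haff n.1 n.2
    refine ⟨(⟨Units.mk0 k hk, n.1, n.2, c, ?_⟩, c), ?_⟩
    · intro j; rw [Units.val_mk0]; exact h j
    · intro j; simp only [Units.val_mk0]; exact h j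
  choose f hf using hex
  have hfinj : Function.Injective f := by
    intro n n' hnn
    apply Subtype.ext
    apply FaithfulSMul.eq_of_smul_eq_smul (α := Ω)
    intro x
    obtain ⟨j, rfl⟩ := e.surjective x
    rw [hf n j, hf n' j, hnn]
  have hcard : Nat.card N ≤ Nat.card M * p := by
    have h1 := Nat.card_le_card_of_injective f hfinj
    rw [Nat.card_prod, Nat.card_zmod] at h1
    exact h1
  have hMp : p - 1 ≤ 2 * Nat.card M := by
    have h2 : p * (p - 1) ≤ p * (2 * Nat.card M) := by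
      rw [← hN]
      calc 2 * Nat.card N ≤ 2 * (Nat.card M * p) := Nat.mul_le_mul_left 2 hcard
        _ = p * (2 * Nat.card M) := by ring
    exact Nat.le_of_mul_le_mul_left h2 hp.pos
  have hidx : Nat.card M * M.index = p - 1 := by
    rw [Subgroup.card_mul_index, Nat.card_eq_fintype_card, ZMod.card_units]
  have hMpos : 0 < Nat.card M := Nat.card_pos
  have hp1 : 1 ≤ p - 1 := by have := hp.two_le; omega
  have hidx2 : M.index = 1 ∨ M.index = 2 := by
    have h0 : M.index ≠ 0 := by
      intro h0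
      rw [h0, mul_zero] at hidx
      omega
    have h3 : M.index < 3 := by
      by_contra hge
      push Not at hge
      have : Nat.card M * 3 ≤ p - 1 := by
        rw [← hidx]; exact Nat.mul_le_mul_left _ hge
      omega
    omega
  have hsq : ∀ u : (ZMod p)ˣ, u * u ∈ M := by
    intro u
    haveI : M.Normal := Subgroup.normal_of_comm M
    have h1 := Subgroup.pow_index_mem M u
    rcases hidx2 with h | h
    · rw [h, pow_one] at h1
      exact M.mul_mem h1 h1
    · rw [h, pow_two] at h1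
      exact h1
  intro s hs0 ⟨r, hr⟩
  have hr0 : r ≠ 0 := by
    rintro rfl
    apply hs0
    rw [hr, mul_zero]
  obtain ⟨n, -, c, hn⟩ := hsq (Units.mk0 r hr0)
  obtain ⟨i, hi⟩ := exists_pow_smul_label e t ht (-c)
  refine ⟨t ^ i * n, fun j => ?_⟩
  rw [mul_smul, hn, hi, Units.val_mul, Units.val_mk0, ← hr]
  congr 1
  ring

end Cfsg.Agent.Helper75.N2
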