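import Mathlib
import Cfsg.Prelude.Def_Characters
import Cfsg.Prelude.Def_Blocks
import Cfsg.Agent.Helper78.CentralChar

/-! (C5) of helper62's WANTED #9665 for S3716: `χ(1)` divides `|G : C_G(u)| χ(u)` when `χ(u)` is a
rational integer (integrality of the central character). -/

set_option autoImplicit false
open Cfsg

namespace Cfsg.Agent.Helper75.D8

universe u

variable {G : Type u} [Group G] [Finite G]

/-- (C5) `χ(1)` divides `|G : C_G(u)| χ(u)` when `χ(u)` is a rational integer. -/
theorem degree_dvd_index_mul (χ : IrrCharacter G) (u : G) (p : ℤ) (hp : (χ : G → ℂ) u = (p : ℂ)) :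
    (charDegree (χ : G → ℂ) : ℤ) ∣ ((Subgroup.centralizer ({u} : Set G)).index : ℤ) * p := by
  classical
  have : Fintype G := Fintype.ofFinite G
  obtain ⟨n, ρ, hirr, hρ⟩ := χ.2
  have hint : IsIntegral ℤ (centralChar ρ.character u) :=
    Cfsg.Agent.Helper78.isIntegral_centralChar_character ρ u
  have hnpos : 0 < n := by
    have := Cfsg.Agent.Helper78.finrank_pos_of_isIrreducible ρ
    simpa using this
  have h1 : (χ : G → ℂ) 1 = (n : ℂ) := by
    rw [← hρ, Representation.char_one]
    simp
  have hdeg : charDegree (χ : G → ℂ) = n := by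
    unfold charDegree
    rw [h1]
    simp
  rw [hdeg]
  set I : ℕ := (Subgroup.centralizer ({u} : Set G)).index with hI
  -- the central character value is the rational number `I * p / n`
  have hval : centralChar ρ.character u = algebraMap ℚ ℂ (((I : ℚ) * (p : ℚ)) / (n : ℚ)) := by
    unfold centralChar
    rw [hρ, hp, h1]
    simp [hI]
  rw [hval] at hint
  have hintQ : IsIntegral ℤ (((I : ℚ) * (p : ℚ)) / (n : ℚ)) :=
    (isIntegral_algebraMap_iff (algebraMap ℚ ℂ).injective).1 hint
  obtain ⟨m, hm⟩ := IsIntegrallyClosed.isIntegral_iff.1 hintQ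
  refine ⟨m, ?_⟩
  have hn0 : (n : ℚ) ≠ 0 := by exact_mod_cast hnpos.ne'
  have hm' : (m : ℚ) = ((I : ℚ) * (p : ℚ)) / (n : ℚ) := by simpa using hm
  have : ((I : ℤ) : ℚ) * (p : ℚ) = ((n : ℤ) : ℚ) * (m : ℚ) := by
    rw [hm']
    field_simp
    push_cast
    ring
  exact_mod_cast this

end Cfsg.Agent.Helper75.D8
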