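import Cfsg.Agent.Helper75.SzOrdCPART
import Cfsg.Agent.Helper79.FeitCore2
import Cfsg.Agent.Helper15.IndChar

/-!
# Piece (CGRAM) of helper95's Suzuki order farm (S0347 / S1147 / S0340)

The Gram identity for the multiplicities of the relevant characters of `H` in the discrete
characters of `G`.
-/

set_option autoImplicit false
set_option linter.unusedSectionVars false
set_option linter.unusedVariables false
set_option linter.style.haveILetI false

namespace Cfsg.Agent.Helper75.SzOrd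

open Cfsg MulAction Cfsg.Agent.Helper75 Cfsg.Agent.Helper95.SzOrd
open scoped ComplexConjugate

variable {G Ω : Type*} [Group G] [Fintype G] [MulAction G Ω] [Fintype Ω]
variable {a b : Ω} {Q : Subgroup G} {q n : ℕ}

/-- Parseval: the inner product of a character with a class function, expanded over `Irr(G)`. -/
theorem cg_parseval [Fintype (IrrCharacter G)] {A : G → ℂ} (hA : IsCharacter G A) (B : G → ℂ) :
    classInner A B
      = ∑ χ : IrrCharacter G, classInner A (χ : G → ℂ) * conj (classInner B (χ : G → ℂ)) := by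
  conv_lhs => rw [Helper74.isCharacter_eq_sum_irr hA]
  rw [Helper15.classInner_finset_sum_left]
  apply Finset.sum_congr rfl
  intro χ _
  rw [Helper15.classInner_smul_left, Helper15.classInner_conj_symm]

/-- The multiplicity of a relevant `φ` in the restriction of a function which is constant on
`Q \ {1}`. -/
theorem cg_mult_const [Fintype (HQ Q)] {e h : ℕ} (D : Helper79.Feit.FeitData Q e h)
    {φ : HQ Q → ℂ} (hφ : φ ∈ tfS Q) (ψ : G → ℂ) (c : ℂ) (hc : ∀ u ∈ Q, u ≠ 1 → ψ u = c) :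
    mult Q ψ φ = (ψ 1 - c) * conj (φ 1) / (Nat.card (HQ Q) : ℂ) := by
  unfold mult resH
  rw [Helper15.classInner_apply]
  have h1 : ∑ x : HQ Q, ψ (x : G) * conj (φ x)
      = ∑ g : G, ψ g * conj (extendByZero (Subgroup.normalizer (Q : Set G)) φ g) := by
    have := Helper15.sum_extendByZero_mul (Subgroup.normalizer (Q : Set G))
      (fun x : HQ Q => conj (φ x)) ψ
    rw [Finset.sum_congr rfl (fun x _ => mul_comm _ _), ← this]
    apply Finset.sum_congr rfl
    intro g _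
    rw [mul_comm]
    congr 1
    by_cases hg : g ∈ Subgroup.normalizer (Q : Set G)
    · rw [Helper15.extendByZero_of_mem _ _ hg, Helper15.extendByZero_of_mem _ _ hg]
    · rw [Helper15.extendByZero_of_not_mem _ _ hg, Helper15.extendByZero_of_not_mem _ _ hg,
        map_zero]
  rw [h1]
  have hvan : ∀ g : G, g ∉ Q →
      ψ g * conj (extendByZero (Subgroup.normalizer (Q : Set G)) φ g) = 0 := by
    intro g hg
    rw [ca_rel_ext_vanish D.hC hφ g hg, map_zero, mul_zero]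
  have h2 := sum_Ksharp_of_vanish Q _ hvan
  have h3 : ∑ g ∈ Ksharp Q, ψ g * conj (extendByZero (Subgroup.normalizer (Q : Set G)) φ g)
      = c * conj (-φ 1) := by
    rw [← Helper9.FP.fp_rel_sum D.hC hφ, map_sum, Finset.mul_sum]
    apply Finset.sum_congr rfl
    intro g hg
    obtain ⟨hgQ, hg1⟩ := mem_Ksharp.mp hg
    rw [hc g hgQ hg1]
  rw [h3, Helper9.FP.fp_rel_ext_one] at h2
  have h4 : ∑ g : G, ψ g * conj (extendByZero (Subgroup.normalizer (Q : Set G)) φ g)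
      = c * conj (-φ 1) + ψ 1 * conj (φ 1) := by
    linear_combination -h2
  rw [h4, map_neg]
  have hN : (Nat.card (HQ Q) : ℂ) ≠ 0 := Helper79.Feit.card_normalizer_ne_zero
  field_simp
  ring

/-- The inner product of two induced relevant characters. -/
theorem cg_gram [Fintype (HQ Q)] {e h : ℕ} (D : Helper79.Feit.FeitData Q e h)
    {φ φ' : HQ Q → ℂ} (hφ : φ ∈ tfS Q) (hφ' : φ' ∈ tfS Q) [Decidable (φ = φ')] :
    classInner (indFun (Subgroup.normalizer (Q : Set G)) φ)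
        (indFun (Subgroup.normalizer (Q : Set G)) φ')
      = (if φ = φ' then 1 else 0)
        + (h : ℂ) * (φ 1 * conj (φ' 1)) / (Nat.card (HQ Q) : ℂ) := by
  have hcls : IsClassFunction G (indFun (Subgroup.normalizer (Q : Set G)) φ') :=
    Helper15.isClassFunction_indFun _ _
  rw [Helper15.frobenius_reciprocity _ φ _ hcls, Helper15.classInner_apply]
  have h1 : ∑ x : HQ Q, φ x * conj (indFun (Subgroup.normalizer (Q : Set G)) φ' (x : G))
      = ∑ g : G, extendByZero (Subgroup.normalizer (Q : Set G)) φ g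
          * conj (indFun (Subgroup.normalizer (Q : Set G)) φ' g) :=
    (Helper15.sum_extendByZero_mul (Subgroup.normalizer (Q : Set G)) φ
      (fun g => conj (indFun (Subgroup.normalizer (Q : Set G)) φ' g))).symm
  rw [h1]
  have hvan : ∀ g : G, g ∉ Q → extendByZero (Subgroup.normalizer (Q : Set G)) φ g
      * conj (indFun (Subgroup.normalizer (Q : Set G)) φ' g) = 0 := by
    intro g hg
    rw [ca_rel_ext_vanish D.hC hφ g hg, zero_mul]
  have h2 := sum_Ksharp_of_vanish Q _ hvan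
  have hle : Q ≤ Subgroup.normalizer (Q : Set G) := Subgroup.le_normalizer
  have h3 : ∑ g ∈ Ksharp Q, extendByZero (Subgroup.normalizer (Q : Set G)) φ g
        * conj (indFun (Subgroup.normalizer (Q : Set G)) φ' g)
      = ∑ g ∈ Ksharp Q, extendByZero (Subgroup.normalizer (Q : Set G)) φ g
        * conj (extendByZero (Subgroup.normalizer (Q : Set G)) φ' g) := by
    apply Finset.sum_congr rfl
    intro g hg
    obtain ⟨hgQ, hg1⟩ := mem_Ksharp.mp hg
    have h5 := tf_indFun_apply Q (Subgroup.normalizer (Q : Set G)) D.hTI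
      (tf_isClassFunction hφ') (fun x hx => tf_vanish D.hC hφ' x hx)
      (⟨g, hle hgQ⟩ : ↥(Subgroup.normalizer (Q : Set G))) hgQ
      (fun hc => hg1 (congrArg Subtype.val hc))
    have h6 : extendByZero (Subgroup.normalizer (Q : Set G)) φ' g
        = φ' ⟨g, hle hgQ⟩ := Helper15.extendByZero_of_mem _ φ' (hle hgQ)
    rw [h6, ← h5]
  rw [h3, Helper79.Feit.rel_sum_mul' D.hC hφ hφ', Helper9.FP.fp_rel_ext_one,
    Helper15.indFun_apply_one, D.hidx] at h2
  have h4 : ∑ g : G, extendByZero (Subgroup.normalizer (Q : Set G)) φ g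
        * conj (indFun (Subgroup.normalizer (Q : Set G)) φ' g)
      = (if φ = φ' then (Nat.card ↥(Subgroup.normalizer (Q : Set G)) : ℂ) else 0)
        - φ 1 * conj (φ' 1) + φ 1 * conj (((h + 1 : ℕ) : ℂ) * φ' 1) := by
    linear_combination -h2
  rw [h4]
  have hN : (Nat.card (HQ Q) : ℂ) ≠ 0 := Helper79.Feit.card_normalizer_ne_zero
  have hN' : (Nat.card ↥(Subgroup.normalizer (Q : Set G)) : ℂ) = (Nat.card (HQ Q) : ℂ) := rfl
  rw [hN', map_mul, Complex.conj_natCast]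
  by_cases hφφ : φ = φ'
  · rw [if_pos hφφ, if_pos hφφ]
    field_simp
    push_cast
    ring
  · rw [if_neg hφφ, if_neg hφφ]
    field_simp
    push_cast
    ring

/-- (CGRAM) The Gram identity. -/
theorem CGRAM (F : ZTFacts a b Q q n) (hN : Nat.card Q = q ^ 3) [Fintype (HQ Q)] (φ φ' : SQ Q) :
    ∑ χ : XQ Q, mult Q (χ.1 : G → ℂ) (φ.1 : HQ Q → ℂ) * mult Q (χ.1 : G → ℂ) (φ'.1 : HQ Q → ℂ)
      = (if φ = φ' then 1 else 0)
        + ((φ.1 : HQ Q → ℂ) 1 / ((q : ℂ) - 1)) * ((φ'.1 : HQ Q → ℂ) 1 / ((q : ℂ) - 1))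
          * (((q : ℂ) - 2) / 2) := by
  classical
  obtain ⟨D, hnorm⟩ := cp_feitData F hN
  letI := Helper74.irrFintype G
  obtain ⟨St, L, lam, hL, ⟨hSt1, hStQ⟩, hlam, hpart⟩ := CPART F hN
  have h4 := cp_four_le F
  have hφ : (φ.1 : HQ Q → ℂ) ∈ tfS Q := φ.2
  have hφ' : (φ'.1 : HQ Q → ℂ) ∈ tfS Q := φ'.2
  have hreal : ∀ ξ : SQ Q, conj ((ξ.1 : HQ Q → ℂ) 1) = (ξ.1 : HQ Q → ℂ) 1 := by
    intro ξ
    obtain ⟨m, hm⟩ := Helper74.isCharacter_apply_one (Helper74.isCharacter_of_isIrr ξ.1.2)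
    rw [hm, Complex.conj_natCast]
  have hq1 : ((q - 1 : ℕ) : ℂ) = (q : ℂ) - 1 := by
    rw [Nat.cast_sub (by omega)]; simp
  have hcardN : (Nat.card (HQ Q) : ℂ) = ((q : ℂ) - 1) * (q : ℂ) ^ 3 := by
    have := Helper79.Feit.card_normalizer_eq (K := Q)
    rw [D.he, D.hh, hq1] at this
    rw [show (Nat.card (HQ Q) : ℂ) = (Nat.card ↥(Subgroup.normalizer (Q : Set G)) : ℂ) from rfl,
      this]
    push_cast
    ring
  have hd : (q : ℂ) - 1 ≠ 0 := by
    rw [← hq1]
    have : q - 1 ≠ 0 := by omega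
    exact_mod_cast this
  have hq0 : (q : ℂ) ≠ 0 := by
    have : q ≠ 0 := by omega
    exact_mod_cast this
  have hclass : ∀ χ : IrrCharacter G, IsClassFunction G (χ : G → ℂ) := fun χ =>
    Helper74.isClassFunction_of_isCharacter (Helper74.isCharacter_of_isIrr χ.2)
  -- multiplicities are natural numbers
  have hmult_real : ∀ (χ : IrrCharacter G) (ξ : SQ Q),
      conj (mult Q (χ : G → ℂ) (ξ.1 : HQ Q → ℂ)) = mult Q (χ : G → ℂ) (ξ.1 : HQ Q → ℂ) := by
    intro χ ξ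
    have hres : IsCharacter (HQ Q) (resH Q (χ : G → ℂ)) :=
      Helper74.isCharacter_restrict _ (Helper74.isCharacter_of_isIrr χ.2)
    obtain ⟨m, hm⟩ := Helper74.isCharacter_inner_irr_nat hres ξ.1
    unfold mult
    rw [hm, Complex.conj_natCast]
  have hterm : ∀ (χ : IrrCharacter G) (ξ : SQ Q),
      classInner (indFun (Subgroup.normalizer (Q : Set G)) (ξ.1 : HQ Q → ℂ)) (χ : G → ℂ)
        = mult Q (χ : G → ℂ) (ξ.1 : HQ Q → ℂ) := by
    intro χ ξ
    rw [Helper15.frobenius_reciprocity _ _ _ (hclass χ), ← Helper15.classInner_conj_symm]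
    exact hmult_real χ ξ
  -- Gram and Parseval
  have hG := cg_gram D hφ hφ'
  have hP := cg_parseval
    (Helper15.isCharacter_indFun (Subgroup.normalizer (Q : Set G))
      (Helper74.isCharacter_of_isIrr φ.1.2))
    (indFun (Subgroup.normalizer (Q : Set G)) (φ'.1 : HQ Q → ℂ))
  rw [hG] at hP
  have hP2 : ∑ χ : IrrCharacter G,
      mult Q (χ : G → ℂ) (φ.1 : HQ Q → ℂ) * mult Q (χ : G → ℂ) (φ'.1 : HQ Q → ℂ)
      = (if (φ.1 : HQ Q → ℂ) = (φ'.1 : HQ Q → ℂ) then 1 else 0)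
        + ((q ^ 3 : ℕ) : ℂ) * ((φ.1 : HQ Q → ℂ) 1 * conj ((φ'.1 : HQ Q → ℂ) 1))
          / (Nat.card (HQ Q) : ℂ) := by
    rw [hP]
    apply Finset.sum_congr rfl
    intro χ _
    rw [hterm χ φ, hterm χ φ', hmult_real χ φ']
  -- the non-discrete multiplicities
  have hm_triv : ∀ ξ : SQ Q, mult Q ((trivIrr G : IrrCharacter G) : G → ℂ) (ξ.1 : HQ Q → ℂ) = 0 := by
    intro ξ
    rw [cg_mult_const D ξ.2 ((trivIrr G : IrrCharacter G) : G → ℂ) 1 (fun u _ _ => rfl)]
    have : ((trivIrr G : IrrCharacter G) : G → ℂ) 1 = 1 := rfl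
    rw [this, sub_self, zero_mul, zero_div]
  have hm_St : ∀ ξ : SQ Q, mult Q (St : G → ℂ) (ξ.1 : HQ Q → ℂ)
      = (ξ.1 : HQ Q → ℂ) 1 / ((q : ℂ) - 1) := by
    intro ξ
    rw [cg_mult_const D ξ.2 _ 0 hStQ, hSt1, hreal ξ, hcardN, sub_zero]
    field_simp
  have hm_lam : ∀ (i : Fin L) (ξ : SQ Q), mult Q (lam i : G → ℂ) (ξ.1 : HQ Q → ℂ)
      = (ξ.1 : HQ Q → ℂ) 1 / ((q : ℂ) - 1) := by
    intro i ξ
    rw [cg_mult_const D ξ.2 _ 1 (hlam i).2, (hlam i).1, hreal ξ, hcardN]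
    field_simp
    ring
  have hpart' := hpart (fun χ => mult Q (χ : G → ℂ) (φ.1 : HQ Q → ℂ)
    * mult Q (χ : G → ℂ) (φ'.1 : HQ Q → ℂ))
  simp only [hm_triv, hm_St, hm_lam, Finset.sum_const, Finset.card_univ, Fintype.card_fin,
    nsmul_eq_mul, zero_mul, zero_add] at hpart'
  rw [hP2, hreal φ', hcardN] at hpart'
  have hLc : (L : ℂ) = ((q : ℂ) - 2) / 2 := by
    have : ((2 * L + 2 : ℕ) : ℂ) = (q : ℂ) := by rw [hL]
    push_cast at this
    linear_combination this / 2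
  have hiff : ((φ.1 : HQ Q → ℂ) = (φ'.1 : HQ Q → ℂ)) ↔ φ = φ' := by
    constructor
    · intro h
      exact Subtype.ext (Subtype.ext h)
    · intro h
      rw [h]
  have hδ : (if (φ.1 : HQ Q → ℂ) = (φ'.1 : HQ Q → ℂ) then (1 : ℂ) else 0)
      = if φ = φ' then 1 else 0 := by
    by_cases h : φ = φ'
    · rw [if_pos h, if_pos (hiff.mpr h)]
    · rw [if_neg h, if_neg (fun hc => h (hiff.mp hc))]
  rw [hδ, hLc] at hpart'
  push_cast at hpart'
  have hfin : ∑ χ : XQ Q, mult Q (χ.1 : G → ℂ) (φ.1 : HQ Q → ℂ)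
      * mult Q (χ.1 : G → ℂ) (φ'.1 : HQ Q → ℂ)
      = (if φ = φ' then 1 else 0)
        + (q : ℂ) ^ 3 * ((φ.1 : HQ Q → ℂ) 1 * (φ'.1 : HQ Q → ℂ) 1) / (((q : ℂ) - 1) * (q : ℂ) ^ 3)
        - ((φ.1 : HQ Q → ℂ) 1 / ((q : ℂ) - 1) * ((φ'.1 : HQ Q → ℂ) 1 / ((q : ℂ) - 1))
          + ((q : ℂ) - 2) / 2 * ((φ.1 : HQ Q → ℂ) 1 / ((q : ℂ) - 1)
            * ((φ'.1 : HQ Q → ℂ) 1 / ((q : ℂ) - 1)))) := by
    linear_combination -hpart'
  rw [hfin]
  field_simp
  ring

end Cfsg.Agent.Helper75.SzOrd
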