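import Cfsg.Agent.Helper95.SzOrd.DefsC
import Cfsg.Agent.Helper2.SzOrdBEL
import Cfsg.Agent.Helper2.SzOrdBKI
import Cfsg.Agent.Helper3.RO_Cliff
import Cfsg.Agent.Helper15.ConjChar
import Cfsg.Agent.Helper79.Linear
import Cfsg.Agent.Helper81.ConjIrr
import Cfsg.Agent.Helper79.FeitCore3

/-!
# Piece (CPART) of helper95's Suzuki order farm (S0347 / S1147 / S0340)

The irreducible characters of `G`: the trivial one, `St`, the `(q-2)/2` principal series characters
and the discrete ones, as a sum-partition formula.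
-/

set_option autoImplicit false
set_option linter.unusedSectionVars false
set_option linter.unusedVariables false
set_option linter.style.haveILetI false

namespace Cfsg.Agent.Helper75.SzOrd

open Cfsg MulAction Cfsg.Agent.Helper75 Cfsg.Agent.Helper95.SzOrd
open scoped ComplexConjugate

variable {G Ω : Type*} [Group G] [Fintype G] [MulAction G Ω] [Fintype Ω]
variable {a b : Ω} {Q : Subgroup G} {q n : ℕ}

/-- `q ≥ 4` -/
theorem cp_four_le (F : ZTFacts a b Q q n) : 4 ≤ q := by
  rw [F.hq]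
  calc 4 = 2 ^ 2 := by norm_num
    _ ≤ 2 ^ n := Nat.pow_le_pow_right (by norm_num) F.hn

/-- `q - 1` is odd -/
theorem cp_odd (F : ZTFacts a b Q q n) : Odd (q - 1) := by
  have h4 := cp_four_le F
  have heven : Even q := by
    rw [F.hq]
    exact (Nat.even_pow' (by have := F.hn; omega)).mpr even_two
  obtain ⟨r, hr⟩ := heven
  exact ⟨r - 1, by omega⟩

/-- The Feit data of the configuration, and the normaliser of `Q`. -/
theorem cp_feitData (F : ZTFacts a b Q q n) (hN : Nat.card Q = q ^ 3) [Fintype (HQ Q)] :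
    Helper79.Feit.FeitData Q (q - 1) (q ^ 3) ∧
      Subgroup.normalizer (Q : Set G) = stabilizer G a := by
  haveI : IsSimpleGroup G := F.zt.simple
  have h4 := cp_four_le F
  have hh : Fintype.card Ω = q ^ 3 + 1 := by
    rw [← Nat.card_eq_fintype_card, F.card_Ω, hN]
  have he : Nat.card ↥(stabilizer G a ⊓ stabilizer G b : Subgroup G) = q - 1 := by
    have h := F.card_K
    change Nat.card ↥(stabilizer G a ⊓ stabilizer G b : Subgroup G) + 1 = q at h
    omega
  have hlt : 2 * (q - 1) < q ^ 3 - 1 := by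
    have h1 : 16 * q ≤ q ^ 3 := by
      have : q ^ 3 = q * q * q := by ring
      rw [this]
      nlinarith
    omega
  have hHcard : Nat.card Q + 1 = Fintype.card Ω := by rw [hh, hN]
  refine ⟨Helper79.Feit.feitData_of_zassenhaus' F.zt.hZ F.hab (q ^ 3) (q - 1) hh he (cp_odd F) hlt
    Q F.zt.Qle hHcard F.Q_fix, ?_⟩
  exact (Cfsg.Agent.S0878.result F.zt.hZ a Q F.zt.Qle hHcard F.Q_fix).2

/-- `μ` is trivial on `Q`. -/
def TrivQ (Q : Subgroup G) (μ : HQ Q → ℂ) : Prop := ∀ u : HQ Q, (u : G) ∈ Q → μ u = μ 1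

/-- An induced function from the stabiliser of `a` vanishes at fixed-point-free elements. -/
theorem cp_ind_fpf (hnorm : Subgroup.normalizer (Q : Set G) = stabilizer G a) (μ : HQ Q → ℂ)
    (g : G) (hg : IsFpf Ω g) : indFun (Subgroup.normalizer (Q : Set G)) μ g = 0 := by
  rw [Helper15.indFun_apply]
  have hterm : ∀ x : G, extendByZero (Subgroup.normalizer (Q : Set G)) μ (x⁻¹ * g * x) = 0 := by
    intro x
    apply Helper15.extendByZero_of_not_mem
    intro hmem
    rw [hnorm, mem_stabilizer_iff] at hmem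
    apply hg (x • a)
    have h1 : g • x • a = x • ((x⁻¹ * g * x) • a) := by
      rw [← mul_smul, ← mul_smul]
      congr 1
      group
    rw [h1, hmem]
  rw [Finset.sum_congr rfl (fun x _ => hterm x)]
  simp

/-- The principal series characters are real valued. -/
theorem cp_ind_real (F : ZTFacts a b Q q n) (hN : Nat.card Q = q ^ 3) [Fintype (HQ Q)]
    (μ : HQ Q → ℂ) (hμ : IsIrrCharacter (HQ Q) μ) (htriv : TrivQ Q μ) (hne : μ ≠ fun _ => 1)
    (g : G) : conj (indFun (Subgroup.normalizer (Q : Set G)) μ g)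
      = indFun (Subgroup.normalizer (Q : Set G)) μ g := by
  obtain ⟨D, hnorm⟩ := cp_feitData F hN
  obtain ⟨hirr, hval⟩ := D.hps μ hμ htriv hne
  have hchar : IsCharacter G (indFun (Subgroup.normalizer (Q : Set G)) μ) :=
    Helper74.isCharacter_of_isIrr hirr
  have hinv := Helper74.char_inv hchar
  by_cases hg1 : g = 1
  · subst hg1
    have := hinv 1
    rw [inv_one] at this
    exact this.symm
  obtain ⟨hBEL1, hBEL2, -, -, -, -⟩ := Cfsg.Agent.Helper2.SzOrd.BEL F
  rcases hBEL1 g hg1 with hfpf | hone | htwo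
  · rw [cp_ind_fpf hnorm μ g hfpf, map_zero]
  · obtain ⟨h, hh⟩ := hBEL2 g hone
    have hne1 : h * g * h⁻¹ ≠ 1 := by
      intro hc
      apply hg1
      have : g = h⁻¹ * (h * g * h⁻¹) * h := by group
      rw [this, hc]
      group
    have h1 := hval _ hh hne1
    rw [Helper15.indFun_conj] at h1
    rw [h1, map_one]
  · have hcard := Cfsg.Agent.Helper2.SzOrd.BKI F g htwo
    have h4 := cp_four_le F
    have hpos : 0 < Nat.card {s : G // orderOf s = 2 ∧ s * g * s⁻¹ = g⁻¹} := by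
      rw [hcard]; omega
    obtain ⟨⟨s, -, hs⟩⟩ := (Nat.card_pos_iff.mp hpos).1
    have h1 := Helper15.indFun_conj (Subgroup.normalizer (Q : Set G)) μ g s
    rw [hs] at h1
    rw [← hinv g, h1]

/-- `μ` and `conj μ` induce the same character. -/
theorem cp_ind_conj (F : ZTFacts a b Q q n) (hN : Nat.card Q = q ^ 3) [Fintype (HQ Q)]
    (μ : HQ Q → ℂ) (hμ : IsIrrCharacter (HQ Q) μ) (htriv : TrivQ Q μ) (hne : μ ≠ fun _ => 1) :
    indFun (Subgroup.normalizer (Q : Set G)) (fun h => conj (μ h))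
      = indFun (Subgroup.normalizer (Q : Set G)) μ := by
  rw [Cfsg.Agent.Helper3.ROCliff.indFun_conj_fun]
  funext g
  exact cp_ind_real F hN μ hμ htriv hne g

/-- A real-valued irreducible character of `H` trivial on `Q` is trivial (`|H : Q|` is odd). -/
theorem cp_real_triv [Fintype (HQ Q)] {e h : ℕ} (D : Helper79.Feit.FeitData Q e h)
    (μ : HQ Q → ℂ) (hμ : IsIrrCharacter (HQ Q) μ) (htriv : TrivQ Q μ)
    (hreal : ∀ x, conj (μ x) = μ x) : μ = fun _ => 1 := by
  have h1 : μ 1 = 1 := D.hlin μ hμ htriv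
  have hchar : IsCharacter (HQ Q) μ := Helper74.isCharacter_of_isIrr hμ
  funext x
  have hsq : μ x * μ x = 1 := by
    have := Helper79.isCharacter_linear_mul_conj hchar h1 x
    rw [hreal x] at this
    exact this
  set l := Helper79.linearHom hchar h1 with hl
  have hpow : ∀ k : ℕ, μ (x ^ k) = μ x ^ k := by
    intro k
    rw [← Helper79.linearHom_apply hchar h1, ← Helper79.linearHom_apply hchar h1, map_pow]
  have hmem : x ^ (Q.subgroupOf (Subgroup.normalizer (Q : Set G))).index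
      ∈ Q.subgroupOf (Subgroup.normalizer (Q : Set G)) :=
    Subgroup.pow_index_mem _ x
  have he : (Q.subgroupOf (Subgroup.normalizer (Q : Set G))).index = e := D.he
  rw [he, Subgroup.mem_subgroupOf] at hmem
  have h2 : μ x ^ e = 1 := by
    rw [← hpow, htriv _ hmem, h1]
  obtain ⟨m, hm⟩ := D.hodd
  rw [hm, pow_succ, pow_mul, pow_two, hsq, one_pow, one_mul] at h2
  exact h2

open Classical in
/-- The number of irreducible characters of `H` trivial on `Q`. -/
theorem cp_card_triv [Fintype (HQ Q)] {e h : ℕ} (D : Helper79.Feit.FeitData Q e h) :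
    letI := Helper74.irrFintype (HQ Q)
    (Finset.univ.filter (fun μ : IrrCharacter (HQ Q) => TrivQ Q (μ : HQ Q → ℂ))).card = e := by
  letI := Helper74.irrFintype (HQ Q)
  set K' := Q.subgroupOf (Subgroup.normalizer (Q : Set G)) with hK'
  let p : IrrCharacter (HQ Q) → Prop := fun χ => ∃ k ∈ K', (χ : HQ Q → ℂ) k ≠ (χ : HQ Q → ℂ) 1
  let f : IrrCharacter (HQ Q) → ℕ :=
    fun χ => charDegree (χ : HQ Q → ℂ) * charDegree (χ : HQ Q → ℂ)
  have h1 : ∑ χ : {χ : IrrCharacter (HQ Q) // p χ}, f χ.1 + K'.index = Nat.card (HQ Q) :=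
    Helper9.FP.fp_sum_degree_sq K'
  have h2 : ∑ χ : IrrCharacter (HQ Q), f χ = Nat.card (HQ Q) := tf_sum_degree_sq_nat
  have h3 : ∑ χ : {χ : IrrCharacter (HQ Q) // p χ}, f χ.1
      = ∑ χ ∈ Finset.univ.filter p, f χ := by
    exact (Finset.sum_subtype (p := p) (Finset.univ.filter p) (fun x => by simp) f).symm
  have h4 := Finset.sum_filter_add_sum_filter_not Finset.univ p f
  have hiff : ∀ χ : IrrCharacter (HQ Q), ¬ p χ ↔ TrivQ Q (χ : HQ Q → ℂ) := by
    intro χ
    constructor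
    · intro hnp u hu
      by_contra hne
      exact hnp ⟨u, Subgroup.mem_subgroupOf.mpr hu, hne⟩
    · rintro ht ⟨k, hk, hne⟩
      exact hne (ht k (Subgroup.mem_subgroupOf.mp hk))
  have h5 : ∑ χ ∈ Finset.univ.filter (fun χ => ¬ p χ), f χ
      = (Finset.univ.filter (fun μ : IrrCharacter (HQ Q) => TrivQ Q (μ : HQ Q → ℂ))).card := by
    have hfilt : Finset.univ.filter (fun χ => ¬ p χ)
        = Finset.univ.filter (fun μ : IrrCharacter (HQ Q) => TrivQ Q (μ : HQ Q → ℂ)) := by
      apply Finset.filter_congr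
      intro χ _
      exact hiff χ
    rw [hfilt, Finset.card_eq_sum_ones]
    apply Finset.sum_congr rfl
    intro χ hχ
    rw [Finset.mem_filter] at hχ
    have h6 : (χ : HQ Q → ℂ) 1 = 1 := D.hlin χ χ.2 hχ.2
    have h7 := Helper78.irrChar_one_eq_charDegree χ.2
    rw [h6] at h7
    have h8 : charDegree (χ : HQ Q → ℂ) = 1 := by exact_mod_cast h7.symm
    show charDegree (χ : HQ Q → ℂ) * charDegree (χ : HQ Q → ℂ) = 1
    rw [h8]
  have h9 : K'.index = e := D.he
  rw [h3] at h1
  rw [h5, h2] at h4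
  have h10 := Nat.add_left_cancel (h1.trans h4.symm)
  rw [← h10, h9]

/-- `Q` has a non-identity element. -/
theorem cp_exists_ne_one (F : ZTFacts a b Q q n) (hN : Nat.card Q = q ^ 3) :
    ∃ u ∈ Q, u ≠ 1 := by
  by_contra hcon
  push Not at hcon
  have hbot : Q = ⊥ := (Subgroup.eq_bot_iff_forall Q).mpr hcon
  rw [hbot, Subgroup.card_bot] at hN
  have h4 := cp_four_le F
  have : 4 ≤ q ^ 3 := le_trans h4 (Nat.le_self_pow (by norm_num) q)
  omega

/-- (CPART) The irreducible characters of `G`: the trivial one, `St` (`1_H^G = 1 + St`), the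
`(q-2)/2` principal-series characters `λ^G`, and the discrete ones. -/
theorem CPART (F : ZTFacts a b Q q n) (hN : Nat.card Q = q ^ 3) [Fintype (HQ Q)]
    [Fintype (IrrCharacter G)] :
    ∃ (St : IrrCharacter G) (L : ℕ) (lam : Fin L → IrrCharacter G), 2 * L + 2 = q ∧
      ((St : G → ℂ) 1 = (q : ℂ) ^ 3 ∧ ∀ u ∈ Q, u ≠ 1 → (St : G → ℂ) u = 0) ∧
      (∀ i, (lam i : G → ℂ) 1 = (q : ℂ) ^ 3 + 1 ∧ ∀ u ∈ Q, u ≠ 1 → (lam i : G → ℂ) u = 1) ∧
      ∀ Φ : IrrCharacter G → ℂ, ∑ χ : IrrCharacter G, Φ χ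
        = Φ (trivIrr G) + Φ St + ∑ i, Φ (lam i) + ∑ χ : XQ Q, Φ χ.1 := by
  classical
  obtain ⟨D, hnorm⟩ := cp_feitData F hN
  letI := Helper74.irrFintype (HQ Q)
  have h4 := cp_four_le F
  obtain ⟨u₀, hu₀, hu₀1⟩ := cp_exists_ne_one F hN
  -- the Steinberg character
  obtain ⟨ψ₀, hψ₀irr, hψ₀ind, hψ₀van⟩ := D.h2t
  have hone_irr : IsIrrCharacter (HQ Q) (fun _ => (1 : ℂ)) := Helper79.isIrrCharacter_one
  have hidx : ((Subgroup.normalizer (Q : Set G)).index : ℂ) = (q : ℂ) ^ 3 + 1 := by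
    rw [D.hidx]; push_cast; ring
  have hψ₀1 : ψ₀ 1 = (q : ℂ) ^ 3 := by
    have h1 := congrFun hψ₀ind 1
    rw [Helper15.indFun_apply_one, hidx] at h1
    simp only [Pi.add_apply] at h1
    linear_combination -h1
  -- the non-trivial characters of `H / Q`
  set T : Finset (IrrCharacter (HQ Q)) :=
    Finset.univ.filter (fun μ : IrrCharacter (HQ Q) => TrivQ Q (μ : HQ Q → ℂ)) with hT
  set T' : Finset (IrrCharacter (HQ Q)) :=
    Finset.univ.filter (fun μ : IrrCharacter (HQ Q) =>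
      TrivQ Q (μ : HQ Q → ℂ) ∧ (μ : HQ Q → ℂ) ≠ fun _ => 1) with hT'
  have hTcard : T.card = q - 1 := cp_card_triv D
  let one : IrrCharacter (HQ Q) := ⟨fun _ => 1, hone_irr⟩
  have hT'eq : T' = T.erase one := by
    ext μ
    simp only [hT, hT', Finset.mem_filter, Finset.mem_univ, true_and, Finset.mem_erase]
    constructor
    · rintro ⟨h1, h2⟩
      exact ⟨fun hc => h2 (congrArg Subtype.val hc), h1⟩
    · rintro ⟨h1, h2⟩
      exact ⟨h2, fun hc => h1 (Subtype.ext hc)⟩
  have hT'card : T'.card = q - 2 := by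
    have hmem : one ∈ T := by
      simp only [hT, Finset.mem_filter, Finset.mem_univ, true_and]
      intro u _
      rfl
    rw [hT'eq, Finset.card_erase_of_mem hmem, hTcard]
    omega
  -- induction
  let f : IrrCharacter (HQ Q) → IrrCharacter G := fun μ =>
    if hμ : TrivQ Q (μ : HQ Q → ℂ) ∧ (μ : HQ Q → ℂ) ≠ fun _ => 1 then
      ⟨indFun (Subgroup.normalizer (Q : Set G)) (μ : HQ Q → ℂ), (D.hps μ μ.2 hμ.1 hμ.2).1⟩
    else trivIrr G
  have hmemT' : ∀ μ : IrrCharacter (HQ Q), μ ∈ T' ↔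
      TrivQ Q (μ : HQ Q → ℂ) ∧ (μ : HQ Q → ℂ) ≠ fun _ => 1 := by
    intro μ
    simp only [hT', Finset.mem_filter, Finset.mem_univ, true_and]
  have hf : ∀ μ ∈ T', ((f μ : IrrCharacter G) : G → ℂ)
      = indFun (Subgroup.normalizer (Q : Set G)) (μ : HQ Q → ℂ) := by
    intro μ hμ
    have hμ' := (hmemT' μ).mp hμ
    show ((if hμ : TrivQ Q (μ : HQ Q → ℂ) ∧ (μ : HQ Q → ℂ) ≠ fun _ => 1 then
      (⟨indFun (Subgroup.normalizer (Q : Set G)) (μ : HQ Q → ℂ), (D.hps μ μ.2 hμ.1 hμ.2).1⟩ :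
        IrrCharacter G) else trivIrr G : IrrCharacter G) : G → ℂ) = _
    rw [dif_pos hμ']
  set Λ : Finset (IrrCharacter G) := T'.image f with hΛ
  -- complex conjugation on `T'`
  have hbar_mem : ∀ μ ∈ T', Helper81.irrConj (HQ Q) μ ∈ T' := by
    intro μ hμ
    obtain ⟨h1, h2⟩ := (hmemT' μ).mp hμ
    rw [hmemT']
    refine ⟨?_, ?_⟩
    · intro u hu
      show conj ((μ : HQ Q → ℂ) u) = conj ((μ : HQ Q → ℂ) 1)
      rw [h1 u hu]
    · intro hc
      apply h2
      funext x
      have := congrFun hc x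
      simp only [Helper81.irrConj_apply] at this
      have h3 := congrArg conj this
      simpa using h3
  have hbar_ne : ∀ μ ∈ T', Helper81.irrConj (HQ Q) μ ≠ μ := by
    intro μ hμ hc
    obtain ⟨h1, h2⟩ := (hmemT' μ).mp hμ
    apply h2
    apply cp_real_triv D μ μ.2 h1
    intro x
    have := congrArg (fun ν : IrrCharacter (HQ Q) => (ν : HQ Q → ℂ) x) hc
    simpa using this
  have hbar_f : ∀ μ ∈ T', f (Helper81.irrConj (HQ Q) μ) = f μ := by
    intro μ hμ
    obtain ⟨h1, h2⟩ := (hmemT' μ).mp hμ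
    apply Subtype.ext
    rw [hf _ (hbar_mem μ hμ), hf μ hμ]
    exact cp_ind_conj F hN μ μ.2 h1 h2
  -- fibres
  have hfib : ∀ μ ∈ T', (T'.filter (fun ν => f ν = f μ)).card = 2 := by
    intro μ hμ
    have heq : T'.filter (fun ν => f ν = f μ) = {μ, Helper81.irrConj (HQ Q) μ} := by
      ext ν
      simp only [Finset.mem_filter, Finset.mem_insert, Finset.mem_singleton]
      constructor
      · rintro ⟨hν, hfν⟩
        obtain ⟨h1, h2⟩ := (hmemT' μ).mp hμ
        obtain ⟨h1', h2'⟩ := (hmemT' ν).mp hν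
        have h3 : indFun (Subgroup.normalizer (Q : Set G)) (μ : HQ Q → ℂ)
            = indFun (Subgroup.normalizer (Q : Set G)) (ν : HQ Q → ℂ) := by
          rw [← hf μ hμ, ← hf ν hν, hfν]
        rcases D.hpsd μ ν μ.2 h1 ν.2 h1' h3 with h5 | h5
        · left; exact Subtype.ext h5
        · right; exact Subtype.ext h5
      · rintro (rfl | rfl)
        · exact ⟨hμ, rfl⟩
        · exact ⟨hbar_mem μ hμ, hbar_f μ hμ⟩
    rw [heq, Finset.card_pair (hbar_ne μ hμ).symm]
  have hΛcard : 2 * Λ.card = q - 2 := by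
    rw [← hT'card, Finset.card_eq_sum_card_image f T']
    have h6 : ∀ b ∈ T'.image f, (T'.filter (fun a => f a = b)).card = 2 := by
      intro b hb
      obtain ⟨μ, hμ, rfl⟩ := Finset.mem_image.mp hb
      exact hfib μ hμ
    rw [Finset.sum_congr rfl h6, Finset.sum_const, smul_eq_mul, mul_comm]
  -- properties of the members of `Λ`
  have hΛprop : ∀ χ ∈ Λ, ∃ μ ∈ T', (χ : G → ℂ)
      = indFun (Subgroup.normalizer (Q : Set G)) (μ : HQ Q → ℂ) := by
    intro χ hχ
    obtain ⟨μ, hμ, rfl⟩ := Finset.mem_image.mp hχ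
    exact ⟨μ, hμ, hf μ hμ⟩
  have hΛ1 : ∀ χ ∈ Λ, (χ : G → ℂ) 1 = (q : ℂ) ^ 3 + 1 := by
    intro χ hχ
    obtain ⟨μ, hμ, hχμ⟩ := hΛprop χ hχ
    obtain ⟨h1, h2⟩ := (hmemT' μ).mp hμ
    rw [hχμ, Helper15.indFun_apply_one, hidx, D.hlin μ μ.2 h1, mul_one]
  have hΛQ : ∀ χ ∈ Λ, ∀ u ∈ Q, u ≠ 1 → (χ : G → ℂ) u = 1 := by
    intro χ hχ u hu hu1
    obtain ⟨μ, hμ, hχμ⟩ := hΛprop χ hχ
    obtain ⟨h1, h2⟩ := (hmemT' μ).mp hμ
    rw [hχμ]
    exact (D.hps μ μ.2 h1 h2).2 u hu hu1
  let St : IrrCharacter G := ⟨ψ₀, hψ₀irr⟩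
  -- distinctness
  have htriv_ne_St : trivIrr G ≠ St := by
    intro hc
    have := congrArg (fun χ : IrrCharacter G => (χ : G → ℂ) u₀) hc
    simp only [St] at this
    rw [hψ₀van u₀ hu₀ hu₀1] at this
    exact one_ne_zero this
  have hq3 : ((q : ℂ) ^ 3) ≠ 0 := by
    have : (q : ℂ) ≠ 0 := by
      have : q ≠ 0 := by omega
      exact_mod_cast this
    exact pow_ne_zero 3 this
  have htriv_nmem : trivIrr G ∉ Λ := by
    intro hc
    have h1 := hΛ1 _ hc
    have h2 : ((trivIrr G : IrrCharacter G) : G → ℂ) 1 = 1 := rfl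
    rw [h2] at h1
    apply hq3
    linear_combination -h1
  have hSt_nmem : St ∉ Λ := by
    intro hc
    have h1 := hΛQ _ hc u₀ hu₀ hu₀1
    have h2 : ((St : IrrCharacter G) : G → ℂ) u₀ = 0 := hψ₀van u₀ hu₀ hu₀1
    rw [h2] at h1
    exact zero_ne_one h1
  -- the non-discrete characters
  have hclass : ∀ χ : IrrCharacter G, IsClassFunction G (χ : G → ℂ) := fun χ =>
    Helper74.isClassFunction_of_isCharacter (Helper74.isCharacter_of_isIrr χ.2)
  have hone_ntf : (fun _ : HQ Q => (1 : ℂ)) ∉ tfS Q := by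
    rintro ⟨-, k, -, hk⟩
    exact hk rfl
  have hND : ∀ χ : IrrCharacter G,
      χ ∈ insert (trivIrr G) (insert St Λ) ↔ ¬ IsDiscrete Q (χ : G → ℂ) := by
    intro χ
    constructor
    · intro hχ hdisc
      rw [Finset.mem_insert, Finset.mem_insert] at hχ
      rcases hχ with rfl | rfl | hχ
      · -- the trivial character
        have h1 := hdisc.2 (fun _ => 1) hone_irr hone_ntf
        have h2 : classInner (resH Q ((trivIrr G : IrrCharacter G) : G → ℂ)) (fun _ : HQ Q => (1 : ℂ))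
            = 1 := Helper74.irr_inner_self (⟨fun _ => 1, hone_irr⟩ : IrrCharacter (HQ Q))
        rw [h1] at h2
        exact zero_ne_one h2
      · -- the Steinberg character
        have h1 := hdisc.2 (fun _ => 1) hone_irr hone_ntf
        have h2 := Helper15.frobenius_reciprocity' (Subgroup.normalizer (Q : Set G))
          (fun _ => (1 : ℂ)) ψ₀ (hclass St)
        rw [hψ₀ind, Helper15.classInner_add_right] at h2
        have h3 : classInner ψ₀ ψ₀ = 1 := Helper74.irr_inner_self St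
        have h4' : classInner ψ₀ (fun _ : G => (1 : ℂ)) = 0 :=
          Helper74.irr_inner_ne (χ := St) (ψ := trivIrr G) htriv_ne_St.symm
        rw [h3, h4', zero_add] at h2
        have h5 : classInner (resH Q ψ₀) (fun _ : HQ Q => (1 : ℂ)) = 0 := h1
        have h6 : classInner (fun h : ↥(Subgroup.normalizer (Q : Set G)) => ψ₀ h)
            (fun _ : ↥(Subgroup.normalizer (Q : Set G)) => (1 : ℂ)) = 0 := h5
        rw [h6] at h2
        exact one_ne_zero h2
      · -- a principal series character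
        obtain ⟨μ, hμ, hχμ⟩ := hΛprop χ hχ
        obtain ⟨hμ1, hμ2⟩ := (hmemT' μ).mp hμ
        have hμntf : (μ : HQ Q → ℂ) ∉ tfS Q := by
          rintro ⟨-, k, hk, hne⟩
          exact hne (hμ1 k hk)
        have h1 := hdisc.2 μ μ.2 hμntf
        have h2 := Helper15.frobenius_reciprocity' (Subgroup.normalizer (Q : Set G))
          (μ : HQ Q → ℂ) (χ : G → ℂ) (hclass χ)
        rw [← hχμ] at h2
        have h3 : classInner (χ : G → ℂ) (χ : G → ℂ) = 1 := Helper74.irr_inner_self χ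
        rw [h3] at h2
        have h5 : classInner (fun h : ↥(Subgroup.normalizer (Q : Set G)) => (χ : G → ℂ) h)
            (μ : HQ Q → ℂ) = 0 := h1
        rw [h5] at h2
        exact one_ne_zero h2
    · intro hnd
      have hex : ∃ μ : HQ Q → ℂ, IsIrrCharacter (HQ Q) μ ∧ μ ∉ tfS Q ∧
          classInner (resH Q (χ : G → ℂ)) μ ≠ 0 := by
        by_contra hcon
        push Not at hcon
        exact hnd ⟨χ.2, fun μ hμ hμn => hcon μ hμ hμn⟩
      obtain ⟨μ, hμirr, hμn, hμne⟩ := hex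
      have hμtriv : TrivQ Q μ := Helper79.Feit.trivial_on_of_not_mem_tfS hμirr hμn
      have h2 := Helper15.frobenius_reciprocity' (Subgroup.normalizer (Q : Set G))
        μ (χ : G → ℂ) (hclass χ)
      have h3 : classInner (χ : G → ℂ) (indFun (Subgroup.normalizer (Q : Set G)) μ) ≠ 0 := by
        rw [h2]
        exact hμne
      rw [Finset.mem_insert, Finset.mem_insert]
      by_cases hμ1 : μ = fun _ => 1
      · rw [hμ1, hψ₀ind, Helper15.classInner_add_right] at h3
        by_cases hχ1 : χ = trivIrr G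
        · left; exact hχ1
        · right; left
          by_contra hχSt
          apply h3
          have e1 : classInner (χ : G → ℂ) (fun _ : G => (1 : ℂ)) = 0 :=
            Helper74.irr_inner_ne (χ := χ) (ψ := trivIrr G) hχ1
          have e2 : classInner (χ : G → ℂ) ψ₀ = 0 :=
            Helper74.irr_inner_ne (χ := χ) (ψ := St) hχSt
          rw [e1, e2, add_zero]
      · right; right
        let μ' : IrrCharacter (HQ Q) := ⟨μ, hμirr⟩
        have hμ'mem : μ' ∈ T' := (hmemT' μ').mpr ⟨hμtriv, hμ1⟩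
        have hχf : χ = f μ' := by
          by_contra hne
          apply h3
          have := Helper74.irr_inner_ne (χ := χ) (ψ := f μ') hne
          rw [hf μ' hμ'mem] at this
          exact this
        rw [hχf]
        exact Finset.mem_image_of_mem f hμ'mem
  -- assemble
  refine ⟨St, Λ.card, fun i => ((Λ.equivFin).symm i).1, ?_, ⟨hψ₀1, hψ₀van⟩, ?_, ?_⟩
  · omega
  · intro i
    exact ⟨hΛ1 _ ((Λ.equivFin).symm i).2, hΛQ _ ((Λ.equivFin).symm i).2⟩
  · intro Φ
    have hsum1 : ∑ i : Fin Λ.card, Φ ((Λ.equivFin).symm i).1 = ∑ χ ∈ Λ, Φ χ := by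
      rw [Equiv.sum_comp (Λ.equivFin).symm (fun x : Λ => Φ x.1)]
      exact Finset.sum_coe_sort Λ Φ
    have hsum2 : ∑ χ ∈ (insert (trivIrr G) (insert St Λ))ᶜ, Φ χ = ∑ χ : XQ Q, Φ χ.1 := by
      apply Finset.sum_subtype
      intro χ
      rw [Finset.mem_compl, hND χ, not_not]
    rw [← Finset.sum_add_sum_compl (insert (trivIrr G) (insert St Λ)) Φ, hsum2,
      Finset.sum_insert (by
        rw [Finset.mem_insert]
        rintro (h | h)
        · exact htriv_ne_St h
        · exact htriv_nmem h),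
      Finset.sum_insert hSt_nmem, hsum1]
    ring

end Cfsg.Agent.Helper75.SzOrd
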