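import Cfsg.Agent.Helper80.ItoConv
import Cfsg.Agent.Helper74.RestrictIrr
import Cfsg.Agent.Helper74.Ito
import Cfsg.Agent.Helper74.DegP3
import Cfsg.Agent.Helper15.Gallagher
import Cfsg.Agent.Helper9.ComplementSystem
import Cfsg.Agent.Helper75.TIFN

/-!
# Groups with a normal `p`-complement and a unique character of degree divisible by `p`
(helper75), part A: the character side.

`N ⊴ G` a normal `p`-complement, exactly one irreducible character `χ₀` of `G` of degree divisible
by `p`, `G` not nilpotent.  Then `G / N` is abelian, `χ₀` lies over a non-invariant character of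
`N`, and `k(G) = 1 + |G : N| · #(G-invariant irreducible characters of N)`.
-/

set_option autoImplicit false

namespace Cfsg.Agent.Helper75

open Cfsg
open scoped ComplexConjugate

universe u

/-- A non-identity element is separated from `1` by some irreducible character. -/
theorem exists_irr_apply_ne {X : Type u} [Group X] [Fintype X] {k : X} (hk : k ≠ 1) :
    ∃ ζ : IrrCharacter X, (ζ : X → ℂ) k ≠ (ζ : X → ℂ) 1 := by
  classical
  let _ := Helper74.irrFintype X
  have hsum := tf_sum_degree_mul (N := X) hk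
  by_contra hcon
  push Not at hcon
  have h2 : ∑ ζ : IrrCharacter X, ζ.1 1 * ζ.1 k
      = ∑ ζ : IrrCharacter X, ((charDegree ζ.1 ^ 2 : ℕ) : ℂ) := by
    refine Finset.sum_congr rfl (fun ζ _ => ?_)
    rw [hcon ζ, Helper78.irrChar_one_eq_charDegree ζ.2]
    push_cast
    ring
  rw [h2, ← Nat.cast_sum] at hsum
  have h3 : ∑ ζ : IrrCharacter X, charDegree ζ.1 ^ 2 = 0 := by exact_mod_cast hsum
  have h4 := Finset.sum_eq_zero_iff.mp h3
  let ζ₀ : IrrCharacter X := ⟨fun _ => 1, Helper79.isIrrCharacter_one⟩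
  have h5 := h4 ζ₀ (Finset.mem_univ _)
  have h6 : charDegree ζ₀.1 = 0 := by
    rcases Nat.eq_zero_or_pos (charDegree ζ₀.1) with h | h
    · exact h
    · exfalso
      have : 0 < charDegree ζ₀.1 ^ 2 := Nat.pow_pos h
      omega
  have h7 := Helper78.irrChar_one_eq_charDegree ζ₀.2
  rw [h6] at h7
  have h8 : ζ₀.1 1 = 1 := rfl
  rw [h8] at h7
  norm_num at h7

section OPD

variable {G : Type u} [Group G] [Fintype G] (p : ℕ) [hp : Fact p.Prime] (N : Subgroup G)
  [hN : N.Normal] [Fintype N]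

/-- The hypotheses: `N` is a normal `p`-complement of the non-nilpotent group `G`, and `G` has
exactly one irreducible character of degree divisible by `p`. -/
structure OnePDiv : Prop where
  hNp : (Nat.card N).Coprime p
  hidx : ∃ k : ℕ, N.index = p ^ k
  hone : Nat.card {χ : IrrCharacter G // p ∣ charDegree (χ : G → ℂ)} = 1
  hnil : ¬ Group.IsNilpotent G

variable {p N}

omit [Fintype G] hN [Fintype N] in
theorem OnePDiv.unique (h : OnePDiv p N) {χ ψ : G → ℂ} (hχ : IsIrrCharacter G χ)
    (hψ : IsIrrCharacter G ψ) (h1 : p ∣ charDegree χ) (h2 : p ∣ charDegree ψ) : χ = ψ := by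
  have hs := (Nat.card_eq_one_iff_unique.mp h.hone).1
  have := hs.elim ⟨⟨χ, hχ⟩, h1⟩ ⟨⟨ψ, hψ⟩, h2⟩
  exact congrArg (fun x => (x.1 : G → ℂ)) this

omit [Fintype G] hN [Fintype N] in
theorem OnePDiv.exists_dvd (h : OnePDiv p N) :
    ∃ χ : G → ℂ, IsIrrCharacter G χ ∧ p ∣ charDegree χ := by
  obtain ⟨⟨χ, hχ⟩⟩ := (Nat.card_eq_one_iff_unique.mp h.hone).2
  exact ⟨χ.1, χ.2, hχ⟩

/-- A character of degree prime to `p` restricts irreducibly (and invariantly) to `N`. -/
theorem OnePDiv.restrict_irr (h : OnePDiv p N) {χ : G → ℂ} (hχ : IsIrrCharacter G χ)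
    (hnd : ¬ p ∣ charDegree χ) :
    IsIrrCharacter N (fun n : N => χ n) ∧
      ∀ g : G, Helper15.conjFun N g (fun n : N => χ n) = fun n : N => χ n := by
  obtain ⟨k, hk⟩ := h.hidx
  apply Helper74.restrict_irr_of_coprime N hχ
  rw [hk]
  exact Nat.Coprime.pow_right k ((Nat.Prime.coprime_iff_not_dvd hp.out).mpr hnd).symm

/-- A character lying over a non-invariant character of `N` has degree divisible by `p`. -/
theorem OnePDiv.dvd_of_not_invariant (h : OnePDiv p N) {χ : G → ℂ} (hχ : IsIrrCharacter G χ)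
    {θ : N → ℂ} (hθ : IsIrrCharacter N θ) (hθχ : classInner (fun n : N => χ n) θ ≠ 0)
    (hinv : Helper15.inertia N θ ≠ ⊤) : p ∣ charDegree χ := by
  obtain ⟨e, he⟩ := Helper80.clifford_degree N hχ hθ hθχ
  obtain ⟨k, hk⟩ := h.hidx
  have hle : N ≤ Helper15.inertia N θ := Helper15.le_inertia N
    (Helper74.isClassFunction_of_isCharacter (Helper74.isCharacter_of_isIrr hθ))
  have hdvd : (Helper15.inertia N θ).index ∣ p ^ k := hk ▸ Subgroup.index_dvd_of_le hle
  obtain ⟨j, -, hj'⟩ := (Nat.dvd_prime_pow hp.out).mp hdvd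
  have hj0 : j ≠ 0 := by
    rintro rfl
    rw [pow_zero] at hj'
    exact hinv (Subgroup.index_eq_one.mp hj')
  rw [he, hj']
  exact Dvd.dvd.mul_right (Dvd.dvd.mul_left (dvd_pow_self p hj0) e) _

/-- Two irreducible constituents of the restriction: if one is invariant so is the other. -/
theorem inertia_eq_top_of_constituents {χ : G → ℂ} (hχ : IsIrrCharacter G χ) {θ φ : N → ℂ}
    (hθ : IsIrrCharacter N θ) (hφ : IsIrrCharacter N φ)
    (hθχ : classInner (fun n : N => χ n) θ ≠ 0) (hφχ : classInner (fun n : N => χ n) φ ≠ 0)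
    (hinv : Helper15.inertia N θ = ⊤) : φ = θ := by
  obtain ⟨g, hg⟩ := Helper15.exists_conj_of_constituents N hχ hθ hφ hθχ hφχ
  have hmem : g ∈ Helper15.inertia N θ := by rw [hinv]; exact Subgroup.mem_top g
  rw [hg]
  exact (Helper15.mem_inertia N θ g).mp hmem

/-- The quotient `G / N` is abelian. -/
theorem OnePDiv.quotient_comm (h : OnePDiv p N) (a b : G ⧸ N) : a * b = b * a := by
  classical
  apply Helper74.comm_of_forall_degree_one
  intro β
  by_contra hβ1
  obtain ⟨k, hk⟩ := h.hidx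
  -- the degree of `β` is divisible by `p`
  have hβdvd : charDegree (β : G ⧸ N → ℂ) ∣ p ^ k := by
    have h1 := Helper80.IsIrrCharacter.charDegree_dvd_card β.2
    rwa [← Subgroup.index_eq_card, hk] at h1
  obtain ⟨j, -, hj⟩ := (Nat.dvd_prime_pow hp.out).mp hβdvd
  have hj0 : j ≠ 0 := by
    rintro rfl
    rw [pow_zero] at hj
    exact hβ1 hj
  have hpβ : p ∣ charDegree (β : G ⧸ N → ℂ) := by rw [hj]; exact dvd_pow_self p hj0
  -- inflation
  set β' : G → ℂ := fun g => (β : G ⧸ N → ℂ) (QuotientGroup.mk' N g) with hβ'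
  have hβ'irr : IsIrrCharacter G β' :=
    Helper80.IsIrrCharacter.comp_surjective β.2 (QuotientGroup.mk' N)
      (QuotientGroup.mk'_surjective N)
  have hβ'1 : β' 1 = (β : G ⧸ N → ℂ) 1 := by
    show (β : G ⧸ N → ℂ) (QuotientGroup.mk' N 1) = _
    rw [map_one]
  have hdeg : charDegree β' = charDegree (β : G ⧸ N → ℂ) := by
    unfold charDegree
    rw [hβ'1]
  have hpβ' : p ∣ charDegree β' := by rw [hdeg]; exact hpβ
  have hβ'N : ∀ n : N, β' n = (β : G ⧸ N → ℂ) 1 := by
    intro n
    have h1 : (QuotientGroup.mk' N (n : G)) = 1 := by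
      rw [QuotientGroup.mk'_apply, QuotientGroup.eq_one_iff]
      exact n.2
    show (β : G ⧸ N → ℂ) (QuotientGroup.mk' N (n : G)) = _
    rw [h1]
  have hβ1ne : (β : G ⧸ N → ℂ) 1 ≠ 0 := Helper80.IsIrrCharacter.map_one_ne_zero β.2
  -- `N` is trivial
  have hNbot : N = ⊥ := by
    by_contra hNne
    obtain ⟨n₀, hn₀⟩ := (Subgroup.ne_bot_iff_exists_ne_one.mp hNne)
    obtain ⟨θ, hθ⟩ := exists_irr_apply_ne hn₀
    obtain ⟨χ, hχ, hχθ⟩ := Helper80.exists_irr_over N θ.2
    -- `θ` is not the trivial character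
    have hθ1 : (θ : N → ℂ) ≠ fun _ => 1 := by
      intro h1
      apply hθ
      rw [h1]
    have horth : classInner (fun _ : N => (1 : ℂ)) (θ : N → ℂ) = 0 := by
      have := Helper74.irr_orthonormal (⟨fun _ => 1, Helper79.isIrrCharacter_one⟩ : IrrCharacter N) θ
      rw [this, if_neg]
      intro h1
      exact hθ1 (congrArg Subtype.val h1).symm
    -- `χ ≠ β'`
    have hne : χ ≠ β' := by
      intro h1
      apply hχθ
      rw [h1]
      have : (fun n : N => β' n) = (β : G ⧸ N → ℂ) 1 • (fun _ : N => (1 : ℂ)) := by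
        funext n
        rw [hβ'N n]
        simp
      rw [this, Helper74.classInner_smul_left, horth, mul_zero]
    have hnd : ¬ p ∣ charDegree χ := fun h1 => hne (h.unique hχ hβ'irr h1 hpβ')
    obtain ⟨hχN, -⟩ := h.restrict_irr hχ hnd
    have hχNθ : (fun n : N => χ n) = (θ : N → ℂ) := by
      by_contra hne'
      apply hχθ
      have := Helper74.irr_orthonormal (⟨fun n : N => χ n, hχN⟩ : IrrCharacter N) θ
      rw [this, if_neg]
      intro h1
      exact hne' (congrArg Subtype.val h1)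
    -- Gallagher
    have hgal := Helper15.gallagher_bijOn N hχ hχN
    have hβ'mem : β' ∈ {β : G → ℂ | IsIrrCharacter G β ∧
        classInner (indFun N (fun _ => (1 : ℂ))) β ≠ 0} := by
      refine ⟨hβ'irr, ?_⟩
      rw [Helper15.frobenius_reciprocity N _ β'
        (Helper74.isClassFunction_of_isCharacter (Helper74.isCharacter_of_isIrr hβ'irr))]
      have : (fun n : N => β' n) = (β : G ⧸ N → ℂ) 1 • (fun _ : N => (1 : ℂ)) := by
        funext n
        rw [hβ'N n]
        simp
      rw [this, Helper74.classInner_smul_right]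
      have h11 := Helper74.irr_orthonormal
        (⟨fun _ => 1, Helper79.isIrrCharacter_one⟩ : IrrCharacter N)
        ⟨fun _ => 1, Helper79.isIrrCharacter_one⟩
      rw [if_pos rfl] at h11
      rw [h11, mul_one]
      intro h0
      apply hβ1ne
      have := congrArg conj h0
      simpa using this
    have hprod := (hgal.mapsTo hβ'mem).1
    have hprod1 : (β' * χ) 1 = β' 1 * χ 1 := rfl
    have hdegprod : charDegree (β' * χ) = charDegree β' * charDegree χ := by
      have h1 := Helper78.irrChar_one_eq_charDegree hprod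
      rw [hprod1, Helper78.irrChar_one_eq_charDegree hβ'irr,
        Helper78.irrChar_one_eq_charDegree hχ] at h1
      have h2 : ((charDegree β' * charDegree χ : ℕ) : ℂ) = (charDegree (β' * χ) : ℂ) := by
        rw [← h1]
        push_cast
        ring
      exact_mod_cast h2.symm
    have hpprod : p ∣ charDegree (β' * χ) := by
      rw [hdegprod]
      exact Dvd.dvd.mul_right hpβ' _
    have heq := h.unique hprod hβ'irr hpprod hpβ'
    -- evaluate on `N`
    apply hθ1
    funext n
    have h1 := congrFun heq (n : G)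
    have h2 : (β' * χ) (n : G) = β' n * χ n := rfl
    rw [h2, hβ'N n] at h1
    have h3 : χ n = (θ : N → ℂ) n := congrFun hχNθ n
    rw [h3] at h1
    have h4 : (β : G ⧸ N → ℂ) 1 * ((θ : N → ℂ) n - 1) = 0 := by
      rw [mul_sub, h1, mul_one, sub_self]
    rcases mul_eq_zero.mp h4 with h5 | h5
    · exact absurd h5 hβ1ne
    · exact sub_eq_zero.mp h5
  -- then `G` is a `p`-group, hence nilpotent
  apply h.hnil
  have hcard : Nat.card G = p ^ k := by
    rw [← N.card_mul_index, hk, hNbot, Subgroup.card_bot, one_mul]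
  exact (IsPGroup.of_card hcard).isNilpotent

/-- The unique character of degree divisible by `p` lies over a non-invariant character. -/
theorem OnePDiv.exists_not_invariant (h : OnePDiv p N) {χ₀ : G → ℂ} (hχ₀ : IsIrrCharacter G χ₀)
    (hpχ₀ : p ∣ charDegree χ₀) :
    ∃ θ : N → ℂ, IsIrrCharacter N θ ∧ classInner (fun n : N => χ₀ n) θ ≠ 0 ∧
      Helper15.inertia N θ ≠ ⊤ := by
  classical
  have hres : IsCharacter N (fun n : N => χ₀ n) :=
    Helper74.isCharacter_restrict N (Helper74.isCharacter_of_isIrr hχ₀)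
  have hres1 : (fun n : N => χ₀ n) 1 ≠ 0 := by
    show χ₀ ((1 : N) : G) ≠ 0
    rw [Subgroup.coe_one]
    exact Helper80.IsIrrCharacter.map_one_ne_zero hχ₀
  obtain ⟨θ₀, hθ₀⟩ := Helper81.exists_irr_constituent hres hres1
  by_cases hinv₀ : Helper15.inertia N (θ₀ : N → ℂ) = ⊤
  swap
  · exact ⟨θ₀, θ₀.2, hθ₀, hinv₀⟩
  exfalso
  -- all irreducible characters of `N` are invariant
  have hall : ∀ θ : N → ℂ, IsIrrCharacter N θ → Helper15.inertia N θ = ⊤ := by
    intro θ hθ
    by_contra hne
    obtain ⟨χ, hχ, hχθ⟩ := Helper80.exists_irr_over N hθ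
    have hpχ := h.dvd_of_not_invariant hχ hθ hχθ hne
    have hχeq : χ = χ₀ := h.unique hχ hχ₀ hpχ hpχ₀
    rw [hχeq] at hχθ
    have := inertia_eq_top_of_constituents hχ₀ θ₀.2 hθ hθ₀ hχθ hinv₀
    rw [this] at hne
    exact hne hinv₀
  -- a Sylow `p`-subgroup centralizes `N`
  obtain ⟨P⟩ : Nonempty (Sylow p G) := inferInstance
  have hcent : ∀ s ∈ (P : Subgroup G), ∀ n ∈ N, s * n = n * s :=
    Helper80.centralizes_of_invariant p N h.hNp (P : Subgroup G) P.2 (fun θ hθ s _ => by
      have hmem : s ∈ Helper15.inertia N θ := by rw [hall θ hθ]; exact Subgroup.mem_top s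
      exact (Helper15.mem_inertia N θ s).mp hmem)
  obtain ⟨k, hk⟩ := h.hidx
  have hcop : Nat.Coprime N.index (P : Subgroup G).index := by
    rw [hk]
    exact Nat.Coprime.pow_left k ((Nat.Prime.coprime_iff_not_dvd hp.out).mpr P.not_dvd_index)
  have hdisj : ∀ x : G, x ∈ N → x ∈ (P : Subgroup G) → x = 1 := by
    intro x hxN hxP
    have h1 : orderOf x ∣ Nat.card N := by
      have := orderOf_dvd_natCard (⟨x, hxN⟩ : N)
      rwa [Subgroup.orderOf_mk] at this
    obtain ⟨j, hj⟩ := IsPGroup.iff_orderOf.mp P.2 (⟨x, hxP⟩ : (P : Subgroup G))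
    have h2 : orderOf x = p ^ j := by
      rw [← hj, Subgroup.orderOf_mk]
    rw [h2] at h1
    have h3 : Nat.Coprime (p ^ j) (Nat.card N) := Nat.Coprime.pow_left j h.hNp.symm
    have h4 : p ^ j = 1 := Nat.Coprime.eq_one_of_dvd h3 h1
    rw [h4] at h2
    exact orderOf_eq_one_iff.mp h2
  -- `P` is abelian
  have hab : ∀ a ∈ (P : Subgroup G), ∀ b ∈ (P : Subgroup G), a * b = b * a := by
    intro a ha b hb
    have h1 := h.quotient_comm (a : G ⧸ N) (b : G ⧸ N)
    have h2 : ((a * b : G) : G ⧸ N) = ((b * a : G) : G ⧸ N) := by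
      rw [QuotientGroup.mk_mul, QuotientGroup.mk_mul]
      exact h1
    rw [QuotientGroup.eq] at h2
    have h3 : (a * b)⁻¹ * (b * a) ∈ (P : Subgroup G) :=
      (P : Subgroup G).mul_mem ((P : Subgroup G).inv_mem ((P : Subgroup G).mul_mem ha hb))
        ((P : Subgroup G).mul_mem hb ha)
    have h4 := hdisj _ h2 h3
    exact (inv_mul_eq_one.mp h4)
  -- `P` is normal
  have hPn : (P : Subgroup G).Normal := by
    refine ⟨fun x hx g => ?_⟩
    obtain ⟨n, hn, u, hu, rfl⟩ := Helper9.exists_mul_of_coprime_index N (P : Subgroup G) hcop g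
    have h1 : n * u * x * (n * u)⁻¹ = n * (u * x * u⁻¹) * n⁻¹ := by group
    have h2 : u * x * u⁻¹ ∈ (P : Subgroup G) :=
      (P : Subgroup G).mul_mem ((P : Subgroup G).mul_mem hu hx) ((P : Subgroup G).inv_mem hu)
    have h3 : n * (u * x * u⁻¹) * n⁻¹ = u * x * u⁻¹ := by
      rw [← hcent _ h2 n hn]
      group
    rw [h1, h3]
    exact h2
  obtain ⟨m, hm1, hm2⟩ := Helper74.ito_degree_dvd_index (P : Subgroup G) hab hχ₀
  have hm : m = charDegree χ₀ := by
    have := Helper78.irrChar_one_eq_charDegree hχ₀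
    rw [hm1] at this
    exact_mod_cast this
  apply P.not_dvd_index
  rw [← hm] at hpχ₀
  exact dvd_trans hpχ₀ hm2

end OPD

end Cfsg.Agent.Helper75
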