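import Cfsg.Agent.Helper75.CAGroup

/-!
# Reduction of the CA-theorem to simple groups (helper75)
-/

set_option autoImplicit false

namespace Cfsg.Agent.Helper75

universe u

section Normal

variable {G : Type u} [Group G] [Finite G]

theorem ca_card_lt_of_ne_top (H : Subgroup G) (hH : H ≠ ⊤) : Nat.card H < Nat.card G := by
  have hle : Nat.card H ≤ Nat.card G := Nat.le_of_dvd Nat.card_pos (Subgroup.card_subgroup_dvd_card H)
  rcases hle.lt_or_eq with h | h
  · exact h
  · exact absurd (Subgroup.eq_top_of_card_eq H h) hH

omit [Finite G] in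
theorem ca_odd_subgroup (hodd : Odd (Nat.card G)) (H : Subgroup G) : Odd (Nat.card H) :=
  Odd.of_dvd_nat hodd (Subgroup.card_subgroup_dvd_card H)

/-- A CA-group of odd order with a proper non-trivial normal subgroup is solvable, if all
CA-groups of smaller odd order are. -/
theorem ca_solvable_of_normal (hodd : Odd (Nat.card G)) (h : IsCA G)
    (IH : ∀ (H : Type u) [Group H] [Finite H], Nat.card H < Nat.card G → Odd (Nat.card H) →
      IsCA H → Group.IsSolvable H)
    (N : Subgroup G) [hNn : N.Normal] (hN1 : N ≠ ⊥) (hN2 : N ≠ ⊤) : Group.IsSolvable G := by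
  classical
  have hNsol : Group.IsSolvable N :=
    IH N (ca_card_lt_of_ne_top N hN2) (ca_odd_subgroup hodd N) (ca_subgroup h N)
  obtain ⟨n, hn⟩ := (Group.isSolvable_def N).mp hNsol
  -- minimal such n
  let P : ℕ → Prop := fun n => derivedSeries N n = ⊥
  have hex : ∃ n, P n := ⟨n, hn⟩
  let n₀ := Nat.find hex
  have hn₀ : derivedSeries N n₀ = ⊥ := Nat.find_spec hex
  have hNnt : Nontrivial N := (Subgroup.nontrivial_iff_ne_bot N).mpr hN1
  have hn₀pos : n₀ ≠ 0 := by
    intro h0
    rw [h0, derivedSeries_zero] at hn₀
    exact top_ne_bot hn₀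
  obtain ⟨k, hk⟩ := Nat.exists_eq_succ_of_ne_zero hn₀pos
  have hAne : derivedSeries N k ≠ ⊥ := by
    intro hc
    have : n₀ ≤ k := Nat.find_min' hex hc
    omega
  have hAab : ⁅derivedSeries N k, derivedSeries N k⁆ = ⊥ := by
    rw [← derivedSeries_succ, ← Nat.succ_eq_add_one, ← hk]; exact hn₀
  have hAchar : (derivedSeries N k).Characteristic := derivedSeries_characteristic N k
  have hAnorm : ((derivedSeries N k).map N.subtype).Normal :=
    ConjAct.normal_of_characteristic_of_normal
  -- pick a ≠ 1 in A
  obtain ⟨a₀, ha₀, ha₀1⟩ := (Subgroup.bot_or_exists_ne_one (derivedSeries N k)).resolve_left hAne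
  set A : Subgroup G := (derivedSeries N k).map N.subtype with hA
  have haA : (a₀ : G) ∈ A := ⟨a₀, ha₀, rfl⟩
  have ha1 : (a₀ : G) ≠ 1 := fun hc => ha₀1 (Subtype.ext hc)
  set a : G := (a₀ : G) with ha
  set M : Subgroup G := Subgroup.centralizer ({a} : Set G) with hM
  have hAM : A ≤ M := by
    rintro _ ⟨b, hb, rfl⟩
    rw [hM, Subgroup.mem_centralizer_singleton_iff]
    have hcen := Subgroup.commutator_eq_bot_iff_le_centralizer.mp hAab
    have := hcen hb
    rw [Subgroup.mem_centralizer_iff] at this
    have h2 := this a₀ ha₀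
    have h3 := congrArg Subtype.val h2
    simpa using h3.symm
  have hMnorm : M.Normal := by
    constructor
    intro m hm g
    have hga : g * a * g⁻¹ ∈ A := hAnorm.conj_mem a haA g
    have hga1 : g * a * g⁻¹ ≠ 1 := by
      intro hc
      apply ha1
      have : a = g⁻¹ * (g * a * g⁻¹) * g := by group
      rw [this, hc]; group
    have e := ca_centralizer_eq h ha1 hga1 (hAM hga)
    rw [hM, ← e, ca_centralizer_conj]
    have : g⁻¹ * (g * m * g⁻¹) * g = m := by group
    rw [this]
    exact hm
  by_cases hMtop : M = ⊤
  · apply Group.isSolvable_of_comm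
    intro x y
    exact h a ha1 x (by rw [← hM, hMtop]; trivial) y (by rw [← hM, hMtop]; trivial)
  · have hcop := ca_coprime h ha1
    rw [← hM] at hcop
    obtain ⟨H, hH⟩ := Subgroup.exists_right_complement'_of_coprime hcop
    have e : G ⧸ M ≃* H := hH.symm.QuotientMulEquiv
    have hM1 : 1 < Nat.card M := by
      rw [Subgroup.one_lt_card_iff_ne_bot]
      intro hc
      have : a ∈ M := ca_self_mem a
      rw [hc, Subgroup.mem_bot] at this
      exact ha1 this
    have hcard : Nat.card M * Nat.card H = Nat.card G := hH.card_mul_card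
    have hHlt : Nat.card H < Nat.card G := by
      have hHpos : 0 < Nat.card H := Nat.card_pos
      nlinarith
    have hHsol : Group.IsSolvable H :=
      IH H hHlt (ca_odd_subgroup hodd H) (ca_subgroup h H)
    have hQsol : Group.IsSolvable (G ⧸ M) :=
      Group.isSolvable_of_isSolvable_injective (f := e.toMonoidHom) e.injective
    have hMsol : Group.IsSolvable M := by
      apply Group.isSolvable_of_comm
      intro x y
      exact Subtype.ext (h a ha1 x x.2 y y.2)
    exact Group.isSolvable_of_ker_le_range M.subtype (QuotientGroup.mk' M)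
      (by rw [QuotientGroup.ker_mk', Subgroup.range_subtype])

end Normal

section Burnside

variable {G : Type u} [Group G] [Finite G]

/-- In a non-abelian simple CA-group, the centralizer of a non-identity element is properly
contained in its normalizer (Burnside's transfer theorem). -/
theorem ca_normalizer_ne [IsSimpleGroup G] (h : IsCA G) (hnab : ∃ a b : G, a * b ≠ b * a)
    {x : G} (hx : x ≠ 1) :
    ∃ g ∈ Subgroup.normalizer ((Subgroup.centralizer ({x} : Set G) : Subgroup G) : Set G),
      g ∉ Subgroup.centralizer ({x} : Set G) := by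
  classical
  by_contra hcon
  push Not at hcon
  set M : Subgroup G := Subgroup.centralizer ({x} : Set G) with hM
  have hxM : x ∈ M := ca_self_mem x
  have hM1 : 1 < Nat.card M := by
    rw [Subgroup.one_lt_card_iff_ne_bot]
    intro hc
    rw [hc, Subgroup.mem_bot] at hxM
    exact hx hxM
  obtain ⟨p, hp, hpd⟩ := Nat.exists_prime_and_dvd hM1.ne'
  have : Fact p.Prime := ⟨hp⟩
  obtain ⟨P, hP⟩ := ca_sylow_le h hx hpd
  have hpG : p ∣ Nat.card G := hpd.trans (Subgroup.card_subgroup_dvd_card M)
  have hPcard : 1 < Nat.card (P : Subgroup G) := by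
    rw [P.card_eq_multiplicity]
    apply Nat.one_lt_pow _ hp.one_lt
    have : 0 < (Nat.card G).factorization p :=
      hp.factorization_pos_of_dvd Nat.card_pos.ne' hpG
    omega
  have hPne : (P : Subgroup G) ≠ ⊥ := (Subgroup.one_lt_card_iff_ne_bot _).mp hPcard
  obtain ⟨z, hzP, hz1⟩ := (Subgroup.bot_or_exists_ne_one (P : Subgroup G)).resolve_left hPne
  have hzM : z ∈ M := hP hzP
  have hNC : Subgroup.normalizer ((P : Subgroup G) : Set G)
      ≤ Subgroup.centralizer ((P : Subgroup G) : Set G) := by
    intro g hg
    have hgz : g * z * g⁻¹ ∈ (P : Subgroup G) := (Subgroup.mem_normalizer_iff.mp hg z).mp hzP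
    have hgz1 : g * z * g⁻¹ ≠ 1 := by
      intro hc
      apply hz1
      have : z = g⁻¹ * (g * z * g⁻¹) * g := by group
      rw [this, hc]; group
    have e1 := ca_centralizer_eq h hx hz1 hzM
    have e2 := ca_centralizer_eq h hx hgz1 (hP hgz)
    have hgN : g ∈ Subgroup.normalizer ((M : Subgroup G) : Set G) := by
      rw [Subgroup.mem_normalizer_iff]
      intro a
      have h1 : a ∈ M ↔ a ∈ Subgroup.centralizer ({z} : Set G) := by rw [e1]
      have h2 : g * a * g⁻¹ ∈ M ↔
          g * a * g⁻¹ ∈ Subgroup.centralizer ({g * z * g⁻¹} : Set G) := by rw [e2]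
      rw [h1, h2, ca_centralizer_conj]
      have : g⁻¹ * (g * a * g⁻¹) * g = a := by group
      rw [this]
    have hgM : g ∈ M := hcon g hgN
    rw [Subgroup.mem_centralizer_iff]
    intro b hb
    exact h x hx b (hP hb) g hgM
  have hcompl := MonoidHom.ker_transferSylow_isComplement' P hNC
  have hKn : (MonoidHom.transferSylow P hNC).ker.Normal := MonoidHom.normal_ker _
  have hcard := hcompl.card_mul_card
  rcases hKn.eq_bot_or_eq_top with hK | hK
  · rw [hK, Subgroup.card_bot, one_mul] at hcard
    have hPtop : (P : Subgroup G) = ⊤ := Subgroup.eq_top_of_card_eq _ hcard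
    obtain ⟨a, b, hab⟩ := hnab
    apply hab
    exact h x hx a (hP (by rw [hPtop]; trivial)) b (hP (by rw [hPtop]; trivial))
  · rw [hK, Subgroup.card_top] at hcard
    have hGpos : 0 < Nat.card G := Nat.card_pos
    nlinarith

end Burnside

section Reduce

/-- Reduction of the CA-theorem for odd order to the non-existence of non-abelian simple
CA-groups of odd order. -/
theorem ca_reduction
    (hsimple : ∀ (G : Type u) [Group G] [Finite G], IsSimpleGroup G → Odd (Nat.card G) → IsCA G →
      (∃ a b : G, a * b ≠ b * a) → False) :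
    ∀ (n : ℕ) (G : Type u) [Group G] [Finite G], Nat.card G = n → Odd (Nat.card G) → IsCA G →
      Group.IsSolvable G := by
  intro n
  induction n using Nat.strong_induction_on with
  | _ n ih =>
    intro G _ _ hn hodd h
    by_cases hab : ∀ a b : G, a * b = b * a
    · exact Group.isSolvable_of_comm hab
    · push Not at hab
      by_cases hs : IsSimpleGroup G
      · exact (hsimple G hs hodd h hab).elim
      · have hnt : Nontrivial G := by
          obtain ⟨a, b, hab'⟩ := hab
          refine ⟨a, b, ?_⟩
          intro hc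
          apply hab'
          rw [hc]
        have : ∃ N : Subgroup G, N.Normal ∧ N ≠ ⊥ ∧ N ≠ ⊤ := by
          by_contra hcon
          push Not at hcon
          apply hs
          refine IsSimpleGroup.mk ?_
          intro H hH
          by_cases hb : H = ⊥
          · exact Or.inl hb
          · exact Or.inr (hcon H hH hb)
        obtain ⟨N, hNn, hN1, hN2⟩ := this
        refine ca_solvable_of_normal hodd h ?_ N hN1 hN2
        intro H _ _ hlt hoddH hH
        exact ih (Nat.card H) (by rw [← hn]; exact hlt) H rfl hoddH hH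

end Reduce

end Cfsg.Agent.Helper75
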