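import Cfsg.Agent.Helper75.CAMain
import Cfsg.Agent.Helper75.CAReduce

/-!
# Suzuki's CA-theorem for groups of odd order (helper75)
-/

set_option autoImplicit false

namespace Cfsg.Agent.Helper75

open Cfsg

universe u

/-- A non-trivial CA-group of odd order is not perfect. -/
theorem ca_commutator_ne_top {G : Type u} [Group G] [Finite G] (hodd : Odd (Nat.card G))
    (h : IsCA G) (hnt : Nontrivial G) : commutator G ≠ ⊤ := by
  classical
  let _ : Fintype G := Fintype.ofFinite G
  obtain ⟨χ, hχ, h1, a, b, hab⟩ := ca_exists_linear hodd h hnt
  intro htop
  apply hab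
  have hall : ∀ u : G, χ u = 1 := fun u =>
    Helper79.isCharacter_linear_commutator (Helper74.isCharacter_of_isIrr hχ) h1
      (by rw [htop]; trivial)
  rw [hall a, hall b]

/-- **Suzuki's CA-theorem** for groups of odd order. -/
theorem ca_solvable : ∀ (n : ℕ) (G : Type u) [Group G] [Finite G], Nat.card G = n →
    Odd (Nat.card G) → IsCA G → Group.IsSolvable G := by
  intro n
  induction n using Nat.strong_induction_on with
  | _ n ih =>
    intro G _ _ hn hodd h
    by_cases hsub : Subsingleton G
    · exact Group.isSolvable_of_comm (fun a b => Subsingleton.elim _ _)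
    · have hnt : Nontrivial G := not_subsingleton_iff_nontrivial.mp hsub
      have hne := ca_commutator_ne_top hodd h hnt
      have hlt := ca_card_lt_of_ne_top (commutator G) hne
      have hsolH : Group.IsSolvable (commutator G) :=
        ih _ (by rw [← hn]; exact hlt) (commutator G) rfl (ca_odd_subgroup hodd _)
          (ca_subgroup h _)
      have hsolQ : Group.IsSolvable (G ⧸ commutator G) :=
        (inferInstance : Group.IsSolvable (Abelianization G))
      exact Group.isSolvable_of_ker_le_range (commutator G).subtype
        (QuotientGroup.mk' (commutator G))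
        (by rw [QuotientGroup.ker_mk', Subgroup.range_subtype])

end Cfsg.Agent.Helper75
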