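import Mathlib
import Cfsg.Prelude.Def_OddOrderLocal
import Cfsg.Agent.Helper75.BG1436A
import Cfsg.Agent.Helper25.PF8
import Cfsg.Agent.Helper64.BG157B

/-!
# B-G Theorem 14.4(c) (statement S1436(a)): `κ(M) = ∅` (helper75)

`x ∈ M_σ#` with `C_G(x) ≰ M`, `N` the maximal subgroup over `C_G(x)`, `r ∈ σ(N)` dividing `|M|`.
Then `κ(M) = ∅`: a `σ`-decomposition `(K, U)` with `K ≠ 1`, `U ≠ 1` makes `F(M) ⊇ M_σ` a TI-subset
(S1372), so `C_G(x) ≤ M`; with `U = 1` the prime `r` lies in `κ(M)`, against helper31's Lemma K.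
-/

set_option autoImplicit false
set_option linter.unusedVariables false
set_option linter.unusedSectionVars false
set_option linter.style.haveILetI false

namespace Cfsg.Agent.Helper75.BG1436

open Cfsg Cfsg.Agent.Helper29 Cfsg.Agent.Helper29.BG10 Cfsg.Agent.Helper29.BG11
  Cfsg.Agent.Helper48.BG142 Cfsg.Agent.Helper31.BG1436Lite

universe u

/-- S1372, quantified over all data -/
def H1372 (G : Type u) [Group G] : Prop :=
  ∀ (M : Subgroup G), IsCoatom M → ∀ K U : Subgroup G, Cfsg.IsSigmaDecomposition M K U →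
    K ≠ ⊥ → U ≠ ⊥ →
    (Nat.card K).Prime ∧ Cfsg.IsTISubset (Cfsg.fittingOf M : Set G) ∧
      Cfsg.sigmaCore M ≤ Cfsg.fittingOf M

variable {G : Type u} [Group G] [Finite G]

/-- a TI Fitting subgroup containing `x ≠ 1` forces `C_G(x) ≤ M` -/
theorem centralizer_le_of_ti (hG : Cfsg.IsMinSimpleOddOrder G) {M : Subgroup G} (hM : IsCoatom M)
    (hTI : Cfsg.IsTISubset (Cfsg.fittingOf M : Set G)) {x : G} (hx : x ∈ Cfsg.fittingOf M)
    (hx1 : x ≠ 1) : Subgroup.centralizer ({x} : Set G) ≤ M := by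
  haveI : IsSimpleGroup G := hG.2.1
  have hFM : Cfsg.fittingOf M ≤ M := by
    rintro _ ⟨y, -, rfl⟩; exact y.2
  have hnorm : Subgroup.normalizer ((Cfsg.fittingOf M : Subgroup G) : Set G) = M := by
    apply Cfsg.Agent.Helper25.PF8.normalizer_eq_of_invariant hM ⟨x, hx, hx1⟩ hFM
    intro m hm a ha
    obtain ⟨a', ha', rfl⟩ := ha
    refine ⟨⟨m, hm⟩ * a' * ⟨m, hm⟩⁻¹, ?_, rfl⟩
    exact (inferInstance : (fittingSubgroup ↥M).Normal).conj_mem a' ha' ⟨m, hm⟩
  intro c hc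
  by_contra hcM
  have hcn : c ∉ Subgroup.normalizer ((Cfsg.fittingOf M : Subgroup G) : Set G) := by
    rw [hnorm]; exact hcM
  apply hx1
  apply hTI c hcn x hx
  have : c * x = x * c := (Subgroup.mem_centralizer_iff.1 hc x (Set.mem_singleton x)).symm
  rw [this, mul_inv_cancel_right]
  exact hx

/-- **Step 2 of S1436(a)**: `κ(M) = ∅`. -/
theorem kappa_eq_empty (hG : Cfsg.IsMinSimpleOddOrder G) (h30 : H1430 G) (h31 : H1431 G)
    (hSP : HSP G) (h72 : H1372 G) {M N : Subgroup G} (hM : IsCoatom M) (hN : IsCoatom N)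
    (hdec : ∃ K U : Subgroup G, Cfsg.IsSigmaDecomposition M K U)
    {x : G} (hx : x ∈ Cfsg.sigmaCore M) (hx1 : x ≠ 1)
    (hxM : ¬ Subgroup.centralizer ({x} : Set G) ≤ M)
    (hcompl : Cfsg.IsComplIn (M ⊓ N) (Cfsg.sigmaCore N) N)
    (hnc : ∀ g : G, N ≠ M.map (MulAut.conj g).toMonoidHom)
    {r : ℕ} (hr : r ∈ Cfsg.sigma N) (hrM : r ∣ Nat.card M) : Cfsg.kappa M = ∅ := by
  classical
  by_contra hne
  obtain ⟨p, hp⟩ := Set.nonempty_iff_ne_empty.2 hne
  obtain ⟨K, U, hKU⟩ := hdec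
  have hrp : r.Prime := hr.1
  have hK1 : K ≠ ⊥ := by
    intro h
    have h1 := hKU.hall.2.2 p hp.1 hp
    rw [h, Subgroup.relIndex_bot_left] at h1
    exact h1 hp.2.1
  by_cases hU1 : U = ⊥
  · subst hU1
    have hc := Cfsg.Agent.Helper64.BG157B.isComplIn_of_sigmaDecomposition_bot hKU
    have hcard := Cfsg.Agent.Helper60.BGAsm.card_mul_card_isComplIn hc
    rw [← hcard] at hrM
    rcases (Nat.Prime.dvd_mul hrp).1 hrM with h | h
    · exact sigma_inter_kappa_empty hG h30 h31 hSP hM hN hnc hcompl hr (hKU.hall.2.1 r hrp h)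
    · have hrσ : r ∈ Cfsg.sigma M := primes_sigmaCore M r hrp h
      obtain ⟨g, hg⟩ := hSP M N hM hN ⟨r, hrσ, hr⟩
      exact hnc g hg
  · obtain ⟨-, hTI, hle⟩ := h72 M hM K U hKU hK1 hU1
    exact hxM (centralizer_le_of_ti hG hM hTI (hle hx) hx1)

end Cfsg.Agent.Helper75.BG1436
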