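import Mathlib
import Cfsg.Prelude.Def_OddOrderLocal
import Cfsg.Agent.Helper75.BG1436A
import Cfsg.Agent.Helper48.BG147A
import Cfsg.Agent.Helper48.CoprimeGen
import Cfsg.Agent.Helper57.BG145A
import Cfsg.Agent.S1417
import Cfsg.Agent.S1418
import Cfsg.Agent.S1425

/-!
# B-G Theorem 14.4(c) (statement S1436(a)): `τ₂(M) = ∅` (helper75)

`x ∈ M_σ#` with `C_G(x) ≤ N`, `M ∩ N` a complement of `N_σ` in `N`, `q ∈ σ(M) ∩ τ₂(N)`,
`r ∈ σ(N)` dividing `|M|`.  Then `τ₂(M) = ∅` (paper proof: board post #3624, STEP 3).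
-/

set_option autoImplicit false
set_option linter.unusedVariables false
set_option linter.unusedSectionVars false
set_option linter.style.haveILetI false
set_option maxHeartbeats 1000000

namespace Cfsg.Agent.Helper75.BG1436

open Cfsg Cfsg.Agent.Helper29 Cfsg.Agent.Helper29.BG10 Cfsg.Agent.Helper29.BG11
  Cfsg.Agent.Helper48.BG142 Cfsg.Agent.Helper31.BG1436Lite Cfsg.Agent.Helper71.BGHall
  Cfsg.Agent.Helper71.BG11 Cfsg.Agent.Helper60.BGAsm Cfsg.Agent.Helper31.BGNoMutualTau2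

universe u

variable {G : Type u} [Group G] [Finite G]

theorem mem_centralizer_singleton_iff' {a c : G} :
    c ∈ Subgroup.centralizer ({a} : Set G) ↔ a * c = c * a := by
  rw [Subgroup.mem_centralizer_iff]
  constructor
  · intro h; exact h a rfl
  · rintro h y rfl; exact h

theorem mem_centralizer_zpowers_of_comm {a c : G} (h : a * c = c * a) :
    c ∈ Subgroup.centralizer ((Subgroup.zpowers a : Subgroup G) : Set G) := by
  rw [Subgroup.mem_centralizer_iff]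
  intro y hy
  obtain ⟨k, rfl⟩ := Subgroup.mem_zpowers_iff.1 hy
  have h1 : Commute a c := h
  exact (h1.zpow_left k).eq

theorem orderOf_eq_prime_of_pow {s : ℕ} (hs : s.Prime) {b : G} (hb : b ^ s = 1) (hb1 : b ≠ 1) :
    orderOf b = s := by
  rcases (Nat.dvd_prime hs).1 (orderOf_dvd_of_pow_eq_one hb) with h | h
  · exact absurd (orderOf_eq_one_iff.1 h) hb1
  · exact h

/-- coprimality of `|M_σ|` and the order of a complement -/
theorem coprime_card_sigmaCore_compl (hG : Cfsg.IsMinSimpleOddOrder G) {M E : Subgroup G}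
    (hM : IsCoatom M) (hE : Cfsg.IsComplIn E (Cfsg.sigmaCore M) M) :
    (Nat.card (Cfsg.sigmaCore M)).Coprime (Nat.card E) := by
  have hH := isPiHallOf_of_isComplIn hG hM hE
  apply Nat.coprime_of_dvd
  intro k hk hk1 hk2
  exact (hH.2.1 k hk hk2).2 (primes_sigmaCore M k hk hk1)

/-- **Step 3 of S1436(a)**: `τ₂(M) = ∅`. -/
theorem tau2_eq_empty (hG : Cfsg.IsMinSimpleOddOrder G) (h30 : H1430 G) (h31 : H1431 G)
    (h32 : H1432 G) (hSP : HSP G) (hD : Cfsg.Agent.Helper57.BG145.HData G)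
    {M N : Subgroup G} (hM : IsCoatom M) (hN : IsCoatom N)
    {x : G} (hx : x ∈ Cfsg.sigmaCore M) (hx1 : x ≠ 1)
    (hxN : Subgroup.centralizer ({x} : Set G) ≤ N)
    (hcompl : Cfsg.IsComplIn (M ⊓ N) (Cfsg.sigmaCore N) N) {q : ℕ}
    (hqM : q ∈ Cfsg.sigma M) (hqN : q ∈ Cfsg.tau2 N)
    {r : ℕ} (hr : r ∈ Cfsg.sigma N) (hrM : r ∣ Nat.card M) : Cfsg.tau2 M = ∅ := by
  classical
  have hU := uniquenessThm hG
  by_contra hne
  obtain ⟨s, hs⟩ := Set.nonempty_iff_ne_empty.2 hne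
  have hsp : s.Prime := hs.1
  haveI : Fact s.Prime := ⟨hsp⟩
  have hrp : r.Prime := hr.1
  haveI : Fact r.Prime := ⟨hrp⟩
  haveI : Group.IsSolvable ↥M := hG.2.2.2 M hM.1
  have hnc := not_conj_of_sigma_tau2 (G := G) hqM hqN
  have hrσM : r ∉ Cfsg.sigma M := by
    intro h
    obtain ⟨g, hg⟩ := hSP M N hM hN ⟨r, h, hr⟩
    exact hnc g hg
  have hsσM : s ∉ Cfsg.sigma M := hs.2.1
  have hSM1 : Cfsg.sigmaCore M ≠ ⊥ := by
    intro h; rw [h, Subgroup.mem_bot] at hx; exact hx1 hx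
  -- the elementary abelian subgroup `B`
  obtain ⟨B, hBM, hBe, hBc⟩ := exists_ea2_of_mem_tau2 hs
  have hBcomm : ∀ u ∈ B, ∀ v ∈ B, u * v = v * u := by
    intro u hu v hv
    have := hBe.1
    have h1 := mul_comm' (⟨u, hu⟩ : ↥B) ⟨v, hv⟩
    exact congrArg Subtype.val h1
  have hBexp : ∀ b ∈ B, b ^ s = 1 := hBe.2
  have hBp : IsPGroup s B := BG10.isPGroup_of_isElementaryAbelian hBe
  obtain ⟨hnil, -, -, hCB, -, -⟩ := Cfsg.Agent.S1417.result hG M hM s hs B ⟨hBM, hBe, hBc⟩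
  have hsolvS : Group.IsSolvable ↥(Cfsg.sigmaCore M) := by
    haveI := hnil; infer_instance
  have hMnS : M ≤ Subgroup.normalizer ((Cfsg.sigmaCore M : Subgroup G) : Set G) :=
    BG11.le_normalizer_sigmaCore M
  have hsS : ¬ s ∣ Nat.card (Cfsg.sigmaCore M) := fun h => hsσM (primes_sigmaCore M s hsp h)
  -- some `b₀ ∈ B#` has a fixed point on `M_σ`
  obtain ⟨b₀, hb₀B, hb₀1, z, hzS, hz1, hzb⟩ : ∃ b₀ ∈ B, b₀ ≠ 1 ∧ ∃ z ∈ Cfsg.sigmaCore M, z ≠ 1 ∧
      b₀ * z = z * b₀ := by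
    by_contra hcon
    push Not at hcon
    apply hSM1
    have hgen := Cfsg.Agent.Helper48.le_cgen (p := s) (Cfsg.sigmaCore M) B hsS (hBM.trans hMnS)
      ⟨hBcomm, hBexp, hBc⟩
    rw [eq_bot_iff]
    refine hgen.trans ?_
    unfold Cfsg.Agent.Helper48.cgen
    apply iSup_le
    rintro ⟨a, haB, ha1⟩ y hy
    rw [Subgroup.mem_bot]
    by_contra hy1
    exact hcon a haB ha1 y hy.1 hy1 (mem_centralizer_singleton_iff'.1 hy.2)
  have hb₀M : b₀ ∈ M := hBM hb₀B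
  have hb₀o : orderOf b₀ = s := orderOf_eq_prime_of_pow hsp (hBexp b₀ hb₀B) hb₀1
  -- S1432 for `(M, z, b₀)`
  have hb₀z : b₀ ∈ M ⊓ Subgroup.centralizer ({z} : Set G) :=
    Subgroup.mem_inf.2 ⟨hb₀M, mem_centralizer_singleton_iff'.2 hzb.symm⟩
  have hσb₀ : ∀ p : ℕ, p.Prime → p ∣ orderOf b₀ → p ∉ Cfsg.sigma M := by
    intro p hp hd
    rw [hb₀o] at hd
    rw [(Nat.prime_dvd_prime_iff_eq hp hsp).1 hd]; exact hsσM
  obtain ⟨L₀, hL₀, hsL₀, hCb₀M, hb₀uniq⟩ : ∃ L₀ : Subgroup G, IsCoatom L₀ ∧ s ∈ Cfsg.sigma L₀ ∧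
      Subgroup.centralizer ({b₀} : Set G) ≤ M ∧
      ∀ L : Subgroup G, IsCoatom L → Subgroup.centralizer ({b₀} : Set G) ≤ L → L = M := by
    rcases h32 M hM z hzS hz1 b₀ hb₀z hb₀1 hσb₀ with ⟨hκ, -⟩ | ⟨-, ⟨L₀, hL₀, hL₀s⟩, h1, h2⟩
    · exfalso
      have hsκ : s ∈ Cfsg.kappa M := hκ s hsp (by rw [hb₀o])
      -- a cyclic Sylow `s`-subgroup cannot contain `B`
      have hBs : IsPGroup s (B.subgroupOf M) := hBp.comap_subtype
      obtain ⟨P, hP⟩ := hBs.exists_le_sylow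
      haveI : IsCyclic ↥(P : Subgroup ↥M) := (hsκ.2.2.2 P).1
      have hcyc : IsCyclic ↥(B.subgroupOf M) :=
        isCyclic_of_injective (Subgroup.inclusion hP) (Subgroup.inclusion_injective hP)
      have hexp : Monoid.exponent ↥(B.subgroupOf M) ∣ s := by
        apply Monoid.exponent_dvd_of_forall_pow_eq_one
        rintro ⟨⟨b, hbM⟩, hb⟩
        apply Subtype.ext; apply Subtype.ext
        simp only [Subgroup.coe_pow, Subgroup.coe_one]
        exact hBexp b (Subgroup.mem_subgroupOf.1 hb)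
      rw [IsCyclic.exponent_eq_card, Cfsg.Agent.Helper1.card_subgroupOf_of_le hBM, hBc] at hexp
      have : s ^ 2 ≤ s := Nat.le_of_dvd hsp.pos hexp
      nlinarith [hsp.two_le]
    · exact ⟨L₀, hL₀, hL₀s s hsp (by rw [hb₀o]), h1, h2⟩
  -- conjugate `L₀` so that `B ≤ L_σ`
  have hB1 : B ≠ ⊥ := by
    intro h; rw [h, Subgroup.mem_bot] at hb₀B; exact hb₀1 hb₀B
  obtain ⟨g, hg⟩ := Cfsg.Agent.S1425.result hG L₀ hL₀ B hB1 (by
    intro p hp hd
    rw [hBc] at hd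
    have := (Nat.prime_dvd_prime_iff_eq hp hsp).1 (hp.dvd_of_dvd_pow hd)
    rw [this]; exact hsL₀)
  set L : Subgroup G := cj g⁻¹ L₀ with hLdef
  have hL : IsCoatom L := BG11.isCoatom_cj hL₀ g⁻¹
  have hsL : s ∈ Cfsg.sigma L := by rw [hLdef, BG11.sigma_cj]; exact hsL₀
  have hBL : B ≤ Cfsg.sigmaCore L := by
    rw [hLdef, BG11.sigmaCore_cj hG hU hL₀ g⁻¹]
    intro b hb
    rw [BG10.mem_cj, inv_inv]
    exact hg ⟨b, hb, by simp [MulAut.conj_apply]⟩
  have hLM : L ≠ M := by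
    intro h; rw [h] at hsL; exact hsσM hsL
  haveI : Group.IsSolvable ↥L := hG.2.2.2 L hL.1
  have hb₀L : b₀ ∈ Cfsg.sigmaCore L := hBL hb₀B
  have hCb₀L : ¬ Subgroup.centralizer ({b₀} : Set G) ≤ L := fun h => hLM (hb₀uniq L hL h)
  -- `(L, b₀, M)` is a bad triple: `E := L ∩ M` complements `M_σ`
  obtain ⟨N', hN', hCN', hN'u, -, -, hEc⟩ := hD L hL b₀ hb₀L hb₀1 hCb₀L
  have hN'M : N' = M := hb₀uniq N' hN' hCN'
  rw [hN'M] at hEc
  set E : Subgroup G := L ⊓ M with hEdef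
  have hBE : B ≤ E := le_inf (hBL.trans (BG11.sigmaCore_le L)) hBM
  obtain ⟨⟨hEB, -⟩, -, h18c⟩ := Cfsg.Agent.S1418.result hG M hM E hEc s hs B ⟨hBE, hBe, hBc⟩
  have hcopSE := coprime_card_sigmaCore_compl hG hM hEc
  -- an element `r1 ∈ E` of order `r`
  have hrE : r ∣ Nat.card E := by
    have h1 := card_mul_card_isComplIn hEc
    rw [← h1] at hrM
    rcases (Nat.Prime.dvd_mul hrp).1 hrM with h | h
    · exact h
    · exact absurd (primes_sigmaCore M r hrp h) hrσM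
  obtain ⟨r1', hr1'⟩ := exists_prime_orderOf_dvd_card' (G := ↥E) r hrE
  set r1 : G := (r1' : G) with hr1def
  have hr1E : r1 ∈ E := r1'.2
  have hr1o : orderOf r1 = r := by rw [hr1def, Subgroup.orderOf_coe]; exact hr1'
  have hr11 : r1 ≠ 1 := by
    intro h; rw [h, orderOf_one] at hr1o; exact hrp.one_lt.ne hr1o
  have hr1M : r1 ∈ M := hr1E.2
  have hr1L : r1 ∈ L := hr1E.1
  -- Step 1 (helper31): `r1` is f.p.f. on `M_σ`
  have hfpf : Cfsg.sigmaCore M ⊓ Subgroup.centralizer ({r1} : Set G) = ⊥ :=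
    centralizer_eq_bot_of_sigma hG h30 h31 h32 hSP hM hN hcompl hqM hqN hr hr1M hr1o
  have hfpfS : ∀ h ∈ Cfsg.sigmaCore M, r1 * h = h * r1 → h = 1 := by
    intro h hh hc
    have : h ∈ Cfsg.sigmaCore M ⊓ Subgroup.centralizer ({r1} : Set G) :=
      Subgroup.mem_inf.2 ⟨hh, mem_centralizer_singleton_iff'.2 hc⟩
    rwa [hfpf, Subgroup.mem_bot] at this
  have hr1S : ∀ h ∈ Cfsg.sigmaCore M, r1 * h * r1⁻¹ ∈ Cfsg.sigmaCore M := fun h hh =>
    (Subgroup.mem_normalizer_iff.1 (hMnS hr1M) h).1 hh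
  have hr1B : r1 ∈ Subgroup.normalizer (B : Set G) := hEB hr1E
  have hrs : r ≠ s := by
    rintro rfl
    -- `r = s ∈ σ(L) ∩ σ(N)`
    obtain ⟨g', hg'⟩ := hSP L N hL hN ⟨r, hsL, hr⟩
    have hsN : r ∈ Cfsg.sigma N := hr
    exact no_mutual_tau2 hG hM hN hqM hqN hsN hs
  -- `r ∉ σ(L)`
  have hrσL : r ∉ Cfsg.sigma L := by
    intro h
    obtain ⟨g', hg'⟩ := hSP L N hL hN ⟨r, h, hr⟩
    have hsN : s ∈ Cfsg.sigma N := by
      have : Cfsg.sigma N = Cfsg.sigma L := by rw [hg']; exact BG11.sigma_cj g' L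
      rw [this]; exact hsL
    exact no_mutual_tau2 hG hM hN hqM hqN hsN hs
  -- coprimality for Frobenius actions inside `E`
  have hcop_of : ∀ F : Subgroup G, F ≤ B →
      (Nat.card (Cfsg.sigmaCore M)).Coprime (Nat.card ↥(F ⊔ Subgroup.zpowers r1)) := by
    intro F hF
    apply Nat.Coprime.coprime_dvd_right _ hcopSE
    apply Subgroup.card_dvd_of_le
    exact sup_le (hF.trans hBE) (Subgroup.zpowers_le.2 hr1E)
  have hFS_of : ∀ F : Subgroup G, F ≤ B → ∀ f ∈ F, ∀ h ∈ Cfsg.sigmaCore M,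
      f * h * f⁻¹ ∈ Cfsg.sigmaCore M := fun F hF f hf h hh =>
    (Subgroup.mem_normalizer_iff.1 (hMnS (hBM (hF hf))) h).1 hh
  -- the commutator group `F = [B, r1]`
  obtain ⟨F, hFB, hFr1, hFgen, hFfpf⟩ :=
    Cfsg.Agent.Helper69.Nsy.exists_comm_group (s := s) (t := r) hrs B hBp hBcomm r1 hr1o hr1B
  have hFfpf1 : ∀ u ∈ F, r1 * u = u * r1 → u = 1 := by
    intro u hu hc
    exact hFfpf 1 Nat.one_pos hrp.one_lt u hu (by simpa using hc)
  have hFcent : Cfsg.sigmaCore M ≤ Subgroup.centralizer (F : Set G) :=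
    centralizes_of_frob F (Cfsg.sigmaCore M) r1 hrp hr1o hFr1 hFfpf1 (hFS_of F hFB) hr1S hsolvS
      (hcop_of F hFB) hfpfS
  -- `C_B(r1)`
  by_cases hB1 : ∀ b ∈ B, r1 * b = b * r1 → b = 1
  · -- `r1` is f.p.f. on `B`: `B` centralizes `M_σ`
    have hr1Bc : ∀ u ∈ B, r1 * u * r1⁻¹ ∈ B := fun u hu =>
      (Subgroup.mem_normalizer_iff.1 hr1B u).1 hu
    have hBcent : Cfsg.sigmaCore M ≤ Subgroup.centralizer (B : Set G) :=
      centralizes_of_frob B (Cfsg.sigmaCore M) r1 hrp hr1o hr1Bc hB1 (hFS_of B le_rfl) hr1S hsolvS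
        (hcop_of B le_rfl) hfpfS
    apply hSM1
    rw [eq_bot_iff, ← hCB]
    exact le_inf le_rfl hBcent
  push Not at hB1
  obtain ⟨b1, hb1B, hb1c, hb11⟩ := hB1
  have hb1L : b1 ∈ Cfsg.sigmaCore L := hBL hb1B
  have hb1o : orderOf b1 = s := orderOf_eq_prime_of_pow hsp (hBexp b1 hb1B) hb11
  -- S1432 for `(L, b1, r1)`
  have hr1b1 : r1 ∈ L ⊓ Subgroup.centralizer ({b1} : Set G) :=
    Subgroup.mem_inf.2 ⟨hr1L, mem_centralizer_singleton_iff'.2 hb1c.symm⟩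
  have hσr1 : ∀ p : ℕ, p.Prime → p ∣ orderOf r1 → p ∉ Cfsg.sigma L := by
    intro p hp hd
    rw [hr1o] at hd
    rw [(Nat.prime_dvd_prime_iff_eq hp hrp).1 hd]; exact hrσL
  have hrκL : r ∈ Cfsg.kappa L := by
    rcases h32 L hL b1 hb1L hb11 r1 hr1b1 hr11 hσr1 with ⟨hκ, -⟩ | ⟨hτ, -, -⟩
    · exact hκ r hrp (by rw [hr1o])
    · exfalso
      have hrτ : r ∈ Cfsg.tau2 L := hτ r hrp (by rw [hr1o])
      have h1 : s < q :=
        lt_of_mem_sigma_of_mem_tau2 hG hM hqM (not_mem_beta_of_mem_tau2 hG hN hqN M) hs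
      have h2 : q < r :=
        lt_of_mem_sigma_of_mem_tau2 hG hN hr (not_mem_beta_of_mem_tau2 hG hL hrτ N) hqN
      have h3 : r < s :=
        lt_of_mem_sigma_of_mem_tau2 hG hL hsL (not_mem_beta_of_mem_tau2 hG hM hs L) hrτ
      omega
  -- the Hall `κ(L)`-subgroup through `r1`, and the second maximal subgroup `H`
  set X : Subgroup G := Subgroup.zpowers r1 with hXdef
  have hXcard : Nat.card X = r := by rw [hXdef, Nat.card_zpowers, hr1o]
  have hXL : X ≤ L := by rw [hXdef, Subgroup.zpowers_le]; exact hr1L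
  obtain ⟨KL, hKL, hXKL⟩ := exists_isPiHallOf_ge (Cfsg.kappa L) L hXL (by
    intro p hp hd
    rw [hXcard] at hd
    rw [(Nat.prime_dvd_prime_iff_eq hp hrp).1 hd]; exact hrκL)
  have hr1KL : r1 ∈ KL := hXKL (Subgroup.mem_zpowers r1)
  have hKL1 : KL ≠ ⊥ := by
    intro h; rw [h, Subgroup.mem_bot] at hr1KL; exact hr11 hr1KL
  have hX1 : X ≠ ⊥ := by
    intro h
    have : r1 ∈ X := Subgroup.mem_zpowers r1
    rw [h, Subgroup.mem_bot] at this; exact hr11 this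
  have hX2 : X ≠ ⊤ := by
    intro h; rw [h] at hXL; exact hL.1 (top_le_iff.1 hXL)
  obtain ⟨H, hH, hNH⟩ := exists_coatom_normalizer_le hG hX1 hX2
  obtain ⟨K₁, hS⟩ := Cfsg.Agent.Helper48.BG147.exists_second hG hU h30 h31 h32 hL hKL hXKL
    (by rw [hXcard]; exact hrp) hH hNH
  have hb1k : b1 ∈ Cfsg.sigmaCore L ⊓ Subgroup.centralizer (KL : Set G) := by
    rw [← (h30 L hL KL hKL hKL1).1 r1 hr1KL hr11]
    exact Subgroup.mem_inf.2 ⟨hb1L, mem_centralizer_singleton_iff'.2 hb1c⟩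
  have hb1K₁ : b1 ∈ K₁ := hS.kst_le hb1k
  have hsκH : s ∈ Cfsg.kappa H := by
    apply hS.hall.2.1 s hsp
    rw [← hb1o]
    exact Subgroup.orderOf_dvd_natCard K₁ hb1K₁
  have hXσH : X ≤ Cfsg.sigmaCore H := hS.X_le.trans inf_le_left
  have hrH : r ∈ Cfsg.sigma H := prime_mem_sigma_of_dvd_card_sigmaCore H hrp (by
    rw [← hXcard]; exact Subgroup.card_dvd_of_le hXσH)
  obtain ⟨h, hh⟩ := hSP N H hN hH ⟨r, hr, hrH⟩
  have hHcj : H = BG10.cj h N := hh
  haveI : Group.IsSolvable ↥H := hG.2.2.2 H hH.1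
  -- is `F` trivial?
  by_cases hF1 : F = ⊥
  · -- `r1` centralizes `B ∋ b₀`: helper31's (ii)
    have hcb₀ : b₀ * r1 = r1 * b₀ := by
      have h1 := hFgen b₀ hb₀B
      rw [hF1, Subgroup.mem_bot] at h1
      have h2 : r1 * b₀ * r1⁻¹ = b₀ := by
        rw [mul_inv_eq_one] at h1; exact h1
      calc b₀ * r1 = (r1 * b₀ * r1⁻¹) * r1 := by rw [h2]
        _ = r1 * b₀ := by group
    have h2 := centralizer_eq_bot_of_commute hG h30 h31 h32 hSP hM hN hcompl hqM hqN hr hr1M hr1o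
      hb₀M hcb₀ (by rw [hb₀o]; exact hsp) (by rw [hb₀o]; exact hsσM)
    apply hz1
    have : z ∈ Cfsg.sigmaCore M ⊓ Subgroup.centralizer ({b₀} : Set G) :=
      Subgroup.mem_inf.2 ⟨hzS, mem_centralizer_singleton_iff'.2 hzb⟩
    rwa [h2, Subgroup.mem_bot] at this
  -- `F ≠ 1`: an element `b ∈ F#` centralizing `M_σ ∋ x`
  obtain ⟨b, hbF, hb1⟩ : ∃ b ∈ F, b ≠ 1 := by
    by_contra hcon
    push Not at hcon
    apply hF1
    rw [eq_bot_iff]
    intro y hy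
    rw [Subgroup.mem_bot]; exact hcon y hy
  have hbB : b ∈ B := hFB hbF
  have hbo : orderOf b = s := orderOf_eq_prime_of_pow hsp (hBexp b hbB) hb1
  have hbx : b * x = x * b := by
    have := Subgroup.mem_centralizer_iff.1 (hFcent hx) b hbF
    exact this
  have hbN : b ∈ N := hxN (mem_centralizer_singleton_iff'.2 hbx.symm)
  -- transport to `H = cj h N`
  set b' : G := h * b * h⁻¹ with hb'def
  have hb'H : b' ∈ H := by rw [hHcj]; exact BG10.conj_mem_cj hbN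
  have hb'1 : b' ≠ 1 := by
    intro h1
    apply hb1
    have : b = h⁻¹ * b' * h := by rw [hb'def]; group
    rw [this, h1]; group
  have hb'o : orderOf b' = s := by
    rw [hb'def, ← hbo]
    have := (MulAut.conj h).orderOf_eq b
    rwa [MulAut.conj_apply] at this
  obtain ⟨K₂, hK₂, hYK₂⟩ := exists_isPiHallOf_ge (Cfsg.kappa H) H
    (Y := Subgroup.zpowers b') (by rw [Subgroup.zpowers_le]; exact hb'H) (by
    intro p hp hd
    rw [Nat.card_zpowers, hb'o] at hd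
    rw [(Nat.prime_dvd_prime_iff_eq hp hsp).1 hd]; exact hsκH)
  have hb'K₂ : b' ∈ K₂ := hYK₂ (Subgroup.mem_zpowers b')
  have hK₂1 : K₂ ≠ ⊥ := by
    intro h1; rw [h1, Subgroup.mem_bot] at hb'K₂; exact hb'1 hb'K₂
  have hkst := kstar_ne_bot hG h30 hH hK₂ hK₂1
  rw [← (h30 H hH K₂ hK₂ hK₂1).1 b' hb'K₂ hb'1] at hkst
  obtain ⟨y', hy', hy'1⟩ : ∃ y' ∈ Cfsg.sigmaCore H ⊓ Subgroup.centralizer ({b'} : Set G),
      y' ≠ 1 := by
    by_contra hcon
    push Not at hcon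
    apply hkst
    rw [eq_bot_iff]
    intro y hy
    rw [Subgroup.mem_bot]; exact hcon y hy
  have hy'b : b' * y' = y' * b' := mem_centralizer_singleton_iff'.1 (Subgroup.mem_inf.1 hy').2
  set y : G := h⁻¹ * y' * h with hydef
  have hyN : y ∈ Cfsg.sigmaCore N := by
    have h1 := (Subgroup.mem_inf.1 hy').1
    rw [hHcj, BG11.sigmaCore_cj hG hU hN h, BG10.mem_cj] at h1
    exact h1
  have hy1 : y ≠ 1 := by
    intro h1
    apply hy'1
    have : y' = h * y * h⁻¹ := by rw [hydef]; group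
    rw [this, h1]; group
  have hyb : b * y = y * b := by
    have e1 : b * y = h⁻¹ * (b' * y') * h := by rw [hb'def, hydef]; group
    have e2 : y * b = h⁻¹ * (y' * b') * h := by rw [hb'def, hydef]; group
    rw [e1, e2, hy'b]
  -- `C_G(⟨b⟩) ≤ M` by S1418
  have hXb : Subgroup.zpowers b ≤ B := by rw [Subgroup.zpowers_le]; exact hbB
  have hXbc : Nat.card (Subgroup.zpowers b) = s := by rw [Nat.card_zpowers, hbo]
  have hXbfix : Cfsg.sigmaCore M ⊓ Subgroup.centralizer ((Subgroup.zpowers b : Subgroup G) : Set G)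
      ≠ ⊥ := by
    intro h1
    have : x ∈ Cfsg.sigmaCore M ⊓
        Subgroup.centralizer ((Subgroup.zpowers b : Subgroup G) : Set G) :=
      Subgroup.mem_inf.2 ⟨hx, mem_centralizer_zpowers_of_comm hbx⟩
    rw [h1, Subgroup.mem_bot] at this
    exact hx1 this
  have hCbM := (h18c (Subgroup.zpowers b) hXb hXbc hXbfix).1
  have hyM : y ∈ M := hCbM (mem_centralizer_zpowers_of_comm hyb)
  have : y ∈ (M ⊓ N) ⊓ Cfsg.sigmaCore N :=
    Subgroup.mem_inf.2 ⟨Subgroup.mem_inf.2 ⟨hyM, BG11.sigmaCore_le N hyN⟩, hyN⟩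
  rw [hcompl.2.2.1, Subgroup.mem_bot] at this
  exact hy1 this

end Cfsg.Agent.Helper75.BG1436
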