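import Mathlib
import Cfsg.Agent.Helper75.BG1436C
import Cfsg.Agent.Helper31.BG1436Data

/-!
# S1436(a), `τ₂` part, `x`-shaped (helper75)

`x ∈ M_σ#` with `C_G(x) ≰ M`, `N` a maximal subgroup over `C_G(x)`, `r ∈ σ(N)` dividing `|M|`:
then `τ₂(M) = ∅`.  Hypotheses in the shapes of helper31's `BG1436Lite` (`H1430 H1431 H1432 HSP H1375`).
-/

set_option autoImplicit false
set_option linter.unusedVariables false
set_option linter.unusedSectionVars false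

namespace Cfsg.Agent.Helper75.BG1436

open Cfsg Cfsg.Agent.Helper48.BG142 Cfsg.Agent.Helper31.BG1436Lite

universe u

variable {G : Type u} [Group G] [Finite G]

/-- **S1436(a), `τ₂` part, `x`-shaped**. -/
theorem tau2_eq_empty' (hG : Cfsg.IsMinSimpleOddOrder G) (h30 : H1430 G)
    (h31 : H1431 G) (h32 : H1432 G) (hSP : HSP G) (h75 : H1375 G) {M N : Subgroup G}
    (hM : IsCoatom M) (hN : IsCoatom N) {x : G} (hx : x ∈ Cfsg.sigmaCore M) (hx1 : x ≠ 1)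
    (hxM : ¬ Subgroup.centralizer ({x} : Set G) ≤ M)
    (hxN : Subgroup.centralizer ({x} : Set G) ≤ N) {r : ℕ} (hr : r ∈ Cfsg.sigma N)
    (hrM : r ∣ Nat.card ↥M) : Cfsg.tau2 M = ∅ := by
  obtain ⟨hcompl, hq⟩ := data_of_1375 hG h30 h32 h75 hM hN hx hx1 hxM hxN
  have hox : orderOf x ≠ 1 := fun h => hx1 (orderOf_eq_one_iff.1 h)
  obtain ⟨q, hqp, hqd⟩ := Nat.exists_prime_and_dvd hox
  obtain ⟨hqM, hqN⟩ := hq q hqp hqd
  have hD : Cfsg.Agent.Helper57.BG145.HData G := Cfsg.Agent.Helper57.BG145.hData_of h75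
  exact tau2_eq_empty hG h30 h31 h32 hSP hD hM hN hx hx1 hxN hcompl hqM hqN hr hrM

/-- **S1436(a)** in full, `x`-shaped: `κ(M) = ∅` (helper31) and `τ₂(M) = ∅`. -/
theorem kappa_tau2_eq_empty (hG : Cfsg.IsMinSimpleOddOrder G) (h30 : H1430 G)
    (h31 : H1431 G) (h32 : H1432 G) (hSP : HSP G) (h75 : H1375 G) {M N : Subgroup G}
    (hM : IsCoatom M) (hN : IsCoatom N) {x : G} (hx : x ∈ Cfsg.sigmaCore M) (hx1 : x ≠ 1)
    (hxM : ¬ Subgroup.centralizer ({x} : Set G) ≤ M)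
    (hxN : Subgroup.centralizer ({x} : Set G) ≤ N)
    (h : ∃ p ∈ Cfsg.sigma N, p ∣ Nat.card ↥M) : Cfsg.kappa M = ∅ ∧ Cfsg.tau2 M = ∅ := by
  obtain ⟨r, hr, hrM⟩ := h
  exact ⟨kappa_eq_empty' hG h30 h31 h32 hSP h75 hM hN hx hx1 hxM hxN hr hrM,
    tau2_eq_empty' hG h30 h31 h32 hSP h75 hM hN hx hx1 hxM hxN hr hrM⟩

end Cfsg.Agent.Helper75.BG1436
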