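import Cfsg.Prelude.Def_OddOrderLocal
import Cfsg.Agent.Helper23.FittingHall
import Cfsg.Agent.Helper29.BG11A

/-!
Core lemma for S1389: a subgroup `T ≤ M` all of whose primes lie in `σ(M)` and which is a Hall
subgroup of `M` has Sylow normalizers inside `M` and is a Hall subgroup of `G`.
-/

set_option autoImplicit false
open Cfsg

namespace Cfsg.Agent.Helper75.BGTypeCore

open Cfsg.Agent.Helper29.BG10 Cfsg.Agent.Helper29.BG11

variable {G : Type*} [Group G] [Finite G]

theorem coprime_index_of_hall {M T : Subgroup G} (hTM : T ≤ M)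
    (hprimes : ∀ p : ℕ, p.Prime → p ∣ Nat.card T → p ∈ Cfsg.sigma M)
    (hHallM : (Nat.card T).Coprime (T.relIndex M))
    (hMs : Cfsg.IsPiHall (Cfsg.sigma M) (Cfsg.sigmaCore M)) :
    (Nat.card T).Coprime T.index := by
  apply Nat.coprime_of_dvd
  intro q hq hqT hqi
  have hqσ := hprimes q hq hqT
  have h1 : T.relIndex M * M.index = T.index := Subgroup.relIndex_mul_index hTM
  rw [← h1] at hqi
  rcases (Nat.Prime.dvd_mul hq).1 hqi with h | h
  · exact (Nat.Prime.coprime_iff_not_dvd hq).1
      (Nat.Coprime.coprime_dvd_left hqT hHallM) h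
  · have h2 : M.index ∣ (Cfsg.sigmaCore M).index :=
      Subgroup.index_dvd_of_le (sigmaCore_le M)
    exact hMs.2 q hq hqσ (h.trans h2)

theorem normalizer_sylow_le {M T : Subgroup G} (hTM : T ≤ M)
    (hprimes : ∀ p : ℕ, p.Prime → p ∣ Nat.card T → p ∈ Cfsg.sigma M)
    (hHallM : (Nat.card T).Coprime (T.relIndex M))
    (p : ℕ) (hp : p.Prime) (P : Sylow p ↥T) (hP : (P : Subgroup ↥T) ≠ ⊥) :
    Subgroup.normalizer ((((P : Subgroup ↥T).map T.subtype : Subgroup G)) : Set G) ≤ M := by
  haveI : Fact p.Prime := ⟨hp⟩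
  have hpT : p ∣ Nat.card T := by
    by_contra hnd
    apply hP
    have hc : Nat.card (P : Subgroup ↥T) = 1 := by
      obtain ⟨n, hn⟩ := IsPGroup.iff_card.mp P.isPGroup'
      have hdvd : Nat.card (P : Subgroup ↥T) ∣ Nat.card T := Subgroup.card_subgroup_dvd_card _
      rw [hn] at hdvd ⊢
      rcases Nat.eq_zero_or_pos n with h0 | h0
      · simp [h0]
      · exact absurd ((dvd_pow_self p h0.ne').trans hdvd) hnd
    exact Subgroup.card_eq_one.mp hc
  have hpσ := hprimes p hp hpT
  have hS : IsSylowIn p ((P : Subgroup ↥T).map T.subtype) T := isSylowIn_map_sylow P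
  have hS' : IsSylowIn p ((P : Subgroup ↥T).map T.subtype) M := by
    refine ⟨hS.1.trans hTM, hS.2.1, ?_⟩
    rw [← Subgroup.relIndex_mul_relIndex _ _ _ hS.1 hTM]
    intro hd
    rcases (Nat.Prime.dvd_mul hp).1 hd with h | h
    · exact hS.2.2 h
    · exact (Nat.Prime.coprime_iff_not_dvd hp).1
        (Nat.Coprime.coprime_dvd_left hpT hHallM) h
  exact (sylow_of_mem_sigma hpσ hS').1

theorem card_fittingHallOf (M : Subgroup G) :
    Nat.card (Cfsg.fittingHallOf M) = Nat.card (Cfsg.fittingHall ↥M) := by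
  unfold Cfsg.fittingHallOf
  exact Subgroup.card_map_of_injective M.subtype_injective

theorem relIndex_fittingHallOf (M : Subgroup G) :
    (Cfsg.fittingHallOf M).relIndex M = (Cfsg.fittingHall ↥M).index := by
  unfold Cfsg.fittingHallOf
  rw [Subgroup.relIndex, Subgroup.subgroupOf,
    Subgroup.comap_map_eq_self_of_injective M.subtype_injective]

theorem fittingHallOf_le (M : Subgroup G) : Cfsg.fittingHallOf M ≤ M :=
  Subgroup.map_subtype_le _

theorem coprime_fittingHallOf (M : Subgroup G) :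
    (Nat.card (Cfsg.fittingHallOf M)).Coprime ((Cfsg.fittingHallOf M).relIndex M) := by
  rw [card_fittingHallOf, relIndex_fittingHallOf]
  exact Cfsg.Agent.Helper23.fittingHall_coprime ↥M

end Cfsg.Agent.Helper75.BGTypeCore
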