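import Mathlib

/-!
# Arithmetic for the Brauer–Leonard degree bound (helper75)
-/

set_option autoImplicit false

namespace Cfsg.Agent.Helper75

/-- First real inequality: from the fourth-moment estimate. -/
theorem bl_arith1 {g nN cC q e W4 Y s4 c0 : ℝ} (hg : 0 < g) (hcC : 0 < cC) (hq : 0 < q)
    (hN : nN = e * cC) (hW4 : 0 < W4) (hnN : 0 < nN)
    (h1 : nN * W4 ≤ g * (nN - Y + s4)) (h2 : q * s4 ≤ e ^ 2 * Y) (h3 : c0 * cC ≤ Y)
    (hqe : e ^ 2 < q) : (q - e ^ 2) * c0 < q * e := by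
  have h4 : 0 < nN - Y + s4 := by
    by_contra hcon
    push Not at hcon
    have : g * (nN - Y + s4) ≤ 0 := mul_nonpos_of_nonneg_of_nonpos hg.le hcon
    have : 0 < nN * W4 := mul_pos hnN hW4
    linarith
  have h5 : (q - e ^ 2) * Y < q * nN := by nlinarith
  have h6 : (q - e ^ 2) * (c0 * cC) ≤ (q - e ^ 2) * Y :=
    mul_le_mul_of_nonneg_left h3 (by linarith)
  have h7 : ((q - e ^ 2) * c0) * cC < (q * e) * cC := by
    rw [hN] at h5
    nlinarith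
  exact lt_of_mul_lt_mul_right h7 hcC.le

/-- `d = 1`. -/
theorem bl_arith_d {e d q : ℕ} (he : 1 ≤ e) (hq : (e * d) ^ 2 + 1 < q)
    (h : ((q : ℝ) - (e : ℝ) ^ 2) * ((e : ℝ) ^ 2 + 1) < (q : ℝ) * e) : d < 2 := by
  by_contra hd
  push Not at hd
  have heR : (1 : ℝ) ≤ e := by exact_mod_cast he
  have hdR : (2 : ℝ) ≤ d := by exact_mod_cast hd
  have hqR : ((e : ℝ) * d) ^ 2 + 1 < q := by exact_mod_cast hq
  have h4 : 4 * (e : ℝ) ^ 2 + 1 < q := by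
    have : 4 * (e : ℝ) ^ 2 ≤ ((e : ℝ) * d) ^ 2 := by
      have h5 : (4 : ℝ) ≤ (d : ℝ) ^ 2 := by nlinarith
      rw [mul_pow]
      nlinarith [sq_nonneg (e : ℝ)]
    linarith
  -- `q (e² - e + 1) > e² (e² + 1)`
  have h6 : (0 : ℝ) < (e : ℝ) ^ 2 - e + 1 := by nlinarith
  have h7 : (4 * (e : ℝ) ^ 2 + 1) * ((e : ℝ) ^ 2 - e + 1) < (q : ℝ) * ((e : ℝ) ^ 2 - e + 1) :=
    mul_lt_mul_of_pos_right h4 h6
  nlinarith [sq_nonneg ((e : ℝ) - 1), sq_nonneg (e : ℝ), mul_pos (by linarith : (0 : ℝ) < e) (by linarith : (0 : ℝ) < e)]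

/-- `q = e² + e + 1`. -/
theorem bl_arith2 {e q : ℕ} (he : 2 ≤ e) (hdvd : e ∣ q - 1) (hq : e ^ 2 + 1 < q)
    (h : ((q : ℝ) - (e : ℝ) ^ 2) * (e : ℝ) ^ 2 < (q : ℝ) * e) : q = e ^ 2 + e + 1 := by
  obtain ⟨t, ht⟩ := hdvd
  have hq1 : q = e * t + 1 := by omega
  have hte : e < t := by
    by_contra hcon
    push Not at hcon
    have : e * t ≤ e * e := Nat.mul_le_mul_left e hcon
    nlinarith
  -- `(q - e²) e < q`
  have heR : (2 : ℝ) ≤ e := by exact_mod_cast he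
  have h2 : ((q : ℝ) - (e : ℝ) ^ 2) * e < q := by
    have hepos : (0 : ℝ) < e := by linarith
    have : (((q : ℝ) - (e : ℝ) ^ 2) * e) * e < (q : ℝ) * e := by nlinarith
    exact lt_of_mul_lt_mul_right this hepos.le
  have h3 : ((e * t + 1 : ℕ) : ℝ) = (e : ℝ) * t + 1 := by push_cast; ring
  rw [hq1, h3] at h2
  -- `t ≤ e + 1`
  have ht2 : t ≤ e + 1 := by
    by_contra hcon
    push Not at hcon
    have htR : (e : ℝ) + 2 ≤ t := by exact_mod_cast hcon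
    have hee : (0 : ℝ) ≤ (e : ℝ) * ((e : ℝ) - 1) := mul_nonneg (by linarith) (by linarith)
    nlinarith [mul_le_mul_of_nonneg_left htR hee]
  have : t = e + 1 := by omega
  rw [hq1, this]; ring

/-- The boundary case is impossible. -/
theorem bl_arith3 {g k e q nN W4 W2 W0 Y s4 s2 : ℝ} (hg : 0 < g) (hk : 0 < k) (he : 2 ≤ e)
    (hq : q = e ^ 2 + e + 1) (hN : nN = e * (q * k))
    (h1 : nN * W4 ≤ g * (nN - Y + s4)) (hY : e ^ 2 * (q * k) ≤ Y) (hs4 : s4 ≤ e ^ 2 * s2)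
    (hs2 : s2 ≤ e ^ 2 * k) (h2 : nN * (g - W2) = g * (e * (q * k) - s2))
    (h0 : nN * (g - W0) = g * (q * k - k))
    (hpos : (e ^ 3 - 1) ^ 2 ≤ e ^ 2 * W4 - 2 * e * W2 + W0) : False := by
  have hnN : 0 < nN := by rw [hN, hq]; positivity
  have hT2 : nN * W2 = g * s2 := by rw [hN] at h2 ⊢; linarith
  have hT0 : nN * W0 = g * (k * (e * q - q + 1)) := by rw [hN] at h0 ⊢; linarith
  have hb1 : e ^ 2 * (nN - Y + s4) ≤ e ^ 2 * (e * (q * k) - e ^ 2 * (q * k) + e ^ 2 * s2) := by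
    apply mul_le_mul_of_nonneg_left _ (by positivity)
    rw [hN]; linarith
  have he4 : 0 ≤ e ^ 4 - 2 * e := by
    have h8 : (8 : ℝ) ≤ e ^ 3 := by
      have := pow_le_pow_left₀ (by norm_num : (0 : ℝ) ≤ 2) he 3
      linarith
    have : e ^ 4 - 2 * e = e * (e ^ 3 - 2) := by ring
    rw [this]
    exact mul_nonneg (by linarith) (by linarith)
  have hb2 : (e ^ 4 - 2 * e) * s2 ≤ (e ^ 4 - 2 * e) * (e ^ 2 * k) :=
    mul_le_mul_of_nonneg_left hs2 he4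
  have hB : e ^ 2 * (nN - Y + s4) - 2 * e * s2 + k * (e * q - q + 1) ≤ 0 := by
    have e1 : e ^ 2 * (e * (q * k) - e ^ 2 * (q * k) + e ^ 2 * s2) - 2 * e * s2
        + k * (e * q - q + 1)
        = k * (e ^ 3 * q - e ^ 4 * q + e * q - q + 1) + (e ^ 4 - 2 * e) * s2 := by ring
    have e2 : k * (e ^ 3 * q - e ^ 4 * q + e * q - q + 1) + (e ^ 4 - 2 * e) * (e ^ 2 * k) = 0 := by
      rw [hq]; ring
    linarith
  have hgB : g * (e ^ 2 * (nN - Y + s4) - 2 * e * s2 + k * (e * q - q + 1)) ≤ 0 :=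
    mul_nonpos_of_nonneg_of_nonpos hg.le hB
  have hT4 : e ^ 2 * (nN * W4) ≤ e ^ 2 * (g * (nN - Y + s4)) :=
    mul_le_mul_of_nonneg_left h1 (by positivity)
  have hfin : nN * (e ^ 2 * W4 - 2 * e * W2 + W0) ≤ 0 := by
    have : nN * (e ^ 2 * W4 - 2 * e * W2 + W0)
        = e ^ 2 * (nN * W4) - 2 * e * (nN * W2) + nN * W0 := by ring
    rw [this, hT2, hT0]
    have : e ^ 2 * (g * (nN - Y + s4)) - 2 * e * (g * s2) + g * (k * (e * q - q + 1))
        = g * (e ^ 2 * (nN - Y + s4) - 2 * e * s2 + k * (e * q - q + 1)) := by ring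
    linarith
  have he3 : 0 < (e ^ 3 - 1) ^ 2 := by
    have : (7 : ℝ) ≤ e ^ 3 - 1 := by
      have := pow_le_pow_left₀ (by norm_num : (0 : ℝ) ≤ 2) he 3
      linarith
    positivity
  have : 0 < nN * (e ^ 2 * W4 - 2 * e * W2 + W0) := mul_pos hnN (lt_of_lt_of_le he3 hpos)
  linarith

end Cfsg.Agent.Helper75
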