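import Mathlib
import Cfsg.Agent.Helper75.Frobenius

/-!
# The Brauer–Leonard configuration, abstractly (helper75)

`BLSetup P K C N`: `P ≤ C ≤ N`, `P` central in `C`, `K` a complement of `P` in `C`, everything
normalized by `N`, the set `C \ K` is a T.I. set with normalizer `N`, and `N \ C` acts without
fixed points on `P \ {1}`.
-/

set_option autoImplicit false

namespace Cfsg.Agent.Helper75

universe u

variable {G : Type u} [Group G]

structure BLSetup (P K C N : Subgroup G) : Prop where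
  hPC : P ≤ C
  hKC : K ≤ C
  hCN : C ≤ N
  central : ∀ y ∈ P, ∀ c ∈ C, y * c = c * y
  disj : ∀ y ∈ P, y ∈ K → y = 1
  prod : ∀ c ∈ C, ∃ y ∈ P, ∃ k ∈ K, c = y * k
  normP : ∀ n ∈ N, ∀ y ∈ P, n * y * n⁻¹ ∈ P
  normC : ∀ n ∈ N, ∀ c ∈ C, n * c * n⁻¹ ∈ C
  normK : ∀ n ∈ N, ∀ k ∈ K, n * k * n⁻¹ ∈ K
  ti : ∀ g : G, ∀ d ∈ C, d ∉ K → g * d * g⁻¹ ∈ C → g * d * g⁻¹ ∉ K → g ∈ N
  semireg : ∀ n ∈ N, n ∉ C → ∀ y ∈ P, n * y * n⁻¹ = y → y = 1

namespace BLSetup

variable {P K C N : Subgroup G} (S : BLSetup P K C N)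

include S

theorem comm_P {y y' : G} (hy : y ∈ P) (hy' : y' ∈ P) : y * y' = y' * y :=
  S.central y hy y' (S.hPC hy')

/-- The T.I. set `C \ K`. -/
def dset (_S : BLSetup P K C N) : Set G := {g | g ∈ C ∧ g ∉ K}

theorem dset_inv : ∀ n ∈ N, ∀ d ∈ S.dset, n * d * n⁻¹ ∈ S.dset := by
  intro n hn d hd
  refine ⟨S.normC n hn d hd.1, ?_⟩
  intro hk
  apply hd.2
  have := S.normK n⁻¹ (N.inv_mem hn) _ hk
  have h2 : n⁻¹ * (n * d * n⁻¹) * n⁻¹⁻¹ = d := by group
  rw [h2] at this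
  exact this

theorem dset_ti : ∀ g : G, ∀ d ∈ S.dset, g * d * g⁻¹ ∈ S.dset → g ∈ N := by
  intro g d hd hgd
  exact S.ti g d hd.1 hd.2 hgd.1 hgd.2

theorem one_not_mem_dset : (1 : G) ∉ S.dset := fun h => h.2 K.one_mem

/-- The bijection `P × K ≃ C`. -/
noncomputable def equivPK : ↥P × ↥K ≃ ↥C := by
  refine Equiv.ofBijective (fun yk => ⟨(yk.1 : G) * (yk.2 : G),
    C.mul_mem (S.hPC yk.1.2) (S.hKC yk.2.2)⟩) ⟨?_, ?_⟩
  · rintro ⟨y, k⟩ ⟨y', k'⟩ h
    have h1 : (y : G) * (k : G) = (y' : G) * (k' : G) := congrArg Subtype.val h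
    have h2 : (y' : G)⁻¹ * (y : G) = (k' : G) * (k : G)⁻¹ := by
      have : (y : G) = (y' : G) * (k' : G) * (k : G)⁻¹ := by rw [← h1]; group
      rw [this]; group
    have h3 : (y' : G)⁻¹ * (y : G) = 1 := by
      apply S.disj _ (P.mul_mem (P.inv_mem y'.2) y.2)
      rw [h2]
      exact K.mul_mem k'.2 (K.inv_mem k.2)
    have hy : (y : G) = (y' : G) := by
      have := inv_mul_eq_one.mp h3
      exact this.symm
    have hk : (k : G) = (k' : G) := by
      rw [hy] at h1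
      exact mul_left_cancel h1
    exact Prod.ext (Subtype.ext hy) (Subtype.ext hk)
  · rintro ⟨c, hc⟩
    obtain ⟨y, hy, k, hk, rfl⟩ := S.prod c hc
    exact ⟨(⟨y, hy⟩, ⟨k, hk⟩), rfl⟩

theorem equivPK_apply (y : ↥P) (k : ↥K) : ((S.equivPK (y, k) : ↥C) : G) = (y : G) * (k : G) := rfl

theorem card_C [Finite G] : Nat.card C = Nat.card P * Nat.card K := by
  rw [← Nat.card_prod]
  exact (Nat.card_congr S.equivPK).symm

theorem sum_C [Fintype G] [Fintype P] [Fintype K] [Fintype C] {M : Type*} [AddCommMonoid M]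
    (f : G → M) :
    ∑ c : ↥C, f c = ∑ y : ↥P, ∑ k : ↥K, f ((y : G) * (k : G)) := by
  rw [← Fintype.sum_prod_type']
  symm
  exact Fintype.sum_equiv S.equivPK _ _ (fun yk => rfl)

/-- `K → C`. -/
def inclK (_S : BLSetup P K C N) : ↥K →* ↥C := Subgroup.inclusion _S.hKC

omit S in
@[simp] theorem coe_inclK (S : BLSetup P K C N) (k : ↥K) : ((S.inclK k : ↥C) : G) = (k : G) := rfl

theorem sum_C' [Fintype P] [Fintype K] [Fintype C] {M : Type*} [AddCommMonoid M]
    (f : ↥C → M) :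
    ∑ c : ↥C, f c = ∑ y : ↥P, ∑ k : ↥K, f (Subgroup.inclusion S.hPC y * S.inclK k) := by
  rw [← Fintype.sum_prod_type']
  symm
  exact Fintype.sum_equiv S.equivPK _ _ (fun yk => rfl)

/-- Dual form of the fixed-point-freeness: a nontrivial linear character of `P` fixed by `m ∈ N`
forces `m ∈ C`. -/
theorem mem_C_of_fixes [Finite G] (μ : ↥P →* ℂ) (hμ : μ ≠ 1) {m : G} (hm : m ∈ N)
    (hfix : ∀ y : ↥P, μ ⟨m⁻¹ * (y : G) * m, by
      have := S.normP m⁻¹ (N.inv_mem hm) y y.2; rwa [inv_inv] at this⟩ = μ y) : m ∈ C := by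
  by_contra hmC
  have hmem : ∀ y : ↥P, m⁻¹ * (y : G) * m ∈ P := fun y => by
    have := S.normP m⁻¹ (N.inv_mem hm) y y.2; rwa [inv_inv] at this
  let κ : ↥P → ↥P := fun y => ⟨(y : G)⁻¹ * (m⁻¹ * (y : G) * m), P.mul_mem (P.inv_mem y.2) (hmem y)⟩
  have hinj : Function.Injective κ := by
    intro y y' h
    have h1 : (y : G)⁻¹ * (m⁻¹ * (y : G) * m) = (y' : G)⁻¹ * (m⁻¹ * (y' : G) * m) :=
      congrArg Subtype.val h
    -- `w = y y'⁻¹` is fixed by `m⁻¹`
    have hw : (y : G) * (y' : G)⁻¹ ∈ P := P.mul_mem y.2 (P.inv_mem y'.2)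
    have h2 : m⁻¹ * ((y : G) * (y' : G)⁻¹) * m⁻¹⁻¹ = (y : G) * (y' : G)⁻¹ := by
      have e1 : m⁻¹ * (y : G) * m = (y : G) * ((y' : G)⁻¹ * (m⁻¹ * (y' : G) * m)) := by
        rw [← h1]; group
      have e2 : m⁻¹ * ((y : G) * (y' : G)⁻¹) * m⁻¹⁻¹
          = (m⁻¹ * (y : G) * m) * (m⁻¹ * (y' : G) * m)⁻¹ := by group
      rw [e2, e1]; group
    have h3 := S.semireg m⁻¹ (N.inv_mem hm) (fun h => hmC (by
      have := C.inv_mem h; rwa [inv_inv] at this)) _ hw h2
    apply Subtype.ext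
    have := mul_inv_eq_one.mp h3
    exact this
  have hsurj : Function.Surjective κ := Finite.injective_iff_surjective.mp hinj
  apply hμ
  ext y'
  obtain ⟨y, rfl⟩ := hsurj y'
  have h1 : κ y = y⁻¹ * ⟨m⁻¹ * (y : G) * m, hmem y⟩ := rfl
  rw [h1, map_mul, hfix y, ← map_mul, inv_mul_cancel, map_one]
  rfl

/-- The conjugation action of `N` on `P \ {1}`. -/
noncomputable def actP (S : BLSetup P K C N) : MulAction ↥N {y : ↥P // y ≠ 1} where
  smul n y := ⟨⟨(n : G) * (y.1 : G) * (n : G)⁻¹, S.normP n n.2 y.1 y.1.2⟩, by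
    intro h
    apply y.2
    have h1 : (n : G) * (y.1 : G) * (n : G)⁻¹ = 1 := congrArg Subtype.val h
    apply Subtype.ext
    have : (y.1 : G) = (n : G)⁻¹ * ((n : G) * (y.1 : G) * (n : G)⁻¹) * (n : G) := by group
    rw [this, h1]; simp⟩
  one_smul y := by
    apply Subtype.ext; apply Subtype.ext
    show ((1 : ↥N) : G) * (y.1 : G) * ((1 : ↥N) : G)⁻¹ = (y.1 : G)
    simp
  mul_smul a b y := by
    apply Subtype.ext; apply Subtype.ext
    show ((a * b : ↥N) : G) * (y.1 : G) * ((a * b : ↥N) : G)⁻¹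
      = (a : G) * ((b : G) * (y.1 : G) * (b : G)⁻¹) * (a : G)⁻¹
    rw [Subgroup.coe_mul]; group

theorem dvd_card_sub_one [Finite G] (e : ℕ) (he : Nat.card N = e * Nat.card C) :
    e ∣ Nat.card P - 1 := by
  classical
  letI := S.actP
  have : Fintype {y : ↥P // y ≠ 1} := Fintype.ofFinite _
  have hstab : ∀ x : {y : ↥P // y ≠ 1}, MulAction.stabilizer ↥N x = C.subgroupOf N := by
    intro x
    ext n
    rw [MulAction.mem_stabilizer_iff, Subgroup.mem_subgroupOf]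
    constructor
    · intro h
      by_contra hnC
      have h1 : (n : G) * (x.1 : G) * (n : G)⁻¹ = (x.1 : G) :=
        congrArg (fun z : {y : ↥P // y ≠ 1} => ((z.1 : ↥P) : G)) h
      have := S.semireg n n.2 hnC _ x.1.2 h1
      exact x.2 (Subtype.ext this)
    · intro h
      apply Subtype.ext; apply Subtype.ext
      show (n : G) * (x.1 : G) * (n : G)⁻¹ = (x.1 : G)
      have := S.central _ x.1.2 _ h
      rw [← this]; group
  have hidx : (C.subgroupOf N).index = e := by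
    have h1 : (C.subgroupOf N).index * Nat.card (C.subgroupOf N) = Nat.card N :=
      (C.subgroupOf N).index_mul_card
    have h2 : Nat.card (C.subgroupOf N) = Nat.card C :=
      Nat.card_congr (Subgroup.subgroupOfEquivOfLe S.hCN).toEquiv
    rw [h2, he] at h1
    have hpos : 0 < Nat.card C := Nat.card_pos
    exact Nat.eq_of_mul_eq_mul_right hpos h1
  have key := frob_dvd_sum (G := ↥N) (X := {y : ↥P // y ≠ 1}) (fun _ => 1) (fun _ _ => rfl) e
    (fun x => by rw [hstab x, hidx, mul_one])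
  have hcard : ∑ _x : {y : ↥P // y ≠ 1}, 1 = Nat.card P - 1 := by
    rw [Finset.sum_const, Finset.card_univ, smul_eq_mul, mul_one]
    have : Fintype ↥P := Fintype.ofFinite _
    rw [Nat.card_eq_fintype_card]
    have h1 := Fintype.card_subtype_compl (fun y : ↥P => y = 1)
    rw [Fintype.card_subtype_eq] at h1
    convert h1 using 2
  rw [hcard] at key
  exact key

end BLSetup

end Cfsg.Agent.Helper75
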