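import Mathlib
import Cfsg.Prelude.Def_Characters
import Cfsg.Agent.Helper75.BLSetup
import Cfsg.Agent.Helper74.CharComplete
import Cfsg.Agent.Helper74.CharCenter
import Cfsg.Agent.Helper15.Clifford
import Cfsg.Agent.Helper76.FaithfulCentral
import Cfsg.Agent.Helper80.Pullback

/-!
# Characters of `C` in the Brauer–Leonard configuration (helper75)

Central characters on `P`, averaging over `P`, the `P`-trivial and `P`-nontrivial parts of a class
function of `C`, conjugation by `N`, and the orbit bound.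
-/

set_option autoImplicit false

namespace Cfsg.Agent.Helper75

open Cfsg
open scoped ComplexConjugate

universe u

variable {G : Type u} [Group G] {P K C N : Subgroup G} (S : BLSetup P K C N)

namespace BLSetup

include S

/-- `P → C`. -/
def incl (_S : BLSetup P K C N) : ↥P →* ↥C := Subgroup.inclusion _S.hPC

omit S in
@[simp] theorem coe_incl (S : BLSetup P K C N) (y : ↥P) : ((S.incl y : ↥C) : G) = (y : G) := rfl

theorem incl_mem_center (y : ↥P) : S.incl y ∈ Subgroup.center ↥C := by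
  rw [Subgroup.mem_center_iff]
  intro c
  apply Subtype.ext
  have := S.central y y.2 c c.2
  simpa using this.symm

/-- The central character of `φ ∈ Irr(C)` on `P`. -/
noncomputable def lam (φ : IrrCharacter ↥C) : ↥P →* ℂ where
  toFun y := Helper76.centralLam (φ : ↥C → ℂ) (S.incl y)
  map_one' := by rw [map_one]; exact Helper76.centralLam_one φ.2
  map_mul' a b := by rw [map_mul]; exact Helper76.centralLam_mul φ.2 (S.incl_mem_center a)

theorem lam_spec (φ : IrrCharacter ↥C) (y : ↥P) (c : ↥C) :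
    (φ : ↥C → ℂ) (S.incl y * c) = S.lam φ y * (φ : ↥C → ℂ) c :=
  Helper76.centralLam_spec φ.2 (S.incl_mem_center y) c

theorem lam_apply (φ : IrrCharacter ↥C) (y : ↥P) :
    S.lam φ y = (φ : ↥C → ℂ) (S.incl y) / (φ : ↥C → ℂ) 1 := rfl

theorem lam_conj [Finite G] (φ : IrrCharacter ↥C) (y : ↥P) :
    conj (S.lam φ y) = S.lam φ y⁻¹ := by
  rw [Helper76.conj_monoidHom_eq_inv, map_inv]

section Avg

variable [Fintype G] [Fintype ↥P] [Fintype ↥C]

/-- Averaging over `P`. -/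
noncomputable def avgP (_S : BLSetup P K C N) (f : ↥C → ℂ) : ↥C → ℂ :=
  fun c => (Nat.card P : ℂ)⁻¹ * ∑ y : ↥P, f (_S.incl y * c)

theorem avgP_isClassFunction {f : ↥C → ℂ} (hf : IsClassFunction ↥C f) :
    IsClassFunction ↥C (S.avgP f) := by
  intro c h
  unfold avgP
  congr 1
  refine Finset.sum_congr rfl (fun y _ => ?_)
  have hcomm : S.incl y * h = h * S.incl y :=
    ((Subgroup.mem_center_iff.mp (S.incl_mem_center y)) h).symm
  have : S.incl y * (h * c * h⁻¹) = h * (S.incl y * c) * h⁻¹ := by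
    rw [← mul_assoc, ← mul_assoc, hcomm]; group
  rw [this, hf]

theorem sum_lam (φ : IrrCharacter ↥C) [Decidable (S.lam φ = 1)] :
    ∑ y : ↥P, S.lam φ y = if S.lam φ = 1 then (Nat.card P : ℂ) else 0 := by
  have := Helper76.sum_monoidHom_mul_conj (S.lam φ) (1 : ↥P →* ℂ)
  simp only [MonoidHom.one_apply, map_one, mul_one] at this
  rw [this, Nat.card_eq_fintype_card]
  congr 1

/-- The inner product of the `P`-average with an irreducible character. -/
theorem avgP_inner (f : ↥C → ℂ) (φ : IrrCharacter ↥C) [Decidable (S.lam φ = 1)] :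
    classInner (S.avgP f) (φ : ↥C → ℂ)
      = if S.lam φ = 1 then classInner f (φ : ↥C → ℂ) else 0 := by
  have hq : (Nat.card P : ℂ) ≠ 0 := by
    have : Nat.card P ≠ 0 := Nat.card_pos.ne'
    exact_mod_cast this
  have h1 : ∀ y : ↥P, ∑ c : ↥C, f (S.incl y * c) * conj ((φ : ↥C → ℂ) c)
      = S.lam φ y * ∑ c : ↥C, f c * conj ((φ : ↥C → ℂ) c) := by
    intro y
    rw [Finset.mul_sum]
    refine Fintype.sum_equiv (Equiv.mulLeft (S.incl y)) _ _ (fun c => ?_)
    simp only [Equiv.coe_mulLeft]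
    have h2 : (φ : ↥C → ℂ) c = S.lam φ y⁻¹ * (φ : ↥C → ℂ) (S.incl y * c) := by
      rw [← S.lam_spec, ← mul_assoc, ← map_mul, inv_mul_cancel, map_one, one_mul]
    rw [h2, map_mul, S.lam_conj, inv_inv]
    ring
  unfold classInner avgP
  have h3 : ∑ c : ↥C, ((Nat.card P : ℂ)⁻¹ * ∑ y : ↥P, f (S.incl y * c)) * conj ((φ : ↥C → ℂ) c)
      = (Nat.card P : ℂ)⁻¹ * ∑ y : ↥P, ∑ c : ↥C, f (S.incl y * c) * conj ((φ : ↥C → ℂ) c) := by
    rw [Finset.sum_comm, Finset.mul_sum]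
    refine Finset.sum_congr rfl (fun c _ => ?_)
    rw [mul_assoc, Finset.sum_mul]
  rw [h3, Finset.sum_congr rfl (fun y _ => h1 y), ← Finset.sum_mul, S.sum_lam φ]
  split_ifs
  · field_simp
  · simp

variable [Fintype (IrrCharacter ↥C)]

open Classical in
/-- The squared norm of the `P`-nontrivial part of a class function of `C`. -/
noncomputable def ntP (_S : BLSetup P K C N) (f : ↥C → ℂ) : ℝ :=
  ∑ φ : IrrCharacter ↥C,
    if _S.lam φ = 1 then 0 else Complex.normSq (classInner f (φ : ↥C → ℂ))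

theorem ntP_eq {f : ↥C → ℂ} (hf : IsClassFunction ↥C f) :
    ((S.ntP f : ℝ) : ℂ) = classInner f f - classInner (S.avgP f) (S.avgP f) := by
  classical
  rw [Helper15.classInner_eq_sum_irr hf f,
    Helper15.classInner_eq_sum_irr (S.avgP_isClassFunction hf) (S.avgP f),
    ← Finset.sum_sub_distrib]
  unfold ntP
  rw [Complex.ofReal_sum]
  refine Finset.sum_congr rfl (fun φ _ => ?_)
  rw [S.avgP_inner f φ]
  split_ifs with h
  · simp
  · simp [Complex.mul_conj]

end Avg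

section Conj

/-- Conjugation `c ↦ n⁻¹ c n` on `C`, for `n ∈ N`. -/
def conjE (_S : BLSetup P K C N) (n : ↥N) : ↥C ≃* ↥C where
  toFun c := ⟨(n : G)⁻¹ * (c : G) * (n : G), by
    have := _S.normC (n : G)⁻¹ (N.inv_mem n.2) c c.2; rwa [inv_inv] at this⟩
  invFun c := ⟨(n : G) * (c : G) * (n : G)⁻¹, _S.normC n n.2 c c.2⟩
  left_inv c := by apply Subtype.ext; simp [mul_assoc]
  right_inv c := by apply Subtype.ext; simp [mul_assoc]
  map_mul' a b := by apply Subtype.ext; simp [mul_assoc]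

omit S in
@[simp] theorem coe_conjE (S : BLSetup P K C N) (n : ↥N) (c : ↥C) :
    ((S.conjE n c : ↥C) : G) = (n : G)⁻¹ * (c : G) * (n : G) := rfl

omit S in
@[simp] theorem coe_conjE_symm (S : BLSetup P K C N) (n : ↥N) (c : ↥C) :
    (((S.conjE n).symm c : ↥C) : G) = (n : G) * (c : G) * (n : G)⁻¹ := rfl

/-- The conjugate `φⁿ(c) = φ(n⁻¹ c n)` of an irreducible character of `C`. -/
noncomputable def conjIrr (_S : BLSetup P K C N) (φ : IrrCharacter ↥C) (n : ↥N) :
    IrrCharacter ↥C :=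
  ⟨fun c => (φ : ↥C → ℂ) (_S.conjE n c),
    Helper80.IsIrrCharacter.comp_surjective φ.2 (_S.conjE n).toMonoidHom (_S.conjE n).surjective⟩

omit S in
theorem conjIrr_apply (S : BLSetup P K C N) (φ : IrrCharacter ↥C) (n : ↥N) (c : ↥C) :
    (S.conjIrr φ n : ↥C → ℂ) c = (φ : ↥C → ℂ) (S.conjE n c) := rfl

/-- `n⁻¹ y n` as an element of `P`. -/
def conjP (_S : BLSetup P K C N) (n : ↥N) (y : ↥P) : ↥P :=
  ⟨(n : G)⁻¹ * (y : G) * (n : G), by
    have := _S.normP (n : G)⁻¹ (N.inv_mem n.2) y y.2; rwa [inv_inv] at this⟩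

theorem lam_conjIrr (φ : IrrCharacter ↥C) (n : ↥N) (y : ↥P) :
    S.lam (S.conjIrr φ n) y = S.lam φ (S.conjP n y) := by
  rw [S.lam_apply, S.lam_apply, conjIrr_apply, conjIrr_apply, map_one]
  rfl

/-- Inner products with restrictions of class functions of `G` are invariant. -/
theorem inner_conjIrr [Fintype ↥C] {Θ : G → ℂ} (hΘ : IsClassFunction G Θ)
    (φ : IrrCharacter ↥C) (n : ↥N) :
    classInner (fun c : ↥C => Θ c) (S.conjIrr φ n : ↥C → ℂ)
      = classInner (fun c : ↥C => Θ c) (φ : ↥C → ℂ) := by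
  unfold classInner
  congr 1
  refine Fintype.sum_equiv (S.conjE n).toEquiv _ _ (fun c => ?_)
  rw [conjIrr_apply]
  congr 1
  show Θ (c : G) = Θ ((S.conjE n c : ↥C) : G)
  rw [coe_conjE]
  have := hΘ (c : G) (n : G)⁻¹
  rw [inv_inv] at this
  exact this.symm

/-- Two conjugates of a `P`-nontrivial character coincide only along a coset of `C`. -/
theorem mem_C_of_lam_eq [Finite G] (φ : IrrCharacter ↥C) (hφ : S.lam φ ≠ 1) (n n₁ : ↥N)
    (h : S.lam (S.conjIrr φ n) = S.lam (S.conjIrr φ n₁)) : (n₁ : G)⁻¹ * (n : G) ∈ C := by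
  apply S.mem_C_of_fixes (S.lam φ) hφ (N.mul_mem (N.inv_mem n₁.2) n.2)
  intro y
  -- `y = n₁⁻¹ y' n₁` with `y' = n₁ y n₁⁻¹`
  have hy' : (n₁ : G) * (y : G) * (n₁ : G)⁻¹ ∈ P := S.normP n₁ n₁.2 y y.2
  have h1 := DFunLike.congr_fun h ⟨(n₁ : G) * (y : G) * (n₁ : G)⁻¹, hy'⟩
  simp only [S.lam_conjIrr] at h1
  have e1 : S.conjP n ⟨(n₁ : G) * (y : G) * (n₁ : G)⁻¹, hy'⟩
      = ⟨((n₁ : G)⁻¹ * (n : G))⁻¹ * (y : G) * ((n₁ : G)⁻¹ * (n : G)), by
          have := S.normP ((n₁ : G)⁻¹ * (n : G))⁻¹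
            (N.inv_mem (N.mul_mem (N.inv_mem n₁.2) n.2)) y y.2
          rwa [inv_inv] at this⟩ := by
    apply Subtype.ext
    show (n : G)⁻¹ * ((n₁ : G) * (y : G) * (n₁ : G)⁻¹) * (n : G) = _
    group
  have e2 : S.conjP n₁ ⟨(n₁ : G) * (y : G) * (n₁ : G)⁻¹, hy'⟩ = y := by
    apply Subtype.ext
    show (n₁ : G)⁻¹ * ((n₁ : G) * (y : G) * (n₁ : G)⁻¹) * (n₁ : G) = _
    group
  rw [e1, e2] at h1
  exact h1

theorem mem_C_of_conjIrr_eq [Finite G] (φ : IrrCharacter ↥C) (hφ : S.lam φ ≠ 1) (n n₁ : ↥N)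
    (h : S.conjIrr φ n = S.conjIrr φ n₁) : (n₁ : G)⁻¹ * (n : G) ∈ C :=
  S.mem_C_of_lam_eq φ hφ n n₁ (by rw [h])

/-- Conjugates along the same coset of `C` coincide. -/
theorem conjIrr_eq_of_mem_C (φ : IrrCharacter ↥C) (n n₁ : ↥N)
    (h : (n₁ : G)⁻¹ * (n : G) ∈ C) : S.conjIrr φ n = S.conjIrr φ n₁ := by
  apply Subtype.ext
  funext c
  rw [conjIrr_apply, conjIrr_apply]
  have hcf := Helper74.irr_isClassFunction φ
  have e1 : S.conjE n c = (⟨(n₁ : G)⁻¹ * (n : G), h⟩ : ↥C)⁻¹ * S.conjE n₁ c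
      * (⟨(n₁ : G)⁻¹ * (n : G), h⟩ : ↥C) := by
    apply Subtype.ext
    simp only [coe_conjE, Subgroup.coe_mul, Subgroup.coe_inv]
    group
  rw [e1]
  have := hcf (S.conjE n₁ c) (⟨(n₁ : G)⁻¹ * (n : G), h⟩ : ↥C)⁻¹
  rw [inv_inv] at this
  exact this

theorem conjIrr_apply_one (φ : IrrCharacter ↥C) (n : ↥N) :
    (S.conjIrr φ n : ↥C → ℂ) 1 = (φ : ↥C → ℂ) 1 := by
  rw [conjIrr_apply, map_one]

theorem lam_conjIrr_ne_one (φ : IrrCharacter ↥C) (hφ : S.lam φ ≠ 1) (n : ↥N) :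
    S.lam (S.conjIrr φ n) ≠ 1 := by
  intro h
  apply hφ
  ext y
  have hy' : (n : G) * (y : G) * (n : G)⁻¹ ∈ P := S.normP n n.2 y y.2
  have h1 := DFunLike.congr_fun h ⟨(n : G) * (y : G) * (n : G)⁻¹, hy'⟩
  rw [S.lam_conjIrr] at h1
  have e2 : S.conjP n ⟨(n : G) * (y : G) * (n : G)⁻¹, hy'⟩ = y := by
    apply Subtype.ext
    show (n : G)⁻¹ * ((n : G) * (y : G) * (n : G)⁻¹) * (n : G) = _
    group
  rw [e2] at h1
  exact h1

open Classical in
/-- The orbit of a `P`-nontrivial irreducible character of `C` under `N` has at least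
`|N : C|` members. -/
theorem card_orbit_ge [Finite G] [Fintype ↥N] [Fintype ↥C] (φ : IrrCharacter ↥C)
    (hφ : S.lam φ ≠ 1) :
    Nat.card N ≤ Nat.card C * (Finset.univ.image (fun n : ↥N => S.conjIrr φ n)).card := by
  have key := Finset.card_le_mul_card_image (s := (Finset.univ : Finset ↥N))
    (f := fun n : ↥N => S.conjIrr φ n) (Nat.card C) ?_
  · rw [Finset.card_univ, ← Nat.card_eq_fintype_card] at key
    exact key
  · intro a ha
    obtain ⟨n₁, _, rfl⟩ := Finset.mem_image.mp ha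
    rw [Nat.card_eq_fintype_card, ← Finset.card_univ (α := ↥C)]
    refine Finset.card_le_card_of_injOn
      (fun n : ↥N => if h : (n₁ : G)⁻¹ * (n : G) ∈ C then (⟨_, h⟩ : ↥C) else 1)
      (fun _ _ => Finset.mem_univ _) ?_
    intro a ha b hb hab
    simp only [Finset.coe_filter, Finset.mem_univ, true_and, Set.mem_setOf_eq] at ha hb
    have hA := S.mem_C_of_conjIrr_eq φ hφ a n₁ ha
    have hB := S.mem_C_of_conjIrr_eq φ hφ b n₁ hb
    simp only [dif_pos hA, dif_pos hB] at hab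
    have h1 : (n₁ : G)⁻¹ * (a : G) = (n₁ : G)⁻¹ * (b : G) := congrArg Subtype.val hab
    exact Subtype.ext (mul_left_cancel h1)

open Classical in
/-- Lower bound for the `P`-nontrivial part of the restriction of a class function of `G`. -/
theorem ntP_ge [Fintype G] [Fintype ↥P] [Fintype ↥N] [Fintype ↥C] [Fintype (IrrCharacter ↥C)]
    (e : ℕ) (he : Nat.card N = e * Nat.card C) {Θ : G → ℂ} (hΘ : IsClassFunction G Θ)
    (φ₀ : IrrCharacter ↥C) (hφ₀ : S.lam φ₀ ≠ 1) :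
    (e : ℝ) * Complex.normSq (classInner (fun c : ↥C => Θ c) (φ₀ : ↥C → ℂ))
      ≤ S.ntP (fun c : ↥C => Θ c) := by
  set O : Finset (IrrCharacter ↥C) := Finset.univ.image (fun n : ↥N => S.conjIrr φ₀ n) with hO
  have hcard : e ≤ O.card := by
    have h1 := S.card_orbit_ge φ₀ hφ₀
    rw [he, mul_comm] at h1
    have hpos : 0 < Nat.card C := Nat.card_pos
    exact Nat.le_of_mul_le_mul_left h1 hpos
  unfold ntP
  have h2 : ∑ φ ∈ O, (if S.lam φ = 1 then 0
      else Complex.normSq (classInner (fun c : ↥C => Θ c) (φ : ↥C → ℂ)))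
      ≤ ∑ φ : IrrCharacter ↥C, (if S.lam φ = 1 then 0
        else Complex.normSq (classInner (fun c : ↥C => Θ c) (φ : ↥C → ℂ))) := by
    apply Finset.sum_le_univ_sum_of_nonneg
    intro φ
    split_ifs
    · exact le_refl _
    · exact Complex.normSq_nonneg _
  refine le_trans ?_ h2
  have h3 : ∀ φ ∈ O, (if S.lam φ = 1 then (0 : ℝ)
      else Complex.normSq (classInner (fun c : ↥C => Θ c) (φ : ↥C → ℂ)))
      = Complex.normSq (classInner (fun c : ↥C => Θ c) (φ₀ : ↥C → ℂ)) := by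
    intro φ hφ
    obtain ⟨n, _, rfl⟩ := Finset.mem_image.mp hφ
    rw [if_neg (S.lam_conjIrr_ne_one φ₀ hφ₀ n), S.inner_conjIrr hΘ]
  rw [Finset.sum_congr rfl h3, Finset.sum_const, nsmul_eq_mul]
  apply mul_le_mul_of_nonneg_right _ (Complex.normSq_nonneg _)
  exact_mod_cast hcard

/-- A character of `G` all of whose constituents on `C` are `P`-trivial is constant on `P`. -/
theorem const_on_P [Fintype G] [Fintype ↥C] [Fintype (IrrCharacter ↥C)] {Θ : G → ℂ}
    (hΘ : IsCharacter G Θ)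
    (h : ∀ φ : IrrCharacter ↥C, S.lam φ ≠ 1 →
      classInner (fun c : ↥C => Θ c) (φ : ↥C → ℂ) = 0) :
    ∀ y ∈ P, Θ y = Θ 1 := by
  intro y hy
  have hdec := Helper74.isCharacter_eq_sum_irr (Helper74.isCharacter_restrict C hΘ)
  have hval : ∀ c : ↥C, Θ c = ∑ φ : IrrCharacter ↥C,
      classInner (fun c : ↥C => Θ c) (φ : ↥C → ℂ) * (φ : ↥C → ℂ) c := by
    intro c
    have := congrFun hdec c
    simpa only [Finset.sum_apply, Pi.smul_apply, smul_eq_mul] using this
  have h1 := hval (S.incl ⟨y, hy⟩)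
  have h2 := hval 1
  rw [S.coe_incl] at h1
  rw [show Θ y = Θ ((⟨y, hy⟩ : ↥P) : G) from rfl, h1, show Θ 1 = Θ ((1 : ↥C) : G) from rfl, h2]
  refine Finset.sum_congr rfl (fun φ _ => ?_)
  by_cases hφ : S.lam φ = 1
  · have := S.lam_spec φ ⟨y, hy⟩ 1
    rw [mul_one, hφ, MonoidHom.one_apply, one_mul] at this
    rw [this]
  · rw [h φ hφ, zero_mul, zero_mul]

end Conj

end BLSetup

end Cfsg.Agent.Helper75
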