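import Mathlib

/-!
# Counting over the conjugates of a T.I. set (helper75)

If `D` is a subset of the finite group `G`, invariant under the subgroup `N`, such that
`g d g⁻¹ ∈ D` for some `d ∈ D` forces `g ∈ N`, then for every conjugation-invariant real function
`Φ` the sum of `Φ` over the union of the conjugates of `D` is `|G : N|` times the sum over `D`.
-/

set_option autoImplicit false

namespace Cfsg.Agent.Helper75

universe u

variable {G : Type u} [Group G] [Fintype G]

open Classical in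
/-- The number of `x` with `x⁻¹ g x ∈ D` is `|N|` as soon as it is nonzero. -/
theorem bl_card_conj_into (N : Subgroup G) (D : Set G)
    (hN : ∀ n ∈ N, ∀ d ∈ D, n * d * n⁻¹ ∈ D)
    (hTI : ∀ g : G, ∀ d ∈ D, g * d * g⁻¹ ∈ D → g ∈ N) (g x₀ : G) (hx₀ : x₀⁻¹ * g * x₀ ∈ D) :
    (Finset.univ.filter (fun x : G => x⁻¹ * g * x ∈ D)).card = Nat.card N := by
  have himg : Finset.univ.filter (fun x : G => x⁻¹ * g * x ∈ D)
      = (Finset.univ : Finset N).image (fun n : N => x₀ * (n : G)) := by
    ext x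
    simp only [Finset.mem_filter, Finset.mem_univ, true_and, Finset.mem_image]
    constructor
    · intro hx
      have hmem : x⁻¹ * x₀ ∈ N := by
        apply hTI (x⁻¹ * x₀) (x₀⁻¹ * g * x₀) hx₀
        have : x⁻¹ * x₀ * (x₀⁻¹ * g * x₀) * (x⁻¹ * x₀)⁻¹ = x⁻¹ * g * x := by group
        rw [this]; exact hx
      refine ⟨⟨(x⁻¹ * x₀)⁻¹, N.inv_mem hmem⟩, ?_⟩
      simp
    · rintro ⟨n, rfl⟩
      have := hN (n : G)⁻¹ (N.inv_mem n.2) _ hx₀
      have h2 : (n : G)⁻¹ * (x₀⁻¹ * g * x₀) * ((n : G)⁻¹)⁻¹ = (x₀ * (n : G))⁻¹ * g * (x₀ * n) := by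
        group
      rw [h2] at this
      exact this
  rw [himg, Finset.card_image_of_injective _ (fun a b hab => by
    apply Subtype.ext
    exact mul_left_cancel hab), Finset.card_univ, Nat.card_eq_fintype_card]

open Classical in
/-- **T.I. counting.** -/
theorem bl_ti_sum (N : Subgroup G) (D : Set G)
    (hN : ∀ n ∈ N, ∀ d ∈ D, n * d * n⁻¹ ∈ D)
    (hTI : ∀ g : G, ∀ d ∈ D, g * d * g⁻¹ ∈ D → g ∈ N)
    (Φ : G → ℝ) (hΦ : ∀ g h : G, Φ (h * g * h⁻¹) = Φ g) :
    (Nat.card N : ℝ) * ∑ g ∈ Finset.univ.filter (fun g : G => ∃ x : G, x⁻¹ * g * x ∈ D), Φ g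
      = (Nat.card G : ℝ) * ∑ d ∈ Finset.univ.filter (fun d : G => d ∈ D), Φ d := by
  -- the double sum
  have h1 : ∑ x : G, ∑ g ∈ Finset.univ.filter (fun g : G => x⁻¹ * g * x ∈ D), Φ g
      = (Nat.card G : ℝ) * ∑ d ∈ Finset.univ.filter (fun d : G => d ∈ D), Φ d := by
    have : ∀ x : G, ∑ g ∈ Finset.univ.filter (fun g : G => x⁻¹ * g * x ∈ D), Φ g
        = ∑ d ∈ Finset.univ.filter (fun d : G => d ∈ D), Φ d := by
      intro x
      refine Finset.sum_bij (fun g _ => x⁻¹ * g * x) ?_ ?_ ?_ ?_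
      · intro g hg
        simp only [Finset.mem_filter, Finset.mem_univ, true_and] at hg ⊢
        exact hg
      · intro a _ b _ hab
        have := mul_right_cancel hab
        exact mul_left_cancel this
      · intro d hd
        simp only [Finset.mem_filter, Finset.mem_univ, true_and] at hd
        refine ⟨x * d * x⁻¹, ?_, by group⟩
        simp only [Finset.mem_filter, Finset.mem_univ, true_and]
        have : x⁻¹ * (x * d * x⁻¹) * x = d := by group
        rw [this]; exact hd
      · intro g _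
        have := hΦ g x⁻¹
        rw [inv_inv] at this
        exact this.symm
    rw [Finset.sum_congr rfl (fun x _ => this x), Finset.sum_const, Finset.card_univ,
      nsmul_eq_mul, Nat.card_eq_fintype_card]
  have h2 : ∑ x : G, ∑ g ∈ Finset.univ.filter (fun g : G => x⁻¹ * g * x ∈ D), Φ g
      = ∑ g : G, ((Finset.univ.filter (fun x : G => x⁻¹ * g * x ∈ D)).card : ℝ) * Φ g := by
    simp_rw [Finset.sum_filter]
    rw [Finset.sum_comm]
    refine Finset.sum_congr rfl (fun g _ => ?_)
    rw [← Finset.sum_filter, Finset.sum_const, nsmul_eq_mul]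
  rw [← h1, h2, Finset.mul_sum, Finset.sum_filter]
  refine Finset.sum_congr rfl (fun g _ => ?_)
  split_ifs with hg
  · obtain ⟨x₀, hx₀⟩ := hg
    rw [bl_card_conj_into N D hN hTI g x₀ hx₀]
  · have : Finset.univ.filter (fun x : G => x⁻¹ * g * x ∈ D) = ∅ := by
      rw [Finset.filter_eq_empty_iff]
      intro x _ hx
      exact hg ⟨x, hx⟩
    rw [this]; simp

end Cfsg.Agent.Helper75
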