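import Mathlib
import Cfsg.Prelude.Def_Characters
import Cfsg.Agent.Helper75.BLCount
import Cfsg.Agent.Helper75.BLChar
import Cfsg.Agent.Helper75.FTSecond

/-!
# The Brauer–Leonard degree bound: the analytic part (helper75)
-/

set_option autoImplicit false

namespace Cfsg.Agent.Helper75

open Cfsg
open scoped ComplexConjugate

universe u

variable {G : Type u} [Group G] [Fintype G] {P K C N : Subgroup G} (S : BLSetup P K C N)
  [Fintype ↥P] [Fintype ↥K] [Fintype ↥C] [Fintype ↥N]

namespace BLSetup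

include S

open Classical in
theorem sum_dset (Φ : G → ℝ) :
    ∑ d ∈ Finset.univ.filter (fun d : G => d ∈ S.dset), Φ d
      = ∑ c : ↥C, Φ c - ∑ k : ↥K, Φ k := by
  have hC : ∑ c : ↥C, Φ c = ∑ g ∈ Finset.univ.filter (fun g : G => g ∈ C), Φ g := by
    rw [Finset.sum_subtype (Finset.univ.filter (fun g : G => g ∈ C)) (p := fun g => g ∈ C)
      (fun x => by simp) Φ]
  have hK : ∑ k : ↥K, Φ k = ∑ g ∈ Finset.univ.filter (fun g : G => g ∈ K), Φ g := by
    rw [Finset.sum_subtype (Finset.univ.filter (fun g : G => g ∈ K)) (p := fun g => g ∈ K)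
      (fun x => by simp) Φ]
  have hsub : Finset.univ.filter (fun g : G => g ∈ K) ⊆ Finset.univ.filter (fun g : G => g ∈ C) := by
    intro g hg
    simp only [Finset.mem_filter, Finset.mem_univ, true_and] at hg ⊢
    exact S.hKC hg
  have hD : Finset.univ.filter (fun d : G => d ∈ S.dset)
      = Finset.univ.filter (fun g : G => g ∈ C) \ Finset.univ.filter (fun g : G => g ∈ K) := by
    ext g
    simp only [Finset.mem_filter, Finset.mem_univ, true_and, Finset.mem_sdiff]
    rfl
  rw [hC, hK, hD, ← Finset.sum_sdiff hsub]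
  ring

open Classical in
/-- The complement of the union of the conjugates of `C \ K`. -/
noncomputable def wset (_S : BLSetup P K C N) : Finset G :=
  Finset.univ.filter (fun g : G => ¬ ∃ x : G, x⁻¹ * g * x ∈ _S.dset)

omit [Fintype ↥P] [Fintype ↥K] [Fintype ↥C] [Fintype ↥N] in
theorem one_mem_wset : (1 : G) ∈ S.wset := by
  classical
  unfold wset
  simp only [Finset.mem_filter, Finset.mem_univ, true_and, not_exists]
  intro x hx
  have : x⁻¹ * 1 * x = 1 := by group
  rw [this] at hx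
  exact S.one_not_mem_dset hx

theorem ti_eq (Φ : G → ℝ) (hΦ : ∀ g h : G, Φ (h * g * h⁻¹) = Φ g) :
    (Nat.card N : ℝ) * (∑ g : G, Φ g - ∑ g ∈ S.wset, Φ g)
      = (Nat.card G : ℝ) * (∑ c : ↥C, Φ c - ∑ k : ↥K, Φ k) := by
  classical
  have h1 := bl_ti_sum N S.dset S.dset_inv S.dset_ti Φ hΦ
  rw [S.sum_dset Φ] at h1
  rw [← h1]
  congr 1
  have := Finset.sum_filter_add_sum_filter_not Finset.univ
    (fun g : G => ∃ x : G, x⁻¹ * g * x ∈ S.dset) Φ
  unfold wset
  linarith

omit S in
theorem normSq_conj_inv {χ : G → ℂ} (hχ : IsClassFunction G χ) (g h : G) :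
    Complex.normSq (χ (h * g * h⁻¹)) = Complex.normSq (χ g) := by rw [hχ]

omit S in
theorem sum_normSq_irr {χ : G → ℂ} (hχ : IsIrrCharacter G χ) :
    ∑ g : G, Complex.normSq (χ g) = (Nat.card G : ℝ) := by
  have h := Helper74.irr_inner_self (⟨χ, hχ⟩ : IrrCharacter G)
  unfold classInner at h
  simp only [Complex.mul_conj] at h
  have hG : (Nat.card G : ℂ) ≠ 0 := by
    have : Nat.card G ≠ 0 := Nat.card_pos.ne'
    exact_mod_cast this
  have h2 : ∑ g : G, ((Complex.normSq (χ g) : ℝ) : ℂ) = (Nat.card G : ℂ) := by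
    field_simp at h
    exact h
  rw [← Complex.ofReal_sum] at h2
  exact_mod_cast h2

omit S in
theorem charDegree_eq {χ : G → ℂ} {x : ℕ} (hx : χ 1 = x) : charDegree χ = x := by
  unfold charDegree
  rw [hx]
  simp

omit S in
theorem normSq_le_sq {χ : G → ℂ} (hχ : IsCharacter G χ) {x : ℕ} (hx : χ 1 = x) (g : G) :
    Complex.normSq (χ g) ≤ (x : ℝ) ^ 2 := by
  have h := Helper74.norm_le_charDegree hχ g
  rw [charDegree_eq hx] at h
  rw [Complex.normSq_eq_norm_sq]
  exact pow_le_pow_left₀ (norm_nonneg _) h 2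

/-- The restriction to `C` of an irreducible character of small degree. -/
theorem step1 [Fintype (IrrCharacter ↥C)]
    (hnc : ∀ M : Subgroup G, M.Normal → P ≤ M → M = ⊤)
    (e : ℕ) (he : Nat.card N = e * Nat.card C)
    {χ : G → ℂ} (hχ : IsIrrCharacter G χ) (h1 : χ ≠ fun _ => 1) (x : ℕ) (hx : χ 1 = x)
    (hdeg : x ^ 2 + 1 < Nat.card P) :
    ∃ (O : Finset (IrrCharacter ↥C)) (d : ℕ), O.card = e ∧
      (∀ c : ↥C, χ c = ∑ φ ∈ O, (φ : ↥C → ℂ) c) ∧
      (∀ φ ∈ O, ∀ φ' ∈ O, S.lam φ = S.lam φ' → φ = φ') ∧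
      (∀ φ ∈ O, (φ : ↥C → ℂ) 1 = d) := by
  classical
  have hchar : IsCharacter G χ := Helper74.isCharacter_of_isIrr hχ
  have hcf : IsClassFunction G χ := Helper74.isClassFunction_of_isCharacter hchar
  have hcharC : IsCharacter ↥C (fun c : ↥C => χ c) := Helper74.isCharacter_restrict C hchar
  have hcfC : IsClassFunction ↥C (fun c : ↥C => χ c) :=
    Helper74.isClassFunction_of_isCharacter hcharC
  choose mm hmm using fun φ : IrrCharacter ↥C => Helper74.isCharacter_inner_irr_nat hcharC φ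
  -- Parseval
  have hpars : classInner (fun c : ↥C => χ c) (fun c : ↥C => χ c)
      = ((∑ φ : IrrCharacter ↥C, mm φ ^ 2 : ℕ) : ℂ) := by
    rw [Helper15.classInner_eq_sum_irr hcfC]
    push_cast
    refine Finset.sum_congr rfl (fun φ _ => ?_)
    rw [hmm φ]; simp [sq]
  set T : ℕ := ∑ φ : IrrCharacter ↥C, mm φ ^ 2 with hT
  have hCpos : (0 : ℝ) < Nat.card C := by exact_mod_cast Nat.card_pos
  have hsumC : ∑ c : ↥C, Complex.normSq (χ c) = (Nat.card C : ℝ) * T := by
    have h := hpars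
    unfold classInner at h
    simp only [Complex.mul_conj] at h
    have hC0 : (Nat.card C : ℂ) ≠ 0 := by
      have : Nat.card C ≠ 0 := Nat.card_pos.ne'
      exact_mod_cast this
    have h2 : ∑ c : ↥C, ((Complex.normSq (χ c) : ℝ) : ℂ) = (Nat.card C : ℂ) * (T : ℂ) := by
      field_simp at h
      rw [h]
    rw [← Complex.ofReal_sum] at h2
    exact_mod_cast h2
  -- T.I. counting
  have hti := S.ti_eq (fun g => Complex.normSq (χ g)) (normSq_conj_inv hcf)
  rw [sum_normSq_irr hχ, hsumC] at hti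
  obtain ⟨x', hx'pos, hx'⟩ := Helper76.irr_exists_degree hχ
  have hxx : x = x' := by
    have : (x : ℂ) = x' := by rw [← hx, hx']
    exact_mod_cast this
  have hxpos : 0 < x := by rw [hxx]; exact hx'pos
  have hW : (x : ℝ) ^ 2 ≤ ∑ g ∈ S.wset, Complex.normSq (χ g) := by
    have h0 : Complex.normSq (χ 1) ≤ ∑ g ∈ S.wset, Complex.normSq (χ g) :=
      Finset.single_le_sum (f := fun g => Complex.normSq (χ g))
        (fun g _ => Complex.normSq_nonneg _) S.one_mem_wset
    rw [hx] at h0
    simpa [Complex.normSq_natCast, sq] using h0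
  have hKsum : ∑ k : ↥K, Complex.normSq (χ k) ≤ (Nat.card K : ℝ) * (x : ℝ) ^ 2 := by
    have : ∑ k : ↥K, Complex.normSq (χ k) ≤ ∑ _k : ↥K, (x : ℝ) ^ 2 :=
      Finset.sum_le_sum (fun k _ => normSq_le_sq hchar hx k)
    rw [Finset.sum_const, Finset.card_univ, nsmul_eq_mul, ← Nat.card_eq_fintype_card] at this
    exact this
  have hGpos : (0 : ℝ) < Nat.card G := by exact_mod_cast Nat.card_pos
  have hNpos : (0 : ℝ) < Nat.card N := by exact_mod_cast Nat.card_pos
  have hKpos : (0 : ℝ) < Nat.card K := by exact_mod_cast Nat.card_pos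
  have hxR : (0 : ℝ) < (x : ℝ) ^ 2 := by positivity
  have hcardC : (Nat.card C : ℝ) = (Nat.card P : ℝ) * Nat.card K := by
    exact_mod_cast S.card_C
  have hN' : (Nat.card N : ℝ) = (e : ℝ) * Nat.card C := by exact_mod_cast he
  have hdegR : (x : ℝ) ^ 2 + 1 < Nat.card P := by exact_mod_cast hdeg
  -- `T ≤ e`
  have hTe : T ≤ e := by
    have h3 : (Nat.card C : ℝ) * T - ∑ k : ↥K, Complex.normSq (χ k) < Nat.card N := by
      by_contra hcon
      push Not at hcon
      have : (Nat.card N : ℝ) * ((Nat.card G : ℝ) - ∑ g ∈ S.wset, Complex.normSq (χ g))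
          < (Nat.card N : ℝ) * Nat.card G := by
        apply mul_lt_mul_of_pos_left _ hNpos
        linarith
      rw [hti] at this
      have h4 : (Nat.card G : ℝ) * (Nat.card N : ℝ)
          ≤ (Nat.card G : ℝ) * ((Nat.card C : ℝ) * T - ∑ k : ↥K, Complex.normSq (χ k)) :=
        mul_le_mul_of_nonneg_left hcon hGpos.le
      linarith
    have h5 : (Nat.card C : ℝ) * T < (Nat.card C : ℝ) * ((e : ℝ) + 1) := by
      have : (Nat.card K : ℝ) * (x : ℝ) ^ 2 < Nat.card C := by
        rw [hcardC, mul_comm]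
        apply mul_lt_mul_of_pos_right _ hKpos
        linarith
      rw [hN'] at h3
      nlinarith
    have h6 : (T : ℝ) < (e : ℝ) + 1 := lt_of_mul_lt_mul_left h5 hCpos.le
    have h7 : T < e + 1 := by exact_mod_cast h6
    omega
  -- case split
  by_cases hex : ∃ φ₀ : IrrCharacter ↥C, S.lam φ₀ ≠ 1 ∧ mm φ₀ ≠ 0
  · obtain ⟨φ₀, hφ₀, hm0⟩ := hex
    set O : Finset (IrrCharacter ↥C) := Finset.univ.image (fun n : ↥N => S.conjIrr φ₀ n) with hO
    have hcard : e ≤ O.card := by
      have h1 := S.card_orbit_ge φ₀ hφ₀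
      rw [he, mul_comm] at h1
      have hpos : 0 < Nat.card C := Nat.card_pos
      exact Nat.le_of_mul_le_mul_left h1 hpos
    have hmO : ∀ φ ∈ O, mm φ = mm φ₀ := by
      intro φ hφ
      obtain ⟨n, _, rfl⟩ := Finset.mem_image.mp hφ
      have := S.inner_conjIrr hcf φ₀ n
      rw [hmm, hmm] at this
      exact_mod_cast this
    have hsplit : T = O.card * mm φ₀ ^ 2 + ∑ φ ∈ Finset.univ \ O, mm φ ^ 2 := by
      rw [hT, ← Finset.sum_sdiff (Finset.subset_univ O), add_comm]
      congr 1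
      rw [Finset.sum_congr rfl (fun φ hφ => by rw [hmO φ hφ]), Finset.sum_const, smul_eq_mul]
    have hepos : 0 < e := by
      rcases Nat.eq_zero_or_pos e with h0 | h0
      · rw [h0, zero_mul] at he
        exact absurd he Nat.card_pos.ne'
      · exact h0
    have hm1 : mm φ₀ = 1 := by
      by_contra hne
      have h2 : 2 ≤ mm φ₀ := by omega
      have h4 : 4 ≤ mm φ₀ ^ 2 := by nlinarith
      have h5 : O.card * 4 ≤ O.card * mm φ₀ ^ 2 := Nat.mul_le_mul_left _ h4
      generalize O.card * mm φ₀ ^ 2 = A at hsplit h5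
      omega
    have hOe : O.card = e := by
      rw [hm1, one_pow, mul_one] at hsplit
      omega
    have hrest : ∀ φ ∈ Finset.univ \ O, mm φ = 0 := by
      have hz : ∑ φ ∈ Finset.univ \ O, mm φ ^ 2 = 0 := by
        rw [hm1, one_pow, mul_one] at hsplit
        omega
      intro φ hφ
      have := (Finset.sum_eq_zero_iff.mp hz) φ hφ
      exact pow_eq_zero_iff (two_ne_zero) |>.mp this
    refine ⟨O, (Helper76.irr_exists_degree φ₀.2).choose, hOe, ?_, ?_, ?_⟩
    · intro c
      have hdec := Helper74.isCharacter_eq_sum_irr hcharC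
      have := congrFun hdec c
      simp only [Finset.sum_apply, Pi.smul_apply, smul_eq_mul] at this
      rw [this, ← Finset.sum_sdiff (Finset.subset_univ O)]
      have hz : ∑ φ ∈ Finset.univ \ O,
          classInner (fun c : ↥C => χ c) (φ : ↥C → ℂ) * (φ : ↥C → ℂ) c = 0 := by
        refine Finset.sum_eq_zero (fun φ hφ => ?_)
        rw [hmm, hrest φ hφ]; simp
      rw [hz, zero_add]
      refine Finset.sum_congr rfl (fun φ hφ => ?_)
      rw [hmm, hmO φ hφ, hm1]; simp
    · intro φ hφ φ' hφ' hlam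
      obtain ⟨n, _, rfl⟩ := Finset.mem_image.mp hφ
      obtain ⟨n', _, rfl⟩ := Finset.mem_image.mp hφ'
      exact S.conjIrr_eq_of_mem_C φ₀ n n' (S.mem_C_of_lam_eq φ₀ hφ₀ n n' hlam)
    · intro φ hφ
      obtain ⟨n, _, rfl⟩ := Finset.mem_image.mp hφ
      rw [S.conjIrr_apply_one]
      exact (Helper76.irr_exists_degree φ₀.2).choose_spec.2
  · exfalso
    push Not at hex
    have hconst := S.const_on_P hchar (fun φ hφ => by rw [hmm, hex φ hφ]; simp)
    have hall := irr_const_of_const_on hχ hnc hconst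
    have hp := irr_eq_principal_of_const (⟨χ, hχ⟩ : IrrCharacter G) hall
    apply h1
    have := congrArg Subtype.val hp
    exact this

end BLSetup

end Cfsg.Agent.Helper75
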