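import Mathlib
import Cfsg.Prelude.Def_Characters
import Cfsg.Agent.Helper75.BLMain

/-!
# The Brauer–Leonard degree bound: the second step (helper75)
-/

set_option autoImplicit false

namespace Cfsg.Agent.Helper75

open Cfsg
open scoped ComplexConjugate

universe u

variable {G : Type u} [Group G] [Fintype G] {P K C N : Subgroup G} (S : BLSetup P K C N)
  [Fintype ↥P] [Fintype ↥K] [Fintype ↥C] [Fintype ↥N]

/-- The outcome of the first step: `χ` restricted to `C` is the sum of `e` irreducible characters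
with pairwise distinct central characters on `P`, all of degree `d`. -/
structure BLOrb (S : BLSetup P K C N) (χ : G → ℂ) (e d : ℕ) (O : Finset (IrrCharacter ↥C)) :
    Prop where
  card : O.card = e
  eq : ∀ c : ↥C, χ c = ∑ φ ∈ O, (φ : ↥C → ℂ) c
  inj : ∀ φ ∈ O, ∀ φ' ∈ O, S.lam φ = S.lam φ' → φ = φ'
  deg : ∀ φ ∈ O, (φ : ↥C → ℂ) 1 = d

/-- `F₀ = ∑_{φ ∈ O} |φ|²`. -/
noncomputable def blF0 (O : Finset (IrrCharacter ↥C)) (c : ↥C) : ℝ :=
  ∑ φ ∈ O, Complex.normSq ((φ : ↥C → ℂ) c)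

namespace BLOrb

variable {S} {χ : G → ℂ} {e d : ℕ} {O : Finset (IrrCharacter ↥C)} (h : BLOrb S χ e d O)

include h

omit [Fintype ↥K] [Fintype ↥N] [Fintype ↥C] in
/-- The `P`-average of `|χ|²` on `C` is `F₀`. -/
theorem avg_eq : S.avgP (fun c : ↥C => χ c * conj (χ c)) = fun c => ((blF0 O c : ℝ) : ℂ) := by
  classical
  funext c
  have hq : (Nat.card P : ℂ) ≠ 0 := by
    have : Nat.card P ≠ 0 := Nat.card_pos.ne'
    exact_mod_cast this
  unfold BLSetup.avgP blF0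
  have h1 : ∀ y : ↥P, χ ((S.incl y * c : ↥C) : G) * conj (χ ((S.incl y * c : ↥C) : G))
      = ∑ φ ∈ O, ∑ φ' ∈ O, (S.lam φ y * conj (S.lam φ' y))
          * ((φ : ↥C → ℂ) c * conj ((φ' : ↥C → ℂ) c)) := by
    intro y
    rw [h.eq, map_sum, Finset.sum_mul_sum]
    refine Finset.sum_congr rfl (fun φ _ => Finset.sum_congr rfl (fun φ' _ => ?_))
    rw [S.lam_spec, S.lam_spec, map_mul]
    ring
  rw [Finset.sum_congr rfl (fun y _ => h1 y), Finset.sum_comm]
  have h2 : ∀ φ ∈ O, ∑ y : ↥P, ∑ φ' ∈ O, (S.lam φ y * conj (S.lam φ' y))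
          * ((φ : ↥C → ℂ) c * conj ((φ' : ↥C → ℂ) c))
      = (Nat.card P : ℂ) * ((φ : ↥C → ℂ) c * conj ((φ : ↥C → ℂ) c)) := by
    intro φ hφ
    rw [Finset.sum_comm]
    have h3 : ∀ φ' ∈ O, ∑ y : ↥P, (S.lam φ y * conj (S.lam φ' y))
          * ((φ : ↥C → ℂ) c * conj ((φ' : ↥C → ℂ) c))
        = if φ = φ' then (Nat.card P : ℂ) * ((φ : ↥C → ℂ) c * conj ((φ' : ↥C → ℂ) c)) else 0 := by
      intro φ' hφ'
      rw [← Finset.sum_mul, Helper76.sum_monoidHom_mul_conj]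
      by_cases heq : φ = φ'
      · rw [if_pos heq, if_pos (by rw [heq]), Nat.card_eq_fintype_card]
      · rw [if_neg heq, if_neg (fun hl => heq (h.inj φ hφ φ' hφ' hl)), zero_mul]
    rw [Finset.sum_congr rfl h3, Finset.sum_ite_eq O φ, if_pos hφ]
  rw [Finset.sum_congr rfl h2, ← Finset.mul_sum, ← mul_assoc, inv_mul_cancel₀ hq, one_mul]
  push_cast
  refine Finset.sum_congr rfl (fun φ _ => ?_)
  rw [Complex.mul_conj]

omit [Fintype ↥P] [Fintype ↥K] [Fintype ↥N] [Fintype ↥C] [Fintype G] in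
/-- Pointwise Cauchy–Schwarz. -/
theorem normSq_le (c : ↥C) : Complex.normSq (χ c) ≤ (e : ℝ) * blF0 O c := by
  rw [h.eq, Complex.normSq_eq_norm_sq]
  unfold blF0
  have h1 : ‖∑ φ ∈ O, (φ : ↥C → ℂ) c‖ ≤ ∑ φ ∈ O, ‖(φ : ↥C → ℂ) c‖ := norm_sum_le _ _
  have h2 : (∑ φ ∈ O, ‖(φ : ↥C → ℂ) c‖) ^ 2 ≤ (O.card : ℝ) * ∑ φ ∈ O, ‖(φ : ↥C → ℂ) c‖ ^ 2 :=
    sq_sum_le_card_mul_sum_sq
  rw [h.card] at h2
  have h3 : ‖∑ φ ∈ O, (φ : ↥C → ℂ) c‖ ^ 2 ≤ (∑ φ ∈ O, ‖(φ : ↥C → ℂ) c‖) ^ 2 :=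
    pow_le_pow_left₀ (norm_nonneg _) h1 2
  refine le_trans h3 (le_trans h2 (le_of_eq ?_))
  congr 1
  refine Finset.sum_congr rfl (fun φ _ => ?_)
  rw [Complex.normSq_eq_norm_sq]

omit [Fintype ↥P] [Fintype ↥K] [Fintype ↥N] [Fintype G] in
theorem sum_F0 : ∑ c : ↥C, blF0 O c = (e : ℝ) * Nat.card C := by
  unfold blF0
  rw [Finset.sum_comm]
  rw [Finset.sum_congr rfl (fun φ _ => BLSetup.sum_normSq_irr φ.2), Finset.sum_const, h.card,
    nsmul_eq_mul]

omit [Fintype ↥P] [Fintype ↥K] [Fintype ↥N] [Fintype G] in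
/-- `∑ F₀² ≥ e² |C|`. -/
theorem sum_F0_sq_ge : (e : ℝ) ^ 2 * Nat.card C ≤ ∑ c : ↥C, blF0 O c ^ 2 := by
  have h1 : (∑ c : ↥C, blF0 O c) ^ 2 ≤ ((Finset.univ : Finset ↥C).card : ℝ) * ∑ c : ↥C, blF0 O c ^ 2 :=
    sq_sum_le_card_mul_sum_sq
  rw [h.sum_F0, Finset.card_univ, ← Nat.card_eq_fintype_card] at h1
  have hCpos : (0 : ℝ) < Nat.card C := by exact_mod_cast Nat.card_pos
  have h2 : (Nat.card C : ℝ) * ((e : ℝ) ^ 2 * Nat.card C)
      ≤ (Nat.card C : ℝ) * ∑ c : ↥C, blF0 O c ^ 2 := by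
    calc (Nat.card C : ℝ) * ((e : ℝ) ^ 2 * Nat.card C) = ((e : ℝ) * Nat.card C) ^ 2 := by ring
      _ ≤ _ := h1
  exact le_of_mul_le_mul_left h2 hCpos

omit [Fintype ↥P] [Fintype ↥K] [Fintype ↥N] [Fintype ↥C] h in
/-- `F₀` is invariant under translation by `P`. -/
theorem F0_inv (O : Finset (IrrCharacter ↥C)) (y : ↥P) (c : ↥C) :
    blF0 O (S.incl y * c) = blF0 O c := by
  unfold blF0
  refine Finset.sum_congr rfl (fun φ _ => ?_)
  rw [S.lam_spec, Complex.normSq_mul, Complex.normSq_eq_norm_sq,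
    Helper76.norm_monoidHom_eq_one, one_pow, one_mul]

omit [Fintype ↥N] h in
theorem sum_F0_sq_K (O : Finset (IrrCharacter ↥C)) :
    ∑ c : ↥C, blF0 O c ^ 2 = (Nat.card P : ℝ) * ∑ k : ↥K, blF0 O (S.inclK k) ^ 2 := by
  rw [S.sum_C']
  have : ∀ y : ↥P, ∑ k : ↥K, blF0 O (Subgroup.inclusion S.hPC y * S.inclK k) ^ 2
      = ∑ k : ↥K, blF0 O (S.inclK k) ^ 2 := by
    intro y
    refine Finset.sum_congr rfl (fun k _ => ?_)
    have := F0_inv (S := S) O y (S.inclK k)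
    rw [show S.incl y = Subgroup.inclusion S.hPC y from rfl] at this
    rw [this]
  rw [Finset.sum_congr rfl (fun y _ => this y), Finset.sum_const, Finset.card_univ, nsmul_eq_mul,
    Nat.card_eq_fintype_card]

end BLOrb

namespace BLSetup

variable [Fintype (IrrCharacter ↥C)]

include S

/-- The `P`-nontrivial part of the restriction of a nonprincipal irreducible character has squared
norm at least `e`. -/
theorem ntP_irr_ge (hnc : ∀ M : Subgroup G, M.Normal → P ≤ M → M = ⊤)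
    (e : ℕ) (he : Nat.card N = e * Nat.card C) (θ : IrrCharacter G)
    (hθ : θ ≠ Helper79.principalIrr G) :
    (e : ℝ) ≤ S.ntP (fun c : ↥C => (θ : G → ℂ) c) := by
  classical
  have hchar : IsCharacter G (θ : G → ℂ) := Helper74.irr_isCharacter θ
  have hcf : IsClassFunction G (θ : G → ℂ) := Helper74.isClassFunction_of_isCharacter hchar
  have hcharC : IsCharacter ↥C (fun c : ↥C => (θ : G → ℂ) c) :=
    Helper74.isCharacter_restrict C hchar
  have hex : ∃ φ₀ : IrrCharacter ↥C, S.lam φ₀ ≠ 1 ∧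
      classInner (fun c : ↥C => (θ : G → ℂ) c) (φ₀ : ↥C → ℂ) ≠ 0 := by
    by_contra hcon
    push Not at hcon
    have hconst := S.const_on_P hchar hcon
    have hall := irr_const_of_const_on θ.2 hnc hconst
    exact hθ (irr_eq_principal_of_const θ hall)
  obtain ⟨φ₀, hφ₀, hne⟩ := hex
  obtain ⟨m, hm⟩ := Helper74.isCharacter_inner_irr_nat hcharC φ₀
  have hm0 : m ≠ 0 := by
    rintro rfl
    apply hne
    rw [hm]; simp
  have h1 := S.ntP_ge e he hcf φ₀ hφ₀
  rw [hm, Complex.normSq_natCast] at h1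
  have h2 : (1 : ℝ) ≤ (m : ℝ) * m := by
    have : (1 : ℝ) ≤ m := by exact_mod_cast Nat.one_le_iff_ne_zero.mpr hm0
    nlinarith
  have he0 : (0 : ℝ) ≤ e := Nat.cast_nonneg _
  nlinarith

/-- **The key inequality**: `‖χ χ̄‖² - 1` is at most `1/e` times the squared norm of the
`P`-nontrivial part of `|χ|²` on `C`. -/
theorem psi_bound [Fintype (IrrCharacter G)]
    (hnc : ∀ M : Subgroup G, M.Normal → P ≤ M → M = ⊤)
    (e : ℕ) (he : Nat.card N = e * Nat.card C) {χ : G → ℂ} (hχ : IsIrrCharacter G χ) :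
    (e : ℝ) * ((∑ g : G, Complex.normSq (χ g) ^ 2) / (Nat.card G : ℝ) - 1)
      ≤ S.ntP (fun c : ↥C => χ c * conj (χ c)) := by
  classical
  have hchar : IsCharacter G χ := Helper74.isCharacter_of_isIrr hχ
  set Ψ : G → ℂ := fun g => χ g * conj (χ g) with hΨdef
  have hΨ : IsCharacter G Ψ :=
    Helper74.isCharacter_mul hchar (Helper74.isCharacter_conj hchar)
  have hΨcf : IsClassFunction G Ψ := Helper74.isClassFunction_of_isCharacter hΨ
  choose ee hee using fun θ : IrrCharacter G => Helper74.isCharacter_inner_irr_nat hΨ θ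
  have hdecΨ := Helper74.isCharacter_eq_sum_irr hΨ
  have hGpos : (0 : ℝ) < Nat.card G := by exact_mod_cast Nat.card_pos
  -- Parseval on `G`
  have hparsG : classInner Ψ Ψ = ((∑ θ : IrrCharacter G, ee θ ^ 2 : ℕ) : ℂ) := by
    rw [Helper15.classInner_eq_sum_irr hΨcf]
    push_cast
    refine Finset.sum_congr rfl (fun θ _ => ?_)
    rw [hee θ]; simp [sq]
  have hsum4 : ∑ g : G, Complex.normSq (χ g) ^ 2
      = (Nat.card G : ℝ) * ((∑ θ : IrrCharacter G, ee θ ^ 2 : ℕ) : ℝ) := by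
    have h := hparsG
    unfold classInner at h
    have hG0 : (Nat.card G : ℂ) ≠ 0 := by
      have : Nat.card G ≠ 0 := Nat.card_pos.ne'
      exact_mod_cast this
    have h2 : ∑ g : G, Ψ g * conj (Ψ g)
        = (Nat.card G : ℂ) * ((∑ θ : IrrCharacter G, ee θ ^ 2 : ℕ) : ℂ) := by
      field_simp at h
      rw [h]
    have h3 : ∀ g : G, Ψ g * conj (Ψ g) = ((Complex.normSq (χ g) ^ 2 : ℝ) : ℂ) := by
      intro g
      rw [hΨdef]
      simp only [Complex.mul_conj, Complex.conj_ofReal]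
      push_cast; ring
    rw [Finset.sum_congr rfl (fun g _ => h3 g), ← Complex.ofReal_sum] at h2
    exact_mod_cast h2
  -- the principal character
  have hee1 : ee (Helper79.principalIrr G) = 1 := by
    have h2 : classInner Ψ ((Helper79.principalIrr G : IrrCharacter G) : G → ℂ)
        = classInner χ χ := by
      unfold classInner
      congr 1
      refine Finset.sum_congr rfl (fun g _ => ?_)
      show Ψ g * conj (1 : ℂ) = _
      simp [hΨdef]
    have h3 := Helper74.irr_inner_self (⟨χ, hχ⟩ : IrrCharacter G)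
    have h4 := hee (Helper79.principalIrr G)
    rw [h2, h3] at h4
    exact_mod_cast h4.symm
  -- restriction multiplicities
  choose a ha using fun (θ : IrrCharacter G) (φ : IrrCharacter ↥C) =>
    Helper74.isCharacter_inner_irr_nat
      (Helper74.isCharacter_restrict C (Helper74.irr_isCharacter θ)) φ
  have hinner : ∀ φ : IrrCharacter ↥C, classInner (fun c : ↥C => Ψ c) (φ : ↥C → ℂ)
      = ((∑ θ : IrrCharacter G, ee θ * a θ φ : ℕ) : ℂ) := by
    intro φ
    have hfun : (fun c : ↥C => Ψ c)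
        = ∑ θ : IrrCharacter G, (ee θ : ℂ) • (fun c : ↥C => (θ : G → ℂ) c) := by
      funext c
      have := congrFun hdecΨ c
      rw [Finset.sum_apply] at this
      rw [Finset.sum_apply, this]
      refine Finset.sum_congr rfl (fun θ _ => ?_)
      simp only [Pi.smul_apply, smul_eq_mul, hee θ]
    rw [hfun, Helper74.classInner_sum_left]
    push_cast
    refine Finset.sum_congr rfl (fun θ _ => ?_)
    rw [Helper74.classInner_smul_left, ha θ φ]
  -- the `P`-nontrivial part of `θ|C`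
  have hnt : ∀ θ : IrrCharacter G, S.ntP (fun c : ↥C => (θ : G → ℂ) c)
      = ∑ φ : IrrCharacter ↥C, if S.lam φ = 1 then 0 else ((a θ φ : ℝ)) ^ 2 := by
    intro θ
    unfold ntP
    refine Finset.sum_congr rfl (fun φ _ => ?_)
    rw [ha θ φ, Complex.normSq_natCast, sq]
  -- the main chain
  have hstep1 : ∑ φ : IrrCharacter ↥C,
      (if S.lam φ = 1 then (0 : ℝ) else ∑ θ : IrrCharacter G, ((ee θ : ℝ) * (a θ φ : ℝ)) ^ 2)
      ≤ S.ntP (fun c : ↥C => Ψ c) := by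
    unfold ntP
    refine Finset.sum_le_sum (fun φ _ => ?_)
    split_ifs
    · exact le_refl _
    · rw [hinner φ, Complex.normSq_natCast]
      push_cast
      rw [← sq]
      exact Finset.sum_sq_le_sq_sum_of_nonneg (fun θ _ => by positivity)
  have hstep2 : ∑ φ : IrrCharacter ↥C,
      (if S.lam φ = 1 then (0 : ℝ) else ∑ θ : IrrCharacter G, ((ee θ : ℝ) * (a θ φ : ℝ)) ^ 2)
      = ∑ θ : IrrCharacter G, ((ee θ : ℝ)) ^ 2 * S.ntP (fun c : ↥C => (θ : G → ℂ) c) := by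
    have : ∀ φ : IrrCharacter ↥C,
        (if S.lam φ = 1 then (0 : ℝ) else ∑ θ : IrrCharacter G, ((ee θ : ℝ) * (a θ φ : ℝ)) ^ 2)
        = ∑ θ : IrrCharacter G, ((ee θ : ℝ)) ^ 2 *
            (if S.lam φ = 1 then 0 else ((a θ φ : ℝ)) ^ 2) := by
      intro φ
      split_ifs
      · simp
      · refine Finset.sum_congr rfl (fun θ _ => ?_)
        ring
    rw [Finset.sum_congr rfl (fun φ _ => this φ), Finset.sum_comm]
    refine Finset.sum_congr rfl (fun θ _ => ?_)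
    rw [hnt θ, Finset.mul_sum]
  have hstep3 : (e : ℝ) * (((∑ θ : IrrCharacter G, ee θ ^ 2 : ℕ) : ℝ) - 1)
      ≤ ∑ θ : IrrCharacter G, ((ee θ : ℝ)) ^ 2 * S.ntP (fun c : ↥C => (θ : G → ℂ) c) := by
    have hsplit := Finset.add_sum_erase Finset.univ (fun θ : IrrCharacter G => ((ee θ : ℝ)) ^ 2)
      (Finset.mem_univ (Helper79.principalIrr G))
    have hsplit2 := Finset.add_sum_erase Finset.univ
      (fun θ : IrrCharacter G => ((ee θ : ℝ)) ^ 2 * S.ntP (fun c : ↥C => (θ : G → ℂ) c))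
      (Finset.mem_univ (Helper79.principalIrr G))
    simp only [hee1, Nat.cast_one, one_pow, one_mul] at hsplit hsplit2
    have hcast : ((∑ θ : IrrCharacter G, ee θ ^ 2 : ℕ) : ℝ)
        = ∑ θ : IrrCharacter G, ((ee θ : ℝ)) ^ 2 := by push_cast; rfl
    rw [hcast, ← hsplit, ← hsplit2]
    have hnn : 0 ≤ S.ntP (fun c : ↥C => ((Helper79.principalIrr G : IrrCharacter G) : G → ℂ) c) := by
      unfold ntP
      refine Finset.sum_nonneg (fun φ _ => ?_)
      split_ifs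
      · exact le_refl _
      · exact Complex.normSq_nonneg _
    have hrest : (e : ℝ) * ∑ θ ∈ Finset.univ.erase (Helper79.principalIrr G), ((ee θ : ℝ)) ^ 2
        ≤ ∑ θ ∈ Finset.univ.erase (Helper79.principalIrr G),
          ((ee θ : ℝ)) ^ 2 * S.ntP (fun c : ↥C => (θ : G → ℂ) c) := by
      rw [Finset.mul_sum]
      refine Finset.sum_le_sum (fun θ hθ => ?_)
      have hne : θ ≠ Helper79.principalIrr G := (Finset.mem_erase.mp hθ).1
      have := S.ntP_irr_ge hnc e he θ hne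
      have h0 : (0 : ℝ) ≤ ((ee θ : ℝ)) ^ 2 := by positivity
      nlinarith
    linarith
  rw [hsum4]
  have : (Nat.card G : ℝ) * ((∑ θ : IrrCharacter G, ee θ ^ 2 : ℕ) : ℝ) / (Nat.card G : ℝ)
      = ((∑ θ : IrrCharacter G, ee θ ^ 2 : ℕ) : ℝ) := by
    field_simp
  rw [this]
  calc (e : ℝ) * (((∑ θ : IrrCharacter G, ee θ ^ 2 : ℕ) : ℝ) - 1)
      ≤ ∑ θ : IrrCharacter G, ((ee θ : ℝ)) ^ 2 * S.ntP (fun c : ↥C => (θ : G → ℂ) c) := hstep3
    _ = _ := hstep2.symm
    _ ≤ _ := hstep1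

end BLSetup

end Cfsg.Agent.Helper75
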