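import Mathlib
import Cfsg.Prelude.Def_Characters
import Cfsg.Agent.Helper75.BLStep2

/-!
# The Brauer–Leonard degree bound: further properties of the orbit (helper75)
-/

set_option autoImplicit false

namespace Cfsg.Agent.Helper75

open Cfsg
open scoped ComplexConjugate

universe u

variable {G : Type u} [Group G] [Fintype G] {P K C N : Subgroup G} {S : BLSetup P K C N}
  [Fintype ↥P] [Fintype ↥K] [Fintype ↥C] [Fintype ↥N]

/-- Averaging over `P` preserves the total sum. -/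
theorem BLSetup.sum_avgP (S : BLSetup P K C N) (f : ↥C → ℂ) :
    ∑ c : ↥C, S.avgP f c = ∑ c : ↥C, f c := by
  have hq : (Nat.card P : ℂ) ≠ 0 := by
    have : Nat.card P ≠ 0 := Nat.card_pos.ne'
    exact_mod_cast this
  unfold BLSetup.avgP
  rw [← Finset.mul_sum, Finset.sum_comm]
  have : ∀ y : ↥P, ∑ c : ↥C, f (S.incl y * c) = ∑ c : ↥C, f c := fun y =>
    Fintype.sum_equiv (Equiv.mulLeft (S.incl y)) _ _ (fun c => rfl)
  rw [Finset.sum_congr rfl (fun y _ => this y), Finset.sum_const, Finset.card_univ, nsmul_eq_mul,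
    ← Nat.card_eq_fintype_card, ← mul_assoc, inv_mul_cancel₀ hq, one_mul]

theorem isCharacter_finsum {H : Type u} [Group H] {ι : Type*} (s : Finset ι) (f : ι → H → ℂ)
    (hf : ∀ i ∈ s, IsCharacter H (f i)) : IsCharacter H (∑ i ∈ s, f i) := by
  classical
  induction s using Finset.induction_on with
  | empty => simpa using Helper74.isCharacter_zero
  | insert a s ha ih =>
    rw [Finset.sum_insert ha]
    exact Helper74.isCharacter_add (hf a (Finset.mem_insert_self a s))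
      (ih (fun i hi => hf i (Finset.mem_insert_of_mem hi)))

namespace BLOrb

variable {χ : G → ℂ} {e d : ℕ} {O : Finset (IrrCharacter ↥C)} (h : BLOrb S χ e d O)

include h

/-- `∑_C |χ|² = e |C|`. -/
theorem sum_F : ∑ c : ↥C, Complex.normSq (χ c) = (e : ℝ) * Nat.card C := by
  have h1 := S.sum_avgP (fun c : ↥C => χ c * conj (χ c))
  rw [h.avg_eq] at h1
  simp only [Complex.mul_conj] at h1
  rw [← Complex.ofReal_sum, ← Complex.ofReal_sum] at h1
  have h2 : ∑ c : ↥C, blF0 O c = ∑ c : ↥C, Complex.normSq (χ c) := by exact_mod_cast h1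
  rw [← h2, h.sum_F0]

omit [Fintype ↥P] [Fintype ↥K] [Fintype ↥N] in
/-- `F₀ ≤ e d²`. -/
theorem F0_le (c : ↥C) : blF0 O c ≤ (e : ℝ) * (d : ℝ) ^ 2 := by
  unfold blF0
  have : ∑ φ ∈ O, Complex.normSq ((φ : ↥C → ℂ) c) ≤ ∑ _φ ∈ O, (d : ℝ) ^ 2 :=
    Finset.sum_le_sum (fun φ hφ =>
      BLSetup.normSq_le_sq (Helper74.irr_isCharacter φ) (h.deg φ hφ) c)
  rw [Finset.sum_const, h.card, nsmul_eq_mul] at this
  exact this

omit [Fintype ↥P] [Fintype ↥K] [Fintype ↥N] [Fintype ↥C] [Fintype G] h in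
theorem F0_nonneg (O : Finset (IrrCharacter ↥C)) (c : ↥C) : 0 ≤ blF0 O c :=
  Finset.sum_nonneg (fun _ _ => Complex.normSq_nonneg _)

omit [Fintype ↥P] [Fintype ↥K] [Fintype ↥N] [Fintype G] in
/-- If `d ≥ 2` then `∑ F₀² ≥ (e² + 1) |C|`. -/
theorem sum_F0_sq_ge' [Fintype (IrrCharacter ↥C)] (he : 0 < e) (hd : 2 ≤ d) :
    ((e : ℝ) ^ 2 + 1) * Nat.card C ≤ ∑ c : ↥C, blF0 O c ^ 2 := by
  classical
  set F0c : ↥C → ℂ := ∑ φ ∈ O, (φ : ↥C → ℂ) * (fun c => conj ((φ : ↥C → ℂ) c)) with hF0c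
  have hchar : IsCharacter ↥C F0c :=
    isCharacter_finsum O _ (fun φ _ => Helper74.isCharacter_mul (Helper74.irr_isCharacter φ)
      (Helper74.isCharacter_conj (Helper74.irr_isCharacter φ)))
  have hcf : IsClassFunction ↥C F0c := Helper74.isClassFunction_of_isCharacter hchar
  have hval : ∀ c : ↥C, F0c c = ((blF0 O c : ℝ) : ℂ) := by
    intro c
    rw [hF0c, Finset.sum_apply]
    unfold blF0
    push_cast
    refine Finset.sum_congr rfl (fun φ _ => ?_)
    simp only [Pi.mul_apply, Complex.mul_conj]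
  choose b hb using fun ψ : IrrCharacter ↥C => Helper74.isCharacter_inner_irr_nat hchar ψ
  -- multiplicity of the principal character
  have hb1 : b (Helper79.principalIrr ↥C) = e := by
    have h1 : classInner F0c ((Helper79.principalIrr ↥C : IrrCharacter ↥C) : ↥C → ℂ) = (e : ℂ) := by
      rw [hF0c, Helper74.classInner_sum_left]
      have : ∀ φ ∈ O, classInner ((φ : ↥C → ℂ) * (fun c => conj ((φ : ↥C → ℂ) c)))
          ((Helper79.principalIrr ↥C : IrrCharacter ↥C) : ↥C → ℂ) = 1 := by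
        intro φ _
        have h2 : classInner ((φ : ↥C → ℂ) * (fun c => conj ((φ : ↥C → ℂ) c)))
            ((Helper79.principalIrr ↥C : IrrCharacter ↥C) : ↥C → ℂ)
            = classInner (φ : ↥C → ℂ) (φ : ↥C → ℂ) := by
          unfold classInner
          congr 1
          refine Finset.sum_congr rfl (fun c _ => ?_)
          show ((φ : ↥C → ℂ) * (fun c => conj ((φ : ↥C → ℂ) c))) c * conj (1 : ℂ) = _
          simp
        rw [h2, Helper74.irr_inner_self]
      rw [Finset.sum_congr rfl this, Finset.sum_const, h.card, nsmul_eq_mul, mul_one]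
    rw [hb] at h1
    exact_mod_cast h1
  -- another constituent
  have hex : ∃ ψ₁ : IrrCharacter ↥C, ψ₁ ≠ Helper79.principalIrr ↥C ∧ b ψ₁ ≠ 0 := by
    by_contra hcon
    push Not at hcon
    have hdec := Helper74.isCharacter_eq_sum_irr hchar
    have h1 := congrFun hdec 1
    simp only [Finset.sum_apply, Pi.smul_apply, smul_eq_mul] at h1
    rw [Finset.sum_eq_single (Helper79.principalIrr ↥C)
      (fun ψ _ hψ => by rw [hb, hcon ψ hψ]; simp) (fun hn => absurd (Finset.mem_univ _) hn)] at h1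
    rw [hb, hb1, hval] at h1
    have h2 : blF0 O 1 = (e : ℝ) * (d : ℝ) ^ 2 := by
      unfold blF0
      have : ∀ φ ∈ O, Complex.normSq ((φ : ↥C → ℂ) 1) = (d : ℝ) ^ 2 := by
        intro φ hφ
        rw [h.deg φ hφ, Complex.normSq_natCast, sq]
      rw [Finset.sum_congr rfl this, Finset.sum_const, h.card, nsmul_eq_mul]
    rw [h2] at h1
    have h3 : ((Helper79.principalIrr ↥C : IrrCharacter ↥C) : ↥C → ℂ) 1 = 1 := rfl
    rw [h3, mul_one] at h1
    have h4 : (e : ℝ) * (d : ℝ) ^ 2 = e := by exact_mod_cast h1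
    have heR : (0 : ℝ) < e := by exact_mod_cast he
    have hdR : (2 : ℝ) ≤ d := by exact_mod_cast hd
    have hd4 : (4 : ℝ) ≤ (d : ℝ) ^ 2 := by nlinarith
    nlinarith [mul_le_mul_of_nonneg_left hd4 heR.le]
  obtain ⟨ψ₁, hψ₁, hbψ₁⟩ := hex
  -- Parseval
  have hpars : classInner F0c F0c = ((∑ ψ : IrrCharacter ↥C, b ψ ^ 2 : ℕ) : ℂ) := by
    rw [Helper15.classInner_eq_sum_irr hcf]
    push_cast
    refine Finset.sum_congr rfl (fun ψ _ => ?_)
    rw [hb ψ]; simp [sq]
  have hlow : e ^ 2 + 1 ≤ ∑ ψ : IrrCharacter ↥C, b ψ ^ 2 := by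
    have hsub : ({Helper79.principalIrr ↥C, ψ₁} : Finset (IrrCharacter ↥C)) ⊆ Finset.univ :=
      Finset.subset_univ _
    have h1 := Finset.sum_le_sum_of_subset (f := fun ψ : IrrCharacter ↥C => b ψ ^ 2) hsub
    rw [Finset.sum_pair hψ₁.symm, hb1] at h1
    have h2 : 1 ≤ b ψ₁ ^ 2 := Nat.one_le_pow _ _ (Nat.pos_of_ne_zero hbψ₁)
    omega
  have hsum : ∑ c : ↥C, blF0 O c ^ 2
      = (Nat.card C : ℝ) * ((∑ ψ : IrrCharacter ↥C, b ψ ^ 2 : ℕ) : ℝ) := by
    have hh := hpars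
    unfold classInner at hh
    have hC0 : (Nat.card C : ℂ) ≠ 0 := by
      have : Nat.card C ≠ 0 := Nat.card_pos.ne'
      exact_mod_cast this
    have h2 : ∑ c : ↥C, F0c c * conj (F0c c)
        = (Nat.card C : ℂ) * ((∑ ψ : IrrCharacter ↥C, b ψ ^ 2 : ℕ) : ℂ) := by
      field_simp at hh
      rw [hh]
    have h3 : ∀ c : ↥C, F0c c * conj (F0c c) = ((blF0 O c ^ 2 : ℝ) : ℂ) := by
      intro c
      rw [hval c, Complex.conj_ofReal]
      push_cast; ring
    rw [Finset.sum_congr rfl (fun c _ => h3 c), ← Complex.ofReal_sum] at h2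
    exact_mod_cast h2
  rw [hsum, mul_comm]
  have hCpos : (0 : ℝ) ≤ Nat.card C := Nat.cast_nonneg _
  apply mul_le_mul_of_nonneg_left _ hCpos
  exact_mod_cast hlow

/-- The `P`-nontrivial part of `|χ|²`. -/
theorem ntP_F [Fintype (IrrCharacter ↥C)] :
    S.ntP (fun c : ↥C => χ c * conj (χ c)) * (Nat.card C : ℝ)
      = ∑ c : ↥C, Complex.normSq (χ c) ^ 2 - ∑ c : ↥C, blF0 O c ^ 2 := by
  have hcf : IsClassFunction ↥C (fun c : ↥C => χ c * conj (χ c)) := by
    intro c k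
    have := h.eq
    show χ ((k * c * k⁻¹ : ↥C) : G) * conj (χ ((k * c * k⁻¹ : ↥C) : G)) = χ c * conj (χ c)
    have hc : ∀ c' : ↥C, χ ((k * c' * k⁻¹ : ↥C) : G) = χ c' := by
      intro c'
      rw [h.eq, h.eq]
      refine Finset.sum_congr rfl (fun φ _ => ?_)
      exact Helper74.irr_isClassFunction φ c' k
    rw [hc]
  have h1 := S.ntP_eq hcf
  rw [h.avg_eq] at h1
  have hC0 : (Nat.card C : ℂ) ≠ 0 := by
    have : Nat.card C ≠ 0 := Nat.card_pos.ne'
    exact_mod_cast this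
  unfold classInner at h1
  have e1 : ∑ c : ↥C, (χ c * conj (χ c)) * conj (χ c * conj (χ c))
      = ((∑ c : ↥C, Complex.normSq (χ c) ^ 2 : ℝ) : ℂ) := by
    rw [Complex.ofReal_sum]
    refine Finset.sum_congr rfl (fun c _ => ?_)
    simp only [Complex.mul_conj, Complex.conj_ofReal]
    push_cast; ring
  have e2 : ∑ c : ↥C, ((blF0 O c : ℝ) : ℂ) * conj ((blF0 O c : ℝ) : ℂ)
      = ((∑ c : ↥C, blF0 O c ^ 2 : ℝ) : ℂ) := by
    rw [Complex.ofReal_sum]
    refine Finset.sum_congr rfl (fun c _ => ?_)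
    rw [Complex.conj_ofReal]
    push_cast; ring
  rw [e1, e2] at h1
  have h2 : ((S.ntP (fun c : ↥C => χ c * conj (χ c)) * (Nat.card C : ℝ) : ℝ) : ℂ)
      = ((∑ c : ↥C, Complex.normSq (χ c) ^ 2 - ∑ c : ↥C, blF0 O c ^ 2 : ℝ) : ℂ) := by
    push_cast
    rw [h1]
    field_simp
    simp only [Complex.ofReal_sum, Complex.ofReal_pow]
  exact_mod_cast h2

end BLOrb

end Cfsg.Agent.Helper75
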