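import Mathlib
import Cfsg.Prelude.Def_Characters
import Cfsg.Agent.Helper75.BLStep3
import Cfsg.Agent.Helper75.BLArith

/-!
# The Brauer–Leonard degree bound: assembly (helper75)
-/

set_option autoImplicit false

namespace Cfsg.Agent.Helper75

open Cfsg
open scoped ComplexConjugate

universe u

variable {G : Type u} [Group G] [Fintype G] {P K C N : Subgroup G}
  [Fintype ↥P] [Fintype ↥K] [Fintype ↥C] [Fintype ↥N]

/-- **Brauer–Leonard, abstract form.** In the configuration `BLSetup P K C N`, if no proper normal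
subgroup contains `P`, a nonprincipal irreducible character `χ` with `χ(1)² + 1 < |P|` is linear and
`N = C` (in the sense `|N : C| = 1`). -/
theorem BLSetup.final [Fintype (IrrCharacter ↥C)] [Fintype (IrrCharacter G)]
    (S : BLSetup P K C N)
    (hnc : ∀ M : Subgroup G, M.Normal → P ≤ M → M = ⊤)
    (e : ℕ) (he : Nat.card N = e * Nat.card C)
    {χ : G → ℂ} (hχ : IsIrrCharacter G χ) (h1 : χ ≠ fun _ => 1) (x : ℕ) (hx : χ 1 = x)
    (hdeg : x ^ 2 + 1 < Nat.card P) : e = 1 ∧ x = 1 := by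
  classical
  obtain ⟨O, d, hOc, hOeq, hOinj, hOdeg⟩ := S.step1 hnc e he hχ h1 x hx hdeg
  have h : BLOrb S χ e d O := ⟨hOc, hOeq, hOinj, hOdeg⟩
  have hchar : IsCharacter G χ := Helper74.isCharacter_of_isIrr hχ
  have hcf : IsClassFunction G χ := Helper74.isClassFunction_of_isCharacter hchar
  -- `x = e d`
  have hxed : x = e * d := by
    have h2 := h.eq 1
    rw [show χ ((1 : ↥C) : G) = χ 1 from rfl, hx,
      Finset.sum_congr rfl (fun φ hφ => h.deg φ hφ), Finset.sum_const, h.card, nsmul_eq_mul] at h2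
    exact_mod_cast h2
  have hepos : 0 < e := by
    rcases Nat.eq_zero_or_pos e with h0 | h0
    · rw [h0, zero_mul] at he
      exact absurd he Nat.card_pos.ne'
    · exact h0
  obtain ⟨x', hx'pos, hx'⟩ := Helper76.irr_exists_degree hχ
  have hxpos : 0 < x := by
    have : (x : ℂ) = x' := by rw [← hx, hx']
    have : x = x' := by exact_mod_cast this
    rw [this]; exact hx'pos
  have hdpos : 0 < d := by
    rcases Nat.eq_zero_or_pos d with h0 | h0
    · rw [h0, mul_zero] at hxed; omega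
    · exact h0
  -- real abbreviations
  set g : ℝ := (Nat.card G : ℝ) with hg
  set nN : ℝ := (Nat.card N : ℝ) with hnN
  set cC : ℝ := (Nat.card C : ℝ) with hcC
  set q : ℝ := (Nat.card P : ℝ) with hq
  set k : ℝ := (Nat.card K : ℝ) with hk
  have hgpos : 0 < g := by rw [hg]; exact_mod_cast Nat.card_pos
  have hnNpos : 0 < nN := by rw [hnN]; exact_mod_cast Nat.card_pos
  have hcCpos : 0 < cC := by rw [hcC]; exact_mod_cast Nat.card_pos
  have hqpos : 0 < q := by rw [hq]; exact_mod_cast Nat.card_pos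
  have hkpos : 0 < k := by rw [hk]; exact_mod_cast Nat.card_pos
  have hN' : nN = (e : ℝ) * cC := by rw [hnN, hcC]; exact_mod_cast he
  have hcardC : cC = q * k := by rw [hcC, hq, hk]; exact_mod_cast S.card_C
  -- the sums
  set FG : G → ℝ := fun y => Complex.normSq (χ y) with hFG
  have hFGinv : ∀ y z : G, FG (z * y * z⁻¹) = FG y := BLSetup.normSq_conj_inv hcf
  set W4 : ℝ := ∑ y ∈ S.wset, FG y ^ 2 with hW4
  set W2 : ℝ := ∑ y ∈ S.wset, FG y with hW2
  set W0 : ℝ := ∑ _y ∈ S.wset, (1 : ℝ) with hW0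
  set A4 : ℝ := ∑ y : G, FG y ^ 2 with hA4
  set X2 : ℝ := ∑ c : ↥C, FG c ^ 2 with hX2
  set Y : ℝ := ∑ c : ↥C, blF0 O c ^ 2 with hY
  set s4 : ℝ := ∑ z : ↥K, FG z ^ 2 with hs4
  set s2 : ℝ := ∑ z : ↥K, FG z with hs2
  have ti4 : nN * (A4 - W4) = g * (X2 - s4) :=
    S.ti_eq (fun y => FG y ^ 2) (fun y z => by simp only [hFGinv])
  have ti2 : nN * (g - W2) = g * ((e : ℝ) * cC - s2) := by
    have := S.ti_eq FG hFGinv
    rw [BLSetup.sum_normSq_irr hχ, h.sum_F] at this
    exact this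
  have ti0 : nN * (g - W0) = g * (cC - k) := by
    have := S.ti_eq (fun _ => (1 : ℝ)) (fun _ _ => rfl)
    simp only [Finset.sum_const, Finset.card_univ, nsmul_eq_mul, mul_one] at this
    rw [← Nat.card_eq_fintype_card, ← Nat.card_eq_fintype_card, ← Nat.card_eq_fintype_card] at this
    rw [hW0, Finset.sum_const, nsmul_eq_mul, mul_one]
    exact this
  -- the key inequality
  have hpsi := S.psi_bound hnc e he hχ
  have hnt := h.ntP_F
  have hkey : nN * W4 ≤ g * (nN - Y + s4) := by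
    have h2 : (e : ℝ) * (A4 / g - 1) * cC ≤ X2 - Y := by
      rw [← hnt]
      exact mul_le_mul_of_nonneg_right hpsi hcCpos.le
    have h3 : nN * A4 ≤ g * (nN + X2 - Y) := by
      have h4 : (A4 / g - 1) * nN ≤ X2 - Y := by rw [hN']; linarith
      have h5 : A4 / g * g = A4 := div_mul_cancel₀ A4 hgpos.ne'
      have h6 : g * ((A4 / g - 1) * nN) ≤ g * (X2 - Y) := mul_le_mul_of_nonneg_left h4 hgpos.le
      have h7 : g * ((A4 / g - 1) * nN) = nN * A4 - g * nN := by
        have : g * ((A4 / g - 1) * nN) = (A4 / g * g) * nN - g * nN := by ring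
        rw [this, h5]; ring
      linarith
    have : nN * W4 = nN * A4 - g * (X2 - s4) := by linarith
    linarith
  -- pointwise bounds on `K`
  have hFle : ∀ z : ↥K, FG z ≤ (e : ℝ) * blF0 O (S.inclK z) := fun z => h.normSq_le (S.inclK z)
  have hFnn : ∀ y : G, 0 ≤ FG y := fun y => Complex.normSq_nonneg _
  have hs4Y : q * s4 ≤ (e : ℝ) ^ 2 * Y := by
    have h2 : s4 ≤ (e : ℝ) ^ 2 * ∑ z : ↥K, blF0 O (S.inclK z) ^ 2 := by
      rw [hs4, Finset.mul_sum]
      refine Finset.sum_le_sum (fun z _ => ?_)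
      have := hFle z
      have h0 := hFnn z
      have : FG z ^ 2 ≤ ((e : ℝ) * blF0 O (S.inclK z)) ^ 2 := pow_le_pow_left₀ h0 this 2
      rw [mul_pow] at this
      exact this
    have h3 := BLOrb.sum_F0_sq_K (S := S) O
    rw [hY, h3]
    nlinarith
  have hYge : (e : ℝ) ^ 2 * cC ≤ Y := h.sum_F0_sq_ge
  have hW4pos : 0 < W4 := by
    have h0 : FG 1 ^ 2 ≤ W4 :=
      Finset.single_le_sum (f := fun y => FG y ^ 2) (fun y _ => by positivity) S.one_mem_wset
    have : 0 < FG 1 ^ 2 := by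
      rw [hFG]
      simp only
      rw [hx, Complex.normSq_natCast]
      have : (0 : ℝ) < x := by exact_mod_cast hxpos
      positivity
    linarith
  have hdegR : ((e : ℝ) * d) ^ 2 + 1 < q := by
    have : (e * d) ^ 2 + 1 < Nat.card P := by rw [← hxed]; exact hdeg
    rw [hq]; exact_mod_cast this
  have heR : (1 : ℝ) ≤ e := by exact_mod_cast hepos
  have hdR : (1 : ℝ) ≤ d := by exact_mod_cast hdpos
  have hqe : (e : ℝ) ^ 2 < q := by
    have hd2 : (1 : ℝ) ≤ (d : ℝ) ^ 2 := by nlinarith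
    have : (e : ℝ) ^ 2 * 1 ≤ (e : ℝ) ^ 2 * (d : ℝ) ^ 2 :=
      mul_le_mul_of_nonneg_left hd2 (sq_nonneg _)
    rw [mul_pow] at hdegR
    linarith
  -- `d = 1`
  have hd1 : d = 1 := by
    by_contra hne
    have hd2 : 2 ≤ d := by omega
    have hY2 : ((e : ℝ) ^ 2 + 1) * cC ≤ Y := h.sum_F0_sq_ge' hepos hd2
    have ha := bl_arith1 hgpos hcCpos hqpos hN' hW4pos hnNpos hkey hs4Y hY2 hqe
    have hdeg' : (e * d) ^ 2 + 1 < Nat.card P := by rw [← hxed]; exact hdeg
    have := bl_arith_d hepos hdeg' (by rw [hq] at ha; exact ha)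
    omega
  rw [hd1, mul_one] at hxed
  -- `e = 1`
  have he1 : e = 1 := by
    by_contra hne
    have he2 : 2 ≤ e := by omega
    have ha := bl_arith1 hgpos hcCpos hqpos hN' hW4pos hnNpos hkey hs4Y hYge hqe
    have hdvd : e ∣ Nat.card P - 1 := S.dvd_card_sub_one e he
    have hdeg' : e ^ 2 + 1 < Nat.card P := by rw [← hxed]; exact hdeg
    have hqval := bl_arith2 he2 hdvd hdeg' (by rw [hq] at ha; exact ha)
    -- boundary case
    have hqR : q = (e : ℝ) ^ 2 + e + 1 := by rw [hq, hqval]; push_cast; ring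
    have hF0le : ∀ c : ↥C, blF0 O c ≤ (e : ℝ) := by
      intro c
      have := h.F0_le c
      rw [hd1] at this
      simpa using this
    have hFle2 : ∀ z : ↥K, FG z ≤ (e : ℝ) ^ 2 := by
      intro z
      have h2 := hFle z
      have h3 := hF0le (S.inclK z)
      nlinarith
    have hs42 : s4 ≤ (e : ℝ) ^ 2 * s2 := by
      rw [hs4, hs2, Finset.mul_sum]
      refine Finset.sum_le_sum (fun z _ => ?_)
      have h2 := hFle2 z
      have h0 := hFnn z
      nlinarith
    have hs22 : s2 ≤ (e : ℝ) ^ 2 * k := by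
      have : s2 ≤ ∑ _z : ↥K, (e : ℝ) ^ 2 := Finset.sum_le_sum (fun z _ => hFle2 z)
      rw [Finset.sum_const, Finset.card_univ, nsmul_eq_mul, ← Nat.card_eq_fintype_card] at this
      rw [hk]; linarith
    have hpos : ((e : ℝ) ^ 3 - 1) ^ 2 ≤ (e : ℝ) ^ 2 * W4 - 2 * (e : ℝ) * W2 + W0 := by
      have h2 : ((e : ℝ) * FG 1 - 1) ^ 2 ≤ ∑ y ∈ S.wset, ((e : ℝ) * FG y - 1) ^ 2 :=
        Finset.single_le_sum (f := fun y => ((e : ℝ) * FG y - 1) ^ 2)
          (fun y _ => sq_nonneg _) S.one_mem_wset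
      have h3 : ∑ y ∈ S.wset, ((e : ℝ) * FG y - 1) ^ 2
          = (e : ℝ) ^ 2 * W4 - 2 * (e : ℝ) * W2 + W0 := by
        rw [hW4, hW2, hW0, Finset.mul_sum, Finset.mul_sum, ← Finset.sum_sub_distrib,
          ← Finset.sum_add_distrib]
        refine Finset.sum_congr rfl (fun y _ => ?_)
        ring
      have h4 : FG 1 = (e : ℝ) ^ 2 := by
        rw [hFG]
        simp only
        rw [hx, Complex.normSq_natCast, hxed]; ring
      rw [h3, h4] at h2
      have : (e : ℝ) * (e : ℝ) ^ 2 - 1 = (e : ℝ) ^ 3 - 1 := by ring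
      rw [this] at h2
      exact h2
    have heR2 : (2 : ℝ) ≤ e := by exact_mod_cast he2
    exact bl_arith3 hgpos hkpos heR2 hqR (by rw [hN', hcardC]) hkey
      (by rw [← hcardC]; exact hYge) hs42 hs22 (by rw [← hcardC]; exact ti2)
      (by rw [← hcardC]; exact ti0) hpos
  refine ⟨he1, ?_⟩
  rw [hxed, he1]

end Cfsg.Agent.Helper75
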