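import Mathlib
import Cfsg.Agent.Helper75.BLSetup

/-!
# The Brauer–Leonard configuration from a Sylow subgroup (helper75)

If `C_G(x) = C_G(P)` for all `1 ≠ x` in the Sylow `p`-subgroup `P`, then
`BLSetup P K C_G(P) N_G(P)` for a suitable normal `p`-complement `K` of `C_G(P)`.
-/

set_option autoImplicit false

namespace Cfsg.Agent.Helper75

universe u

variable {G : Type u} [Group G] [Finite G] {p : ℕ} [hp : Fact p.Prime]

theorem bl_P_le_C (P : Sylow p G)
    (hstar : ∀ x ∈ (P : Subgroup G), x ≠ 1 →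
      Subgroup.centralizer ({x} : Set G) = Subgroup.centralizer ((P : Subgroup G) : Set G)) :
    (P : Subgroup G) ≤ Subgroup.centralizer ((P : Subgroup G) : Set G) := by
  intro y hy
  by_cases h1 : y = 1
  · rw [h1]; exact Subgroup.one_mem _
  · rw [← hstar y hy h1]
    rw [Subgroup.mem_centralizer_iff]
    intro h hh
    rw [Set.mem_singleton_iff] at hh
    rw [hh]

/-- An element of a `p`-group killed by a number prime to `p` is trivial. -/
theorem bl_eq_one_of_pow (P : Sylow p G) {m : ℕ} (hm : m.Coprime p) {y : G}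
    (hy : y ∈ (P : Subgroup G)) (h : y ^ m = 1) : y = 1 := by
  obtain ⟨j, hj⟩ := P.isPGroup' ⟨y, hy⟩
  have hj' : y ^ (p ^ j) = 1 := by
    have := congrArg Subtype.val hj
    simpa using this
  have h1 : orderOf y ∣ p ^ j := orderOf_dvd_of_pow_eq_one hj'
  have h2 : orderOf y ∣ m := orderOf_dvd_of_pow_eq_one h
  have h3 : (p ^ j).Coprime m := (Nat.Coprime.pow_left j hm.symm)
  have h4 : (orderOf y).Coprime m := Nat.Coprime.coprime_dvd_left h1 h3
  have h5 : orderOf y = 1 := Nat.Coprime.eq_one_of_dvd h4 h2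
  exact orderOf_eq_one_iff.mp h5

/-- A central Sylow subgroup has a normal complement (Burnside transfer, inside `C_G(P)`). -/
theorem bl_exists_complement (P : Sylow p G)
    (hPC : (P : Subgroup G) ≤ Subgroup.centralizer ((P : Subgroup G) : Set G)) :
    ∃ K : Subgroup G, K ≤ Subgroup.centralizer ((P : Subgroup G) : Set G) ∧
      (∀ y ∈ (P : Subgroup G), y ∈ K → y = 1) ∧
      (∀ c ∈ Subgroup.centralizer ((P : Subgroup G) : Set G),
        ∃ y ∈ (P : Subgroup G), ∃ k ∈ K, c = y * k) ∧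
      (Nat.card K).Coprime p := by
  set C : Subgroup G := Subgroup.centralizer ((P : Subgroup G) : Set G) with hC
  let P' : Sylow p ↥C := P.subtype hPC
  have hP'coe : (P' : Subgroup ↥C) = (P : Subgroup G).subgroupOf C := Sylow.coe_subtype ..
  have hP' : Subgroup.normalizer ((P' : Subgroup ↥C) : Set ↥C)
      ≤ Subgroup.centralizer ((P' : Subgroup ↥C) : Set ↥C) := by
    intro c _
    rw [Subgroup.mem_centralizer_iff]
    intro z hz
    have hz' : (z : G) ∈ (P : Subgroup G) := by
      have : z ∈ (P' : Subgroup ↥C) := hz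
      rw [hP'coe, Subgroup.mem_subgroupOf] at this
      exact this
    apply Subtype.ext
    have := (Subgroup.mem_centralizer_iff.mp c.2) (z : G) hz'
    simpa using this
  have hcomp := MonoidHom.ker_transferSylow_isComplement' P' hP'
  have hnd := MonoidHom.not_dvd_card_ker_transferSylow P' hP'
  set KH : Subgroup ↥C := (MonoidHom.transferSylow P' hP').ker with hKH
  refine ⟨KH.map C.subtype, ?_, ?_, ?_, ?_⟩
  · rintro _ ⟨k, _, rfl⟩
    exact k.2
  · rintro y hy ⟨k, hk, rfl⟩
    have h0 : k ∈ (P' : Subgroup ↥C) := by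
      rw [hP'coe, Subgroup.mem_subgroupOf]
      exact hy
    have h1 : k ∈ KH ⊓ (P' : Subgroup ↥C) := ⟨hk, h0⟩
    rw [hcomp.disjoint.eq_bot, Subgroup.mem_bot] at h1
    rw [h1]; rfl
  · intro c hc
    have hex := (Subgroup.isComplement_iff_existsUnique.mp hcomp) ⟨c, hc⟩
    obtain ⟨⟨k, y⟩, hky, _⟩ := hex
    have key : ∀ z : ↥C, z ∈ (P' : Subgroup ↥C) → (z : G) ∈ (P : Subgroup G) := by
      intro z hz
      rw [hP'coe, Subgroup.mem_subgroupOf] at hz
      exact hz
    have hy : ((y : ↥C) : G) ∈ (P : Subgroup G) := key _ y.2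
    refine ⟨((y : ↥C) : G), hy, ((k : ↥C) : G), ⟨(k : ↥C), k.2, rfl⟩, ?_⟩
    have h1 : ((k : ↥C) : G) * ((y : ↥C) : G) = c := by
      have := congrArg Subtype.val hky
      simpa using this
    rw [← h1]
    exact ((Subgroup.mem_centralizer_iff.mp (k : ↥C).2) _ hy).symm
  · have hcard : Nat.card (KH.map C.subtype) = Nat.card KH :=
      Subgroup.card_map_of_injective C.subtype_injective
    rw [hcard]
    exact (Nat.Prime.coprime_iff_not_dvd hp.out).mpr hnd |>.symm

section Main

variable (P : Sylow p G)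
  (hstar : ∀ x ∈ (P : Subgroup G), x ≠ 1 →
    Subgroup.centralizer ({x} : Set G) = Subgroup.centralizer ((P : Subgroup G) : Set G))
  (K : Subgroup G) (hKC : K ≤ Subgroup.centralizer ((P : Subgroup G) : Set G))
  (hdisj : ∀ y ∈ (P : Subgroup G), y ∈ K → y = 1)
  (hprod : ∀ c ∈ Subgroup.centralizer ((P : Subgroup G) : Set G),
    ∃ y ∈ (P : Subgroup G), ∃ k ∈ K, c = y * k)
  (hcop : (Nat.card K).Coprime p)

omit [Finite G] hp in
theorem bl_pow_card_K {k : G} (hk : k ∈ K) : k ^ Nat.card K = 1 := by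
  have h1 : (⟨k, hk⟩ : ↥K) ^ Nat.card ↥K = 1 := pow_card_eq_one'
  have h2 : ((⟨k, hk⟩ : ↥K) ^ Nat.card ↥K : ↥K).1 = (1 : ↥K).1 := congrArg Subtype.val h1
  rw [Subgroup.coe_pow] at h2
  exact h2

include hKC in
omit [Finite G] hp in
theorem bl_commute {y k : G} (hy : y ∈ (P : Subgroup G)) (hk : k ∈ K) : Commute y k :=
  (Subgroup.mem_centralizer_iff.mp (hKC hk)) y hy

include hKC in
omit [Finite G] hp in
theorem bl_mul_pow {y k : G} (hy : y ∈ (P : Subgroup G)) (hk : k ∈ K) (m : ℕ) :
    (y * k) ^ m = y ^ m * k ^ m :=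
  (bl_commute P K hKC hy hk).mul_pow m

include hKC hdisj hprod hcop in
/-- `p`-elements of `C_G(P)` lie in `P`. -/
theorem bl_p_elt_mem {c : G} (hc : c ∈ Subgroup.centralizer ((P : Subgroup G) : Set G)) {j : ℕ}
    (hj : c ^ (p ^ j) = 1) : c ∈ (P : Subgroup G) := by
  obtain ⟨y, hy, k, hk, rfl⟩ := hprod c hc
  rw [bl_mul_pow P K hKC hy hk] at hj
  have h1 : k ^ (p ^ j) = (y ^ (p ^ j))⁻¹ := eq_inv_of_mul_eq_one_right hj
  have h2 : k ^ (p ^ j) = 1 := by
    apply hdisj
    · rw [h1]; exact Subgroup.inv_mem _ (Subgroup.pow_mem _ hy _)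
    · exact K.pow_mem hk _
  have h3 : orderOf k ∣ p ^ j := orderOf_dvd_of_pow_eq_one h2
  have h4 : orderOf k ∣ Nat.card K := orderOf_dvd_of_pow_eq_one (bl_pow_card_K K hk)
  have h5 : (p ^ j).Coprime (Nat.card K) := Nat.Coprime.pow_left j hcop.symm
  have h6 : orderOf k = 1 :=
    Nat.Coprime.eq_one_of_dvd (Nat.Coprime.coprime_dvd_left h3 h5) h4
  rw [orderOf_eq_one_iff.mp h6, mul_one]
  exact hy

include hstar hKC hdisj hprod hcop in
theorem bl_conj_mem_P {g z : G} (hz : z ∈ (P : Subgroup G)) (hz1 : z ≠ 1)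
    (hgz : g * z * g⁻¹ ∈ (P : Subgroup G)) {y : G} (hy : y ∈ (P : Subgroup G)) :
    g * y * g⁻¹ ∈ (P : Subgroup G) := by
  have hPC := bl_P_le_C P hstar
  have hz'1 : g * z * g⁻¹ ≠ 1 := by
    intro h
    apply hz1
    have : z = g⁻¹ * (g * z * g⁻¹) * g := by group
    rw [this, h]; group
  have hC : g * y * g⁻¹ ∈ Subgroup.centralizer ((P : Subgroup G) : Set G) := by
    rw [← hstar _ hgz hz'1, Subgroup.mem_centralizer_iff]
    intro h hh
    rw [Set.mem_singleton_iff] at hh
    rw [hh]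
    have hcomm : z * y = y * z := (Subgroup.mem_centralizer_iff.mp (hPC hy)) z hz
    have e1 : g * z * g⁻¹ * (g * y * g⁻¹) = g * (z * y) * g⁻¹ := by group
    have e2 : g * y * g⁻¹ * (g * z * g⁻¹) = g * (y * z) * g⁻¹ := by group
    rw [e1, e2, hcomm]
  obtain ⟨j, hj⟩ := P.isPGroup' ⟨y, hy⟩
  have hj' : y ^ (p ^ j) = 1 := by
    have := congrArg Subtype.val hj
    simpa using this
  apply bl_p_elt_mem P K hKC hdisj hprod hcop hC (j := j)
  rw [conj_pow, hj']; group

include hstar hKC hdisj hprod hcop in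
/-- The Brauer–Leonard configuration. -/
theorem bl_setup : BLSetup (P : Subgroup G) K (Subgroup.centralizer ((P : Subgroup G) : Set G))
    (Subgroup.normalizer ((P : Subgroup G) : Set G)) := by
  have hPC := bl_P_le_C P hstar
  have hnormC : ∀ n ∈ Subgroup.normalizer ((P : Subgroup G) : Set G),
      ∀ c ∈ Subgroup.centralizer ((P : Subgroup G) : Set G),
      n * c * n⁻¹ ∈ Subgroup.centralizer ((P : Subgroup G) : Set G) := by
    intro n hn c hc
    rw [Subgroup.mem_centralizer_iff]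
    intro y hy
    have hy' : n⁻¹ * y * n ∈ (P : Subgroup G) := by
      have := (Subgroup.mem_set_normalizer_iff.mp (Subgroup.inv_mem _ hn) y).mp hy
      rwa [inv_inv] at this
    have hcomm := (Subgroup.mem_centralizer_iff.mp hc) _ hy'
    have e1 : y * (n * c * n⁻¹) = n * ((n⁻¹ * y * n) * c) * n⁻¹ := by group
    have e2 : n * c * n⁻¹ * y = n * (c * (n⁻¹ * y * n)) * n⁻¹ := by group
    rw [e1, e2, hcomm]
  -- elements of `C \ K` have a power in `P \ {1}`
  have hpow : ∀ d ∈ Subgroup.centralizer ((P : Subgroup G) : Set G), d ∉ K →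
      d ^ Nat.card K ∈ (P : Subgroup G) ∧ d ^ Nat.card K ≠ 1 := by
    intro d hd hdK
    obtain ⟨y, hy, k, hk, rfl⟩ := hprod d hd
    rw [bl_mul_pow P K hKC hy hk, bl_pow_card_K K hk, mul_one]
    refine ⟨Subgroup.pow_mem _ hy _, ?_⟩
    intro h
    have hy1 := bl_eq_one_of_pow P hcop hy h
    apply hdK
    rw [hy1, one_mul]
    exact hk
  refine
    { hPC := hPC
      hKC := hKC
      hCN := Subgroup.centralizer_le_normalizer _
      central := fun y hy c hc => (Subgroup.mem_centralizer_iff.mp hc) y hy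
      disj := hdisj
      prod := hprod
      normP := fun n hn y hy => (Subgroup.mem_set_normalizer_iff.mp hn y).mp hy
      normC := hnormC
      normK := ?_
      ti := ?_
      semireg := ?_ }
  · intro n hn k hk
    have hc := hnormC n hn k (hKC hk)
    obtain ⟨y', hy', k', hk', hyk⟩ := hprod _ hc
    have h1 : (n * k * n⁻¹) ^ Nat.card K = 1 := by
      rw [conj_pow, bl_pow_card_K K hk]; group
    rw [hyk, bl_mul_pow P K hKC hy' hk', bl_pow_card_K K hk', mul_one] at h1
    have hy1 := bl_eq_one_of_pow P hcop hy' h1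
    rw [hyk, hy1, one_mul]
    exact hk'
  · intro g d hd hdK hgd hgdK
    obtain ⟨hz, hz1⟩ := hpow d hd hdK
    obtain ⟨hz', hz'1⟩ := hpow _ hgd hgdK
    rw [conj_pow] at hz' hz'1
    rw [Subgroup.mem_set_normalizer_iff]
    intro h
    constructor
    · intro hh
      exact bl_conj_mem_P P hstar K hKC hdisj hprod hcop hz hz1 hz' hh
    · intro hh
      have hz'' : g⁻¹ * (g * d ^ Nat.card K * g⁻¹) * g⁻¹⁻¹ ∈ (P : Subgroup G) := by
        have : g⁻¹ * (g * d ^ Nat.card K * g⁻¹) * g⁻¹⁻¹ = d ^ Nat.card K := by group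
        rw [this]; exact hz
      have := bl_conj_mem_P P hstar K hKC hdisj hprod hcop hz' hz'1 hz'' hh
      have e : g⁻¹ * (g * h * g⁻¹) * g⁻¹⁻¹ = h := by group
      rwa [e] at this
  · intro n _ hnC y hy hfix
    by_contra hy1
    apply hnC
    rw [← hstar y hy hy1, Subgroup.mem_centralizer_iff]
    intro h hh
    rw [Set.mem_singleton_iff] at hh
    rw [hh]
    have : n * y = y * n := by
      have := congrArg (· * n) hfix
      simpa [mul_assoc] using this
    exact this.symm

end Main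

end Cfsg.Agent.Helper75
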