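import Mathlib
import Cfsg.Agent.Helper77.Blk.Defs
import Cfsg.Agent.Helper63.Mnm3

/-!
# Piece (H1) of helper77's S3888 farm: the class-two case of Huppert III.11.4

A finite `p`-group `P` (`p` odd) whose commutators all lie in a central subgroup `⟨n⟩` of order dividing `p`
and with `|P : ℧₁(P)| ≤ p ^ 2` is metacyclic.  The proof follows `Helper63.MNM.class_two_case`: the `p`-th power map
is an endomorphism, its kernel has order `|P : ℧₁(P)| ≤ p ^ 2`, and a generator `g` of a maximal root of a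
non-trivial commutator gives a normal cyclic subgroup with cyclic quotient.
-/

set_option autoImplicit false

universe u

namespace Cfsg.Agent.Helper75.Blk

open Subgroup Cfsg.Agent.Helper77.Blk
open scoped commutatorElement

variable {p : ℕ} [hp : Fact p.Prime]

theorem propH1 (hp2 : p ≠ 2) : PropH1.{u} p := by
  intro G _ _ hG n hnp hnc hcomm hidx
  have hNc : ∀ ν ∈ zpowers n, ∀ g : G, ν * g = g * ν := by
    intro ν hν g
    obtain ⟨j, rfl⟩ := mem_zpowers_iff.1 hν
    exact (Commute.zpow_left (hnc g).symm j).eq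
  have hNp : ∀ ν ∈ zpowers n, ν ^ p = 1 := by
    intro ν hν
    obtain ⟨j, rfl⟩ := mem_zpowers_iff.1 hν
    rw [← zpow_natCast, ← zpow_mul, mul_comm, zpow_mul, zpow_natCast, hnp, one_zpow]
  have hcen : ∀ x y : G, ⁅x, y⁆ ∈ Subgroup.center G := by
    intro x y
    rw [Subgroup.mem_center_iff, commutatorElement_def]
    intro g
    exact (hNc _ (hcomm x y) g).symm
  have hexp : ∀ x y : G, ⁅x, y⁆ ^ p = 1 := by
    intro x y
    rw [commutatorElement_def]
    exact hNp _ (hcomm x y)
  let φ : G →* G := MonoidHom.mk' (fun x => x ^ p)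
    (Cfsg.Agent.Helper86.mul_pow_prime_of_class_two hp.out hp2 hcen hexp)
  have hφ : ∀ x, φ x = x ^ p := fun _ => rfl
  have hker : ∀ x, x ∈ φ.ker ↔ x ^ p = 1 := fun x => by rw [MonoidHom.mem_ker, hφ]
  obtain ⟨e, he⟩ := (IsPGroup.iff_card).1 hG
  -- the image of the power map is the agemo subgroup
  have hrange : φ.range = Cfsg.powerClosure p 1 (⊤ : Subgroup G) := by
    apply le_antisymm
    · rintro _ ⟨y, rfl⟩
      rw [hφ]
      exact Subgroup.subset_closure ⟨y, mem_top y, by rw [pow_one]⟩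
    · unfold Cfsg.powerClosure
      rw [Subgroup.closure_le]
      rintro _ ⟨x, _, rfl⟩
      exact ⟨x, by rw [hφ, pow_one]⟩
  have hcardG : Nat.card φ.ker * Nat.card φ.range = Nat.card G := by
    rw [Subgroup.card_eq_card_quotient_mul_card_subgroup φ.ker,
      Nat.card_congr (QuotientGroup.quotientKerEquivRange φ).toEquiv, mul_comm]
  have hIidx : Nat.card (G ⧸ φ.range) ≤ p ^ 2 := by
    rw [hrange]
    exact hidx
  have hΩcard : Nat.card φ.ker ≤ p ^ 2 := by
    have h1 := Subgroup.card_eq_card_quotient_mul_card_subgroup φ.range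
    rw [← hcardG] at h1
    have hpos : 0 < Nat.card φ.range := Nat.card_pos
    have : Nat.card (G ⧸ φ.range) = Nat.card φ.ker := (Nat.eq_of_mul_eq_mul_right hpos h1).symm
    rw [← this]; exact hIidx
  by_cases hab : ∀ a b : G, a * b = b * a
  · exact Cfsg.Agent.Helper63.MNM.isMetacyclic_of_comm hG hab φ.ker (fun x hx => (hker x).2 hx) hΩcard
  push Not at hab
  obtain ⟨a, b, hab⟩ := hab
  obtain ⟨c, hc_def⟩ : ∃ c : G, c = a * b * a⁻¹ * b⁻¹ := ⟨_, rfl⟩
  have hc1 : c ≠ 1 := by
    intro h
    apply hab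
    rw [hc_def] at h
    have h3 := mul_inv_eq_one.1 h
    rw [mul_inv_eq_iff_eq_mul] at h3
    exact h3
  have hcn : c ∈ zpowers n := hc_def ▸ hcomm a b
  have hcp : c ^ p = 1 := hNp c hcn
  have hn1 : n ≠ 1 := by
    intro h
    rw [h, zpowers_one_eq_bot, mem_bot] at hcn
    exact hc1 hcn
  have hzeq : zpowers c = zpowers n := by
    refine Subgroup.eq_of_le_of_card_ge (zpowers_le.2 hcn) ?_
    rw [Nat.card_zpowers, Nat.card_zpowers, orderOf_eq_prime hcp hc1, orderOf_eq_prime hnp hn1]
  have hcI : c ∈ φ.range := by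
    have hIn : φ.range.Normal := by
      refine ⟨fun x hx g => ?_⟩
      obtain ⟨y, rfl⟩ := hx
      refine ⟨g * y * g⁻¹, ?_⟩
      rw [hφ, hφ, conj_pow]
    have hQc := Cfsg.Agent.Helper63.MNM.comm_of_card_le_sq (hG.to_quotient φ.range) hIidx
    rw [← QuotientGroup.eq_one_iff, hc_def, QuotientGroup.mk_mul, QuotientGroup.mk_mul,
      QuotientGroup.mk_mul, hQc (a : G ⧸ φ.range) (b : G ⧸ φ.range), QuotientGroup.mk_inv,
      QuotientGroup.mk_inv]
    group
  -- maximal `k`
  classical
  let P : ℕ → Prop := fun k => ∃ g : G, g ^ (p ^ k) = c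
  have hP0 : P 0 := ⟨c, by simp⟩
  have hPlt : ∀ k, P k → k < e := by
    rintro k ⟨g, hg⟩
    by_contra hle
    apply hc1
    have hke : e ≤ k := by omega
    obtain ⟨d, rfl⟩ := Nat.exists_eq_add_of_le hke
    rw [← hg, pow_add, pow_mul, ← he, pow_card_eq_one', one_pow]
  have hPk := Nat.findGreatest_spec (P := P) (Nat.zero_le e) hP0
  have hPk' : ¬ P (Nat.findGreatest P e + 1) := by
    intro h
    have hlt := hPlt _ h
    exact Nat.findGreatest_is_greatest (P := P) (Nat.lt_succ_self _) (by omega) h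
  obtain ⟨g, hg⟩ := hPk
  have hgI : g ∉ φ.range := by
    rintro ⟨h, hh⟩
    apply hPk'
    refine ⟨h, ?_⟩
    rw [pow_succ', pow_mul, ← hφ, hh, hg]
  have hcA : c ∈ zpowers g := hg ▸ pow_mem (mem_zpowers g) _
  have hAn : (zpowers g).Normal := Cfsg.Agent.Helper63.M2.normal_of_comm_mem _ (fun x y =>
    (zpowers_le.2 hcA) (hzeq ▸ hcomm x y))
  -- choice of `h`
  have hIfr : φ.range ≤ frattini G := by
    rintro _ ⟨y, rfl⟩
    rw [hφ]
    exact Cfsg.Agent.Helper63.pow_prime_mem_frattini hG y
  obtain ⟨h, hh⟩ : ∃ h : G, closure ({g, h} : Set G) = ⊤ := by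
    by_cases hB : zpowers g ⊔ φ.range = ⊤
    · refine ⟨1, frattini_nongenerating ?_⟩
      rw [eq_top_iff, ← hB]
      refine sup_le_sup ?_ hIfr
      rw [zpowers_le]; exact Subgroup.subset_closure (by simp)
    · obtain ⟨h, hh⟩ : ∃ h : G, h ∉ zpowers g ⊔ φ.range := by
        by_contra hall
        push Not at hall
        exact hB (eq_top_iff.2 fun x _ => hall x)
      refine ⟨h, frattini_nongenerating ?_⟩
      have hgD : zpowers g ≤ closure ({g, h} : Set G) := by
        rw [zpowers_le]; exact Subgroup.subset_closure (by simp)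
      have hhD : h ∈ closure ({g, h} : Set G) := Subgroup.subset_closure (by simp)
      have hlt1 : φ.range < zpowers g ⊔ φ.range :=
        lt_of_le_of_ne le_sup_right fun heq => hgI (heq ▸ (le_sup_left : zpowers g ≤ _) (mem_zpowers g))
      have hlt2 : zpowers g ⊔ φ.range < closure ({g, h} : Set G) ⊔ φ.range :=
        lt_of_le_of_ne (sup_le_sup_right hgD _) fun heq =>
          hh (heq ▸ (le_sup_left : closure ({g, h} : Set G) ≤ _) hhD)
      have h1 := Cfsg.Agent.Helper63.MNM.card_mul_le_of_lt hG hlt1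
      have h2 := Cfsg.Agent.Helper63.MNM.card_mul_le_of_lt hG hlt2
      have h3 : Nat.card G ≤ Nat.card ↥(closure ({g, h} : Set G) ⊔ φ.range) := by
        calc Nat.card G = Nat.card φ.ker * Nat.card φ.range := hcardG.symm
          _ ≤ p ^ 2 * Nat.card φ.range := Nat.mul_le_mul_right _ hΩcard
          _ = Nat.card φ.range * p * p := by ring
          _ ≤ Nat.card ↥(zpowers g ⊔ φ.range) * p := Nat.mul_le_mul_right _ h1
          _ ≤ _ := h2
      have h4 : closure ({g, h} : Set G) ⊔ φ.range = ⊤ :=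
        Subgroup.eq_top_of_le_card _ h3
      rw [eq_top_iff, ← h4]
      exact sup_le_sup_left hIfr _
  have key : ∀ w ∈ closure ({g, h} : Set G), (w : G ⧸ zpowers g) ∈ zpowers (h : G ⧸ zpowers g) := by
    intro w hw
    induction hw using Subgroup.closure_induction with
    | mem w hw =>
      simp only [Set.mem_insert_iff, Set.mem_singleton_iff] at hw
      rcases hw with rfl | rfl
      · rw [(QuotientGroup.eq_one_iff _).2 (mem_zpowers w)]; exact one_mem _
      · exact mem_zpowers _
    | one => rw [QuotientGroup.mk_one]; exact one_mem _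
    | mul x y _ _ hx hy => rw [QuotientGroup.mk_mul]; exact mul_mem hx hy
    | inv x _ hx => rw [QuotientGroup.mk_inv]; exact inv_mem hx
  refine ⟨zpowers g, hAn, inferInstance, ?_⟩
  rw [isCyclic_iff_exists_zpowers_eq_top]
  refine ⟨(h : G ⧸ zpowers g), eq_top_iff.2 fun X _ => ?_⟩
  obtain ⟨x, rfl⟩ := QuotientGroup.mk_surjective X
  exact key x (by rw [hh]; exact mem_top x)

end Cfsg.Agent.Helper75.Blk
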