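import Cfsg.Agent.Helper75.CAExc

/-!
# Counting over the conjugates of a T.I. subgroup (helper75)
-/

set_option autoImplicit false

namespace Cfsg.Agent.Helper75

open Cfsg
open scoped ComplexConjugate

universe u

section Conj

variable {G : Type u} [Group G] [Fintype G]

open Classical in
/-- The non-identity elements having a conjugate in `K`. -/
noncomputable def Kconj (K : Subgroup G) : Finset G :=
  Finset.univ.filter (fun g => g ≠ 1 ∧ ∃ h : G, h * g * h⁻¹ ∈ K)

theorem mem_Kconj {K : Subgroup G} {g : G} : g ∈ Kconj K ↔ g ≠ 1 ∧ ∃ h : G, h * g * h⁻¹ ∈ K := by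
  simp [Kconj]

theorem Ksharp_subset_Kconj (K : Subgroup G) : Ksharp K ⊆ Kconj K := by
  intro g hg
  obtain ⟨hgK, hg1⟩ := mem_Ksharp.mp hg
  exact mem_Kconj.mpr ⟨hg1, 1, by simpa using hgK⟩

variable {K : Subgroup G} [Fintype ↥(Subgroup.normalizer (K : Set G))]

/-- Sums of class functions over the non-identity elements conjugate into a T.I. subgroup. -/
theorem sum_Kconj
    (hTI : ∀ g : G, g ∉ Subgroup.normalizer (K : Set G) → ∀ k ∈ K, g * k * g⁻¹ ∈ K → k = 1)
    {f : G → ℂ} (hf : IsClassFunction G f) :
    ∑ g ∈ Kconj K, f g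
      = ((Subgroup.normalizer (K : Set G)).index : ℂ) * ∑ k ∈ Ksharp K, f k := by
  classical
  have hle : K ≤ Subgroup.normalizer (K : Set G) := Subgroup.le_normalizer
  let α : ↥(Subgroup.normalizer (K : Set G)) → ℂ := fun n => if (n : G) ∈ Ksharp K then 1 else 0
  have hαcf : IsClassFunction ↥(Subgroup.normalizer (K : Set G)) α := by
    intro n h
    have hiff : (((h * n * h⁻¹ : ↥(Subgroup.normalizer (K : Set G))) : G) ∈ Ksharp K)
        ↔ ((n : G) ∈ Ksharp K) := by
      rw [mem_Ksharp, mem_Ksharp]
      have h1 := (Subgroup.mem_normalizer_iff.mp h.2 (n : G))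
      constructor
      · rintro ⟨h2, h3⟩
        refine ⟨h1.mpr (by simpa using h2), ?_⟩
        intro hn
        apply h3
        simp [hn]
      · rintro ⟨h2, h3⟩
        refine ⟨by simpa using h1.mp h2, ?_⟩
        intro hn
        apply h3
        have h4 : ((h : G) * (n : G) * (h : G)⁻¹) = 1 := by simpa using hn
        have : (n : G) = (h : G)⁻¹ * ((h : G) * (n : G) * (h : G)⁻¹) * (h : G) := by group
        rw [this, h4]; group
    show (if _ then (1 : ℂ) else 0) = if _ then 1 else 0
    simp only [hiff]
  have hαvan : ∀ x : ↥(Subgroup.normalizer (K : Set G)), (x : G) ∉ K → α x = 0 := by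
    intro x hx
    show (if _ then (1 : ℂ) else 0) = 0
    rw [if_neg]
    intro h
    exact hx (mem_Ksharp.mp h).1
  -- the induced function is the indicator of `Kconj K`
  have hind : ∀ g : G, indFun (Subgroup.normalizer (K : Set G)) α g
      = if g ∈ Kconj K then 1 else 0 := by
    intro g
    by_cases hg : g ∈ Kconj K
    · rw [if_pos hg]
      obtain ⟨hg1, h, hh⟩ := mem_Kconj.mp hg
      have hh1 : h * g * h⁻¹ ≠ 1 := by
        intro hc
        apply hg1
        have : g = h⁻¹ * (h * g * h⁻¹) * h := by group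
        rw [this, hc]; group
      rw [← Helper15.indFun_conj _ α g h]
      have := tf_indFun_apply K _ hTI hαcf hαvan ⟨h * g * h⁻¹, hle hh⟩ hh
        (fun hc => hh1 (congrArg Subtype.val hc))
      rw [this]
      show (if _ then (1 : ℂ) else 0) = 1
      rw [if_pos (mem_Ksharp.mpr ⟨hh, hh1⟩)]
    · rw [if_neg hg]
      by_cases hg1 : g = 1
      · rw [hg1, Helper15.indFun_apply_one]
        have : α 1 = 0 := by
          show (if _ then (1 : ℂ) else 0) = 0
          rw [if_neg]
          intro h
          exact (mem_Ksharp.mp h).2 rfl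
        rw [this, mul_zero]
      · apply ca_ind_vanish hαvan
        intro h hh
        exact hg (mem_Kconj.mpr ⟨hg1, h, hh⟩)
  have hcf' : IsClassFunction G (fun g => conj (f g)) := by
    intro g h
    simp only
    rw [hf g h]
  have hrec := Helper15.frobenius_reciprocity (Subgroup.normalizer (K : Set G)) α
    (fun g => conj (f g)) hcf'
  rw [Helper15.classInner_apply, Helper15.classInner_apply] at hrec
  simp only [Complex.conj_conj] at hrec
  have hL : ∑ g : G, indFun (Subgroup.normalizer (K : Set G)) α g * f g = ∑ g ∈ Kconj K, f g := by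
    simp only [hind, ite_mul, one_mul, zero_mul]
    rw [Finset.sum_ite_mem, Finset.univ_inter]
  have hext : ∀ g : G, extendByZero (Subgroup.normalizer (K : Set G)) α g
      = if g ∈ Ksharp K then 1 else 0 := by
    intro g
    by_cases hgN : g ∈ Subgroup.normalizer (K : Set G)
    · rw [Helper15.extendByZero_of_mem _ α hgN]
    · rw [Helper15.extendByZero_of_not_mem _ α hgN, if_neg]
      intro h
      exact hgN (hle (mem_Ksharp.mp h).1)
  have hR : ∑ n : ↥(Subgroup.normalizer (K : Set G)), α n * f n = ∑ g ∈ Ksharp K, f g := by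
    rw [← Helper15.sum_extendByZero_mul _ α f]
    simp only [hext, ite_mul, one_mul, zero_mul]
    rw [Finset.sum_ite_mem, Finset.univ_inter]
  rw [hL, hR] at hrec
  have hG : (Nat.card G : ℂ) ≠ 0 := by
    have : Nat.card G ≠ 0 := Nat.card_pos.ne'
    exact_mod_cast this
  have hN : (Nat.card ↥(Subgroup.normalizer (K : Set G)) : ℂ) ≠ 0 := by
    have : Nat.card ↥(Subgroup.normalizer (K : Set G)) ≠ 0 := Nat.card_pos.ne'
    exact_mod_cast this
  have hidx : (Nat.card G : ℂ) = ((Subgroup.normalizer (K : Set G)).index : ℂ)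
      * (Nat.card ↥(Subgroup.normalizer (K : Set G)) : ℂ) := by
    have := Subgroup.index_mul_card (Subgroup.normalizer (K : Set G))
    exact_mod_cast this.symm
  rw [hidx] at hrec hG
  have hI : ((Subgroup.normalizer (K : Set G)).index : ℂ) ≠ 0 := left_ne_zero_of_mul hG
  field_simp at hrec
  exact hrec

end Conj

end Cfsg.Agent.Helper75
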