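import Cfsg.Agent.Helper75.TIFNAbelian
import Cfsg.Agent.Helper75.TIFNExc
import Cfsg.Agent.S0170

/-!
# Exceptional characters attached to an abelian T.I. subgroup with Frobenius normalizer (helper75)

`K` is an abelian subgroup of `G`, T.I. with respect to its normalizer `N`, containing the
centralizers of its non-identity elements, with at least two irreducible characters of `N` not
containing `K` in the kernel.  The irreducible characters of `G` not constant on `K \ {1}` form the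
family `excFam K` of exceptional characters.
-/

set_option autoImplicit false

namespace Cfsg.Agent.Helper75

open Cfsg
open scoped ComplexConjugate

universe u

section Defs

variable {G : Type u} [Group G]

/-- The irreducible characters of `G` which are not constant on `K \ {1}`. -/
def excFam (K : Subgroup G) : Set (G → ℂ) :=
  {θ | IsIrrCharacter G θ ∧ ∃ a ∈ K, ∃ b ∈ K, a ≠ 1 ∧ b ≠ 1 ∧ θ a ≠ θ b}

end Defs

section Irr

variable {X : Type u} [Group X] [Fintype X]

theorem ca_irr_inner {φ ψ : X → ℂ} (hφ : IsIrrCharacter X φ) (hψ : IsIrrCharacter X ψ)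
    [Decidable (φ = ψ)] : classInner φ ψ = if φ = ψ then 1 else 0 := by
  classical
  by_cases h : φ = ψ
  · subst h
    rw [if_pos rfl]
    exact Helper74.irr_inner_self (⟨φ, hφ⟩ : IrrCharacter X)
  · rw [if_neg h]
    have : (⟨φ, hφ⟩ : IrrCharacter X) ≠ ⟨ψ, hψ⟩ := fun hc => h (congrArg Subtype.val hc)
    exact Helper74.irr_inner_ne this

end Irr

section Vanish

variable {G : Type u} [Group G] [Fintype G] {K : Subgroup G}

/-- The function induced from a function of the normalizer vanishing off `K` vanishes at elements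
with no conjugate in `K`. -/
theorem ca_ind_vanish {ζ : ↥(Subgroup.normalizer (K : Set G)) → ℂ}
    (hvan : ∀ x : ↥(Subgroup.normalizer (K : Set G)), (x : G) ∉ K → ζ x = 0) (g : G)
    (hg : ∀ h : G, h * g * h⁻¹ ∉ K) :
    indFun (Subgroup.normalizer (K : Set G)) ζ g = 0 := by
  rw [Helper15.indFun_apply']
  rw [Finset.sum_eq_zero, mul_zero]
  intro x _
  by_cases hx : x * g * x⁻¹ ∈ Subgroup.normalizer (K : Set G)
  · rw [Helper15.extendByZero_of_mem _ ζ hx]
    exact hvan _ (hg x)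
  · exact Helper15.extendByZero_of_not_mem _ ζ hx

end Vanish

section Data

variable {G : Type u} [Group G] [Fintype G] {K : Subgroup G}
  [Fintype ↥(Subgroup.normalizer (K : Set G))]

/-- The exceptional characters given by `S0170`, with an enumeration of the relevant characters
of the normalizer. -/
theorem ca_exc_data (hC : ∀ k ∈ K, k ≠ 1 → Subgroup.centralizer ({k} : Set G) ≤ K)
    (hab : ∀ a ∈ K, ∀ b ∈ K, a * b = b * a)
    (hTI : ∀ g : G, g ∉ Subgroup.normalizer (K : Set G) → ∀ k ∈ K, g * k * g⁻¹ ∈ K → k = 1)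
    (htwo : ∃ ζ ∈ tfS K, ∃ ζ' ∈ tfS K, ζ ≠ ζ') :
    ∃ (n : ℕ) (χ : Fin n → ↥(Subgroup.normalizer (K : Set G)) → ℂ) (ε : ℂ) (θ : Fin n → G → ℂ),
      2 ≤ n ∧ (∀ i, χ i ∈ tfS K) ∧ Function.Injective χ ∧ (∀ ζ ∈ tfS K, ∃ i, χ i = ζ) ∧
      (ε = 1 ∨ ε = -1) ∧ (∀ i, IsIrrCharacter G (θ i)) ∧ Function.Injective θ ∧
      ∀ i j, indFun (Subgroup.normalizer (K : Set G)) (χ i)
        - indFun (Subgroup.normalizer (K : Set G)) (χ j) = ε • (θ i - θ j) := by
  classical
  let _ := Helper74.irrFintype ↥(Subgroup.normalizer (K : Set G))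
  let R := {ζ : IrrCharacter ↥(Subgroup.normalizer (K : Set G)) //
    (ζ : ↥(Subgroup.normalizer (K : Set G)) → ℂ) ∈ tfS K}
  let n := Fintype.card R
  let eqv : R ≃ Fin n := Fintype.equivFin R
  let χ : Fin n → ↥(Subgroup.normalizer (K : Set G)) → ℂ := fun i => ((eqv.symm i).1 : _ → ℂ)
  have hχmem : ∀ i, χ i ∈ tfS K := fun i => (eqv.symm i).2
  have hχinj : Function.Injective χ := by
    intro i j hij
    have h1 : (eqv.symm i).1 = (eqv.symm j).1 := Subtype.ext hij
    have h2 : eqv.symm i = eqv.symm j := Subtype.ext h1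
    exact eqv.symm.injective h2
  have hχsurj : ∀ ζ ∈ tfS K, ∃ i, χ i = ζ := by
    intro ζ hζ
    refine ⟨eqv ⟨⟨ζ, hζ.1⟩, hζ⟩, ?_⟩
    show ((eqv.symm (eqv ⟨⟨ζ, hζ.1⟩, hζ⟩)).1 : _ → ℂ) = ζ
    rw [Equiv.symm_apply_apply]
  have hn : 2 ≤ n := by
    obtain ⟨ζ, hζ, ζ', hζ', hne⟩ := htwo
    obtain ⟨i, hi⟩ := hχsurj ζ hζ
    obtain ⟨j, hj⟩ := hχsurj ζ' hζ'
    have hij : i ≠ j := by
      intro h
      apply hne
      rw [← hi, ← hj, h]
    by_contra hlt
    push Not at hlt
    apply hij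
    apply Fin.ext
    have := i.2
    have := j.2
    omega
  obtain ⟨ε, hε, θ, hθirr, hθinj, hdiff⟩ := Cfsg.Agent.S0170.result (K : Set G)
    (Subgroup.le_normalizer) hTI n hn χ (fun i => (hχmem i).1) hχinj
    (fun i x hx => tf_vanish hC (hχmem i) x hx)
    (fun i j => by rw [tf_rel_degree hC hab (hχmem i), tf_rel_degree hC hab (hχmem j)])
  exact ⟨n, χ, ε, θ, hn, hχmem, hχinj, hχsurj, hε, hθirr, hθinj, hdiff⟩

end Data

section Conseq

variable {G : Type u} [Group G] [Fintype G] {K : Subgroup G}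
  [Fintype ↥(Subgroup.normalizer (K : Set G))]
  {n : ℕ} {χ : Fin n → ↥(Subgroup.normalizer (K : Set G)) → ℂ} {ε : ℂ} {θ : Fin n → G → ℂ}

theorem ca_conj_eps (hε : ε = 1 ∨ ε = -1) : conj ε = ε := by
  rcases hε with h | h <;> simp [h]

theorem ca_eps_sq (hε : ε = 1 ∨ ε = -1) : ε * ε = 1 := by
  rcases hε with h | h <;> simp [h]

theorem ca_inner_ind (hC : ∀ k ∈ K, k ≠ 1 → Subgroup.centralizer ({k} : Set G) ≤ K)
    (hab : ∀ a ∈ K, ∀ b ∈ K, a * b = b * a) (hχmem : ∀ i, χ i ∈ tfS K) (hε : ε = 1 ∨ ε = -1)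
    (hdiff : ∀ i j, indFun (Subgroup.normalizer (K : Set G)) (χ i)
        - indFun (Subgroup.normalizer (K : Set G)) (χ j) = ε • (θ i - θ j))
    (ψ : G → ℂ) (i j : Fin n) (d d' : ℤ) (hd : χ i 1 = d) (hd' : χ j 1 = d') :
    classInner ψ (indFun (Subgroup.normalizer (K : Set G)) (d' • χ i - d • χ j))
      = (d : ℂ) * ε * (classInner ψ (θ i) - classInner ψ (θ j)) := by
  have h1 := tf_rel_degree hC hab (hχmem i)
  have h2 := tf_rel_degree hC hab (hχmem j)
  have hdd : d' = d := by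
    have : (d' : ℂ) = (d : ℂ) := by rw [← hd, ← hd', h1, h2]
    exact_mod_cast this
  subst hdd
  have e1 : d' • χ i - d' • χ j = (d' : ℂ) • (χ i - χ j) := by
    funext x
    rw [Pi.sub_apply, Pi.smul_apply, Pi.smul_apply, Pi.smul_apply, Pi.sub_apply, zsmul_eq_mul,
      zsmul_eq_mul, smul_eq_mul]
    ring
  rw [e1, Helper15.indFun_smul, Helper15.indFun_sub, hdiff, Helper15.classInner_smul_right,
    Helper15.classInner_smul_right, Helper15.classInner_sub_right, ca_conj_eps hε,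
    map_intCast]
  ring

/-- The difference `θ i - ε χ i` is constant on `K \ {1}`. -/
theorem ca_exc_const (hC : ∀ k ∈ K, k ≠ 1 → Subgroup.centralizer ({k} : Set G) ≤ K)
    (hab : ∀ a ∈ K, ∀ b ∈ K, a * b = b * a) (hχmem : ∀ i, χ i ∈ tfS K)
    (hχinj : Function.Injective χ) (hχsurj : ∀ ζ ∈ tfS K, ∃ i, χ i = ζ)
    (hε : ε = 1 ∨ ε = -1) (hθirr : ∀ i, IsIrrCharacter G (θ i)) (hθinj : Function.Injective θ)
    (hdiff : ∀ i j, indFun (Subgroup.normalizer (K : Set G)) (χ i)
        - indFun (Subgroup.normalizer (K : Set G)) (χ j) = ε • (θ i - θ j)) (i : Fin n) :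
    ∃ T : ℂ, ∀ k : ↥(Subgroup.normalizer (K : Set G)), (k : G) ∈ K → k ≠ 1 →
      θ i k - ε * χ i k = T := by
  classical
  have hcf : IsClassFunction G (θ i) :=
    Helper74.isClassFunction_of_isCharacter (Helper74.isCharacter_of_isIrr (hθirr i))
  have hβcf : IsClassFunction ↥(Subgroup.normalizer (K : Set G)) (ε • χ i) := by
    intro g h
    simp only [Pi.smul_apply]
    rw [tf_isClassFunction (hχmem i) g h]
  obtain ⟨T, hT⟩ := tf_const' (K := K) hcf (β := ε • χ i) hβcf (by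
    intro ζ hζ ζ' hζ' d d' hd hd'
    obtain ⟨j, rfl⟩ := hχsurj ζ hζ
    obtain ⟨j', rfl⟩ := hχsurj ζ' hζ'
    rw [ca_inner_ind hC hab hχmem hε hdiff (θ i) j j' d d' hd hd']
    have h1 := tf_rel_degree hC hab (hχmem j)
    have h2 := tf_rel_degree hC hab (hχmem j')
    have hdd : d' = d := by
      have : (d' : ℂ) = (d : ℂ) := by rw [← hd, ← hd', h1, h2]
      exact_mod_cast this
    subst hdd
    have e1 : d' • χ j - d' • χ j' = (d' : ℂ) • (χ j - χ j') := by
      funext x
      rw [Pi.sub_apply, Pi.smul_apply, Pi.smul_apply, Pi.smul_apply, Pi.sub_apply, zsmul_eq_mul,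
        zsmul_eq_mul, smul_eq_mul]
      ring
    rw [e1, Helper15.classInner_smul_left, Helper15.classInner_smul_right,
      Helper15.classInner_sub_right, map_intCast,
      ca_irr_inner (hθirr i) (hθirr j), ca_irr_inner (hθirr i) (hθirr j'),
      ca_irr_inner (hχmem i).1 (hχmem j).1, ca_irr_inner (hχmem i).1 (hχmem j').1]
    have ha : (θ i = θ j) ↔ (χ i = χ j) :=
      ⟨fun h => by rw [hθinj h], fun h => by rw [hχinj h]⟩
    have hb : (θ i = θ j') ↔ (χ i = χ j') :=
      ⟨fun h => by rw [hθinj h], fun h => by rw [hχinj h]⟩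
    simp only [ha, hb]
    ring)
  refine ⟨T, fun k hk hk1 => ?_⟩
  have := hT k hk hk1
  simpa using this

/-- On `K \ {1}`, `θ i - θ j = ε (χ i - χ j)`. -/
theorem ca_exc_diff (hC : ∀ k ∈ K, k ≠ 1 → Subgroup.centralizer ({k} : Set G) ≤ K)
    (hTI : ∀ g : G, g ∉ Subgroup.normalizer (K : Set G) → ∀ k ∈ K, g * k * g⁻¹ ∈ K → k = 1)
    (hχmem : ∀ i, χ i ∈ tfS K) (hε : ε = 1 ∨ ε = -1)
    (hdiff : ∀ i j, indFun (Subgroup.normalizer (K : Set G)) (χ i)
        - indFun (Subgroup.normalizer (K : Set G)) (χ j) = ε • (θ i - θ j)) (i j : Fin n)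
    (k : ↥(Subgroup.normalizer (K : Set G))) (hk : (k : G) ∈ K) (hk1 : k ≠ 1) :
    θ i k - θ j k = ε * (χ i k - χ j k) := by
  have h1 := congrFun (hdiff i j) (k : G)
  rw [Pi.sub_apply, Pi.smul_apply, Pi.sub_apply, smul_eq_mul,
    tf_indFun_apply K _ hTI (tf_isClassFunction (hχmem i)) (fun x hx => tf_vanish hC (hχmem i) x hx)
      k hk hk1,
    tf_indFun_apply K _ hTI (tf_isClassFunction (hχmem j)) (fun x hx => tf_vanish hC (hχmem j) x hx)
      k hk hk1] at h1
  rw [h1, ← mul_assoc, ca_eps_sq hε, one_mul]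

/-- A common integer constant: `θ i = ε χ i + c` on `K \ {1}`. -/
theorem ca_exc_values (hC : ∀ k ∈ K, k ≠ 1 → Subgroup.centralizer ({k} : Set G) ≤ K)
    (hab : ∀ a ∈ K, ∀ b ∈ K, a * b = b * a)
    (hTI : ∀ g : G, g ∉ Subgroup.normalizer (K : Set G) → ∀ k ∈ K, g * k * g⁻¹ ∈ K → k = 1)
    (hn : 2 ≤ n) (hχmem : ∀ i, χ i ∈ tfS K)
    (hχinj : Function.Injective χ) (hχsurj : ∀ ζ ∈ tfS K, ∃ i, χ i = ζ)
    (hε : ε = 1 ∨ ε = -1) (hθirr : ∀ i, IsIrrCharacter G (θ i)) (hθinj : Function.Injective θ)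
    (hdiff : ∀ i j, indFun (Subgroup.normalizer (K : Set G)) (χ i)
        - indFun (Subgroup.normalizer (K : Set G)) (χ j) = ε • (θ i - θ j)) :
    ∃ c : ℤ, ∀ i, ∀ k : ↥(Subgroup.normalizer (K : Set G)), (k : G) ∈ K → k ≠ 1 →
      θ i k = ε * χ i k + c := by
  classical
  let i₀ : Fin n := ⟨0, by omega⟩
  obtain ⟨T, hT⟩ := ca_exc_const hC hab hχmem hχinj hχsurj hε hθirr hθinj hdiff i₀
  -- integrality
  obtain ⟨k₀, hk₀K, hk₀ne⟩ := (hχmem i₀).2
  have hk₀1 : k₀ ≠ 1 := fun h => hk₀ne (by rw [h])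
  have hle : K ≤ Subgroup.normalizer (K : Set G) := Subgroup.le_normalizer
  have hnt : Nontrivial K :=
    ⟨⟨⟨(k₀ : G), hk₀K⟩, 1, fun h => hk₀1 (Subtype.ext (congrArg (fun z : K => (z : G)) h))⟩⟩
  let _ : Fintype K := Fintype.ofFinite K
  let f : K →* ↥(Subgroup.normalizer (K : Set G)) := Subgroup.inclusion hle
  have hA : IsCharacter K (fun k : K => θ i₀ (k : G)) :=
    Helper74.isCharacter_restrict K (Helper74.isCharacter_of_isIrr (hθirr i₀))
  have hB : IsCharacter K (fun k : K => χ i₀ (f k)) :=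
    Helper74.isCharacter_comp f (Helper74.isCharacter_of_isIrr (hχmem i₀).1)
  have hTk : ∀ k : K, k ≠ 1 → θ i₀ (k : G) - ε * χ i₀ (f k) = T := by
    intro k hk1
    have := hT (f k) k.2 (fun h => hk1 (Subtype.ext (congrArg
      (fun z : ↥(Subgroup.normalizer (K : Set G)) => (z : G)) h)))
    exact this
  have hint : ∃ t : ℤ, T = t := by
    rcases hε with h | h
    · refine tf_const_int hnt hA hB Helper74.isCharacter_zero (T := T) ?_
      intro k hk1
      have := hTk k hk1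
      rw [h, one_mul] at this
      simpa using this
    · refine tf_const_int hnt (Helper74.isCharacter_add hA hB) Helper74.isCharacter_zero
        Helper74.isCharacter_zero (T := T) ?_
      intro k hk1
      have := hTk k hk1
      rw [h] at this
      simp only [Pi.add_apply, Pi.zero_apply, sub_zero]
      linear_combination this
  obtain ⟨c, hc⟩ := hint
  refine ⟨c, ?_⟩
  intro i k hk hk1
  have h1 := hT k hk hk1
  have h2 := ca_exc_diff hC hTI hχmem hε hdiff i i₀ k hk hk1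
  rw [← hc]
  linear_combination h1 + h2

/-- The exceptional characters are exactly the irreducible characters not constant on
`K \ {1}`. -/
theorem ca_excFam_eq (hC : ∀ k ∈ K, k ≠ 1 → Subgroup.centralizer ({k} : Set G) ≤ K)
    (hab : ∀ a ∈ K, ∀ b ∈ K, a * b = b * a)
    (hTI : ∀ g : G, g ∉ Subgroup.normalizer (K : Set G) → ∀ k ∈ K, g * k * g⁻¹ ∈ K → k = 1)
    (hn : 2 ≤ n) (hχmem : ∀ i, χ i ∈ tfS K)
    (hχinj : Function.Injective χ) (hχsurj : ∀ ζ ∈ tfS K, ∃ i, χ i = ζ)
    (hε : ε = 1 ∨ ε = -1) (hθirr : ∀ i, IsIrrCharacter G (θ i)) (hθinj : Function.Injective θ)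
    (hdiff : ∀ i j, indFun (Subgroup.normalizer (K : Set G)) (χ i)
        - indFun (Subgroup.normalizer (K : Set G)) (χ j) = ε • (θ i - θ j)) (ψ : G → ℂ) :
    ψ ∈ excFam K ↔ ∃ i, θ i = ψ := by
  classical
  have hle : K ≤ Subgroup.normalizer (K : Set G) := Subgroup.le_normalizer
  have hε0 : ε ≠ 0 := by rcases hε with h | h <;> simp [h]
  constructor
  · rintro ⟨hψ, a, ha, b, hb, ha1, hb1, hne⟩
    by_contra hcon
    push Not at hcon
    have hψcf : IsClassFunction G ψ :=
      Helper74.isClassFunction_of_isCharacter (Helper74.isCharacter_of_isIrr hψ)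
    obtain ⟨T, hT⟩ := tf_const' (K := K) hψcf
      (β := (0 : ↥(Subgroup.normalizer (K : Set G)) → ℂ)) Helper74.isClassFunction_zero (by
        intro ζ hζ ζ' hζ' d d' hd hd'
        obtain ⟨j, rfl⟩ := hχsurj ζ hζ
        obtain ⟨j', rfl⟩ := hχsurj ζ' hζ'
        rw [ca_inner_ind hC hab hχmem hε hdiff ψ j j' d d' hd hd',
          Helper15.classInner_zero_left, ca_irr_inner hψ (hθirr j), ca_irr_inner hψ (hθirr j'),
          if_neg (fun h => hcon j h.symm), if_neg (fun h => hcon j' h.symm)]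
        ring)
    have hTa := hT ⟨a, hle ha⟩ ha (fun h => ha1 (congrArg Subtype.val h))
    have hTb := hT ⟨b, hle hb⟩ hb (fun h => hb1 (congrArg Subtype.val h))
    apply hne
    simp only [Pi.zero_apply, sub_zero] at hTa hTb
    rw [hTa, hTb]
  · rintro ⟨i, rfl⟩
    refine ⟨hθirr i, ?_⟩
    by_contra hcon
    push Not at hcon
    obtain ⟨c, hc⟩ := ca_exc_values hC hab hTI hn hχmem hχinj hχsurj hε hθirr hθinj hdiff
    obtain ⟨k₀, hk₀K, hk₀ne⟩ := (hχmem i).2
    have hk₀1 : k₀ ≠ 1 := fun h => hk₀ne (by rw [h])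
    have hk₀1' : (k₀ : G) ≠ 1 := fun h => hk₀1 (Subtype.ext h)
    have hconst : ∀ k : ↥(Subgroup.normalizer (K : Set G)), (k : G) ∈ K → k ≠ 1 →
        χ i k = χ i k₀ := by
      intro k hk hk1
      have hk1' : (k : G) ≠ 1 := fun h => hk1 (Subtype.ext h)
      have h1 := hc i k hk hk1
      have h2 := hc i k₀ hk₀K hk₀1
      have h3 := hcon (k : G) hk (k₀ : G) hk₀K hk1' hk₀1'
      have h4 : ε * (χ i k - χ i k₀) = 0 := by linear_combination h3 - h1 + h2
      have h5 := (mul_eq_zero.mp h4).resolve_left hε0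
      linear_combination h5
    -- all relevant characters equal χ i
    let j₀ : Fin n := ⟨0, by omega⟩
    let j₁ : Fin n := ⟨1, by omega⟩
    have e0 := tf_unique_of_const hC (hχmem i) (hχmem j₀) hconst
    have e1 := tf_unique_of_const hC (hχmem i) (hχmem j₁) hconst
    have : j₀ = j₁ := hχinj (by rw [e0, e1])
    have h01 : (j₀ : ℕ) = (j₁ : ℕ) := congrArg Fin.val this
    simp [j₀, j₁] at h01

/-- Exceptional characters agree at `1` and at elements with no conjugate in `K`. -/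
theorem ca_exc_off (hC : ∀ k ∈ K, k ≠ 1 → Subgroup.centralizer ({k} : Set G) ≤ K)
    (hab : ∀ a ∈ K, ∀ b ∈ K, a * b = b * a)
    (hχmem : ∀ i, χ i ∈ tfS K) (hε : ε = 1 ∨ ε = -1)
    (hdiff : ∀ i j, indFun (Subgroup.normalizer (K : Set G)) (χ i)
        - indFun (Subgroup.normalizer (K : Set G)) (χ j) = ε • (θ i - θ j)) (i j : Fin n)
    (g : G) (hg : g = 1 ∨ ∀ h : G, h * g * h⁻¹ ∉ K) : θ i g = θ j g := by
  have hε0 : ε ≠ 0 := by rcases hε with h | h <;> simp [h]
  have h1 := congrFun (hdiff i j) g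
  rw [Pi.sub_apply, Pi.smul_apply, Pi.sub_apply, smul_eq_mul] at h1
  have h0 : indFun (Subgroup.normalizer (K : Set G)) (χ i) g
      - indFun (Subgroup.normalizer (K : Set G)) (χ j) g = 0 := by
    rcases hg with hg | hg
    · rw [hg, Helper15.indFun_apply_one, Helper15.indFun_apply_one,
        tf_rel_degree hC hab (hχmem i), tf_rel_degree hC hab (hχmem j), sub_self]
    · rw [ca_ind_vanish (fun x hx => tf_vanish hC (hχmem i) x hx) g hg,
        ca_ind_vanish (fun x hx => tf_vanish hC (hχmem j) x hx) g hg, sub_self]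
  rw [h0] at h1
  have h2 := (mul_eq_zero.mp h1.symm).resolve_left hε0
  linear_combination h2

end Conseq

section Sharp

variable {G : Type u} [Group G] [Fintype G]

open Classical in
/-- The non-identity elements of `K`, as a finset. -/
noncomputable def Ksharp (K : Subgroup G) : Finset G :=
  Finset.univ.filter (fun g => g ∈ K ∧ g ≠ 1)

theorem mem_Ksharp {K : Subgroup G} {g : G} : g ∈ Ksharp K ↔ g ∈ K ∧ g ≠ 1 := by
  simp [Ksharp]

theorem card_Ksharp (K : Subgroup G) : (Ksharp K).card + 1 = Nat.card K := by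
  classical
  have h1 : Ksharp K = (Finset.univ.filter (fun g : G => g ∈ K)).erase 1 := by
    ext g
    simp only [mem_Ksharp, Finset.mem_erase, Finset.mem_filter, Finset.mem_univ, true_and]
    tauto
  have h2 : (1 : G) ∈ Finset.univ.filter (fun g : G => g ∈ K) := by
    simp [K.one_mem]
  rw [h1, Finset.card_erase_of_mem h2, Nat.card_eq_fintype_card, Fintype.card_subtype]
  have : 0 < (Finset.univ.filter (fun g : G => g ∈ K)).card := Finset.card_pos.mpr ⟨1, h2⟩
  omega

/-- Sum over `K \ {1}` of a function vanishing off `K`. -/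
theorem sum_Ksharp_of_vanish (K : Subgroup G) (F : G → ℂ) (hF : ∀ g : G, g ∉ K → F g = 0) :
    ∑ g ∈ Ksharp K, F g = ∑ g : G, F g - F 1 := by
  classical
  have h1 : Ksharp K = (Finset.univ.filter (fun g : G => g ∈ K)).erase 1 := by
    ext g
    simp only [mem_Ksharp, Finset.mem_erase, Finset.mem_filter, Finset.mem_univ, true_and]
    tauto
  have h2 : (1 : G) ∈ Finset.univ.filter (fun g : G => g ∈ K) := by
    simp [K.one_mem]
  have h3 : ∑ g : G, F g = ∑ g ∈ Finset.univ.filter (fun g : G => g ∈ K), F g := by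
    symm
    apply Finset.sum_subset (Finset.filter_subset _ _)
    intro g _ hg
    apply hF
    simpa using hg
  rw [h3, h1, ← Finset.add_sum_erase _ _ h2]
  ring

end Sharp

section RelSums

variable {G : Type u} [Group G] [Fintype G] {K : Subgroup G}
  [Fintype ↥(Subgroup.normalizer (K : Set G))]

theorem ca_rel_ext_vanish (hC : ∀ k ∈ K, k ≠ 1 → Subgroup.centralizer ({k} : Set G) ≤ K)
    {ζ : ↥(Subgroup.normalizer (K : Set G)) → ℂ} (hζ : ζ ∈ tfS K) (g : G) (hg : g ∉ K) :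
    extendByZero (Subgroup.normalizer (K : Set G)) ζ g = 0 := by
  by_cases hgN : g ∈ Subgroup.normalizer (K : Set G)
  · rw [Helper15.extendByZero_of_mem _ ζ hgN]
    exact tf_vanish hC hζ _ hg
  · exact Helper15.extendByZero_of_not_mem _ ζ hgN

theorem ca_rel_ext_one (hC : ∀ k ∈ K, k ≠ 1 → Subgroup.centralizer ({k} : Set G) ≤ K)
    (hab : ∀ a ∈ K, ∀ b ∈ K, a * b = b * a)
    {ζ : ↥(Subgroup.normalizer (K : Set G)) → ℂ} (hζ : ζ ∈ tfS K) :
    extendByZero (Subgroup.normalizer (K : Set G)) ζ 1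
      = ((K.subgroupOf (Subgroup.normalizer (K : Set G))).index : ℂ) := by
  have := Helper15.extendByZero_coe (Subgroup.normalizer (K : Set G)) ζ 1
  rw [OneMemClass.coe_one] at this
  rw [this, tf_rel_degree hC hab hζ]

omit [Fintype G] [Fintype ↥(Subgroup.normalizer (K : Set G))] in
theorem ca_card_normalizer :
    (Nat.card ↥(Subgroup.normalizer (K : Set G)) : ℂ)
      = ((K.subgroupOf (Subgroup.normalizer (K : Set G))).index : ℂ) * (Nat.card K : ℂ) := by
  have hle : K ≤ Subgroup.normalizer (K : Set G) := Subgroup.le_normalizer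
  have h1 := Subgroup.index_mul_card (K.subgroupOf (Subgroup.normalizer (K : Set G)))
  have h2 : Nat.card (K.subgroupOf (Subgroup.normalizer (K : Set G))) = Nat.card K :=
    Nat.card_congr (Subgroup.subgroupOfEquivOfLe hle).toEquiv
  rw [h2] at h1
  rw [← h1]
  push_cast
  ring

theorem ca_rel_sum (hC : ∀ k ∈ K, k ≠ 1 → Subgroup.centralizer ({k} : Set G) ≤ K)
    (hab : ∀ a ∈ K, ∀ b ∈ K, a * b = b * a)
    {ζ : ↥(Subgroup.normalizer (K : Set G)) → ℂ} (hζ : ζ ∈ tfS K) :
    ∑ g ∈ Ksharp K, extendByZero (Subgroup.normalizer (K : Set G)) ζ g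
      = -((K.subgroupOf (Subgroup.normalizer (K : Set G))).index : ℂ) := by
  rw [sum_Ksharp_of_vanish K _ (ca_rel_ext_vanish hC hζ), ca_rel_ext_one hC hab hζ,
    Helper15.sum_extendByZero]
  have hne : (⟨ζ, hζ.1⟩ : IrrCharacter ↥(Subgroup.normalizer (K : Set G)))
      ≠ ⟨fun _ => 1, Helper79.isIrrCharacter_one⟩ := by
    intro h
    have h' : ζ = fun _ => 1 := congrArg Subtype.val h
    obtain ⟨_, k, _, hne⟩ := hζ
    apply hne
    rw [h']
  have h5 := Helper74.irr_inner_ne hne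
  rw [Helper15.classInner_apply] at h5
  have hN : (Nat.card ↥(Subgroup.normalizer (K : Set G)) : ℂ)⁻¹ ≠ 0 := by
    apply inv_ne_zero
    have : Nat.card ↥(Subgroup.normalizer (K : Set G)) ≠ 0 := Nat.card_pos.ne'
    exact_mod_cast this
  have h6 := (mul_eq_zero.mp h5).resolve_left hN
  simp only [map_one, mul_one] at h6
  rw [h6, zero_sub]

theorem ca_rel_sum_sq (hC : ∀ k ∈ K, k ≠ 1 → Subgroup.centralizer ({k} : Set G) ≤ K)
    (hab : ∀ a ∈ K, ∀ b ∈ K, a * b = b * a)
    {ζ : ↥(Subgroup.normalizer (K : Set G)) → ℂ} (hζ : ζ ∈ tfS K) :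
    ∑ g ∈ Ksharp K, extendByZero (Subgroup.normalizer (K : Set G)) ζ g
        * conj (extendByZero (Subgroup.normalizer (K : Set G)) ζ g)
      = ((K.subgroupOf (Subgroup.normalizer (K : Set G))).index : ℂ) * (Nat.card K : ℂ)
        - ((K.subgroupOf (Subgroup.normalizer (K : Set G))).index : ℂ) ^ 2 := by
  rw [sum_Ksharp_of_vanish K _ (fun g hg => by rw [ca_rel_ext_vanish hC hζ g hg, zero_mul]),
    ca_rel_ext_one hC hab hζ,
    Helper15.sum_extendByZero_mul _ ζ
      (fun g => conj (extendByZero (Subgroup.normalizer (K : Set G)) ζ g))]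
  have h5 := Helper74.irr_inner_self (⟨ζ, hζ.1⟩ : IrrCharacter ↥(Subgroup.normalizer (K : Set G)))
  rw [Helper15.classInner_apply] at h5
  have hN : (Nat.card ↥(Subgroup.normalizer (K : Set G)) : ℂ) ≠ 0 := by
    have : Nat.card ↥(Subgroup.normalizer (K : Set G)) ≠ 0 := Nat.card_pos.ne'
    exact_mod_cast this
  have h6 : ∑ n : ↥(Subgroup.normalizer (K : Set G)), ζ n * conj (ζ n)
      = (Nat.card ↥(Subgroup.normalizer (K : Set G)) : ℂ) := by
    field_simp at h5
    exact h5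
  simp only [Helper15.extendByZero_coe]
  rw [h6, ca_card_normalizer, map_natCast]
  ring

end RelSums

section Package

variable {G : Type u} [Group G] [Fintype G] {K : Subgroup G}
  [Fintype ↥(Subgroup.normalizer (K : Set G))]

/-- The family of exceptional characters attached to `K`: signs, constants, sums over `K \ {1}`,
values off the conjugates of `K`, and their number. -/
theorem ca_exc_package (hC : ∀ k ∈ K, k ≠ 1 → Subgroup.centralizer ({k} : Set G) ≤ K)
    (hab : ∀ a ∈ K, ∀ b ∈ K, a * b = b * a)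
    (hTI : ∀ g : G, g ∉ Subgroup.normalizer (K : Set G) → ∀ k ∈ K, g * k * g⁻¹ ∈ K → k = 1)
    (htwo : ∃ ζ ∈ tfS K, ∃ ζ' ∈ tfS K, ζ ≠ ζ') :
    ∃ (ε c : ℤ), (ε = 1 ∨ ε = -1) ∧
      (∀ ψ ∈ excFam K, ∑ k ∈ Ksharp K, ψ k
        = ((-ε * ((K.subgroupOf (Subgroup.normalizer (K : Set G))).index : ℤ)
            + c * ((Nat.card K : ℤ) - 1) : ℤ) : ℂ)) ∧
      (∀ ψ ∈ excFam K, ∑ k ∈ Ksharp K, ψ k * conj (ψ k)
        = ((((K.subgroupOf (Subgroup.normalizer (K : Set G))).index : ℤ) * (Nat.card K : ℤ)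
            - ((K.subgroupOf (Subgroup.normalizer (K : Set G))).index : ℤ) ^ 2
            - 2 * ε * c * ((K.subgroupOf (Subgroup.normalizer (K : Set G))).index : ℤ)
            + c ^ 2 * ((Nat.card K : ℤ) - 1) : ℤ) : ℂ)) ∧
      (∀ ψ ∈ excFam K, ∀ ψ' ∈ excFam K, ∀ g : G, (g = 1 ∨ ∀ h : G, h * g * h⁻¹ ∉ K) →
        ψ g = ψ' g) ∧
      2 ≤ Nat.card {ψ : IrrCharacter G // (ψ : G → ℂ) ∈ excFam K} ∧
      Nat.card {ψ : IrrCharacter G // (ψ : G → ℂ) ∈ excFam K}
        * (K.subgroupOf (Subgroup.normalizer (K : Set G))).index + 1 = Nat.card K := by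
  classical
  obtain ⟨n, χ, ε, θ, hn, hχmem, hχinj, hχsurj, hε, hθirr, hθinj, hdiff⟩ :=
    ca_exc_data hC hab hTI htwo
  obtain ⟨c, hc⟩ := ca_exc_values hC hab hTI hn hχmem hχinj hχsurj hε hθirr hθinj hdiff
  have hfam := ca_excFam_eq hC hab hTI hn hχmem hχinj hχsurj hε hθirr hθinj hdiff
  have hle : K ≤ Subgroup.normalizer (K : Set G) := Subgroup.le_normalizer
  obtain ⟨εz, hεz, hεzc⟩ : ∃ εz : ℤ, (εz = 1 ∨ εz = -1) ∧ (εz : ℂ) = ε := by
    rcases hε with h | h
    · exact ⟨1, Or.inl rfl, by rw [h]; simp⟩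
    · exact ⟨-1, Or.inr rfl, by rw [h]; simp⟩
  have hcardK : ((Ksharp K).card : ℂ) = (Nat.card K : ℂ) - 1 := by
    have := card_Ksharp K
    have h2 : ((Ksharp K).card : ℂ) + 1 = (Nat.card K : ℂ) := by exact_mod_cast this
    linear_combination h2
  -- values on K#
  have hval : ∀ i, ∀ k ∈ Ksharp K, θ i k
      = ε * extendByZero (Subgroup.normalizer (K : Set G)) (χ i) k + c := by
    intro i k hk
    obtain ⟨hkK, hk1⟩ := mem_Ksharp.mp hk
    rw [Helper15.extendByZero_of_mem _ (χ i) (hle hkK)]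
    exact hc i ⟨k, hle hkK⟩ hkK (fun h => hk1 (congrArg Subtype.val h))
  refine ⟨εz, c, hεz, ?_, ?_, ?_, ?_, ?_⟩
  · intro ψ hψ
    obtain ⟨i, rfl⟩ := (hfam ψ).mp hψ
    rw [Finset.sum_congr rfl (hval i), Finset.sum_add_distrib, ← Finset.mul_sum,
      ca_rel_sum hC hab (hχmem i), Finset.sum_const, nsmul_eq_mul, hcardK, ← hεzc]
    push_cast
    ring
  · intro ψ hψ
    obtain ⟨i, rfl⟩ := (hfam ψ).mp hψ
    have hterm : ∀ k ∈ Ksharp K, θ i k * conj (θ i k)
        = extendByZero (Subgroup.normalizer (K : Set G)) (χ i) k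
            * conj (extendByZero (Subgroup.normalizer (K : Set G)) (χ i) k)
          + ε * c * (extendByZero (Subgroup.normalizer (K : Set G)) (χ i) k
            + conj (extendByZero (Subgroup.normalizer (K : Set G)) (χ i) k)) + (c : ℂ) ^ 2 := by
      intro k hk
      rw [hval i k hk, map_add, map_mul, ca_conj_eps hε, map_intCast]
      have h2 := ca_eps_sq hε
      linear_combination (extendByZero (Subgroup.normalizer (K : Set G)) (χ i) k
            * conj (extendByZero (Subgroup.normalizer (K : Set G)) (χ i) k)) * h2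
    rw [Finset.sum_congr rfl hterm, Finset.sum_add_distrib, Finset.sum_add_distrib,
      ← Finset.mul_sum, Finset.sum_add_distrib, ← map_sum, ca_rel_sum hC hab (hχmem i),
      ca_rel_sum_sq hC hab (hχmem i), Finset.sum_const, nsmul_eq_mul, hcardK, ← hεzc]
    simp only [map_neg, map_natCast]
    push_cast
    ring
  · intro ψ hψ ψ' hψ' g hg
    obtain ⟨i, rfl⟩ := (hfam ψ).mp hψ
    obtain ⟨j, rfl⟩ := (hfam ψ').mp hψ'
    exact ca_exc_off hC hab hχmem hε hdiff i j g hg
  · have hcard : Nat.card {ψ : IrrCharacter G // (ψ : G → ℂ) ∈ excFam K} = n := by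
      let f : Fin n → {ψ : IrrCharacter G // (ψ : G → ℂ) ∈ excFam K} :=
        fun i => ⟨⟨θ i, hθirr i⟩, (hfam (θ i)).mpr ⟨i, rfl⟩⟩
      have hf : Function.Bijective f := by
        constructor
        · intro i j hij
          exact hθinj (congrArg Subtype.val (congrArg Subtype.val hij))
        · rintro ⟨ψ, hψ⟩
          obtain ⟨i, hi⟩ := (hfam ψ).mp hψ
          exact ⟨i, Subtype.ext (Subtype.ext hi)⟩
      rw [← Nat.card_congr (Equiv.ofBijective f hf), Nat.card_fin]
    rw [hcard]; exact hn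
  · have hcard : Nat.card {ψ : IrrCharacter G // (ψ : G → ℂ) ∈ excFam K} = n := by
      let f : Fin n → {ψ : IrrCharacter G // (ψ : G → ℂ) ∈ excFam K} :=
        fun i => ⟨⟨θ i, hθirr i⟩, (hfam (θ i)).mpr ⟨i, rfl⟩⟩
      have hf : Function.Bijective f := by
        constructor
        · intro i j hij
          exact hθinj (congrArg Subtype.val (congrArg Subtype.val hij))
        · rintro ⟨ψ, hψ⟩
          obtain ⟨i, hi⟩ := (hfam ψ).mp hψ
          exact ⟨i, Subtype.ext (Subtype.ext hi)⟩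
      rw [← Nat.card_congr (Equiv.ofBijective f hf), Nat.card_fin]
    let K' := K.subgroupOf (Subgroup.normalizer (K : Set G))
    have hcount := tf_count K' (fun χ' hχ' => by
      obtain ⟨k, hk, hne⟩ := hχ'
      exact tf_rel_degree hC hab ⟨χ'.2, k, Subgroup.mem_subgroupOf.mp hk, hne⟩)
    have hcard2 : Nat.card {χ' : IrrCharacter ↥(Subgroup.normalizer (K : Set G)) //
        ∃ k ∈ K', (χ' : ↥(Subgroup.normalizer (K : Set G)) → ℂ) k
          ≠ (χ' : ↥(Subgroup.normalizer (K : Set G)) → ℂ) 1} = n := by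
      let f : Fin n → {χ' : IrrCharacter ↥(Subgroup.normalizer (K : Set G)) //
        ∃ k ∈ K', (χ' : ↥(Subgroup.normalizer (K : Set G)) → ℂ) k
          ≠ (χ' : ↥(Subgroup.normalizer (K : Set G)) → ℂ) 1} :=
        fun i => ⟨⟨χ i, (hχmem i).1⟩, by
          obtain ⟨_, k, hk, hne⟩ := hχmem i
          exact ⟨k, Subgroup.mem_subgroupOf.mpr hk, hne⟩⟩
      have hf : Function.Bijective f := by
        constructor
        · intro i j hij
          exact hχinj (congrArg Subtype.val (congrArg Subtype.val hij))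
        · rintro ⟨ζ, k, hk, hne⟩
          obtain ⟨i, hi⟩ := hχsurj ζ.1 ⟨ζ.2, k, Subgroup.mem_subgroupOf.mp hk, hne⟩
          exact ⟨i, Subtype.ext (Subtype.ext hi)⟩
      rw [← Nat.card_congr (Equiv.ofBijective f hf), Nat.card_fin]
    have hKK' : Nat.card K' = Nat.card K :=
      Nat.card_congr (Subgroup.subgroupOfEquivOfLe hle).toEquiv
    rw [hcard, ← hKK', ← hcount, hcard2]

end Package

end Cfsg.Agent.Helper75
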