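import Cfsg.Agent.Helper75.CAFam
import Cfsg.Agent.S0161

/-!
# The parity relation between two families of exceptional characters (helper75)
-/

set_option autoImplicit false

namespace Cfsg.Agent.Helper75

open Cfsg
open scoped ComplexConjugate

universe u

/-- The integer part of the real part: reads off integer values of characters. -/
noncomputable def iv (z : ℂ) : ℤ := ⌊z.re⌋

theorem iv_intCast (n : ℤ) : iv (n : ℂ) = n := by
  unfold iv
  rw [Complex.intCast_re, Int.floor_intCast]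

theorem iv_conj (z : ℂ) : iv (conj z) = iv z := by
  unfold iv
  rw [Complex.conj_re]

theorem iv_eq {z : ℂ} {n : ℤ} (h : z = n) : iv z = n := by rw [h, iv_intCast]

section Rest

variable {G : Type u} [Group G] [Fintype G] [Fintype (IrrCharacter G)]

open Classical in
/-- Over the non-principal irreducible characters outside two families, an expression invariant
under complex conjugation has an even sum. -/
theorem ca_rest_even (hodd : Odd (Nat.card G)) (K K' : Subgroup G) (f : IrrCharacter G → ℤ)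
    (hf : ∀ ψ, f (Helper74.irrConj ψ) = f ψ) :
    Even (∑ ψ ∈ (Finset.univ.filter (fun ψ : IrrCharacter G =>
      ((ψ : G → ℂ) ∉ excFam K ∧ (ψ : G → ℂ) ∉ excFam K') ∧
        ψ ≠ ⟨fun _ => 1, Helper79.isIrrCharacter_one⟩)), f ψ) := by
  rw [← ZMod.intCast_eq_zero_iff_even, Int.cast_sum]
  refine Finset.sum_involution (fun ψ _ => Helper74.irrConj ψ) ?_ ?_ ?_ ?_
  · intro ψ _
    rw [hf ψ]
    exact CharTwo.add_self_eq_zero _
  · intro ψ hψ _ hfix
    have hne := (Finset.mem_filter.mp hψ).2.2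
    apply hne
    have hreal := (Helper74.irrConj_eq_self_iff ψ).mp hfix
    exact Subtype.ext (Cfsg.Agent.S0161.result hodd ψ hreal)
  · intro ψ hψ
    obtain ⟨_, ⟨h1, h2⟩, h3⟩ := Finset.mem_filter.mp hψ
    refine Finset.mem_filter.mpr ⟨Finset.mem_univ _, ⟨fun h => h1 (ca_conj_mem_excFam h),
      fun h => h2 (ca_conj_mem_excFam h)⟩, ?_⟩
    intro h
    apply h3
    apply Subtype.ext
    funext g
    have := congrFun (congrArg Subtype.val h) g
    rw [Helper74.irrConj_apply] at this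
    have h2 := congrArg (starRingEnd ℂ) this
    simpa using h2
  · intro ψ _
    apply Subtype.ext
    funext g
    simp [Helper74.irrConj_apply]

end Rest

section Parity

variable {G : Type u} [Group G] [Fintype G] [Fintype (IrrCharacter G)]

omit [Fintype G] in
open Classical in
theorem ca_card_filter_excFam (K : Subgroup G) :
    (Finset.univ.filter (fun ψ : IrrCharacter G => (ψ : G → ℂ) ∈ excFam K)).card = caT K := by
  unfold caT
  rw [Nat.card_eq_fintype_card, Fintype.card_subtype]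

/-- Column orthogonality summed over `K \ {1}` and `K' \ {1}` for subgroups with disjoint sets of
conjugates. -/
theorem ca_orth_sum {K K' : Subgroup G} (hdisj : ∀ g ∈ Kconj K, g ∉ Kconj K') :
    ∑ ψ : IrrCharacter G, (∑ k ∈ Ksharp K, (ψ : G → ℂ) k)
      * conj (∑ k' ∈ Ksharp K', (ψ : G → ℂ) k') = 0 := by
  classical
  simp only [map_sum, Finset.sum_mul_sum]
  rw [Finset.sum_comm]
  apply Finset.sum_eq_zero
  intro k hk
  rw [Finset.sum_comm]
  apply Finset.sum_eq_zero
  intro k' hk'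
  have h := Helper74.second_orthogonality (G := G) k k'
  rw [if_neg] at h
  · exact h
  · intro hc
    rw [isConj_iff] at hc
    obtain ⟨c, hc⟩ := hc
    obtain ⟨hk'K, _⟩ := mem_Ksharp.mp hk'
    obtain ⟨_, hk1⟩ := mem_Ksharp.mp hk
    exact hdisj k (Ksharp_subset_Kconj K hk) (mem_Kconj.mpr ⟨hk1, c, by rw [hc]; exact hk'K⟩)

omit [Fintype (IrrCharacter G)] in
theorem ca_card_ge_three {K : Subgroup G} {ε c : ℤ} (D : ExcData K ε c) : 3 ≤ Nat.card K := by
  have h1 := D.two
  have h2 := D.count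
  have h3 : 1 ≤ caE K := by
    by_contra h
    have : caE K = 0 := by omega
    rw [this] at h2
    have : 0 < Nat.card K := Nat.card_pos
    have h4 : Nat.card K = 1 := by omega
    have h5 : (Ksharp K).card = 0 := by have := card_Ksharp K; omega
    -- then `excFam K` is empty, contradicting `caT K ≥ 2`
    obtain ⟨ψ, hψ, _⟩ := ca_exists_ne D (fun _ => 0)
    obtain ⟨_, a, ha, _, _, ha1, _, _⟩ := hψ
    have : a ∈ Ksharp K := mem_Ksharp.mpr ⟨ha, ha1⟩
    rw [Finset.card_eq_zero] at h5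
    rw [h5] at this
    simp at this
  nlinarith

/-- **Parity relation**: for two families attached to subgroups with disjoint sets of conjugates,
the value of an exceptional character of one on the other subgroup and vice versa have an odd
sum. -/
theorem ca_parity (hodd : Odd (Nat.card G)) {K K' : Subgroup G} {ε c ε' c' : ℤ}
    (D : ExcData K ε c) (D' : ExcData K' ε' c') (hdisj : ∀ g ∈ Kconj K, g ∉ Kconj K')
    (ht : Even (caT K)) (ht' : Even (caT K'))
    {x y : G} (hx : x ∈ Ksharp K) (hy : y ∈ Ksharp K')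
    {χ χ' : G → ℂ} (hχ : χ ∈ excFam K) (hχ' : χ' ∈ excFam K') :
    ∃ a b : ℤ, χ y = a ∧ χ' x = b ∧ Odd (a + b) := by
  classical
  have hdisj' : ∀ g ∈ Kconj K', g ∉ Kconj K := fun g hg hg' => hdisj g hg' hg
  have hχnot : χ ∉ excFam K' := ca_excFam_disjoint D D' hdisj hχ
  have hχ'not : χ' ∉ excFam K := ca_excFam_disjoint D' D hdisj' hχ'
  obtain ⟨hxK, hx1⟩ := mem_Ksharp.mp hx
  obtain ⟨hyK, hy1⟩ := mem_Ksharp.mp hy
  obtain ⟨a, ha⟩ := ca_const_of_not_mem hχ.1 hχnot hyK hy1
  obtain ⟨b, hb⟩ := ca_const_of_not_mem hχ'.1 hχ'not hxK hx1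
  refine ⟨a, b, ha y hyK hy1, hb x hxK hx1, ?_⟩
  -- notation
  set m : ℤ := (Nat.card K : ℤ) with hm
  set m' : ℤ := (Nat.card K' : ℤ) with hm'
  set e : ℤ := (caE K : ℤ) with he
  set e' : ℤ := (caE K' : ℤ) with he'
  set t : ℤ := (caT K : ℤ) with htdef
  set t' : ℤ := (caT K' : ℤ) with ht'def
  have hcardK : ((Ksharp K).card : ℂ) = ((m - 1 : ℤ) : ℂ) := by
    have := card_Ksharp K
    have h2 : ((Ksharp K).card : ℤ) + 1 = m := by rw [hm]; exact_mod_cast this
    have h3 : ((Ksharp K).card : ℤ) = m - 1 := by linarith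
    exact_mod_cast h3
  have hcardK' : ((Ksharp K').card : ℂ) = ((m' - 1 : ℤ) : ℂ) := by
    have := card_Ksharp K'
    have h2 : ((Ksharp K').card : ℤ) + 1 = m' := by rw [hm']; exact_mod_cast this
    have h3 : ((Ksharp K').card : ℤ) = m' - 1 := by linarith
    exact_mod_cast h3
  have hs1 : ∀ ψ ∈ excFam K, ∑ k ∈ Ksharp K, ψ k = ((-ε * e + c * (m - 1) : ℤ) : ℂ) := D.sum1
  have hs1' : ∀ ψ ∈ excFam K', ∑ k ∈ Ksharp K', ψ k = ((-ε' * e' + c' * (m' - 1) : ℤ) : ℂ) :=
    D'.sum1
  -- the value of each summand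
  let Tz : IrrCharacter G → ℤ := fun ψ =>
    if (ψ : G → ℂ) ∈ excFam K then (-ε * e + c * (m - 1)) * ((m' - 1) * a)
    else if (ψ : G → ℂ) ∈ excFam K' then ((m - 1) * b) * (-ε' * e' + c' * (m' - 1))
    else ((m - 1) * iv ((ψ : G → ℂ) x)) * ((m' - 1) * iv ((ψ : G → ℂ) y))
  have hT : ∀ ψ : IrrCharacter G, (∑ k ∈ Ksharp K, (ψ : G → ℂ) k)
      * conj (∑ k' ∈ Ksharp K', (ψ : G → ℂ) k') = ((Tz ψ : ℤ) : ℂ) := by
    intro ψ
    by_cases h1 : (ψ : G → ℂ) ∈ excFam K
    · have hB : ∑ k' ∈ Ksharp K', (ψ : G → ℂ) k' = (((m' - 1) * a : ℤ) : ℂ) := by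
        have : ∀ k' ∈ Ksharp K', (ψ : G → ℂ) k' = (a : ℂ) := by
          intro k' hk'
          obtain ⟨hk'K, hk'1⟩ := mem_Ksharp.mp hk'
          rw [← ha k' hk'K hk'1]
          apply D.off _ h1 _ hχ
          right
          intro h hh
          exact hdisj' k' (Ksharp_subset_Kconj K' hk') (mem_Kconj.mpr ⟨hk'1, h, hh⟩)
        rw [Finset.sum_congr rfl this, Finset.sum_const, nsmul_eq_mul, hcardK']
        push_cast; ring
      simp only [Tz, if_pos h1]
      rw [hs1 _ h1, hB, map_intCast]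
      push_cast; ring
    · by_cases h2 : (ψ : G → ℂ) ∈ excFam K'
      · have hA : ∑ k ∈ Ksharp K, (ψ : G → ℂ) k = (((m - 1) * b : ℤ) : ℂ) := by
          have : ∀ k ∈ Ksharp K, (ψ : G → ℂ) k = (b : ℂ) := by
            intro k hk
            obtain ⟨hkK, hk1⟩ := mem_Ksharp.mp hk
            rw [← hb k hkK hk1]
            apply D'.off _ h2 _ hχ'
            right
            intro h hh
            exact hdisj k (Ksharp_subset_Kconj K hk) (mem_Kconj.mpr ⟨hk1, h, hh⟩)
          rw [Finset.sum_congr rfl this, Finset.sum_const, nsmul_eq_mul, hcardK]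
          push_cast; ring
        simp only [Tz, if_neg h1, if_pos h2]
        rw [hs1' _ h2, hA, map_intCast]
        push_cast; ring
      · obtain ⟨u, hu⟩ := ca_const_of_not_mem ψ.2 h1 hxK hx1
        obtain ⟨v, hv⟩ := ca_const_of_not_mem ψ.2 h2 hyK hy1
        have hA : ∑ k ∈ Ksharp K, (ψ : G → ℂ) k = (((m - 1) * u : ℤ) : ℂ) := by
          have : ∀ k ∈ Ksharp K, (ψ : G → ℂ) k = (u : ℂ) := by
            intro k hk
            obtain ⟨hkK, hk1⟩ := mem_Ksharp.mp hk
            exact hu k hkK hk1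
          rw [Finset.sum_congr rfl this, Finset.sum_const, nsmul_eq_mul, hcardK]
          push_cast; ring
        have hB : ∑ k' ∈ Ksharp K', (ψ : G → ℂ) k' = (((m' - 1) * v : ℤ) : ℂ) := by
          have : ∀ k' ∈ Ksharp K', (ψ : G → ℂ) k' = (v : ℂ) := by
            intro k' hk'
            obtain ⟨hk'K, hk'1⟩ := mem_Ksharp.mp hk'
            exact hv k' hk'K hk'1
          rw [Finset.sum_congr rfl this, Finset.sum_const, nsmul_eq_mul, hcardK']
          push_cast; ring
        simp only [Tz, if_neg h1, if_neg h2]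
        rw [hA, hB, map_intCast, iv_eq (hu x hxK hx1), iv_eq (hv y hyK hy1)]
        push_cast; ring
  have hsum : ∑ ψ : IrrCharacter G, Tz ψ = 0 := by
    have h0 := ca_orth_sum (G := G) hdisj
    rw [Finset.sum_congr rfl (fun ψ _ => hT ψ), ← Int.cast_sum] at h0
    exact_mod_cast h0
  -- evaluate the sum
  let f : IrrCharacter G → ℤ := fun ψ => iv ((ψ : G → ℂ) x) * iv ((ψ : G → ℂ) y)
  have hfconj : ∀ ψ, f (Helper74.irrConj ψ) = f ψ := by
    intro ψ
    simp only [f, Helper74.irrConj_apply, iv_conj]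
  set ψ₀ : IrrCharacter G := ⟨fun _ => 1, Helper79.isIrrCharacter_one⟩ with hψ₀
  have hψ₀f : f ψ₀ = 1 := by
    simp only [f, hψ₀]
    have : iv (1 : ℂ) = 1 := by
      have := iv_intCast 1
      simpa using this
    rw [this]; ring
  obtain ⟨z, hz⟩ := ca_rest_even hodd K K' f hfconj
  -- the three parts
  have hsplit : ∑ ψ : IrrCharacter G, Tz ψ
      = t * ((-ε * e + c * (m - 1)) * ((m' - 1) * a))
        + t' * (((m - 1) * b) * (-ε' * e' + c' * (m' - 1)))
        + (m - 1) * (m' - 1) * (1 + (z + z)) := by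
    simp only [Tz]
    rw [Finset.sum_ite, Finset.sum_ite, Finset.sum_const, Finset.sum_const, nsmul_eq_mul,
      nsmul_eq_mul, ca_card_filter_excFam K]
    have hf2 : (Finset.filter (fun ψ : IrrCharacter G => (ψ : G → ℂ) ∈ excFam K')
        (Finset.filter (fun ψ : IrrCharacter G => ¬ (ψ : G → ℂ) ∈ excFam K) Finset.univ))
        = Finset.univ.filter (fun ψ : IrrCharacter G => (ψ : G → ℂ) ∈ excFam K') := by
      ext ψ
      simp only [Finset.mem_filter, Finset.mem_univ, true_and]
      constructor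
      · exact fun h => h.2
      · exact fun h => ⟨fun h1 => ca_excFam_disjoint D D' hdisj h1 h, h⟩
    rw [hf2, ca_card_filter_excFam K']
    have hf3 : (Finset.filter (fun ψ : IrrCharacter G => ¬ (ψ : G → ℂ) ∈ excFam K')
        (Finset.filter (fun ψ : IrrCharacter G => ¬ (ψ : G → ℂ) ∈ excFam K) Finset.univ))
        = insert ψ₀ (Finset.univ.filter (fun ψ : IrrCharacter G =>
            ((ψ : G → ℂ) ∉ excFam K ∧ (ψ : G → ℂ) ∉ excFam K') ∧ ψ ≠ ψ₀)) := by
      ext ψ
      simp only [Finset.mem_filter, Finset.mem_univ, true_and, Finset.mem_insert]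
      constructor
      · intro h
        by_cases h0 : ψ = ψ₀
        · exact Or.inl h0
        · exact Or.inr ⟨⟨h.1, h.2⟩, h0⟩
      · rintro (h | h)
        · rw [h]
          exact ⟨ca_one_not_mem_excFam K, ca_one_not_mem_excFam K'⟩
        · exact ⟨h.1.1, h.1.2⟩
    have hnotmem : ψ₀ ∉ Finset.univ.filter (fun ψ : IrrCharacter G =>
        ((ψ : G → ℂ) ∉ excFam K ∧ (ψ : G → ℂ) ∉ excFam K') ∧ ψ ≠ ψ₀) := by
      simp
    have hrest : ∑ ψ ∈ (Finset.filter (fun ψ : IrrCharacter G => ¬ (ψ : G → ℂ) ∈ excFam K')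
        (Finset.filter (fun ψ : IrrCharacter G => ¬ (ψ : G → ℂ) ∈ excFam K) Finset.univ)),
        ((m - 1) * iv ((ψ : G → ℂ) x)) * ((m' - 1) * iv ((ψ : G → ℂ) y))
        = (m - 1) * (m' - 1) * (1 + (z + z)) := by
      have : ∀ ψ : IrrCharacter G, ((m - 1) * iv ((ψ : G → ℂ) x)) * ((m' - 1) * iv ((ψ : G → ℂ) y))
          = (m - 1) * (m' - 1) * f ψ := by
        intro ψ; simp only [f]; ring
      rw [Finset.sum_congr rfl (fun ψ _ => this ψ), ← Finset.mul_sum, hf3,
        Finset.sum_insert hnotmem, hψ₀f, hz]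
    rw [hrest, htdef, ht'def]
    ring
  rw [hsplit] at hsum
  -- arithmetic
  have hcount : t * e = m - 1 := by
    have := D.count
    have h2 : (caT K : ℤ) * (caE K : ℤ) + 1 = (Nat.card K : ℤ) := by exact_mod_cast this
    linarith
  have hcount' : t' * e' = m' - 1 := by
    have := D'.count
    have h2 : (caT K' : ℤ) * (caE K' : ℤ) + 1 = (Nat.card K' : ℤ) := by exact_mod_cast this
    linarith
  have hm3 : (3 : ℤ) ≤ m := by rw [hm]; exact_mod_cast ca_card_ge_three D
  have hm3' : (3 : ℤ) ≤ m' := by rw [hm']; exact_mod_cast ca_card_ge_three D'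
  have hfact : (m - 1) * (m' - 1)
      * ((t * c - ε) * a + (t' * c' - ε') * b + 1 + (z + z)) = 0 := by
    linear_combination hsum + (ε * (m' - 1) * a) * hcount + (ε' * (m - 1) * b) * hcount'
  have hbr : (t * c - ε) * a + (t' * c' - ε') * b + 1 + (z + z) = 0 := by
    rcases mul_eq_zero.mp hfact with h | h
    · rcases mul_eq_zero.mp h with h' | h'
      · omega
      · omega
    · exact h
  obtain ⟨t₁, ht₁⟩ := ht
  obtain ⟨t₁', ht₁'⟩ := ht'
  have ht2 : t = (t₁ : ℤ) + t₁ := by rw [htdef, ht₁]; push_cast; ring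
  have ht2' : t' = (t₁' : ℤ) + t₁' := by rw [ht'def, ht₁']; push_cast; ring
  have hexp : 2 * ((t₁ : ℤ) * c * a) - ε * a + (2 * ((t₁' : ℤ) * c' * b) - ε' * b) + 1
      + (z + z) = 0 := by
    rw [ht2, ht2'] at hbr
    linear_combination hbr
  generalize (t₁ : ℤ) * c * a = P at hexp
  generalize (t₁' : ℤ) * c' * b = P' at hexp
  rw [Int.odd_iff]
  rcases D.hε with h | h <;> rcases D'.hε with h' | h' <;> subst h <;> subst h' <;> omega

end Parity

end Cfsg.Agent.Helper75
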