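import Cfsg.Agent.Helper75.ChevAutE1
import Cfsg.Agent.Helper36.ChevAutR1
import Cfsg.Agent.S1031

/-!
Helper75: piece E3 of helper36's plan for S2156: an automorphism exchanging the root subgroups of the short and the
long fundamental root of `G₂` (and their negatives) exists only in characteristic three.

Route: the image of `n_p(1)` is `n_q(c)` (rank-one relations), hence the automorphism carries the root subgroup of a
reflected root to the root subgroup of the reflected root; then `[x_a(1), x_{2a+b}(1)] = x_{3a+b}(± 3)` goes to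
`[X_b, X_{3a+2b}] = 1`.
-/

set_option autoImplicit false

namespace Cfsg.Agent.Helper75.ChevAutE

open Cfsg Cfsg.Lie Cfsg.Agent.Helper40.UT Cfsg.Agent.Helper40.ChevAdd Cfsg.Agent.Helper40.UGrade
  Cfsg.Agent.Helper40.UProd Cfsg.Agent.Helper36.Perfect Cfsg.Agent.Helper36.ChevAut
  Cfsg.Agent.Helper40.SL2Hom Cfsg.Agent.Helper40.SL2Chev

section
variable {F : Type*} [Field F] (D : ChevalleyDatum) (hadd : addOK D = true)

/-- the element `n_r(c) = x_r(c) x_{-r}(-c⁻¹) x_r(c)` of the Chevalley group -/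
def Ng (r : ℕ) (c : F) : ↥(D.group F) :=
  Xg D hadd r c * Xg D hadd (D.neg r) (-c⁻¹) * Xg D hadd r c

theorem Ng_val (r : ℕ) (c : F) : ((Ng D hadd r c : ↥(D.group F)) : GL D.Idx F) = nG D hadd r c := rfl

variable {D}

/-- the image of `n_p(1)` under an automorphism carrying `X_p` to `X_q` and `X_{-p}` to `X_{-q}` is some `n_q(c)` -/
theorem map_Ng (hD : D ∈ [chevG2, chevB2, chevD4, chevF4, chevE6, chevE7, chevE8])
    (θ : ↥(D.group F) ≃* ↥(D.group F)) (p q : ℕ) (hp : p < D.nroots) (hq : q < D.nroots)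
    (h1 : MapsRoot D θ p q) (h2 : MapsRoot D θ (D.neg p) (D.neg q)) :
    ∃ c : F, c ≠ 0 ∧ θ (Ng D hadd p 1) = Ng D hadd q c := by
  obtain ⟨u, hu0, hu⟩ := mapsRoot_ne hadd hD h1 hp (1 : F) one_ne_zero
  obtain ⟨v, hv⟩ := mapsRoot_Xg hadd h2 (-(1 : F)⁻¹)
  have Rp := rel (F := F) D hadd hD p hp
  have Rq := rel (F := F) D hadd hD q hq
  -- the source relation
  have hsrc : Ng D hadd p (1 : F) * Xg D hadd p 1 = Xg D hadd (D.neg p) (-(1 : F)⁻¹) * Ng D hadd p 1 := by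
    apply Subtype.ext
    have := Rp.conj (1 : F) 1 one_ne_zero
    rw [mul_inv_eq_iff_eq_mul] at this
    have e : -((1 : F)⁻¹ * (1 : F)⁻¹ * 1) = -(1 : F)⁻¹ := by simp
    rw [e] at this
    exact this
  have himg : θ (Ng D hadd p (1 : F)) = Xg D hadd q u * Xg D hadd (D.neg q) v * Xg D hadd q u := by
    unfold Ng
    rw [map_mul, map_mul, hu, hv]
  have h3 := congrArg θ hsrc
  rw [map_mul, map_mul, himg, hu, hv] at h3
  have h4 : (xGL D hadd F q u * xGL D hadd F (D.neg q) v * xGL D hadd F q u) * xGL D hadd F q u =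
      xGL D hadd F (D.neg q) v * (xGL D hadd F q u * xGL D hadd F (D.neg q) v * xGL D hadd F q u) :=
    congrArg Subtype.val h3
  have huv : u * v = -1 :=
    Cfsg.Agent.Helper36.RankOne.ab_eq_neg_one Rq (fun s t h => x_ne_y D hD q hq s t h) u v u v hu0 h4
  have hv' : v = -u⁻¹ := by
    have e : v = u⁻¹ * (u * v) := by rw [← mul_assoc, inv_mul_cancel₀ hu0, one_mul]
    rw [e, huv, mul_neg_one]
  refine ⟨u, hu0, ?_⟩
  rw [himg, hv']
  rfl

/-- conjugation by `n_p(c)`, `p` fundamental, carries `X_s` into the root subgroup of the reflected root -/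
theorem Ng_conj (hD : D ∈ [chevG2, chevB2, chevD4, chevF4, chevE6, chevE7, chevE8])
    (i s : ℕ) (hi : i < D.rank) (hpi : D.simple i < D.nroots) (hs : s < D.nroots)
    (hq : D.reflectRoot i s < D.nroots) (c : F) (hc : c ≠ 0) (t : F) :
    ∃ t' : F, Ng D hadd (D.simple i) c * Xg D hadd s t * (Ng D hadd (D.simple i) c)⁻¹ =
      Xg D hadd (D.reflectRoot i s) t' := by
  obtain ⟨η, -, hη⟩ := Cfsg.Agent.S1031.result (F := F) D hD i s hi hs
  have h1 : nG D hadd (D.simple i) (1 : F) * xGL D hadd F s t * (nG D hadd (D.simple i) 1)⁻¹ =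
      xGL D hadd F (D.reflectRoot i s) ((η : F) * t) := by
    rw [mul_inv_eq_iff_eq_mul]
    apply Units.ext
    rw [Units.val_mul, Units.val_mul, coe_nG, coe_xGL, coe_xGL]
    exact hη t
  have h2 : nG D hadd (D.simple i) c = hG D hadd (D.simple i) c * nG D hadd (D.simple i) 1 := by
    show _ = nG D hadd (D.simple i) c * (nG D hadd (D.simple i) 1)⁻¹ * nG D hadd (D.simple i) 1
    rw [inv_mul_cancel_right]
  have h3 := hconj D hadd hD (D.simple i) (D.reflectRoot i s) hpi hq c ((η : F) * t) hc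
  refine ⟨c ^ Cfsg.Agent.Helper18.pairing' D (D.simple i) (D.reflectRoot i s) * ((η : F) * t), ?_⟩
  apply Subtype.ext
  show nG D hadd (D.simple i) c * xGL D hadd F s t * (nG D hadd (D.simple i) c)⁻¹ =
    xGL D hadd F (D.reflectRoot i s)
      (c ^ Cfsg.Agent.Helper18.pairing' D (D.simple i) (D.reflectRoot i s) * ((η : F) * t))
  rw [h2, ← h3, ← h1]
  group

/-- transfer of `MapsRoot` along fundamental reflections -/
theorem mapsRoot_reflect (hD : D ∈ [chevG2, chevB2, chevD4, chevF4, chevE6, chevE7, chevE8])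
    (θ : ↥(D.group F) ≃* ↥(D.group F)) (i j s s' : ℕ) (hi : i < D.rank) (hj : j < D.rank)
    (hpj : D.simple j < D.nroots) (hs : s < D.nroots) (hs' : s' < D.nroots)
    (hq' : D.reflectRoot j s' < D.nroots)
    (hss' : MapsRoot D θ s s') (c : F) (hc : c ≠ 0)
    (hN : θ (Ng D hadd (D.simple i) 1) = Ng D hadd (D.simple j) c) :
    MapsRoot D θ (D.reflectRoot i s) (D.reflectRoot j s') := by
  intro t y hy
  obtain ⟨η, hη1, hη⟩ := Cfsg.Agent.S1031.result (F := F) D hD i s hi hs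
  have hηη : (η : F) * ((η : F) * t) = t := by
    rcases hη1 with rfl | rfl <;> simp
  have hy' : y = Ng D hadd (D.simple i) 1 * Xg D hadd s ((η : F) * t) * (Ng D hadd (D.simple i) 1)⁻¹ := by
    rw [eq_mul_inv_iff_mul_eq]
    apply Subtype.ext
    apply Units.ext
    show ((y : GL D.Idx F) : Matrix D.Idx D.Idx F) * ((nG D hadd (D.simple i) (1 : F) : GL D.Idx F) : Matrix D.Idx D.Idx F)
      = ((nG D hadd (D.simple i) (1 : F) : GL D.Idx F) : Matrix D.Idx D.Idx F) * D.x F s ((η : F) * t)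
    rw [hy, coe_nG, hη ((η : F) * t), hηη]
  obtain ⟨t1, ht1⟩ := mapsRoot_Xg hadd hss' ((η : F) * t)
  obtain ⟨t2, ht2⟩ := Ng_conj hadd hD j s' hj hpj hs' hq' c hc t1
  refine ⟨t2, ?_⟩
  rw [hy', map_mul, map_mul, map_inv, hN, ht1, ht2]
  rfl

end


/-- table check for a triple bond: `a = p_{ia}` short, `b = p_{ib}` long, `k1 = a + b = w_b(a)`, `k3 = 3a + b = w_a(b)`,
`k2 = 2a + b = w_a(k1)`, `k5 = 3a + 2b = w_b(k3)`, `[X_b, X_{k5}] = 1` and `[x_a, x_{k2}] = x_{k3}(± 3 ⋯)` -/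
def triOK (D : ChevalleyDatum) (ia ib a b k1 k2 k3 k5 : ℕ) (m : ℤ) : Bool :=
  decide (ia < D.rank) && decide (ib < D.rank) && decide (D.simple ia = a) && decide (D.simple ib = b) &&
  decide (D.IsPosRoot a) && decide (D.IsPosRoot b) && decide (D.IsPosRoot k1) && decide (D.IsPosRoot k2) &&
  decide (D.IsPosRoot k3) && decide (D.IsPosRoot k5) &&
  decide (D.reflectRoot ib a = k1) && decide (D.reflectRoot ia b = k3) &&
  decide (D.reflectRoot ia k1 = k2) && decide (D.reflectRoot ib k3 = k5) &&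
  decide (k2 ≠ a) && decide (k5 ≠ b) &&
  decide (D.commTerms b k5 = []) &&
  decide (D.chainRoot a k2 1 = some k3) && decide (D.chainM a k2 1 = m) && (decide (m = 3) || decide (m = -3))

section
variable {F : Type*} [Field F] {D : ChevalleyDatum} {φ : ℕ → ℤ} {wit : ℕ → ℕ × ℕ}

theorem three_eq_zero_of_swap (hD : D ∈ [chevG2, chevB2, chevD4, chevF4, chevE6, chevE7, chevE8])
    (hg : gradeOK D φ wit = true) (hadd : addOK D = true) {ia ib a b k1 k2 k3 k5 : ℕ} {m : ℤ}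
    (htri : triOK D ia ib a b k1 k2 k3 k5 m = true)
    (θ : ↥(D.group F) ≃* ↥(D.group F)) (hab : MapsRoot D θ a b) (hba : MapsRoot D θ b a)
    (hab' : MapsRoot D θ (D.neg a) (D.neg b)) (hba' : MapsRoot D θ (D.neg b) (D.neg a)) : (3 : F) = 0 := by
  unfold triOK at htri
  simp only [Bool.and_eq_true, Bool.or_eq_true, decide_eq_true_eq] at htri
  obtain ⟨⟨⟨⟨⟨⟨⟨⟨⟨⟨⟨⟨⟨⟨⟨⟨⟨⟨⟨hia, hib⟩, sa⟩, sb⟩, pa⟩, pb⟩, pk1⟩, pk2⟩, pk3⟩, pk5⟩, r1⟩, r3⟩, r2⟩, r5⟩, nk2a⟩, nk5b⟩,
    Tbk5⟩, R4⟩, M4⟩, hm⟩ := htri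
  obtain ⟨u, hu0, hNa⟩ := map_Ng hadd hD θ a b pa.1 pb.1 hab hab'
  obtain ⟨u', hu'0, hNb⟩ := map_Ng hadd hD θ b a pb.1 pa.1 hba hba'
  -- `X_{a+b} → X_{3a+b}`
  have h13 : MapsRoot D θ k1 k3 := by
    have := mapsRoot_reflect hadd hD θ ib ia a b hib hia (by rw [sa]; exact pa.1) pa.1 pb.1
      (by rw [r3]; exact pk3.1) hab u' hu'0 (by rw [sa, sb]; exact hNb)
    rwa [r1, r3] at this
  -- `X_{2a+b} → X_{3a+2b}`
  have h25 : MapsRoot D θ k2 k5 := by
    have := mapsRoot_reflect hadd hD θ ia ib k1 k3 hia hib (by rw [sb]; exact pb.1) pk1.1 pk3.1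
      (by rw [r5]; exact pk5.1) h13 u hu0 (by rw [sa, sb]; exact hNa)
    rwa [r2, r5] at this
  obtain ⟨v1, hv1⟩ := mapsRoot_Xg hadd hab (1 : F)
  obtain ⟨v2, hv2⟩ := mapsRoot_Xg hadd h25 (1 : F)
  have hc := commute_of_nil hD hadd b k5 pb.1 pk5.1 nk5b (ne_neg_of_pos hg _ _ pb pk5) Tbk5 v1 v2
  have hcg : Xg D hadd k5 v2 * Xg D hadd b v1 = Xg D hadd b v1 * Xg D hadd k5 v2 := Subtype.ext hc
  rw [← hv1, ← hv2, ← map_mul, ← map_mul] at hcg
  have hsrc := θ.injective hcg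
  have hsrc' : xGL D hadd F k2 (1 : F) * xGL D hadd F a 1 = xGL D hadd F a 1 * xGL D hadd F k2 1 :=
    congrArg Subtype.val hsrc
  have h6 := coeff_eq_zero_of_commute hD hg hadd a k2 k3 pa pk2 nk2a R4 (1 : F) (1 : F) hsrc'
  rw [M4] at h6
  rcases hm with rfl | rfl
  · have : (3 : F) = -(((3 : ℤ) : F) * (-1) * 1) := by push_cast; ring
    rw [this, h6, neg_zero]
  · have : (3 : F) = ((-3 : ℤ) : F) * (-1) * 1 := by push_cast; ring
    rw [this]; exact h6

end

end Cfsg.Agent.Helper75.ChevAutE
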