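import Cfsg.Agent.Helper75.ChevAutE2
import Cfsg.Agent.Helper75.ChevAutE3

/-!
Helper75: piece E of helper36's plan for S2156 (automorphisms of the Chevalley groups): if an automorphism `θ`
permutes the fundamental root subgroups (and their negatives) according to a permutation `π` of the nodes, then `π`
is a symmetry of the Dynkin diagram and the characteristic allows it (`CharOK`).
-/

set_option autoImplicit false
set_option maxRecDepth 100000

namespace Cfsg.Agent.Helper75.ChevAutE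

open Cfsg Cfsg.Lie Cfsg.Agent.Helper40.ChevAdd Cfsg.Agent.Helper40.UGrade Cfsg.Agent.Helper36.ChevAut

/-! ### table checks -/

theorem adjOK_G2 : adjOK chevG2 = true := by decide +kernel
theorem adjOK_B2 : adjOK chevB2 = true := by decide +kernel
theorem adjOK_D4 : adjOK chevD4 = true := by decide +kernel
theorem adjOK_F4 : adjOK chevF4 = true := by decide +kernel
theorem adjOK_E6 : adjOK chevE6 = true := by decide +kernel
theorem adjOK_E7 : adjOK chevE7 = true := by decide +kernel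
theorem adjOK_E8 : adjOK chevE8 = true := by decide +kernel

theorem adjOK_of_mem {D : ChevalleyDatum} (hD : D ∈ [chevG2, chevB2, chevD4, chevF4, chevE6, chevE7, chevE8]) :
    adjOK D = true := by
  simp only [List.mem_cons, List.mem_nil_iff, or_false] at hD
  rcases hD with rfl | rfl | rfl | rfl | rfl | rfl | rfl
  exacts [adjOK_G2, adjOK_B2, adjOK_D4, adjOK_F4, adjOK_E6, adjOK_E7, adjOK_E8]

theorem sl_D4 : ∀ i j : Fin chevD4.rank, i ≠ j → chevD4.bonds i j = 0 ∨ chevD4.bonds i j = 1 := by decide +kernel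
theorem sl_E6 : ∀ i j : Fin chevE6.rank, i ≠ j → chevE6.bonds i j = 0 ∨ chevE6.bonds i j = 1 := by decide +kernel
theorem sl_E7 : ∀ i j : Fin chevE7.rank, i ≠ j → chevE7.bonds i j = 0 ∨ chevE7.bonds i j = 1 := by decide +kernel
theorem sl_E8 : ∀ i j : Fin chevE8.rank, i ≠ j → chevE8.bonds i j = 0 ∨ chevE8.bonds i j = 1 := by decide +kernel
theorem nb_D4 : ∀ i j : Fin chevD4.rank, chevD4.bonds i j ≠ 2 ∧ chevD4.bonds i j ≠ 3 := by decide +kernel
theorem nb_E6 : ∀ i j : Fin chevE6.rank, chevE6.bonds i j ≠ 2 ∧ chevE6.bonds i j ≠ 3 := by decide +kernel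
theorem nb_E7 : ∀ i j : Fin chevE7.rank, chevE7.bonds i j ≠ 2 ∧ chevE7.bonds i j ≠ 3 := by decide +kernel
theorem nb_E8 : ∀ i j : Fin chevE8.rank, chevE8.bonds i j ≠ 2 ∧ chevE8.bonds i j ≠ 3 := by decide +kernel
theorem nb_B2 : ∀ i j : Fin chevB2.rank, chevB2.bonds i j ≠ 3 := by decide +kernel
theorem nb_F4 : ∀ i j : Fin chevF4.rank, chevF4.bonds i j ≠ 3 := by decide +kernel
theorem nb_G2 : ∀ i j : Fin chevG2.rank, chevG2.bonds i j ≠ 2 := by decide +kernel

theorem sym_B2 : ∀ π : Equiv.Perm (Fin chevB2.rank), ∀ i j : Fin chevB2.rank, i ≠ j →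
    chevB2.bonds (π i) (π j) = chevB2.bonds i j := by decide +kernel
theorem sym_G2 : ∀ π : Equiv.Perm (Fin chevG2.rank), ∀ i j : Fin chevG2.rank, i ≠ j →
    chevG2.bonds (π i) (π j) = chevG2.bonds i j := by decide +kernel
theorem sym_F4 : ∀ π : Equiv.Perm (Fin chevF4.rank),
    (∀ i j : Fin chevF4.rank, i ≠ j → (chevF4.bonds (π i) (π j) = 0 ↔ chevF4.bonds i j = 0)) →
    ∀ i j : Fin chevF4.rank, i ≠ j → chevF4.bonds (π i) (π j) = chevF4.bonds i j := by decide +kernel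

theorem sw_B2 : ∀ π : Equiv.Perm (Fin chevB2.rank), π ≠ 1 →
    ((π ⟨0, by decide⟩ : Fin chevB2.rank) : ℕ) = 1 ∧ ((π ⟨1, by decide⟩ : Fin chevB2.rank) : ℕ) = 0 := by
  decide +kernel
theorem sw_G2 : ∀ π : Equiv.Perm (Fin chevG2.rank), π ≠ 1 →
    ((π ⟨0, by decide⟩ : Fin chevG2.rank) : ℕ) = 1 ∧ ((π ⟨1, by decide⟩ : Fin chevG2.rank) : ℕ) = 0 := by
  decide +kernel
theorem sw_F4 : ∀ π : Equiv.Perm (Fin chevF4.rank),
    (∀ i j : Fin chevF4.rank, i ≠ j → chevF4.bonds (π i) (π j) = chevF4.bonds i j) → π ≠ 1 →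
    ((π ⟨1, by decide⟩ : Fin chevF4.rank) : ℕ) = 2 ∧ ((π ⟨2, by decide⟩ : Fin chevF4.rank) : ℕ) = 1 := by
  decide +kernel

theorem dbl_B2 : dblOK chevB2 5 4 6 7 (-1) (-1) 1 (-1) 2 = true := by decide +kernel
theorem dbl_F4 : dblOK chevF4 27 25 28 30 (-1) (-1) 1 (-1) 2 = true := by decide +kernel
theorem tri_G2 : triOK chevG2 0 1 7 6 8 9 10 11 3 = true := by decide +kernel

theorem simple_B2 : chevB2.simple 0 = 5 ∧ chevB2.simple 1 = 4 := by decide +kernel
theorem simple_F4 : chevF4.simple 1 = 27 ∧ chevF4.simple 2 = 25 := by decide +kernel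
theorem simple_G2 : chevG2.simple 0 = 7 ∧ chevG2.simple 1 = 6 := by decide +kernel

/-! ### the simply laced case -/

theorem sym_of_sl {D : ChevalleyDatum} (hsl : ∀ i j : Fin D.rank, i ≠ j → D.bonds i j = 0 ∨ D.bonds i j = 1)
    (π : Equiv.Perm (Fin D.rank))
    (hz : ∀ i j : Fin D.rank, i ≠ j → (D.bonds (π i) (π j) = 0 ↔ D.bonds i j = 0)) :
    D.IsDiagramSymmetry π := by
  intro i j hij
  have hπ : π i ≠ π j := fun e => hij (π.injective e)
  rcases hsl i j hij with h0 | h1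
  · rw [h0]; exact (hz i j hij).mpr h0
  · rcases hsl (π i) (π j) hπ with h0' | h1'
    · have := (hz i j hij).mp h0'
      rw [h1] at this
      exact absurd this one_ne_zero
    · rw [h1, h1']

theorem charOK_of_nb {D : ChevalleyDatum} {F : Type*} [Field F]
    (hnb : ∀ i j : Fin D.rank, D.bonds i j ≠ 2 ∧ D.bonds i j ≠ 3) (π : Equiv.Perm (Fin D.rank)) :
    CharOK D F π :=
  fun _ i j => ⟨fun h => absurd h (hnb i j).1, fun h => absurd h (hnb i j).2⟩

/-! ### piece E -/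

theorem pieceE {F : Type*} [Field F] (D : ChevalleyDatum)
    (hD : D ∈ [chevG2, chevB2, chevD4, chevF4, chevE6, chevE7, chevE8])
    (θ : ↥(D.group F) ≃* ↥(D.group F)) (π : Equiv.Perm (Fin D.rank)) (h : PermutesSimple D θ π) :
    D.IsDiagramSymmetry π ∧ CharOK D F π := by
  obtain ⟨φ, wit, hg, -⟩ := Cfsg.Agent.Helper40.UData.exists_grade D hD
  have hadd := addOK_of_mem hD
  have hadj := adjOK_of_mem hD
  have hz := bonds_zero_iff hD hg hadd hadj θ π h
  have hD' := hD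
  simp only [List.mem_cons, List.mem_nil_iff, or_false] at hD'
  rcases hD' with rfl | rfl | rfl | rfl | rfl | rfl | rfl
  · -- G₂
    refine ⟨sym_G2 π, fun hπ i j => ⟨fun h2 => absurd h2 (nb_G2 i j), fun _ => ?_⟩⟩
    obtain ⟨e0, e1⟩ := sw_G2 π hπ
    obtain ⟨s0, s1⟩ := simple_G2
    have h0 := h ⟨0, by decide⟩
    have h1 := h ⟨1, by decide⟩
    rw [e0] at h0
    rw [e1] at h1
    simp only [s0, s1] at h0 h1
    have h3 : (3 : F) = 0 := three_eq_zero_of_swap hD hg hadd tri_G2 θ h0.1 h1.1 h0.2 h1.2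
    exact CharP.ringChar_of_prime_eq_zero Nat.prime_three (by exact_mod_cast h3)
  · -- B₂
    refine ⟨sym_B2 π, fun hπ i j => ⟨fun _ => ?_, fun h3 => absurd h3 (nb_B2 i j)⟩⟩
    obtain ⟨e0, e1⟩ := sw_B2 π hπ
    obtain ⟨s0, s1⟩ := simple_B2
    have h0 := h ⟨0, by decide⟩
    have h1 := h ⟨1, by decide⟩
    rw [e0] at h0
    rw [e1] at h1
    simp only [s0, s1] at h0 h1
    have h2 : (2 : F) = 0 := two_eq_zero_of_swap hD hg hadd dbl_B2 θ h0.1 h1.1
    exact CharP.ringChar_of_prime_eq_zero Nat.prime_two (by exact_mod_cast h2)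
  · -- D₄
    exact ⟨sym_of_sl sl_D4 π hz, charOK_of_nb nb_D4 π⟩
  · -- F₄
    have hsym := sym_F4 π hz
    refine ⟨hsym, fun hπ i j => ⟨fun _ => ?_, fun h3 => absurd h3 (nb_F4 i j)⟩⟩
    obtain ⟨e1, e2⟩ := sw_F4 π hsym hπ
    obtain ⟨s1, s2⟩ := simple_F4
    have h1 := h ⟨1, by decide⟩
    have h2 := h ⟨2, by decide⟩
    rw [e1] at h1
    rw [e2] at h2
    simp only [s1, s2] at h1 h2
    have h2' : (2 : F) = 0 := two_eq_zero_of_swap hD hg hadd dbl_F4 θ h1.1 h2.1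
    exact CharP.ringChar_of_prime_eq_zero Nat.prime_two (by exact_mod_cast h2')
  · exact ⟨sym_of_sl sl_E6 π hz, charOK_of_nb nb_E6 π⟩
  · exact ⟨sym_of_sl sl_E7 π hz, charOK_of_nb nb_E7 π⟩
  · exact ⟨sym_of_sl sl_E8 π hz, charOK_of_nb nb_E8 π⟩

end Cfsg.Agent.Helper75.ChevAutE
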