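import Cfsg.Agent.Helper36.ChevAutDefs
import Cfsg.Agent.Helper36.Perfect
import Cfsg.Agent.Helper40.UFinal
import Cfsg.Agent.Helper40.UDataAll
import Cfsg.Agent.S1024

/-!
Helper75: general lemmas on commuting root elements, for piece E of helper36's plan for S2156.

* `commTerms_cons`: the first term of the commutator word of two positive roots `r`, `s` with `r + s` a root,
  all other terms having larger weight;
* `coeff_eq_zero_of_commute`: if `x_s(u)` and `x_r(t)` commute and `r + s` is a root then `M_{r,s,1} t u = 0`;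
* `commute_of_nil`: root elements with an empty commutator word commute.
-/

set_option autoImplicit false

namespace Cfsg.Agent.Helper75.ChevAutE

open Cfsg Cfsg.Lie Cfsg.Agent.Helper40.UT Cfsg.Agent.Helper40.ChevAdd Cfsg.Agent.Helper40.UGrade
  Cfsg.Agent.Helper40.UProd Cfsg.Agent.Helper36.Perfect

section
variable {D : ChevalleyDatum} {φ : ℕ → ℤ} {wit : ℕ → ℕ × ℕ}

/-- the head of the commutator word of two positive roots whose sum is a root; the other terms have larger weight -/
theorem commTerms_cons (hg : gradeOK D φ wit = true) (r s k : ℕ) (hr : D.IsPosRoot r) (hs : D.IsPosRoot s)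
    (h1 : D.chainRoot r s 1 = some k) :
    ∃ rest : List (ℕ × ℤ × ℕ × ℕ), D.commTerms r s = (k, D.chainM r s 1, 1, 1) :: rest ∧
      ∀ c ∈ rest, D.IsPosRoot c.1 ∧ φ k < φ c.1 := by
  have hφr := phi_pos hg r hr
  have hφs := phi_pos hg s hs
  obtain ⟨hk, ek⟩ := chainRoot_pos hg r s 1 k hr le_rfl h1
  refine ⟨([ (D.chainRoot r s 2, D.chainM r s 2, 2, 1),
      (D.chainRoot s r 2, D.chainM s r 2, 1, 2),
      (D.chainRoot r s 3, D.chainM r s 3, 3, 1),
      (D.chainRoot s r 3, - D.chainM s r 3, 1, 3),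
      ((D.chainRoot r s 3).bind fun k => D.chainRoot k s 1,
        ((D.chainRoot r s 1).map fun k => D.chainM k r 2 / 3).getD 0, 3, 2),
      ((D.chainRoot s r 3).bind fun k => D.chainRoot k r 1,
        ((D.chainRoot r s 1).map fun k => -2 * D.chainM k s 2 / 3).getD 0, 2, 3) ] :
        List (Option ℕ × ℤ × ℕ × ℕ)).filterMap (fun c => c.1.map fun k => (k, c.2)), ?_, ?_⟩
  · unfold ChevalleyDatum.commTerms
    simp only [List.filterMap_cons, h1, Option.map_some]
  · intro c hc
    simp only [List.mem_filterMap, List.mem_cons, List.not_mem_nil, or_false] at hc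
    obtain ⟨cand, hcand, hmap⟩ := hc
    rw [Option.map_eq_some_iff] at hmap
    obtain ⟨u, hu, rfl⟩ := hmap
    simp only
    rcases hcand with rfl | rfl | rfl | rfl | rfl | rfl
    · obtain ⟨hu', e⟩ := chainRoot_pos hg r s 2 u hr (by norm_num) hu
      have : φ k < φ u := by rw [e, ek]; push_cast; nlinarith
      exact ⟨isPos_of_phi hg _ hu' (by rw [ek] at this; nlinarith), this⟩
    · obtain ⟨hu', e⟩ := chainRoot_pos hg s r 2 u hs (by norm_num) hu
      have : φ k < φ u := by rw [e, ek]; push_cast; nlinarith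
      exact ⟨isPos_of_phi hg _ hu' (by rw [ek] at this; nlinarith), this⟩
    · obtain ⟨hu', e⟩ := chainRoot_pos hg r s 3 u hr (by norm_num) hu
      have : φ k < φ u := by rw [e, ek]; push_cast; nlinarith
      exact ⟨isPos_of_phi hg _ hu' (by rw [ek] at this; nlinarith), this⟩
    · obtain ⟨hu', e⟩ := chainRoot_pos hg s r 3 u hs (by norm_num) hu
      have : φ k < φ u := by rw [e, ek]; push_cast; nlinarith
      exact ⟨isPos_of_phi hg _ hu' (by rw [ek] at this; nlinarith), this⟩
    · simp only at hu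
      rw [Option.bind_eq_some_iff] at hu
      obtain ⟨k3, h3, h4⟩ := hu
      obtain ⟨hk3, ek3⟩ := chainRoot_pos hg r s 3 k3 hr (by norm_num) h3
      have hk3pos : D.IsPosRoot k3 := isPos_of_phi hg _ hk3 (by rw [ek3]; push_cast; nlinarith)
      obtain ⟨hu', e⟩ := chainRoot_pos hg k3 s 1 u hk3pos le_rfl h4
      have : φ k < φ u := by rw [e, ek3, ek]; push_cast; nlinarith
      exact ⟨isPos_of_phi hg _ hu' (by rw [ek] at this; nlinarith), this⟩
    · simp only at hu
      rw [Option.bind_eq_some_iff] at hu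
      obtain ⟨k3, h3, h4⟩ := hu
      obtain ⟨hk3, ek3⟩ := chainRoot_pos hg s r 3 k3 hs (by norm_num) h3
      have hk3pos : D.IsPosRoot k3 := isPos_of_phi hg _ hk3 (by rw [ek3]; push_cast; nlinarith)
      obtain ⟨hu', e⟩ := chainRoot_pos hg k3 r 1 u hk3pos le_rfl h4
      have : φ k < φ u := by rw [e, ek3, ek]; push_cast; nlinarith
      exact ⟨isPos_of_phi hg _ hu' (by rw [ek] at this; nlinarith), this⟩

end


section
variable {F : Type*} [Field F] {D : ChevalleyDatum} {φ : ℕ → ℤ} {wit : ℕ → ℕ × ℕ}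

/-- a word all of whose roots are positive of weight more than `n` lies in the `n`-th unitriangular layer -/
theorem wordGL_mem_utSub (hg : gradeOK D φ wit = true) (hadd : addOK D = true) (n : ℕ)
    (w : List (ℕ × F)) (hw : ∀ e ∈ w, D.IsPosRoot e.1 ∧ (n : ℤ) + 1 ≤ φ e.1) :
    wordGL D hadd w ∈ utSub (lvOf D φ) F n := by
  unfold wordGL
  apply Subgroup.list_prod_mem
  intro g hg'
  obtain ⟨e, he, rfl⟩ := List.mem_map.mp hg'
  rw [mem_utSub, coe_xGL]
  exact (x_raises hg e.1 (hw e he).1 e.2).mono (hw e he).2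

theorem wordGL_cons (hadd : addOK D = true) (e : ℕ × F) (w : List (ℕ × F)) :
    wordGL D hadd (e :: w) = xGL D hadd F e.1 e.2 * wordGL D hadd w := by
  unfold wordGL
  rw [List.map_cons, List.prod_cons]

theorem wordGL_nil (hadd : addOK D = true) : wordGL D hadd ([] : List (ℕ × F)) = 1 := by
  unfold wordGL
  rw [List.map_nil, List.prod_nil]

/-- the commutator formula S1025 in the general linear group -/
theorem comm_formula (hD : D ∈ [chevG2, chevB2, chevD4, chevF4, chevE6, chevE7, chevE8]) (hadd : addOK D = true)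
    (r s : ℕ) (hr : r < D.nroots) (hs : s < D.nroots) (hsr : s ≠ r) (hneg : s ≠ D.neg r) (t u : F) :
    xGL D hadd F s u * xGL D hadd F r t =
      xGL D hadd F r t * xGL D hadd F s u * wordGL D hadd (D.commWord F r s t u) := by
  apply Units.ext
  rw [Units.val_mul, Units.val_mul, Units.val_mul, coe_wordGL, coe_xGL, coe_xGL]
  exact Cfsg.Agent.S1025.result D hD r s hr hs hsr hneg t u

/-- root elements with an empty commutator word commute -/
theorem commute_of_nil (hD : D ∈ [chevG2, chevB2, chevD4, chevF4, chevE6, chevE7, chevE8]) (hadd : addOK D = true)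
    (r s : ℕ) (hr : r < D.nroots) (hs : s < D.nroots) (hsr : s ≠ r) (hneg : s ≠ D.neg r)
    (h : D.commTerms r s = []) (t u : F) :
    xGL D hadd F s u * xGL D hadd F r t = xGL D hadd F r t * xGL D hadd F s u := by
  rw [comm_formula hD hadd r s hr hs hsr hneg t u]
  unfold ChevalleyDatum.commWord
  rw [h, List.map_nil, wordGL_nil, mul_one]

/-- if `x_s(u)` and `x_r(t)` commute, `r`, `s` positive roots with `r + s = k` a root, then `M_{r,s,1} t u = 0` -/
theorem coeff_eq_zero_of_commute (hD : D ∈ [chevG2, chevB2, chevD4, chevF4, chevE6, chevE7, chevE8])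
    (hg : gradeOK D φ wit = true) (hadd : addOK D = true) (r s k : ℕ) (hr : D.IsPosRoot r) (hs : D.IsPosRoot s)
    (hsr : s ≠ r) (h1 : D.chainRoot r s 1 = some k) (t u : F)
    (hc : xGL D hadd F s u * xGL D hadd F r t = xGL D hadd F r t * xGL D hadd F s u) :
    ((D.chainM r s 1 : ℤ) : F) * (-t) * u = 0 := by
  have hφr := phi_pos hg r hr
  have hφs := phi_pos hg s hs
  obtain ⟨hnr, hφn, -⟩ := gradeOK_root hg r hr.1
  have hneg : s ≠ D.neg r := by
    rintro rfl
    rw [hφn] at hφs
    omega
  obtain ⟨hk, ek⟩ := chainRoot_pos hg r s 1 k hr le_rfl h1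
  have hφk : 0 < φ k := by rw [ek]; push_cast; nlinarith
  have hkpos : D.IsPosRoot k := isPos_of_phi hg _ hk hφk
  obtain ⟨rest, hrest, hrest'⟩ := commTerms_cons hg r s k hr hs h1
  have hf := comm_formula hD hadd r s hr.1 hs.1 hsr hneg t u
  rw [hc] at hf
  have hW : wordGL D hadd (D.commWord F r s t u) = 1 := by
    have := mul_left_cancel (a := xGL D hadd F r t * xGL D hadd F s u) (b := 1)
      (c := wordGL D hadd (D.commWord F r s t u)) (by rw [mul_one]; exact hf)
    exact this.symm
  unfold ChevalleyDatum.commWord at hW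
  rw [hrest, List.map_cons, wordGL_cons] at hW
  simp only [pow_one] at hW
  set c : F := ((D.chainM r s 1 : ℤ) : F) * (-t) * u with hcdef
  set w' : List (ℕ × F) := rest.map fun c => (c.1, (c.2.1 : F) * (-t) ^ c.2.2.1 * u ^ c.2.2.2) with hw'
  have hmem' : wordGL D hadd w' ∈ utSub (lvOf D φ) F (φ k).toNat := by
    apply wordGL_mem_utSub hg hadd
    intro e he
    rw [hw', List.mem_map] at he
    obtain ⟨c', hc', rfl⟩ := he
    obtain ⟨p1, p2⟩ := hrest' c' hc'
    refine ⟨p1, ?_⟩
    simp only
    rw [Int.toNat_of_nonneg hφk.le]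
    omega
  have hx : xGL D hadd F k c = (wordGL D hadd w')⁻¹ := eq_inv_of_mul_eq_one_left hW
  have hmem : xGL D hadd F k c ∈ utSub (lvOf D φ) F (φ k).toNat := by
    rw [hx]
    exact Subgroup.inv_mem _ hmem'
  rw [mem_utSub, coe_xGL, Int.toNat_of_nonneg hφk.le] at hmem
  exact eq_zero_of_raises hg k hkpos c hmem

end

end Cfsg.Agent.Helper75.ChevAutE
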