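import Cfsg.Agent.Helper75.ChevAutE0

/-!
Helper75: piece E1 of helper36's plan for S2156: an automorphism permuting the fundamental root subgroups
according to `π` preserves the vanishing of the bond numbers of the Dynkin diagram.
-/

set_option autoImplicit false

namespace Cfsg.Agent.Helper75.ChevAutE

open Cfsg Cfsg.Lie Cfsg.Agent.Helper40.UT Cfsg.Agent.Helper40.ChevAdd Cfsg.Agent.Helper40.UGrade
  Cfsg.Agent.Helper40.UProd Cfsg.Agent.Helper36.Perfect Cfsg.Agent.Helper36.ChevAut

section
variable {F : Type*} [Field F] (D : ChevalleyDatum) (hadd : addOK D = true)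

/-- the root element `x_r(t)` as an element of the Chevalley group -/
def Xg (r : ℕ) (t : F) : ↥(D.group F) := ⟨xGL D hadd F r t, xGL_mem D hadd r t⟩

theorem Xg_val (r : ℕ) (t : F) : ((Xg D hadd r t : ↥(D.group F)) : GL D.Idx F) = xGL D hadd F r t := rfl

theorem Xg_zero (r : ℕ) : Xg D hadd r (0 : F) = 1 := Subtype.ext (xGL_zero D hadd r)

theorem Xg_ne_one (hD : D ∈ [chevG2, chevB2, chevD4, chevF4, chevE6, chevE7, chevE8]) (r : ℕ)
    (hr : r < D.nroots) (t : F) (ht : t ≠ 0) : Xg D hadd r t ≠ 1 := by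
  intro h
  have h1 : D.x F r t = 1 := by
    have := congrArg (fun g : ↥(D.group F) => ((g : GL D.Idx F) : Matrix D.Idx D.Idx F)) h
    simpa [Xg] using this
  exact ht ((Cfsg.Agent.S1024.result D hD r hr t).mp h1)

variable {D}

theorem mapsRoot_Xg {θ : ↥(D.group F) ≃* ↥(D.group F)} {r s : ℕ} (h : MapsRoot D θ r s) (t : F) :
    ∃ t' : F, θ (Xg D hadd r t) = Xg D hadd s t' := by
  obtain ⟨t', ht'⟩ := h t (Xg D hadd r t) rfl
  exact ⟨t', Subtype.ext (Units.ext ht')⟩

theorem mapsRoot_ne (hD : D ∈ [chevG2, chevB2, chevD4, chevF4, chevE6, chevE7, chevE8])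
    {θ : ↥(D.group F) ≃* ↥(D.group F)} {r s : ℕ} (h : MapsRoot D θ r s) (hr : r < D.nroots) (t : F)
    (ht : t ≠ 0) : ∃ t' : F, t' ≠ 0 ∧ θ (Xg D hadd r t) = Xg D hadd s t' := by
  obtain ⟨t', ht'⟩ := mapsRoot_Xg hadd h t
  refine ⟨t', ?_, ht'⟩
  rintro rfl
  rw [Xg_zero] at ht'
  exact Xg_ne_one D hadd hD r hr t ht (θ.injective (ht'.trans (map_one θ).symm))

end

/-- table check: the fundamental roots are distinct positive roots; two fundamental roots that are not joined
have an empty commutator word, two that are joined have a root as their sum, with `M = ± 1` -/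
def adjOK (D : ChevalleyDatum) : Bool :=
  (List.range D.rank).all fun i => decide (D.IsPosRoot (D.simple i)) &&
    (List.range D.rank).all fun j => (i == j) ||
      (decide (D.simple j ≠ D.simple i) &&
       (if D.bonds i j = 0 then decide (D.commTerms (D.simple i) (D.simple j) = [])
        else (D.chainRoot (D.simple i) (D.simple j) 1).isSome &&
          (decide (D.chainM (D.simple i) (D.simple j) 1 = 1) ||
            decide (D.chainM (D.simple i) (D.simple j) 1 = -1))))

section
variable {D : ChevalleyDatum}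

theorem adjOK_pos (h : adjOK D = true) (i : ℕ) (hi : i < D.rank) : D.IsPosRoot (D.simple i) := by
  unfold adjOK at h
  rw [List.all_eq_true] at h
  have := h i (List.mem_range.mpr hi)
  rw [Bool.and_eq_true, decide_eq_true_eq] at this
  exact this.1

theorem adjOK_pair (h : adjOK D = true) (i j : ℕ) (hi : i < D.rank) (hj : j < D.rank) (hij : i ≠ j) :
    D.simple j ≠ D.simple i ∧
      (D.bonds i j = 0 → D.commTerms (D.simple i) (D.simple j) = []) ∧
      (D.bonds i j ≠ 0 → ∃ k, D.chainRoot (D.simple i) (D.simple j) 1 = some k ∧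
        (D.chainM (D.simple i) (D.simple j) 1 = 1 ∨ D.chainM (D.simple i) (D.simple j) 1 = -1)) := by
  unfold adjOK at h
  rw [List.all_eq_true] at h
  have h1 := h i (List.mem_range.mpr hi)
  rw [Bool.and_eq_true, List.all_eq_true] at h1
  have h2 := h1.2 j (List.mem_range.mpr hj)
  rw [Bool.or_eq_true] at h2
  rcases h2 with h2 | h2
  · exact absurd (by simpa using h2) hij
  · rw [Bool.and_eq_true, decide_eq_true_eq] at h2
    refine ⟨h2.1, ?_, ?_⟩
    · intro h0
      have := h2.2
      rw [if_pos h0, decide_eq_true_eq] at this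
      exact this
    · intro h0
      have := h2.2
      rw [if_neg h0, Bool.and_eq_true, Bool.or_eq_true, decide_eq_true_eq, decide_eq_true_eq] at this
      obtain ⟨k, hk⟩ := Option.isSome_iff_exists.mp this.1
      exact ⟨k, hk, this.2⟩

end

section
variable {F : Type*} [Field F] {D : ChevalleyDatum} {φ : ℕ → ℤ} {wit : ℕ → ℕ × ℕ}

/-- a positive root is not the negative of a positive root -/
theorem ne_neg_of_pos (hg : gradeOK D φ wit = true) (r s : ℕ) (hr : D.IsPosRoot r) (hs : D.IsPosRoot s) :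
    s ≠ D.neg r := by
  have hφr := phi_pos hg r hr
  have hφs := phi_pos hg s hs
  obtain ⟨-, hφn, -⟩ := gradeOK_root hg r hr.1
  rintro rfl
  rw [hφn] at hφs
  omega

theorem bonds_zero_of (hD : D ∈ [chevG2, chevB2, chevD4, chevF4, chevE6, chevE7, chevE8])
    (hg : gradeOK D φ wit = true) (hadd : addOK D = true) (hadj : adjOK D = true)
    (θ : ↥(D.group F) ≃* ↥(D.group F)) (π : Equiv.Perm (Fin D.rank)) (h : PermutesSimple D θ π)
    (i j : Fin D.rank) (hij : i ≠ j) (h0 : D.bonds i j = 0) : D.bonds (π i) (π j) = 0 := by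
  by_contra hne
  have hijv : (i : ℕ) ≠ (j : ℕ) := fun e => hij (Fin.ext e)
  have hπv : ((π i : Fin D.rank) : ℕ) ≠ ((π j : Fin D.rank) : ℕ) := fun e => hij (π.injective (Fin.ext e))
  have hpi := adjOK_pos hadj i i.2
  have hpj := adjOK_pos hadj j j.2
  have hpπi := adjOK_pos hadj (π i) (π i).2
  have hpπj := adjOK_pos hadj (π j) (π j).2
  obtain ⟨hne1, hz, -⟩ := adjOK_pair hadj i j i.2 j.2 hijv
  obtain ⟨hne2, -, hadj2⟩ := adjOK_pair hadj (π i) (π j) (π i).2 (π j).2 hπv
  obtain ⟨k, hk, hM⟩ := hadj2 hne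
  -- the source elements commute
  have hc := commute_of_nil hD hadd (D.simple i) (D.simple j) hpi.1 hpj.1 hne1
    (ne_neg_of_pos hg _ _ hpi hpj) (hz h0) (1 : F) (1 : F)
  have hcg : Xg D hadd (D.simple j) (1 : F) * Xg D hadd (D.simple i) 1 =
      Xg D hadd (D.simple i) 1 * Xg D hadd (D.simple j) 1 := Subtype.ext hc
  obtain ⟨a, ha, hθa⟩ := mapsRoot_ne hadd hD (h i).1 hpi.1 (1 : F) one_ne_zero
  obtain ⟨b, hb, hθb⟩ := mapsRoot_ne hadd hD (h j).1 hpj.1 (1 : F) one_ne_zero
  have himg : Xg D hadd (D.simple (π j)) b * Xg D hadd (D.simple (π i)) a =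
      Xg D hadd (D.simple (π i)) a * Xg D hadd (D.simple (π j)) b := by
    rw [← hθa, ← hθb, ← map_mul, ← map_mul, hcg]
  have himg' : xGL D hadd F (D.simple (π j)) b * xGL D hadd F (D.simple (π i)) a =
      xGL D hadd F (D.simple (π i)) a * xGL D hadd F (D.simple (π j)) b :=
    congrArg Subtype.val himg
  have := coeff_eq_zero_of_commute hD hg hadd (D.simple (π i)) (D.simple (π j)) k hpπi hpπj hne2 hk a b himg'
  rcases hM with hM | hM
  · rw [hM] at this
    simp only [Int.cast_one, one_mul, neg_mul, neg_eq_zero, mul_eq_zero] at this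
    rcases this with e | e
    · exact ha e
    · exact hb e
  · rw [hM] at this
    simp only [Int.cast_neg, Int.cast_one, neg_mul, one_mul, neg_neg, mul_eq_zero] at this
    rcases this with e | e
    · exact ha e
    · exact hb e

theorem bonds_zero_iff (hD : D ∈ [chevG2, chevB2, chevD4, chevF4, chevE6, chevE7, chevE8])
    (hg : gradeOK D φ wit = true) (hadd : addOK D = true) (hadj : adjOK D = true)
    (θ : ↥(D.group F) ≃* ↥(D.group F)) (π : Equiv.Perm (Fin D.rank)) (h : PermutesSimple D θ π) :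
    ∀ i j : Fin D.rank, i ≠ j → (D.bonds (π i) (π j) = 0 ↔ D.bonds i j = 0) := by
  classical
  let Z : Set (Fin D.rank × Fin D.rank) := {p | p.1 ≠ p.2 ∧ D.bonds p.1 p.2 = 0}
  let σ : Equiv.Perm (Fin D.rank × Fin D.rank) := Equiv.prodCongr π π
  have hmap : Set.MapsTo σ Z Z := by
    rintro ⟨i, j⟩ ⟨hij, h0⟩
    exact ⟨fun e => hij (π.injective e), bonds_zero_of hD hg hadd hadj θ π h i j hij h0⟩
  have hinv : Set.MapsTo (σ⁻¹ : Equiv.Perm _) Z Z := by
    have hpos : 0 < orderOf σ := orderOf_pos σ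
    have e : σ⁻¹ = σ ^ (orderOf σ - 1) := by
      apply inv_eq_of_mul_eq_one_right
      rw [← pow_succ', Nat.sub_add_cancel hpos, pow_orderOf_eq_one]
    rw [e]
    exact Set.MapsTo.perm_pow hmap _
  intro i j hij
  constructor
  · intro h0
    have hmem : ((π i, π j) : Fin D.rank × Fin D.rank) ∈ Z := ⟨fun e => hij (π.injective e), h0⟩
    have h1 := hinv hmem
    have e : (σ⁻¹ : Equiv.Perm _) (π i, π j) = (i, j) := by
      rw [Equiv.Perm.inv_def, Equiv.symm_apply_eq]
      rfl
    rw [e] at h1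
    exact h1.2
  · exact fun h0 => bonds_zero_of hD hg hadd hadj θ π h i j hij h0

end

end Cfsg.Agent.Helper75.ChevAutE
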