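import Cfsg.Agent.Helper75.ChevAutE1

/-!
Helper75: piece E2 of helper36's plan for S2156: an automorphism exchanging the root subgroups of the short and the
long fundamental root of a double bond exists only in characteristic two.
-/

set_option autoImplicit false

namespace Cfsg.Agent.Helper75.ChevAutE

open Cfsg Cfsg.Lie Cfsg.Agent.Helper40.UT Cfsg.Agent.Helper40.ChevAdd Cfsg.Agent.Helper40.UGrade
  Cfsg.Agent.Helper40.UProd Cfsg.Agent.Helper36.Perfect Cfsg.Agent.Helper36.ChevAut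

/-- table check for a double bond: `a` the short, `b` the long fundamental root, `k1 = a + b`, `k2 = 2a + b` -/
def dblOK (D : ChevalleyDatum) (a b k1 k2 : ℕ) (c1 c2 d1 d2 m : ℤ) : Bool :=
  decide (D.IsPosRoot a) && decide (D.IsPosRoot b) && decide (D.IsPosRoot k1) && decide (D.IsPosRoot k2) &&
  decide (b ≠ a) && decide (k1 ≠ b) && decide (k2 ≠ b) && decide (k2 ≠ a) && decide (k1 ≠ a) &&
  decide (D.commTerms a b = [(k1, c1, 1, 1), (k2, c2, 2, 1)]) &&
  decide (D.commTerms b a = [(k1, d1, 1, 1), (k2, d2, 1, 2)]) &&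
  decide (D.commTerms b k1 = []) && decide (D.commTerms b k2 = []) && decide (D.commTerms a k2 = []) &&
  decide (D.chainRoot a k1 1 = some k2) && decide (D.chainM a k1 1 = m) &&
  (decide (d1 = 1) || decide (d1 = -1)) && (decide (m = 2) || decide (m = -2))

section
variable {F : Type*} [Field F] {D : ChevalleyDatum} {φ : ℕ → ℤ} {wit : ℕ → ℕ × ℕ}

theorem wordGL_two (hadd : addOK D = true) (k1 k2 : ℕ) (e1 e2 : F) :
    wordGL D hadd [(k1, e1), (k2, e2)] = xGL D hadd F k1 e1 * xGL D hadd F k2 e2 := by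
  rw [wordGL_cons, wordGL_cons, wordGL_nil, mul_one]

theorem two_eq_zero_of_swap (hD : D ∈ [chevG2, chevB2, chevD4, chevF4, chevE6, chevE7, chevE8])
    (hg : gradeOK D φ wit = true) (hadd : addOK D = true) {a b k1 k2 : ℕ} {c1 c2 d1 d2 m : ℤ}
    (hdbl : dblOK D a b k1 k2 c1 c2 d1 d2 m = true)
    (θ : ↥(D.group F) ≃* ↥(D.group F)) (hab : MapsRoot D θ a b) (hba : MapsRoot D θ b a) : (2 : F) = 0 := by
  unfold dblOK at hdbl
  simp only [Bool.and_eq_true, Bool.or_eq_true, decide_eq_true_eq] at hdbl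
  obtain ⟨⟨⟨⟨⟨⟨⟨⟨⟨⟨⟨⟨⟨⟨⟨⟨⟨pa, pb⟩, pk1⟩, pk2⟩, nba⟩, nk1b⟩, nk2b⟩, nk2a⟩, nk1a⟩, T1⟩, T3⟩, Tbk1⟩, Tbk2⟩, Tak2⟩,
    R4⟩, M4⟩, hd1⟩, hm⟩ := hdbl
  -- step (ii)
  have step2 : ∀ t u u' : F, Commute (xGL D hadd F b u')
      ((xGL D hadd F a t * xGL D hadd F b u)⁻¹ * (xGL D hadd F b u * xGL D hadd F a t)) := by
    intro t u u'
    have hf := comm_formula hD hadd a b pa.1 pb.1 nba (ne_neg_of_pos hg _ _ pa pb) t u
    unfold ChevalleyDatum.commWord at hf
    rw [T1] at hf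
    simp only [List.map_cons, List.map_nil] at hf
    rw [wordGL_two] at hf
    rw [hf, ← mul_assoc, inv_mul_cancel, one_mul]
    have h1 : Commute (xGL D hadd F b u') (xGL D hadd F k1 ((c1 : F) * (-t) ^ 1 * u ^ 1)) :=
      (commute_of_nil hD hadd b k1 pb.1 pk1.1 nk1b (ne_neg_of_pos hg _ _ pb pk1) Tbk1 u' _).symm
    have h2 : Commute (xGL D hadd F b u') (xGL D hadd F k2 ((c2 : F) * (-t) ^ 2 * u ^ 1)) :=
      (commute_of_nil hD hadd b k2 pb.1 pk2.1 nk2b (ne_neg_of_pos hg _ _ pb pk2) Tbk2 u' _).symm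
    exact h1.mul_right h2
  -- step (iii)
  obtain ⟨u0, hu0⟩ := mapsRoot_Xg hadd hab (1 : F)
  obtain ⟨t0, ht0⟩ := mapsRoot_Xg hadd hba (1 : F)
  have step3 : Commute (Xg D hadd a (1 : F))
      ((Xg D hadd b (1 : F) * Xg D hadd a 1)⁻¹ * (Xg D hadd a 1 * Xg D hadd b 1)) := by
    have h := step2 t0 u0 u0
    have hG : Commute (Xg D hadd b u0)
        ((Xg D hadd a t0 * Xg D hadd b u0)⁻¹ * (Xg D hadd b u0 * Xg D hadd a t0)) := by
      unfold Commute SemiconjBy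
      apply Subtype.ext
      exact h
    rw [← hu0, ← ht0, ← map_mul, ← map_mul, ← map_inv, ← map_mul] at hG
    unfold Commute SemiconjBy at hG ⊢
    rw [← map_mul, ← map_mul] at hG
    exact θ.injective hG
  have step3' : Commute (xGL D hadd F a (1 : F))
      ((xGL D hadd F b (1 : F) * xGL D hadd F a 1)⁻¹ * (xGL D hadd F a 1 * xGL D hadd F b 1)) := by
    unfold Commute SemiconjBy at step3 ⊢
    exact congrArg Subtype.val step3
  -- step (iv)
  have hf := comm_formula hD hadd b a pb.1 pa.1 nba.symm (ne_neg_of_pos hg _ _ pb pa) (1 : F) (1 : F)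
  unfold ChevalleyDatum.commWord at hf
  rw [T3] at hf
  simp only [List.map_cons, List.map_nil] at hf
  rw [wordGL_two] at hf
  rw [hf, ← mul_assoc, inv_mul_cancel, one_mul] at step3'
  -- step (v)
  have h2 : Commute (xGL D hadd F a (1 : F)) (xGL D hadd F k2 ((d2 : F) * (-1) ^ 1 * 1 ^ 2)) :=
    (commute_of_nil hD hadd a k2 pa.1 pk2.1 nk2a (ne_neg_of_pos hg _ _ pa pk2) Tak2 1 _).symm
  have h1 : Commute (xGL D hadd F a (1 : F)) (xGL D hadd F k1 ((d1 : F) * (-1) ^ 1 * 1 ^ 1)) := by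
    have := step3'.mul_right h2.inv_right
    rwa [mul_inv_cancel_right] at this
  -- step (vi)
  have h6 := coeff_eq_zero_of_commute hD hg hadd a k1 k2 pa pk1 nk1a R4 (1 : F) _ h1.symm.eq
  rw [M4] at h6
  rcases hm with rfl | rfl <;> rcases hd1 with rfl | rfl
  · have : (2 : F) = ((2 : ℤ) : F) * (-1) * (((1 : ℤ) : F) * (-1) ^ 1 * 1 ^ 1) := by push_cast; ring
    rw [this]; exact h6
  · have : (2 : F) = -(((2 : ℤ) : F) * (-1) * (((-1 : ℤ) : F) * (-1) ^ 1 * 1 ^ 1)) := by push_cast; ring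
    rw [this, h6, neg_zero]
  · have : (2 : F) = -(((-2 : ℤ) : F) * (-1) * (((1 : ℤ) : F) * (-1) ^ 1 * 1 ^ 1)) := by push_cast; ring
    rw [this, h6, neg_zero]
  · have : (2 : F) = ((-2 : ℤ) : F) * (-1) * (((-1 : ℤ) : F) * (-1) ^ 1 * 1 ^ 1) := by push_cast; ring
    rw [this]; exact h6

end

end Cfsg.Agent.Helper75.ChevAutE
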