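import Cfsg.Agent.Helper4.D4Inv.Defs
import Cfsg.Agent.Helper19.Twist.UD4b

/-! Piece (I) of helper4's S2183 design: uniqueness of the 12-parameter normal form in `U ≤ D₄(K)`. -/

set_option autoImplicit false
set_option maxRecDepth 100000

namespace Cfsg.Agent.Helper75.D4I

open Cfsg Cfsg.Lie Cfsg.Agent.Helper18 Cfsg.Agent.Helper4.D4Inv Cfsg.Agent.Helper19.Twist

variable {K : Type*} [Field K]

/-- the coefficient family of a normal form -/
def nfFam (a0 a1 a2 b c0 c1 c2 d0 d1 d2 e z : K) : ℕ → K := fun r =>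
  if r = 18 then a0 else if r = 13 then a1 else if r = 12 then a2 else if r = 14 then b
  else if r = 19 then c0 else if r = 16 then c1 else if r = 15 then c2 else if r = 21 then d0
  else if r = 20 then d2 else if r = 17 then d1 else if r = 22 then e else if r = 23 then z else 0

theorem nfFam_zero (a0 a1 a2 b c0 c1 c2 d0 d1 d2 e z : K) (r : ℕ) (hr : r ∉ ClD4.flatten) :
    nfFam a0 a1 a2 b c0 c1 c2 d0 d1 d2 e z r = 0 := by
  have h : ∀ s ∈ ClD4.flatten, r ≠ s := fun s hs h => hr (h ▸ hs)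
  have h' : ClD4.flatten = [18, 13, 12, 14, 19, 16, 15, 21, 20, 17, 22, 23] := by decide
  rw [h'] at h
  unfold nfFam
  rw [if_neg (h 18 (by simp)), if_neg (h 13 (by simp)), if_neg (h 12 (by simp)), if_neg (h 14 (by simp)),
    if_neg (h 19 (by simp)), if_neg (h 16 (by simp)), if_neg (h 15 (by simp)), if_neg (h 21 (by simp)),
    if_neg (h 20 (by simp)), if_neg (h 17 (by simp)), if_neg (h 22 (by simp)), if_neg (h 23 (by simp))]

/-- the ordered product over all positive roots, written out -/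
theorem pwG_ClD4 (t : ℕ → K) :
    pwG chevD4 K ClD4.flatten t =
      NFg (t 18) (t 13) (t 12) (t 14) (t 19) (t 16) (t 15) (t 21) (t 17) (t 20) (t 22) (t 23) := by
  have h' : ClD4.flatten = [18, 13, 12, 14, 19, 16, 15, 21, 20, 17, 22, 23] := by decide
  rw [h']
  simp only [pwG, NFg, List.map_cons, List.map_nil, List.prod_cons, List.prod_nil, mul_one]

theorem NFg_eq_pwG (a0 a1 a2 b c0 c1 c2 d0 d1 d2 e z : K) :
    NFg a0 a1 a2 b c0 c1 c2 d0 d1 d2 e z =
      pwG chevD4 K ClD4.flatten (nfFam a0 a1 a2 b c0 c1 c2 d0 d1 d2 e z) := by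
  rw [pwG_ClD4]
  simp [nfFam]

/-- (I) uniqueness of the normal form in `U ≤ D₄(K)` -/
theorem NFg_inj (a0 a1 a2 b c0 c1 c2 d0 d1 d2 e z a0' a1' a2' b' c0' c1' c2' d0' d1' d2' e' z' : K)
    (h : NFg a0 a1 a2 b c0 c1 c2 d0 d1 d2 e z = NFg a0' a1' a2' b' c0' c1' c2' d0' d1' d2' e' z') :
    a0 = a0' ∧ a1 = a1' ∧ a2 = a2' ∧ b = b' ∧ c0 = c0' ∧ c1 = c1' ∧ c2 = c2' ∧ d0 = d0' ∧ d1 = d1' ∧
      d2 = d2' ∧ e = e' ∧ z = z' := by
  rw [NFg_eq_pwG, NFg_eq_pwG] at h
  have key := pwG_injOn (K := K) memD4 gradeOK'_D4 ClD4.flatten (closedOK_spec closedOK_D4) _ _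
    (nfFam_zero a0 a1 a2 b c0 c1 c2 d0 d1 d2 e z) (nfFam_zero a0' a1' a2' b' c0' c1' c2' d0' d1' d2' e' z') h
  have hv := fun r => congrFun key r
  refine ⟨?_, ?_, ?_, ?_, ?_, ?_, ?_, ?_, ?_, ?_, ?_, ?_⟩
  · simpa [nfFam] using hv 18
  · simpa [nfFam] using hv 13
  · simpa [nfFam] using hv 12
  · simpa [nfFam] using hv 14
  · simpa [nfFam] using hv 19
  · simpa [nfFam] using hv 16
  · simpa [nfFam] using hv 15
  · simpa [nfFam] using hv 21
  · simpa [nfFam] using hv 17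
  · simpa [nfFam] using hv 20
  · simpa [nfFam] using hv 22
  · simpa [nfFam] using hv 23

end Cfsg.Agent.Helper75.D4I
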