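import Cfsg.Agent.Helper4.D4Inv.Defs
import Cfsg.Agent.Helper4.G2Inv.Conc3
import Cfsg.Agent.Helper19.Twist.UD4b
import Cfsg.Agent.S1067
import Cfsg.Agent.S1088
import Cfsg.Agent.S1031
import Cfsg.Agent.S1038
import Cfsg.Agent.Helper75.D4II

/-! Piece (S1) of helper4's S2183 design: every involution of `³D₄(q)`, `q` even, is conjugate in `³D₄(q)` to a
twisted normal form (Sylow + the fixed points of the graph-field automorphism on `U`). -/

set_option autoImplicit false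
set_option maxRecDepth 100000

namespace Cfsg.Agent.Helper75.D4I

open Cfsg Cfsg.Lie Cfsg.Agent.Helper18 Cfsg.Agent.Helper4.D4Inv Cfsg.Agent.Helper19.Twist
  Cfsg.Agent.S1081

variable {K : Type*} [Field K]

/-- `q` is a power of two -/
theorem exists_two_pow [Fintype K] [CharP K 2] (q : ℕ) (hK : Fintype.card K = q ^ 3) :
    ∃ m : ℕ, 0 < m ∧ q = 2 ^ m := by
  haveI : Fact (Nat.Prime 2) := ⟨Nat.prime_two⟩
  obtain ⟨n, -, hn⟩ := FiniteField.card K 2
  have hdvd : q ∣ 2 ^ (n : ℕ) := by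
    rw [← hn, hK]
    exact dvd_pow_self q (by norm_num)
  obtain ⟨m, -, hm⟩ := (Nat.dvd_prime_pow Nat.prime_two).mp hdvd
  refine ⟨m, ?_, hm⟩
  rcases Nat.eq_zero_or_pos m with h0 | h0
  · exfalso
    rw [h0, pow_zero] at hm
    rw [hm, one_pow] at hK
    have := Fintype.one_lt_card (α := K)
    omega
  · exact h0

/-- the elements of `U ∩ ³D₄(q)` are twisted normal forms -/
theorem exists_tnf_of_mem [Fintype K] [CharP K 2] (q : ℕ) (hq : IsPrimePow q) (hK : Fintype.card K = q ^ 3)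
    (f : K ≃+* K) (hf : ∀ t, f t = t ^ q) (u : GL chevD4.Idx K)
    (hu : u ∈ chevD4.posUnipotent K ⊓ twistedD4 K q) :
    ∃ a b c d e z : K, f b = b ∧ f e = e ∧ f z = z ∧ u = tnf f a b c d e z := by
  have h31 : NConjHyp chevD4 K := fun i s hi hs => Cfsg.Agent.S1031.result chevD4 memD4 i s hi hs
  haveI hn : (HN chevD4 K).Normal := Cfsg.Agent.S1038.result chevD4 memD4
  have hq1 : 1 ≤ q := le_trans (by norm_num) hq.two_le
  rw [U_inf_twisted_D4 f hf h31 hq1 hK] at hu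
  have h1 := fix_listSubgroup_eq (K := K) memD4 gradeOK'_D4 rho1 rhoInv1 pi1 piInv1 eps1 permsOK_D4 f allOK1
    ClD4 (closedOK_spec closedOK_D4) classOK_D4
  rw [listSubgroup_ClD4] at h1
  have hu' : u ∈ ((chevD4.posUnipotent K ⊓ Fix chevD4 rho1 rhoInv1 pi1 piInv1 eps1 permsOK_D4 f :
      Subgroup (GL chevD4.Idx K)) : Set (GL chevD4.Idx K)) := hu
  rw [h1] at hu'
  obtain ⟨t, ht, rfl⟩ := hu'
  obtain ⟨-, ht2⟩ := mem_TS' piInv1 eps1 f _ t ht
  have hflat : ClD4.flatten = [18, 13, 12, 14, 19, 16, 15, 21, 20, 17, 22, 23] := by decide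
  rw [hflat] at ht2
  have hm1 : ((-1 : ℤ) : K) = 1 := by
    rw [Int.cast_neg, Int.cast_one]
    exact CharTwo.neg_eq 1
  have e13 := ht2 13 (by simp)
  have e12 := ht2 12 (by simp)
  have e14 := ht2 14 (by simp)
  have e16 := ht2 16 (by simp)
  have e15 := ht2 15 (by simp)
  have e17 := ht2 17 (by simp)
  have e20 := ht2 20 (by simp)
  have e22 := ht2 22 (by simp)
  have e23 := ht2 23 (by simp)
  rw [show piInv1 13 = 18 from rfl, show eps1 18 = 1 from rfl, Int.cast_one, one_mul] at e13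
  rw [show piInv1 12 = 13 from rfl, show eps1 13 = 1 from rfl, Int.cast_one, one_mul, e13] at e12
  rw [show piInv1 14 = 14 from rfl, show eps1 14 = 1 from rfl, Int.cast_one, one_mul] at e14
  rw [show piInv1 16 = 19 from rfl, show eps1 19 = -1 from rfl, hm1, one_mul] at e16
  rw [show piInv1 15 = 16 from rfl, show eps1 16 = 1 from rfl, Int.cast_one, one_mul, e16] at e15
  rw [show piInv1 17 = 21 from rfl, show eps1 21 = -1 from rfl, hm1, one_mul] at e17
  rw [show piInv1 20 = 17 from rfl, show eps1 17 = -1 from rfl, hm1, one_mul, e17] at e20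
  rw [show piInv1 22 = 22 from rfl, show eps1 22 = 1 from rfl, Int.cast_one, one_mul] at e22
  rw [show piInv1 23 = 23 from rfl, show eps1 23 = 1 from rfl, Int.cast_one, one_mul] at e23
  refine ⟨t 18, t 14, t 19, t 21, t 22, t 23, e14.symm, e22.symm, e23.symm, ?_⟩
  rw [pwG_ClD4, tnf, e13, e12, e16, e15, e17, e20]

/-- (S1) every involution of `³D₄(q)`, `q` even, is conjugate in `³D₄(q)` to a twisted normal form -/
theorem invol_conj_tnf [Fintype K] [CharP K 2] (q : ℕ) (hK : Fintype.card K = q ^ 3)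
    (f : K ≃+* K) (hf : ∀ t, f t = t ^ q) (g : GL chevD4.Idx K) (hg : g ∈ twistedD4 K q)
    (hog : orderOf g = 2) :
    ∃ a b c d e z : K, f b = b ∧ f e = e ∧ f z = z ∧
      ∃ k ∈ twistedD4 K q, k * g * k⁻¹ = tnf f a b c d e z := by
  classical
  haveI : Fact (Nat.Prime 2) := ⟨Nat.prime_two⟩
  obtain ⟨m, hm0, hm⟩ := exists_two_pow q hK
  have hq : IsPrimePow q := ⟨2, m, Nat.prime_two.prime, hm0, hm.symm⟩
  -- the Sylow 2-subgroup `U¹`
  set G1 : Subgroup (GL chevD4.Idx K) := twistedD4 K q with hG1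
  set U1 : Subgroup ↥G1 := (chevD4.posUnipotent K ⊓ twistedD4 K q).subgroupOf G1 with hU1
  have hcardU : Nat.card U1 = q ^ 12 := by
    rw [hU1, Nat.card_congr (Subgroup.subgroupOfEquivOfLe
      (inf_le_right : chevD4.posUnipotent K ⊓ twistedD4 K q ≤ G1)).toEquiv]
    exact Cfsg.Agent.S1088.result hq hK
  have hcardG : Nat.card ↥G1 = q ^ 12 * (q ^ 2 - 1) * (q ^ 6 - 1) * (q ^ 8 + q ^ 4 + 1) :=
    Cfsg.Agent.S1067.result hq hK
  have hP : IsPGroup 2 U1 := by
    apply IsPGroup.of_card (n := m * 12)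
    rw [hcardU, hm, pow_mul]
  have hidx : ¬ 2 ∣ U1.index := by
    have h1 := Subgroup.card_mul_index U1
    rw [hcardU, hcardG, mul_assoc, mul_assoc] at h1
    have hq12 : 0 < q ^ 12 := pow_pos (by rw [hm]; positivity) 12
    have h2 : U1.index = (q ^ 2 - 1) * ((q ^ 6 - 1) * (q ^ 8 + q ^ 4 + 1)) :=
      Nat.eq_of_mul_eq_mul_left hq12 h1
    rw [h2]
    have hq2 : q % 2 = 0 := by
      rw [hm]
      obtain ⟨m', rfl⟩ := Nat.exists_eq_succ_of_ne_zero (Nat.pos_iff_ne_zero.mp hm0)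
      rw [pow_succ]
      omega
    have hpm : ∀ j : ℕ, 0 < j → q ^ j % 2 = 0 := by
      intro j hj
      rw [Nat.pow_mod, hq2, zero_pow (Nat.pos_iff_ne_zero.mp hj), Nat.zero_mod]
    have hpos : ∀ j : ℕ, 0 < q ^ j := fun j => pow_pos (by rw [hm]; positivity) j
    have a2 := hpm 2 (by norm_num)
    have a4 := hpm 4 (by norm_num)
    have a6 := hpm 6 (by norm_num)
    have a8 := hpm 8 (by norm_num)
    have p2 := hpos 2
    have p6 := hpos 6
    intro hdvd
    rcases (Nat.Prime.dvd_mul Nat.prime_two).mp hdvd with h | h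
    · omega
    · rcases (Nat.Prime.dvd_mul Nat.prime_two).mp h with h | h
      · omega
      · omega
  have hog' : orderOf (⟨g, hg⟩ : ↥G1) = 2 := by
    rw [← hog]
    exact Subgroup.orderOf_mk g hg
  obtain ⟨k, hk⟩ := Cfsg.Agent.Helper4.G2Inv.exists_conj_mem_of_index U1 hP hidx ⟨g, hg⟩ hog'
  rw [hU1, Subgroup.mem_subgroupOf] at hk
  obtain ⟨a, b, c, d, e, z, hb, he, hz, hu⟩ := exists_tnf_of_mem q hq hK f hf _ hk
  exact ⟨a, b, c, d, e, z, hb, he, hz, (k : GL chevD4.Idx K), k.2, by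
    rw [← hu]
    rfl⟩

end Cfsg.Agent.Helper75.D4I
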