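import Mathlib
import Cfsg.Agent.Helper16.DT.Defs

/-!
# DT farm (helper16, S4641), piece (DEN): the density theorem for pairwise inequivalent irreducible
matrix representations over an algebraically closed field

Route: `V = Π i, K^(d i)` is a module over the subalgebra `R` of `End_K V` generated by the block-diagonal
action of `G`; it is a sum of the simple submodules `V_i`, hence semisimple; by Schur's lemma (in matrix form)
`End_R V` consists of the maps acting on the `i`-th factor by a scalar; so `(A i)_i` acting blockwise is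
`End_R V`-linear and Mathlib's `jacobson_density` (on the standard basis vectors) gives an element of `R`,
i.e. a linear combination of the `ρ(g)`, acting like `A i` on every block.
-/

set_option autoImplicit false
set_option linter.unusedSectionVars false
set_option linter.unusedVariables false

namespace Cfsg.Agent.Helper75.DT

open Cfsg Cfsg.Agent.Helper16 Cfsg.Agent.Helper16.DT Polynomial Matrix

universe u v w

section FieldK

variable {K : Type v} [Field K] {G : Type u} [Group G]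

/-- Schur's lemma (scalar form) -/
theorem DEN_schur_scalar [IsAlgClosed K] {ι : Type w} [Fintype ι] [DecidableEq ι]
    (ρ : G →* Matrix ι ι K) (hρ : IsIrredMat ρ) (Z : Matrix ι ι K)
    (hZ : ∀ g, Z * ρ g = ρ g * Z) : ∃ c : K, Z = c • (1 : Matrix ι ι K) := by
  obtain ⟨hne, hW⟩ := hρ
  haveI := hne
  obtain ⟨c, hc⟩ := Module.End.exists_eigenvalue (Matrix.toLin' Z)
  have hinv : ∀ g, ∀ w ∈ Module.End.eigenspace (Matrix.toLin' Z) c,
      (ρ g).mulVec w ∈ Module.End.eigenspace (Matrix.toLin' Z) c := by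
    intro g w hw
    rw [Module.End.mem_eigenspace_iff] at hw ⊢
    rw [Matrix.toLin'_apply] at hw ⊢
    rw [Matrix.mulVec_mulVec, hZ g, ← Matrix.mulVec_mulVec, hw, Matrix.mulVec_smul]
  rcases hW _ hinv with h | h
  · exfalso
    obtain ⟨v, hv⟩ := hc.exists_hasEigenvector
    have h1 : v ∈ Module.End.eigenspace (Matrix.toLin' Z) c := hv.1
    rw [h, Submodule.mem_bot] at h1
    exact hv.2 h1
  · refine ⟨c, ?_⟩
    apply Matrix.toLin'.injective
    apply LinearMap.ext
    intro w
    have hw : w ∈ Module.End.eigenspace (Matrix.toLin' Z) c := by rw [h]; exact Submodule.mem_top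
    rw [Module.End.mem_eigenspace_iff] at hw
    rw [hw, Matrix.toLin'_apply, Matrix.smul_mulVec, Matrix.one_mulVec]

/-- Schur's lemma (zero form): an intertwiner between inequivalent irreducible representations vanishes -/
theorem DEN_schur_zero {ι : Type w} [Fintype ι] [DecidableEq ι] {κ : Type w} [Fintype κ]
    [DecidableEq κ] (ρ : G →* Matrix ι ι K) (σ : G →* Matrix κ κ K) (hρ : IsIrredMat ρ)
    (hσ : IsIrredMat σ) (hne : ¬ MatEquiv ρ σ) (Z : Matrix ι κ K)
    (hZ : ∀ g, Z * σ g = ρ g * Z) : Z = 0 := by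
  by_contra hZ0
  have hlin0 : Matrix.toLin' Z ≠ 0 := fun h => hZ0 (by
    have := congrArg LinearMap.toMatrix' h
    simpa using this)
  -- the kernel
  have hker : LinearMap.ker (Matrix.toLin' Z) = ⊥ := by
    have hinv : ∀ g, ∀ w ∈ LinearMap.ker (Matrix.toLin' Z), (σ g).mulVec w ∈
        LinearMap.ker (Matrix.toLin' Z) := by
      intro g w hw
      rw [LinearMap.mem_ker, Matrix.toLin'_apply] at hw ⊢
      rw [Matrix.mulVec_mulVec, hZ g, ← Matrix.mulVec_mulVec, hw, Matrix.mulVec_zero]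
    rcases hσ.2 _ hinv with h | h
    · exact h
    · exact absurd (LinearMap.ker_eq_top.1 h) hlin0
  have hrange : LinearMap.range (Matrix.toLin' Z) = ⊤ := by
    have hinv : ∀ g, ∀ w ∈ LinearMap.range (Matrix.toLin' Z), (ρ g).mulVec w ∈
        LinearMap.range (Matrix.toLin' Z) := by
      rintro g _ ⟨u, rfl⟩
      refine ⟨(σ g).mulVec u, ?_⟩
      rw [Matrix.toLin'_apply, Matrix.toLin'_apply, Matrix.mulVec_mulVec, hZ g,
        ← Matrix.mulVec_mulVec]
    rcases hρ.2 _ hinv with h | h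
    · exact absurd (LinearMap.range_eq_bot.1 h) hlin0
    · exact h
  let e : (κ → K) ≃ₗ[K] (ι → K) := LinearEquiv.ofBijective (Matrix.toLin' Z)
    ⟨LinearMap.ker_eq_bot.1 hker, LinearMap.range_eq_top.1 hrange⟩
  have he : ∀ u, e u = Matrix.toLin' Z u := fun u => rfl
  apply hne
  refine ⟨Z, LinearMap.toMatrix' (e.symm : (ι → K) →ₗ[K] (κ → K)), ?_, ?_, ?_⟩
  · have h1 : Matrix.toLin' Z ∘ₗ (e.symm : (ι → K) →ₗ[K] (κ → K)) = LinearMap.id := by
      apply LinearMap.ext
      intro u
      rw [LinearMap.comp_apply, LinearEquiv.coe_coe, ← he, LinearEquiv.apply_symm_apply,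
        LinearMap.id_apply]
    have h2 := congrArg LinearMap.toMatrix' h1
    rw [LinearMap.toMatrix'_comp, LinearMap.toMatrix'_toLin', LinearMap.toMatrix'_id] at h2
    exact h2
  · have h1 : (e.symm : (ι → K) →ₗ[K] (κ → K)) ∘ₗ Matrix.toLin' Z = LinearMap.id := by
      apply LinearMap.ext
      intro u
      rw [LinearMap.comp_apply, LinearEquiv.coe_coe, ← he, LinearEquiv.symm_apply_apply,
        LinearMap.id_apply]
    have h2 := congrArg LinearMap.toMatrix' h1
    rw [LinearMap.toMatrix'_comp, LinearMap.toMatrix'_toLin', LinearMap.toMatrix'_id] at h2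
    exact h2
  · intro g
    have h1 : Matrix.toLin' Z ∘ₗ (e.symm : (ι → K) →ₗ[K] (κ → K)) = LinearMap.id := by
      apply LinearMap.ext
      intro u
      rw [LinearMap.comp_apply, LinearEquiv.coe_coe, ← he, LinearEquiv.apply_symm_apply,
        LinearMap.id_apply]
    have h2 := congrArg LinearMap.toMatrix' h1
    rw [LinearMap.toMatrix'_comp, LinearMap.toMatrix'_toLin', LinearMap.toMatrix'_id] at h2
    rw [hZ g, Matrix.mul_assoc, h2, Matrix.mul_one]


section action

variable {r : ℕ} {d : Fin r → ℕ}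

/-- the block-diagonal action of `G` on `V = Π i, K^(d i)` -/
def DEN_act (ρ : ∀ i, G →* Matrix (Fin (d i)) (Fin (d i)) K) :
    G →* Module.End K (∀ i, Fin (d i) → K) where
  toFun g := LinearMap.pi fun i => (Matrix.toLin' (ρ i g)).comp (LinearMap.proj i)
  map_one' := by
    apply LinearMap.ext
    intro v
    funext i
    simp
  map_mul' g h := by
    apply LinearMap.ext
    intro v
    funext i
    simp [Matrix.mulVec_mulVec]

theorem DEN_act_apply (ρ : ∀ i, G →* Matrix (Fin (d i)) (Fin (d i)) K) (g : G)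
    (v : ∀ i, Fin (d i) → K) (i : Fin r) : DEN_act ρ g v i = (ρ i g).mulVec (v i) := rfl

/-- the subalgebra of `End_K V` generated by the action -/
abbrev DEN_R (ρ : ∀ i, G →* Matrix (Fin (d i)) (Fin (d i)) K) :
    Subalgebra K (Module.End K (∀ i, Fin (d i) → K)) :=
  Algebra.adjoin K (Set.range (DEN_act ρ))

/-- the ring `R` (a type synonym of the subalgebra, to have canonical `Ring` and `Module` instances) -/
def DEN_Ring (ρ : ∀ i, G →* Matrix (Fin (d i)) (Fin (d i)) K) : Type v := ↥(DEN_R ρ)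

noncomputable instance (ρ : ∀ i, G →* Matrix (Fin (d i)) (Fin (d i)) K) : Ring (DEN_Ring ρ) :=
  Subalgebra.toRing (DEN_R ρ)

noncomputable instance (ρ : ∀ i, G →* Matrix (Fin (d i)) (Fin (d i)) K) :
    Module (DEN_Ring ρ) (∀ i, Fin (d i) → K) :=
  Subalgebra.moduleLeft (DEN_R ρ)

/-- the underlying endomorphism -/
def DEN_val {ρ : ∀ i, G →* Matrix (Fin (d i)) (Fin (d i)) K} (b : DEN_Ring ρ) :
    Module.End K (∀ i, Fin (d i) → K) := Subtype.val b

theorem DEN_smul_def {ρ : ∀ i, G →* Matrix (Fin (d i)) (Fin (d i)) K} (b : DEN_Ring ρ)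
    (v : ∀ i, Fin (d i) → K) : b • v = DEN_val b v := rfl

theorem DEN_val_mem {ρ : ∀ i, G →* Matrix (Fin (d i)) (Fin (d i)) K} (b : DEN_Ring ρ) :
    DEN_val b ∈ DEN_R ρ := Subtype.property b

/-- the element of `R` with a given underlying endomorphism -/
def DEN_mk {ρ : ∀ i, G →* Matrix (Fin (d i)) (Fin (d i)) K}
    (f : Module.End K (∀ i, Fin (d i) → K)) (hf : f ∈ DEN_R ρ) : DEN_Ring ρ := ⟨f, hf⟩

theorem DEN_val_mk {ρ : ∀ i, G →* Matrix (Fin (d i)) (Fin (d i)) K}
    (f : Module.End K (∀ i, Fin (d i) → K)) (hf : f ∈ DEN_R ρ) : DEN_val (DEN_mk f hf) = f := rfl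

variable [Fintype G]

/-- every element of `R` is a linear combination of the `ρ(g)` -/
theorem DEN_exists_coeff (ρ : ∀ i, G →* Matrix (Fin (d i)) (Fin (d i)) K) (b : DEN_Ring ρ) :
    ∃ x : G → K, ∀ (v : ∀ i, Fin (d i) → K) (i : Fin r),
      (b • v) i = ∑ g, x g • (ρ i g).mulVec (v i) := by
  have hb : DEN_val b ∈
      Subalgebra.toSubmodule (Algebra.adjoin K (Set.range (DEN_act ρ))) := DEN_val_mem b
  rw [Algebra.adjoin_eq_span] at hb
  have hcl : (Submonoid.closure (Set.range (DEN_act ρ)) : Set _) = Set.range (DEN_act ρ) := by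
    rw [← MonoidHom.coe_mrange, Submonoid.closure_eq]
  rw [hcl, Submodule.mem_span_range_iff_exists_fun] at hb
  obtain ⟨x, hx⟩ := hb
  refine ⟨x, fun v i => ?_⟩
  rw [DEN_smul_def, ← hx]
  simp [DEN_act_apply]

/-- every linear combination of the `ρ(g)` is in `R` -/
theorem DEN_exists_elt (ρ : ∀ i, G →* Matrix (Fin (d i)) (Fin (d i)) K) (x : G → K) :
    ∃ b : DEN_Ring ρ, ∀ (v : ∀ i, Fin (d i) → K) (i : Fin r),
      (b • v) i = ∑ g, x g • (ρ i g).mulVec (v i) := by
  have hmem : ∑ g, x g • DEN_act ρ g ∈ DEN_R ρ := by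
    refine Subalgebra.sum_mem _ fun g _ => Subalgebra.smul_mem _ (Algebra.subset_adjoin ?_) _
    exact ⟨g, rfl⟩
  refine ⟨DEN_mk _ hmem, fun v i => ?_⟩
  rw [DEN_smul_def, DEN_val_mk]
  simp [DEN_act_apply]

end action


section semisimple

variable {r : ℕ} {d : Fin r → ℕ} [Fintype G]

/-- the `i`-th factor as an `R`-submodule -/
def DEN_p (ρ : ∀ i, G →* Matrix (Fin (d i)) (Fin (d i)) K) (i : Fin r) :
    Submodule (DEN_Ring ρ) (∀ i, Fin (d i) → K) where
  carrier := {v | ∀ j, j ≠ i → v j = 0}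
  add_mem' := by
    intro a b ha hb j hj
    rw [Pi.add_apply, ha j hj, hb j hj, add_zero]
  zero_mem' := fun j _ => rfl
  smul_mem' := by
    intro b v hv j hj
    obtain ⟨x, hx⟩ := DEN_exists_coeff ρ b
    rw [hx, hv j hj]
    simp

theorem DEN_mem_p (ρ : ∀ i, G →* Matrix (Fin (d i)) (Fin (d i)) K) (i : Fin r)
    (v : ∀ i, Fin (d i) → K) : v ∈ DEN_p ρ i ↔ ∀ j, j ≠ i → v j = 0 := Iff.rfl

theorem DEN_single_mem_p (ρ : ∀ i, G →* Matrix (Fin (d i)) (Fin (d i)) K) (i : Fin r)
    (u : Fin (d i) → K) : (Pi.single i u : ∀ i, Fin (d i) → K) ∈ DEN_p ρ i := by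
  intro j hj
  exact Pi.single_eq_of_ne (M := fun i => Fin (d i) → K) hj u

/-- the orbit of a non-zero vector spans an irreducible representation -/
theorem DEN_span_orbit {n : ℕ} (σ : G →* Matrix (Fin n) (Fin n) K) (hσ : IsIrredMat σ)
    (u : Fin n → K) (hu : u ≠ 0) (w : Fin n → K) :
    ∃ c : G → K, ∑ g, c g • (σ g).mulVec u = w := by
  have hinv : ∀ h, ∀ w ∈ Submodule.span K (Set.range fun g => (σ g).mulVec u),
      (σ h).mulVec w ∈ Submodule.span K (Set.range fun g => (σ g).mulVec u) := by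
    intro h w hw
    induction hw using Submodule.span_induction with
    | mem w hw =>
      obtain ⟨g, rfl⟩ := hw
      apply Submodule.subset_span
      refine ⟨h * g, ?_⟩
      simp only
      rw [map_mul, Matrix.mulVec_mulVec]
    | zero => rw [Matrix.mulVec_zero]; exact Submodule.zero_mem _
    | add a b _ _ ha hb => rw [Matrix.mulVec_add]; exact Submodule.add_mem _ ha hb
    | smul c a _ ha => rw [Matrix.mulVec_smul]; exact Submodule.smul_mem _ c ha
  have hmem : u ∈ Submodule.span K (Set.range fun g => (σ g).mulVec u) := by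
    apply Submodule.subset_span
    refine ⟨1, ?_⟩
    simp only
    rw [map_one, Matrix.one_mulVec]
  rcases hσ.2 _ hinv with h | h
  · rw [h, Submodule.mem_bot] at hmem
    exact absurd hmem hu
  · have hw : w ∈ Submodule.span K (Set.range fun g => (σ g).mulVec u) := by
      rw [h]; exact Submodule.mem_top
    exact (Submodule.mem_span_range_iff_exists_fun K).1 hw

theorem DEN_isSimple (ρ : ∀ i, G →* Matrix (Fin (d i)) (Fin (d i)) K)
    (hirr : ∀ i, IsIrredMat (ρ i)) (i : Fin r) : IsSimpleModule (DEN_Ring ρ) (DEN_p ρ i) := by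
  rw [isSimpleModule_iff_toSpanSingleton_surjective]
  constructor
  · obtain ⟨k⟩ := (hirr i).1
    refine ⟨⟨⟨Pi.single i (Pi.single k 1), DEN_single_mem_p ρ i _⟩, 0, ?_⟩⟩
    intro h
    have h1 := congrArg (fun v : DEN_p ρ i => (v : ∀ i, Fin (d i) → K) i k) h
    simp at h1
  · intro m hm w
    have hmi : (m : ∀ i, Fin (d i) → K) i ≠ 0 := by
      intro h0
      apply hm
      apply Subtype.ext
      funext j
      by_cases hj : j = i
      · subst hj; exact h0
      · exact m.2 j hj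
    obtain ⟨c, hc⟩ := DEN_span_orbit (ρ i) (hirr i) _ hmi ((w : ∀ i, Fin (d i) → K) i)
    obtain ⟨b, hb⟩ := DEN_exists_elt ρ c
    refine ⟨b, ?_⟩
    rw [LinearMap.toSpanSingleton_apply]
    apply Subtype.ext
    funext j
    rw [Submodule.coe_smul, hb]
    by_cases hj : j = i
    · subst hj; exact hc
    · rw [m.2 j hj, w.2 j hj]
      simp

theorem DEN_isSemisimple (ρ : ∀ i, G →* Matrix (Fin (d i)) (Fin (d i)) K)
    (hirr : ∀ i, IsIrredMat (ρ i)) : IsSemisimpleModule (DEN_Ring ρ) (∀ i, Fin (d i) → K) := by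
  classical
  have hs : ∀ i, IsSimpleModule (DEN_Ring ρ) (DEN_p ρ i) := DEN_isSimple ρ hirr
  refine isSemisimpleModule_of_isSemisimpleModule_submodule' (p := DEN_p ρ)
    (fun i => inferInstance) ?_
  rw [eq_top_iff]
  intro v _
  rw [← Finset.univ_sum_single v]
  refine Submodule.sum_mem _ fun i _ => ?_
  exact Submodule.mem_iSup_of_mem i (DEN_single_mem_p ρ i (v i))

end semisimple


section endo

variable {r : ℕ} {d : Fin r → ℕ} [Fintype G]

/-- `R`-linear endomorphisms commute with the action of `G` -/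
theorem DEN_end_comm (ρ : ∀ i, G →* Matrix (Fin (d i)) (Fin (d i)) K)
    (φ : Module.End (DEN_Ring ρ) (∀ i, Fin (d i) → K)) (g : G) (v : ∀ i, Fin (d i) → K) :
    φ (DEN_act ρ g v) = DEN_act ρ g (φ v) := by
  have hmem : DEN_act ρ g ∈ DEN_R ρ := Algebra.subset_adjoin ⟨g, rfl⟩
  have h := φ.map_smul (DEN_mk _ hmem) v
  rwa [DEN_smul_def, DEN_smul_def, DEN_val_mk] at h

/-- `R`-linear endomorphisms are `K`-linear -/
theorem DEN_end_smul (ρ : ∀ i, G →* Matrix (Fin (d i)) (Fin (d i)) K)
    (φ : Module.End (DEN_Ring ρ) (∀ i, Fin (d i) → K)) (c : K) (v : ∀ i, Fin (d i) → K) :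
    φ (c • v) = c • φ v := by
  have hmem : algebraMap K (Module.End K (∀ i, Fin (d i) → K)) c ∈ DEN_R ρ :=
    Subalgebra.algebraMap_mem _ c
  have h := φ.map_smul (DEN_mk _ hmem) v
  rw [DEN_smul_def, DEN_smul_def, DEN_val_mk, Module.algebraMap_end_apply,
    Module.algebraMap_end_apply] at h
  exact h

/-- the `(i, j)` component of an `R`-linear endomorphism -/
noncomputable def DEN_comp (ρ : ∀ i, G →* Matrix (Fin (d i)) (Fin (d i)) K)
    (φ : Module.End (DEN_Ring ρ) (∀ i, Fin (d i) → K)) (i j : Fin r) :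
    (Fin (d j) → K) →ₗ[K] (Fin (d i) → K) where
  toFun u := φ (Pi.single j u) i
  map_add' u u' := by
    rw [Pi.single_add, map_add, Pi.add_apply]
  map_smul' c u := by
    rw [Pi.single_smul, DEN_end_smul, Pi.smul_apply, RingHom.id_apply]

theorem DEN_comp_apply (ρ : ∀ i, G →* Matrix (Fin (d i)) (Fin (d i)) K)
    (φ : Module.End (DEN_Ring ρ) (∀ i, Fin (d i) → K)) (i j : Fin r) (u : Fin (d j) → K) :
    DEN_comp ρ φ i j u = φ (Pi.single j u) i := rfl

theorem DEN_act_single (ρ : ∀ i, G →* Matrix (Fin (d i)) (Fin (d i)) K) (g : G) (j : Fin r)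
    (u : Fin (d j) → K) :
    DEN_act ρ g (Pi.single j u) = Pi.single j ((ρ j g).mulVec u) := by
  funext k
  rw [DEN_act_apply]
  by_cases hk : k = j
  · subst hk
    rw [Pi.single_eq_same, Pi.single_eq_same]
  · rw [Pi.single_eq_of_ne hk, Pi.single_eq_of_ne hk, Matrix.mulVec_zero]

theorem DEN_comp_intertwine (ρ : ∀ i, G →* Matrix (Fin (d i)) (Fin (d i)) K)
    (φ : Module.End (DEN_Ring ρ) (∀ i, Fin (d i) → K)) (i j : Fin r) (g : G) :
    LinearMap.toMatrix' (DEN_comp ρ φ i j) * ρ j g = ρ i g * LinearMap.toMatrix' (DEN_comp ρ φ i j) := by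
  apply Matrix.toLin'.injective
  rw [Matrix.toLin'_mul, Matrix.toLin'_mul, Matrix.toLin'_toMatrix']
  apply LinearMap.ext
  intro u
  rw [LinearMap.comp_apply, LinearMap.comp_apply, Matrix.toLin'_apply, Matrix.toLin'_apply,
    DEN_comp_apply, DEN_comp_apply, ← DEN_act_single, DEN_end_comm, DEN_act_apply]

theorem DEN_end_apply (ρ : ∀ i, G →* Matrix (Fin (d i)) (Fin (d i)) K)
    (φ : Module.End (DEN_Ring ρ) (∀ i, Fin (d i) → K)) (v : ∀ i, Fin (d i) → K) (i : Fin r) :
    φ v i = ∑ j, DEN_comp ρ φ i j (v j) := by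
  conv_lhs => rw [← Finset.univ_sum_single v]
  rw [map_sum, Finset.sum_apply]
  rfl

/-- the `R`-linear endomorphisms act on every factor by a scalar -/
theorem DEN_end_scalar [IsAlgClosed K] (ρ : ∀ i, G →* Matrix (Fin (d i)) (Fin (d i)) K)
    (hirr : ∀ i, IsIrredMat (ρ i)) (hne : ∀ i j, i ≠ j → ¬ MatEquiv (ρ i) (ρ j))
    (φ : Module.End (DEN_Ring ρ) (∀ i, Fin (d i) → K)) :
    ∃ c : Fin r → K, ∀ (v : ∀ i, Fin (d i) → K) (i : Fin r), φ v i = c i • v i := by
  have hdiag : ∀ i, ∃ c : K, LinearMap.toMatrix' (DEN_comp ρ φ i i) = c • (1 : Matrix _ _ K) :=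
    fun i => DEN_schur_scalar (ρ i) (hirr i) _ (DEN_comp_intertwine ρ φ i i)
  choose c hc using hdiag
  refine ⟨c, fun v i => ?_⟩
  rw [DEN_end_apply, Finset.sum_eq_single i]
  · have h1 : DEN_comp ρ φ i i = Matrix.toLin' (c i • (1 : Matrix _ _ K)) := by
      rw [← hc i, Matrix.toLin'_toMatrix']
    rw [h1, Matrix.toLin'_apply, Matrix.smul_mulVec, Matrix.one_mulVec]
  · intro j _ hj
    have h0 : LinearMap.toMatrix' (DEN_comp ρ φ i j) = 0 :=
      DEN_schur_zero (ρ i) (ρ j) (hirr i) (hirr j) (hne i j (Ne.symm hj)) _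
        (DEN_comp_intertwine ρ φ i j)
    have h1 : DEN_comp ρ φ i j = 0 := by
      rw [← Matrix.toLin'_toMatrix' (DEN_comp ρ φ i j), h0, map_zero]
    rw [h1, LinearMap.zero_apply]
  · intro h
    exact absurd (Finset.mem_univ i) h

end endo

section final

/-- (DEN) the density theorem for pairwise inequivalent irreducible matrix representations over an
algebraically closed field. -/
theorem density [IsAlgClosed K] [Fintype G] {r : ℕ} (d : Fin r → ℕ)
    (ρ : ∀ i, G →* Matrix (Fin (d i)) (Fin (d i)) K) (hirr : ∀ i, IsIrredMat (ρ i))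
    (hne : ∀ i j, i ≠ j → ¬ MatEquiv (ρ i) (ρ j))
    (A : ∀ i, Matrix (Fin (d i)) (Fin (d i)) K) : ∃ x : G → K, ∀ i, gaAct (ρ i) x = A i := by
  classical
  haveI : IsSemisimpleModule (DEN_Ring ρ) (∀ i, Fin (d i) → K) := DEN_isSemisimple ρ hirr
  -- the blockwise action of `A` is linear over the endomorphism ring
  let f : Module.End (Module.End (DEN_Ring ρ) (∀ i, Fin (d i) → K)) (∀ i, Fin (d i) → K) :=
    { toFun := fun v i => (A i).mulVec (v i)
      map_add' := by
        intro v v'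
        funext i
        rw [Pi.add_apply, Matrix.mulVec_add]
        rfl
      map_smul' := by
        intro φ v
        obtain ⟨c, hc⟩ := DEN_end_scalar ρ hirr hne φ
        funext i
        rw [RingHom.id_apply, Module.End.smul_def, Module.End.smul_def, hc, hc,
          Matrix.mulVec_smul] }
  have hf : ∀ v i, f v i = (A i).mulVec (v i) := fun v i => rfl
  obtain ⟨b, hb⟩ := jacobson_density f
    (Finset.univ.image fun ik : Σ i, Fin (d i) =>
      (Pi.single ik.1 (Pi.single ik.2 1) : ∀ i, Fin (d i) → K))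
  obtain ⟨x, hx⟩ := DEN_exists_coeff ρ b
  refine ⟨x, fun i => ?_⟩
  ext a k
  have hmem : (Pi.single i (Pi.single k 1) : ∀ i, Fin (d i) → K) ∈
      Finset.univ.image fun ik : Σ i, Fin (d i) =>
        (Pi.single ik.1 (Pi.single ik.2 1) : ∀ i, Fin (d i) → K) :=
    Finset.mem_image.2 ⟨⟨i, k⟩, Finset.mem_univ _, rfl⟩
  have h1 := congrFun (congrFun (hb _ hmem) i) a
  rw [hf, hx, Pi.single_eq_same, Matrix.mulVec_single_one] at h1
  rw [gaAct, Matrix.sum_apply]
  simp only [Matrix.smul_apply]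
  rw [show A i a k = (A i).col k a from rfl, h1, Finset.sum_apply]
  refine Finset.sum_congr rfl fun g _ => ?_
  rw [Pi.smul_apply, Matrix.mulVec_single_one]
  rfl

end final

end FieldK

end Cfsg.Agent.Helper75.DT
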