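import Cfsg.Agent.Helper95.Hig.Basic

/-!
HIG farm (helper95, S3050), piece (MAT): in a characteristic-2 model with `A = 0` and `B = R` a ring
homomorphism, every `g ∈ SL₂(K)` acts by the matrix `R(g_ij)`.
-/

set_option autoImplicit false

namespace Cfsg.Agent.Helper75.Hig

open Cfsg.Agent.Helper40.SL2Hom Cfsg.Agent.Helper95.Hig

universe u v w

variable {K : Type u} [Field K] [CharP K 2] {V : Type v} [AddCommGroup V] [Module (ZG K) V]

/-- (MAT) the matrix action. -/
theorem mat {C : Type w} [AddCommGroup C] (m : Model K V C) (h2 : ∀ c : C, c + c = 0)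
    (hA : ∀ γ c, m.A γ c = 0) (R : K →+* AddMonoid.End C) (hR : ∀ γ c, R γ c = m.B γ c) :
    ∀ (g : SL2 K) (c d : C), m.φ (act g (m.φ.symm (c, d))) =
      (R (g 0 0) c + R (g 0 1) d, R (g 1 0) c + R (g 1 1) d) := by
  -- the matrix operator
  set M : SL2 K → C × C → C × C :=
    fun g x => (R (g 0 0) x.1 + R (g 0 1) x.2, R (g 1 0) x.1 + R (g 1 1) x.2) with hM
  have hMmul : ∀ (g h : SL2 K) (x : C × C), M (g * h) x = M g (M h x) := by
    intro g h x
    have e00 : (g * h) 0 0 = g 0 0 * h 0 0 + g 0 1 * h 1 0 := by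
      simp only [Matrix.SpecialLinearGroup.coe_mul]
      simp [Matrix.mul_apply, Fin.sum_univ_two]
    have e01 : (g * h) 0 1 = g 0 0 * h 0 1 + g 0 1 * h 1 1 := by
      simp only [Matrix.SpecialLinearGroup.coe_mul]
      simp [Matrix.mul_apply, Fin.sum_univ_two]
    have e10 : (g * h) 1 0 = g 1 0 * h 0 0 + g 1 1 * h 1 0 := by
      simp only [Matrix.SpecialLinearGroup.coe_mul]
      simp [Matrix.mul_apply, Fin.sum_univ_two]
    have e11 : (g * h) 1 1 = g 1 0 * h 0 1 + g 1 1 * h 1 1 := by
      simp only [Matrix.SpecialLinearGroup.coe_mul]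
      simp [Matrix.mul_apply, Fin.sum_univ_two]
    have hadd : ∀ (f g : AddMonoid.End C) (y : C), (f + g) y = f y + g y := fun _ _ _ => rfl
    have hmul : ∀ (f g : AddMonoid.End C) (y : C), (f * g) y = f (g y) := fun _ _ _ => rfl
    simp only [hM, e00, e01, e10, e11, map_add, map_mul, hadd, hmul]
    refine Prod.ext ?_ ?_ <;> simp only <;> abel
  have hM1 : ∀ x : C × C, M 1 x = x := by
    intro x
    simp [hM]
  have hP : ∀ g ∈ Subgroup.closure ({g : SL2 K | ∃ t : K, g = U t} ∪ {W}),
      ∀ x : C × C, m.φ (act g (m.φ.symm x)) = M g x := by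
    intro g hg
    induction hg using Subgroup.closure_induction with
    | mem g hg =>
      rcases hg with ⟨t, rfl⟩ | hW
      · rintro ⟨c, d⟩
        rw [m.hU]
        have e : M (U t) (c, d) = (c + m.B t d, d) := by
          simp [hM, U_coe, ← hR]
        rw [e, hA, hA, add_zero, add_zero]
      · rw [Set.mem_singleton_iff] at hW
        subst hW
        rintro ⟨c, d⟩
        rw [m.hW]
        simp [hM, W_coe, CharTwo.neg_eq]
    | one =>
      intro x
      rw [act_one, AddEquiv.apply_symm_apply, hM1]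
    | mul g h _ _ hg hh =>
      intro x
      rw [act_mul, hMmul, ← hh x, ← hg, AddEquiv.symm_apply_apply]
    | inv g _ hg =>
      intro x
      have h1 := hg (M g⁻¹ x)
      rw [← hMmul, mul_inv_cancel, hM1] at h1
      have h3 : m.φ.symm (M g⁻¹ x) = act g⁻¹ (m.φ.symm x) := by
        have h4 : act g (m.φ.symm (M g⁻¹ x)) = m.φ.symm x := by
          have := congrArg m.φ.symm h1
          rwa [AddEquiv.symm_apply_apply] at this
        rw [← h4, act_inv_act]
      rw [← h3, AddEquiv.apply_symm_apply]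
  intro g c d
  have hg : g ∈ Subgroup.closure ({g : SL2 K | ∃ t : K, g = U t} ∪ {W}) := by
    rw [closure_U_W]
    exact Subgroup.mem_top g
  exact hP g hg (c, d)

end Cfsg.Agent.Helper75.Hig
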