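import Mathlib
import Cfsg.Agent.Helper99.O9.Defs
import Cfsg.Agent.Helper44.StdNondeg
import Cfsg.Agent.Helper45.UnitaryOrth

set_option autoImplicit false
set_option linter.unusedSectionVars false
set_option linter.unusedVariables false

/-!
# S2517 piece (PLANE) for helper99: a plane `X` with `-1 ∈ Ω(X)`
-/

namespace Cfsg.Agent.Helper75.O9

open Matrix QuadraticMap Cfsg.Agent.Helper44 Cfsg.Agent.Helper44.QType Cfsg.Agent.Helper99.O9

universe u

variable {F : Type u} [Field F] [Fintype F]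

/-- (PLANE) a plane `X` with `-1 ∈ Ω(X)`: the hyperbolic plane if `q ≡ 1 (4)`, the anisotropic plane if `q ≡ 3 (4)`:
`exists_neg_one_mem_Omega_plus_iff`, `exists_neg_one_mem_Omega_minus_iff` of helper44's `StdNondeg` -/
theorem exists_negOm_plane (hF : Odd (Fintype.card F)) :
    ∃ (ε : ℤ) (X : OPair F), (ε = 1 ∨ ε = -1) ∧ X.ND ∧ X.Typ 1 ε ∧ X.NegOm := by
  have h4 : Fintype.card F % 4 = 1 ∨ Fintype.card F % 4 = 3 := by
    obtain ⟨k, hk⟩ := hF
    omega
  have h2 : (2 : F) ≠ 0 := two_ne_zero_of_odd_card rfl hF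
  rcases h4 with h1 | h3
  · refine ⟨1, { ι := Fin 1 ⊕ Fin 1, Q := plusForm 1 F, g := 1 }, Or.inl rfl, ?_, ?_, ?_⟩
    · rw [OPair.nd_def]
      intro x hx
      have hnd := nondegenerate_plusForm (F := F) 1
      exact hnd.1 x (fun y => by rw [QuadraticMap.polarBilin_apply_apply]; exact hx y)
    · rw [OPair.typ_def]
      refine ⟨?_, hasType_plus 1⟩
      rw [OPair.dim_def]
      simp
    · rw [OPair.negOm_def]
      exact (exists_neg_one_mem_Omega_plus_iff rfl hF 1).2 (by rw [pow_one]; exact h1)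
  · obtain ⟨a, c, hac⟩ := Cfsg.Agent.Helper45.exists_aniso F
    have hD : ¬ IsSquare (a ^ 2 - 4 * c) := not_isSquare_disc_of_anisotropic h2 a c hac
    have hD0 : a ^ 2 - 4 * c ≠ 0 := by
      intro h0
      exact hD ⟨0, by rw [h0, mul_zero]⟩
    refine ⟨-1, { ι := (Fin 0 ⊕ Fin 0) ⊕ Fin 2, Q := minusForm 0 F a c, g := 1 }, Or.inr rfl,
      ?_, ?_, ?_⟩
    · rw [OPair.nd_def]
      intro x hx
      have hnd := nondegenerate_minusForm (F := F) 0 a c hD0
      exact hnd.1 x (fun y => by rw [QuadraticMap.polarBilin_apply_apply]; exact hx y)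
    · rw [OPair.typ_def]
      refine ⟨?_, hasType_minus 0 a c hac⟩
      rw [OPair.dim_def]
      simp
    · rw [OPair.negOm_def]
      exact (exists_neg_one_mem_Omega_minus_iff rfl hF 1 le_rfl a c hac).2
        (by rw [pow_one]; exact h3)

end Cfsg.Agent.Helper75.O9
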