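import Mathlib
import Cfsg.Agent.Helper99.O9.Defs
import Cfsg.Agent.Helper44.QTypeClassify

set_option autoImplicit false
set_option linter.unusedSectionVars false
set_option linter.unusedVariables false

/-!
# S2517 piece (TYEX) for helper99: every non-degenerate pair of even dimension has a type
-/

namespace Cfsg.Agent.Helper75.O9

open Matrix QuadraticMap Cfsg.Agent.Helper44 Cfsg.Agent.Helper44.QType Cfsg.Agent.Helper99.O9

universe u

variable {F : Type u} [Field F] [Fintype F]

/-- (TYEX) route: `exists_hasType` of helper44's `QTypeClassify` -/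
theorem exists_typ {P : OPair F} (hP : P.ND) {m : ℕ} (hd : P.dim = 2 * m) :
    ∃ ε : ℤ, (ε = 1 ∨ ε = -1) ∧ P.Typ m ε := by
  have hV : Module.finrank F (P.ι → F) = 2 * m := by
    rw [Module.finrank_fintype_fun_eq_card, ← hd, OPair.dim_def]
  obtain ⟨ε, hε, hT⟩ := exists_hasType P.Q hV ((OPair.nd_def P).1 hP)
  exact ⟨ε, hε, (OPair.typ_def P m ε).2 ⟨hd, hT⟩⟩

end Cfsg.Agent.Helper75.O9
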