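import Cfsg.Agent.Helper75.OnePDivA

/-!
# Groups with a normal `p`-complement and a unique character of degree divisible by `p`
(helper75), part B: counting the irreducible characters.

`k(G) = 1 + |G : N| · #(G-invariant irreducible characters of N)`.
-/

set_option autoImplicit false

namespace Cfsg.Agent.Helper75

open Cfsg
open scoped ComplexConjugate

universe u

section OPD

variable {G : Type u} [Group G] [Fintype G] {p : ℕ} [hp : Fact p.Prime] {N : Subgroup G}
  [hN : N.Normal] [Fintype N]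

/-- The `G`-invariant irreducible characters of the normal subgroup `N`. -/
abbrev InvIrrN (N : Subgroup G) [N.Normal] : Type u :=
  {θ : IrrCharacter N // ∀ g : G, Helper15.conjFun N g (θ : N → ℂ) = (θ : N → ℂ)}

omit [Fintype G] [Fintype N] in
theorem inertia_eq_top_of_inv (θ : InvIrrN N) : Helper15.inertia N (θ.1 : N → ℂ) = ⊤ := by
  ext g
  simp only [Subgroup.mem_top, iff_true]
  exact (Helper15.mem_inertia N _ g).mpr (θ.2 g)

/-- The multiplicity of an invariant `θ` in the restriction of `χ ∈ Irr(G)` is `1` if `χ_N = θ`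
and `0` otherwise. -/
theorem OnePDiv.inner_restrict (h : OnePDiv p N) (χ : IrrCharacter G) (θ : InvIrrN N)
    [Decidable ((fun n : N => (χ : G → ℂ) n) = (θ.1 : N → ℂ))] :
    classInner (θ.1 : N → ℂ) (fun n : N => (χ : G → ℂ) n)
      = if (fun n : N => (χ : G → ℂ) n) = (θ.1 : N → ℂ) then 1 else 0 := by
  classical
  by_cases hpχ : p ∣ charDegree (χ : G → ℂ)
  · obtain ⟨θ₁, hθ₁, hθ₁χ, hθ₁inv⟩ := h.exists_not_invariant χ.2 hpχ
    have h0 : classInner (fun n : N => (χ : G → ℂ) n) (θ.1 : N → ℂ) = 0 := by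
      by_contra hne
      have := inertia_eq_top_of_constituents χ.2 θ.1.2 hθ₁ hne hθ₁χ (inertia_eq_top_of_inv θ)
      rw [this] at hθ₁inv
      exact hθ₁inv (inertia_eq_top_of_inv θ)
    have hne : (fun n : N => (χ : G → ℂ) n) ≠ (θ.1 : N → ℂ) := by
      intro heq
      rw [heq] at h0
      have h1 := Helper74.irr_orthonormal θ.1 θ.1
      rw [if_pos rfl, h0] at h1
      exact zero_ne_one h1
    rw [if_neg hne, ← Helper74.classInner_conj_symm, h0, map_zero]
  · obtain ⟨hχN, -⟩ := h.restrict_irr χ.2 hpχ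
    have h1 := Helper74.irr_orthonormal θ.1 (⟨fun n : N => (χ : G → ℂ) n, hχN⟩ : IrrCharacter N)
    rw [h1]
    by_cases hc : (fun n : N => (χ : G → ℂ) n) = (θ.1 : N → ℂ)
    · rw [if_pos hc, if_pos]
      exact Subtype.ext hc.symm
    · rw [if_neg hc, if_neg]
      intro h2
      exact hc (congrArg Subtype.val h2).symm

/-- Over an invariant `θ` there are exactly `|G : N|` irreducible characters of `G`, all
extensions of `θ`. -/
theorem OnePDiv.card_fiber (h : OnePDiv p N) (θ : InvIrrN N) :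
    Nat.card {χ : IrrCharacter G // (fun n : N => (χ : G → ℂ) n) = (θ.1 : N → ℂ)} = N.index := by
  classical
  let _ := Helper74.irrFintype G
  have hΨ : IsCharacter G (indFun N (θ.1 : N → ℂ)) :=
    Helper15.isCharacter_indFun N (Helper74.isCharacter_of_isIrr θ.1.2)
  have hdec := Helper74.isCharacter_eq_sum_irr hΨ
  have h1 := congrFun hdec 1
  rw [Helper15.indFun_apply_one, Finset.sum_apply] at h1
  have hθ1 : (θ.1 : N → ℂ) 1 ≠ 0 := Helper80.IsIrrCharacter.map_one_ne_zero θ.1.2
  have h2 : ∀ χ : IrrCharacter G,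
      (classInner (indFun N (θ.1 : N → ℂ)) (χ : G → ℂ) • (χ : G → ℂ)) 1
        = if (fun n : N => (χ : G → ℂ) n) = (θ.1 : N → ℂ) then (θ.1 : N → ℂ) 1 else 0 := by
    intro χ
    rw [Pi.smul_apply, Helper15.frobenius_reciprocity N _ _
      (Helper74.isClassFunction_of_isCharacter (Helper74.isCharacter_of_isIrr χ.2)),
      h.inner_restrict χ θ]
    by_cases hc : (fun n : N => (χ : G → ℂ) n) = (θ.1 : N → ℂ)
    · rw [if_pos hc, if_pos hc, smul_eq_mul, one_mul]
      have := congrFun hc 1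
      simpa using this
    · rw [if_neg hc, if_neg hc, zero_smul]
  rw [Finset.sum_congr rfl (fun χ _ => h2 χ), ← Finset.sum_filter, Finset.sum_const,
    nsmul_eq_mul] at h1
  have h3 : ((N.index : ℕ) : ℂ) = ((Finset.univ.filter (fun χ : IrrCharacter G =>
      (fun n : N => (χ : G → ℂ) n) = (θ.1 : N → ℂ))).card : ℂ) :=
    mul_right_cancel₀ hθ1 h1
  have h4 : N.index = (Finset.univ.filter (fun χ : IrrCharacter G =>
      (fun n : N => (χ : G → ℂ) n) = (θ.1 : N → ℂ))).card := by exact_mod_cast h3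
  rw [h4, Nat.card_eq_fintype_card, Fintype.card_subtype]

/-- **The class number**: `k(G) = 1 + |G : N| · #(invariant irreducible characters of N)`. -/
theorem OnePDiv.card_irr (h : OnePDiv p N) :
    Nat.card (IrrCharacter G) = 1 + N.index * Nat.card (InvIrrN N) := by
  classical
  let _ := Helper74.irrFintype G
  let _ := Helper74.irrFintype N
  obtain ⟨χ₀f, hχ₀, hpχ₀⟩ := h.exists_dvd
  set χ₀ : IrrCharacter G := ⟨χ₀f, hχ₀⟩ with hχ₀def
  -- the restriction map
  have hnd : ∀ χ : {χ : IrrCharacter G // χ ≠ χ₀}, ¬ p ∣ charDegree (χ.1 : G → ℂ) := by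
    intro χ hd
    apply χ.2
    exact Subtype.ext (h.unique χ.1.2 hχ₀ hd hpχ₀)
  let f : {χ : IrrCharacter G // χ ≠ χ₀} → InvIrrN N := fun χ =>
    ⟨⟨fun n : N => (χ.1 : G → ℂ) n, (h.restrict_irr χ.1.2 (hnd χ)).1⟩,
      (h.restrict_irr χ.1.2 (hnd χ)).2⟩
  -- `χ₀` does not restrict to an invariant character
  have hχ₀ne : ∀ θ : InvIrrN N, (fun n : N => χ₀f n) ≠ (θ.1 : N → ℂ) := by
    intro θ heq
    have h1 := h.inner_restrict χ₀ θ
    rw [if_pos heq] at h1
    obtain ⟨θ₁, hθ₁, hθ₁χ, hθ₁inv⟩ := h.exists_not_invariant hχ₀ hpχ₀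
    have h2 : classInner (fun n : N => χ₀f n) (θ.1 : N → ℂ) ≠ 0 := by
      rw [← Helper74.classInner_conj_symm]
      have : classInner (θ.1 : N → ℂ) (fun n : N => χ₀f n) = 1 := h1
      rw [this, map_one]
      exact one_ne_zero
    have := inertia_eq_top_of_constituents hχ₀ θ.1.2 hθ₁ h2 hθ₁χ (inertia_eq_top_of_inv θ)
    rw [this] at hθ₁inv
    exact hθ₁inv (inertia_eq_top_of_inv θ)
  -- fibres
  have hfib : ∀ θ : InvIrrN N, Nat.card {χ : {χ : IrrCharacter G // χ ≠ χ₀} // f χ = θ}
      = N.index := by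
    intro θ
    rw [← h.card_fiber θ]
    apply Nat.card_congr
    refine ⟨fun χ => ⟨χ.1.1, ?_⟩, fun χ => ⟨⟨χ.1, ?_⟩, ?_⟩, ?_, ?_⟩
    · have := congrArg (fun t : InvIrrN N => (t.1 : N → ℂ)) χ.2
      exact this
    · intro heq
      apply hχ₀ne θ
      have := χ.2
      rw [heq] at this
      exact this
    · apply Subtype.ext
      apply Subtype.ext
      exact χ.2
    · intro χ
      rfl
    · intro χ
      rfl
  have hsig : Nat.card {χ : IrrCharacter G // χ ≠ χ₀}
      = ∑ θ : InvIrrN N, Nat.card {χ : {χ : IrrCharacter G // χ ≠ χ₀} // f χ = θ} := by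
    rw [← Nat.card_sigma]
    exact Nat.card_congr (Equiv.sigmaFiberEquiv f).symm
  rw [Finset.sum_congr rfl (fun θ _ => hfib θ), Finset.sum_const, Finset.card_univ,
    smul_eq_mul, ← Nat.card_eq_fintype_card] at hsig
  have hopt : Nat.card (IrrCharacter G) = Nat.card {χ : IrrCharacter G // χ ≠ χ₀} + 1 := by
    rw [← Finite.card_option]
    exact Nat.card_congr (Equiv.optionSubtypeNe χ₀).symm
  rw [hopt, hsig]
  ring

end OPD

end Cfsg.Agent.Helper75
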