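import Cfsg.Agent.Helper75.OnePDivB
import Cfsg.Agent.Helper81.GlaubFix
import Cfsg.Agent.Helper79.CharComplete
import Cfsg.Agent.Helper76.ClassSizeSylow
import Cfsg.Agent.Helper74.CharCount

/-!
# Groups with a normal `p`-complement and a unique character of degree divisible by `p`
(helper75), part C: the Glauberman count and the classes of `p'`-size.
-/

set_option autoImplicit false

namespace Cfsg.Agent.Helper75

open Cfsg
open scoped ComplexConjugate

universe u

section Action

variable {G : Type u} [Group G]

/-- The conjugation action of a subgroup `S` on a normal subgroup `N`. -/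
@[reducible] def subConjAction (S N : Subgroup G) [hN : N.Normal] : MulDistribMulAction S N :=
  MulDistribMulAction.compHom N ((MulAut.conjNormal (H := N)).comp S.subtype)

theorem subConjAction_coe (S N : Subgroup G) [hN : N.Normal] (s : S) (n : N) :
    ((letI := subConjAction S N; s • n : N) : G) = (s : G) * n * (s : G)⁻¹ := rfl

/-- The size of a conjugacy class is the index of the centralizer. -/
theorem card_carrier_mk (g : G) :
    Nat.card (ConjClasses.mk g).carrier = (Subgroup.centralizer ({g} : Set G)).index := by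
  rw [← Helper74.card_isConj_eq_index g]
  apply Nat.card_congr
  refine Equiv.subtypeEquivRight (fun y => ?_)
  rw [ConjClasses.mem_carrier_iff_mk_eq, ConjClasses.mk_eq_mk_iff_isConj]

end Action

section OPD

variable {G : Type u} [Group G] [Fintype G] {p : ℕ} [hp : Fact p.Prime] {N : Subgroup G}
  [hN : N.Normal] [Fintype N]

attribute [local instance] subConjAction

omit [Fintype G] [Fintype N] in
theorem OnePDiv.coprime_index [Finite G] (h : OnePDiv p N) (P : Sylow p G) :
    Nat.Coprime N.index (P : Subgroup G).index := by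
  obtain ⟨k, hk⟩ := h.hidx
  rw [hk]
  exact Nat.Coprime.pow_left k ((Nat.Prime.coprime_iff_not_dvd hp.out).mpr P.not_dvd_index)

omit [Fintype G] [Fintype N] in
theorem OnePDiv.disjoint [Finite G] (h : OnePDiv p N) (P : Sylow p G) {x : G} (hxN : x ∈ N)
    (hxP : x ∈ (P : Subgroup G)) : x = 1 := by
  have h1 : orderOf x ∣ Nat.card N := by
    have := orderOf_dvd_natCard (⟨x, hxN⟩ : N)
    rwa [Subgroup.orderOf_mk] at this
  obtain ⟨j, hj⟩ := IsPGroup.iff_orderOf.mp P.2 (⟨x, hxP⟩ : (P : Subgroup G))
  have h2 : orderOf x = p ^ j := by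
    rw [← hj, Subgroup.orderOf_mk]
  rw [h2] at h1
  have h3 : Nat.Coprime (p ^ j) (Nat.card N) := Nat.Coprime.pow_left j h.hNp.symm
  have h4 : p ^ j = 1 := Nat.Coprime.eq_one_of_dvd h3 h1
  rw [h4] at h2
  exact orderOf_eq_one_iff.mp h2

/-- A Sylow `p`-subgroup is abelian. -/
theorem OnePDiv.sylow_comm (h : OnePDiv p N) (P : Sylow p G) :
    ∀ a ∈ (P : Subgroup G), ∀ b ∈ (P : Subgroup G), a * b = b * a := by
  intro a ha b hb
  have h1 := h.quotient_comm (a : G ⧸ N) (b : G ⧸ N)
  have h2 : ((a * b : G) : G ⧸ N) = ((b * a : G) : G ⧸ N) := by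
    rw [QuotientGroup.mk_mul, QuotientGroup.mk_mul]
    exact h1
  rw [QuotientGroup.eq] at h2
  have h3 : (a * b)⁻¹ * (b * a) ∈ (P : Subgroup G) :=
    (P : Subgroup G).mul_mem ((P : Subgroup G).inv_mem ((P : Subgroup G).mul_mem ha hb))
      ((P : Subgroup G).mul_mem hb ha)
  have h4 := h.disjoint P h2 h3
  exact (inv_mul_eq_one.mp h4)

/-- The order of a Sylow `p`-subgroup is the index of `N`. -/
theorem OnePDiv.card_sylow (h : OnePDiv p N) (P : Sylow p G) :
    Nat.card (P : Subgroup G) = N.index := by
  classical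
  rw [Subgroup.index_eq_card]
  apply Nat.card_congr
  refine Equiv.ofBijective (fun u : (P : Subgroup G) => ((u : G) : G ⧸ N)) ⟨?_, ?_⟩
  · intro u v huv
    have h1 : ((u : G) : G ⧸ N) = ((v : G) : G ⧸ N) := huv
    rw [QuotientGroup.eq] at h1
    have h2 : (u : G)⁻¹ * v ∈ (P : Subgroup G) :=
      (P : Subgroup G).mul_mem ((P : Subgroup G).inv_mem u.2) v.2
    have := h.disjoint P h1 h2
    exact Subtype.ext (inv_mul_eq_one.mp this)
  · intro x
    obtain ⟨g, rfl⟩ := QuotientGroup.mk_surjective x
    obtain ⟨u, hu, n, hn, rfl⟩ := Helper9.exists_mul_of_coprime_index (P : Subgroup G) N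
      (h.coprime_index P).symm g
    refine ⟨⟨u, hu⟩, ?_⟩
    show ((u : G) : G ⧸ N) = ((u * n : G) : G ⧸ N)
    rw [QuotientGroup.eq]
    have : u⁻¹ * (u * n) = n := by group
    rw [this]
    exact hn

/-- **Glauberman count**: the number of invariant irreducible characters of `N` is the class number
of the fixed-point subgroup of a Sylow `p`-subgroup. -/
theorem OnePDiv.card_inv (h : OnePDiv p N) (P : Sylow p G) :
    Nat.card (InvIrrN N)
      = Nat.card (ConjClasses (FixedPoints.subgroup (P : Subgroup G) N)) := by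
  classical
  have e : InvIrrN N ≃ Helper81.InvIrr (P : Subgroup G) N := by
    refine Equiv.subtypeEquivRight (fun θ => ?_)
    constructor
    · intro hinv s n
      have h1 := congrFun (hinv (s : G)) n
      rw [Helper15.conjFun_apply] at h1
      rw [← h1]
      congr 1
    · intro hinv g
      obtain ⟨n, hn, u, hu, rfl⟩ := Helper9.exists_mul_of_coprime_index N (P : Subgroup G)
        (h.coprime_index P) g
      rw [Helper15.conjFun_mul, Helper15.conjFun_of_mem N
        (Helper74.isClassFunction_of_isCharacter (Helper74.isCharacter_of_isIrr θ.2)) hn]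
      funext m
      rw [Helper15.conjFun_apply]
      have h1 := hinv ⟨u, hu⟩ m
      rw [← h1]
      congr 1
  rw [Nat.card_congr e]
  have hnilP : Group.IsNilpotent (P : Subgroup G) := P.2.isNilpotent
  have hsolv : Group.IsSolvable (P : Subgroup G) := inferInstance
  have hcop : (Nat.card N).Coprime (Nat.card (P : Subgroup G)) := by
    obtain ⟨j, hj⟩ := P.2.exists_card_eq
    rw [hj]
    exact Nat.Coprime.pow_right j h.hNp
  rw [Helper81.card_invIrr_eq_card_irr_fixed (P : Subgroup G) N hsolv hcop,
    Helper79.card_irr_eq_card_conjClasses]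

end OPD

end Cfsg.Agent.Helper75
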