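import Cfsg.Agent.Helper75.OnePDivC

/-!
# Groups with a normal `p`-complement and a unique character of degree divisible by `p`
(helper75), part D: the conjugacy classes of size prime to `p`, and the final count.
-/

set_option autoImplicit false

namespace Cfsg.Agent.Helper75

open Cfsg
open scoped ComplexConjugate

universe u

section Fixed

variable {G : Type u} [Group G] (P N : Subgroup G) [hN : N.Normal]

attribute [local instance] subConjAction

/-- Fixed points commute with the acting subgroup. -/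
theorem fixed_comm (c : FixedPoints.subgroup P N) (u : G) (hu : u ∈ P) :
    u * ((c : N) : G) = ((c : N) : G) * u := by
  have h1 := (FixedPoints.mem_subgroup (M := P) (α := N) (c : N)).mp c.2 ⟨u, hu⟩
  have h2 := congrArg (fun x : N => (x : G)) h1
  have h3 : u * ((c : N) : G) * u⁻¹ = ((c : N) : G) := h2
  calc u * ((c : N) : G) = (u * ((c : N) : G) * u⁻¹) * u := by group
    _ = ((c : N) : G) * u := by rw [h3]

/-- An element of `N` commuting with `P` is a fixed point. -/
theorem exists_fixed_of_comm {n : G} (hn : n ∈ N) (hc : ∀ u ∈ P, u * n = n * u) :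
    ∃ c : FixedPoints.subgroup P N, ((c : N) : G) = n := by
  refine ⟨⟨⟨n, hn⟩, (FixedPoints.mem_subgroup (M := P) (α := N) _).mpr (fun u => ?_)⟩, rfl⟩
  apply Subtype.ext
  show (u : G) * n * (u : G)⁻¹ = n
  rw [hc u u.2]
  group

/-- The map `(u, [c]) ↦ [u c]` from `P × Cl(C_N(P))` to the classes of `G`. -/
noncomputable def pClassMap (x : P × ConjClasses (FixedPoints.subgroup P N)) : ConjClasses G :=
  Quotient.liftOn x.2 (fun c => ConjClasses.mk ((x.1 : G) * ((c : N) : G))) (by
    intro c c' hcc'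
    have hcc : IsConj c c' := hcc'
    obtain ⟨d, hd⟩ := isConj_iff.mp hcc
    show ConjClasses.mk ((x.1 : G) * ((c : N) : G)) = ConjClasses.mk ((x.1 : G) * ((c' : N) : G))
    rw [ConjClasses.mk_eq_mk_iff_isConj, isConj_iff]
    refine ⟨((d : N) : G), ?_⟩
    have h1 : ((c' : N) : G) = ((d : N) : G) * ((c : N) : G) * ((d : N) : G)⁻¹ := by
      rw [← hd]
      rfl
    have h2 := fixed_comm P N d (x.1 : G) x.1.2
    rw [h1]
    calc ((d : N) : G) * ((x.1 : G) * ((c : N) : G)) * ((d : N) : G)⁻¹
        = (((d : N) : G) * (x.1 : G)) * ((c : N) : G) * ((d : N) : G)⁻¹ := by group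
      _ = ((x.1 : G) * ((d : N) : G)) * ((c : N) : G) * ((d : N) : G)⁻¹ := by rw [h2]
      _ = (x.1 : G) * (((d : N) : G) * ((c : N) : G) * ((d : N) : G)⁻¹) := by group)

theorem pClassMap_mk (u : P) (c : FixedPoints.subgroup P N) :
    pClassMap P N (u, ConjClasses.mk c) = ConjClasses.mk ((u : G) * ((c : N) : G)) := rfl

end Fixed

section OPD

variable {G : Type u} [Group G] [Fintype G] {p : ℕ} [hp : Fact p.Prime] {N : Subgroup G}
  [hN : N.Normal] [Fintype N]

attribute [local instance] subConjAction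

/-- `u c` commutes with `P`. -/
theorem OnePDiv.mul_fixed_comm (h : OnePDiv p N) (P : Sylow p G) (u : (P : Subgroup G))
    (c : FixedPoints.subgroup (P : Subgroup G) N) (s : G) (hs : s ∈ (P : Subgroup G)) :
    s * ((u : G) * ((c : N) : G)) = ((u : G) * ((c : N) : G)) * s := by
  have h1 := h.sylow_comm P s hs u u.2
  have h2 := fixed_comm (P : Subgroup G) N c s hs
  calc s * ((u : G) * ((c : N) : G)) = (s * (u : G)) * ((c : N) : G) := by group
    _ = ((u : G) * s) * ((c : N) : G) := by rw [h1]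
    _ = (u : G) * (s * ((c : N) : G)) := by group
    _ = (u : G) * (((c : N) : G) * s) := by rw [h2]
    _ = ((u : G) * ((c : N) : G)) * s := by group

/-- An element commuting with `P` has a class of size prime to `p`. -/
theorem OnePDiv.not_dvd_of_comm (P : Sylow p G) {z : G}
    (hz : ∀ s ∈ (P : Subgroup G), s * z = z * s) :
    ¬ p ∣ Nat.card (ConjClasses.mk z).carrier := by
  rw [card_carrier_mk]
  intro hd
  apply P.not_dvd_index
  have hle : (P : Subgroup G) ≤ Subgroup.centralizer ({z} : Set G) := by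
    intro s hs
    rw [Subgroup.mem_centralizer_singleton_iff]
    exact hz s hs
  exact dvd_trans hd (Subgroup.index_dvd_of_le hle)

/-- An element of `N` normalizing `P` centralizes `P`. -/
theorem OnePDiv.comm_of_mem_normalizer (h : OnePDiv p N) (P : Sylow p G) {m : G} (hm : m ∈ N)
    (hmn : m ∈ Subgroup.normalizer ((P : Subgroup G) : Set G)) (s : G)
    (hs : s ∈ (P : Subgroup G)) : s * m = m * s := by
  have h1 : m * s * m⁻¹ ∈ (P : Subgroup G) := (Subgroup.mem_normalizer_iff.mp hmn s).mp hs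
  have h2 : m * s * m⁻¹ * s⁻¹ ∈ (P : Subgroup G) :=
    (P : Subgroup G).mul_mem h1 ((P : Subgroup G).inv_mem hs)
  have h3 : m * s * m⁻¹ * s⁻¹ ∈ N := by
    have h4 : s * m⁻¹ * s⁻¹ ∈ N := hN.conj_mem m⁻¹ (N.inv_mem hm) s
    have h5 : m * s * m⁻¹ * s⁻¹ = m * (s * m⁻¹ * s⁻¹) := by group
    rw [h5]
    exact N.mul_mem hm h4
  have h6 := h.disjoint P h3 h2
  have h7 : m * s = (m * s * m⁻¹ * s⁻¹) * (s * m) := by group
  rw [h7, h6, one_mul]

/-- **The classes of size prime to `p`** are parametrized by `P × Cl(C_N(P))`. -/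
theorem OnePDiv.card_pPrime_classes (h : OnePDiv p N) (P : Sylow p G) :
    Nat.card {C : ConjClasses G // ¬ p ∣ Nat.card C.carrier}
      = Nat.card (P : Subgroup G)
        * Nat.card (ConjClasses (FixedPoints.subgroup (P : Subgroup G) N)) := by
  classical
  rw [← Nat.card_prod]
  symm
  have hmem : ∀ x : ↥(P : Subgroup G) × ConjClasses (FixedPoints.subgroup (P : Subgroup G) N),
      ¬ p ∣ Nat.card (pClassMap (P : Subgroup G) N x).carrier := by
    rintro ⟨u, C⟩
    induction C using Quotient.inductionOn with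
    | h c =>
      show ¬ p ∣ Nat.card (pClassMap (P : Subgroup G) N (u, ConjClasses.mk c)).carrier
      rw [pClassMap_mk]
      exact OnePDiv.not_dvd_of_comm P (h.mul_fixed_comm P u c)
  apply Nat.card_congr
  refine Equiv.ofBijective (fun x => ⟨pClassMap (P : Subgroup G) N x, hmem x⟩) ⟨?_, ?_⟩
  · -- injectivity
    rintro ⟨u, C⟩ ⟨u', C'⟩ hxy
    induction C using Quotient.inductionOn with
    | h c =>
    induction C' using Quotient.inductionOn with
    | h c' =>
    have h1 : pClassMap (P : Subgroup G) N (u, ConjClasses.mk c)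
        = pClassMap (P : Subgroup G) N (u', ConjClasses.mk c') := congrArg Subtype.val hxy
    rw [pClassMap_mk, pClassMap_mk, ConjClasses.mk_eq_mk_iff_isConj, isConj_iff] at h1
    obtain ⟨g, hg⟩ := h1
    -- Burnside's fusion lemma
    have hx : (u : G) * ((c : N) : G) ∈ Subgroup.centralizer ((P : Subgroup G) : Set G) := by
      rw [Subgroup.mem_centralizer_iff]
      intro s hs
      exact h.mul_fixed_comm P u c s hs
    have hy : (g⁻¹)⁻¹ * ((u : G) * ((c : N) : G)) * g⁻¹
        ∈ Subgroup.centralizer ((P : Subgroup G) : Set G) := by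
      rw [inv_inv, hg, Subgroup.mem_centralizer_iff]
      intro s hs
      exact h.mul_fixed_comm P u' c' s hs
    obtain ⟨n, hn, hnx⟩ := Sylow.conj_eq_normalizer_conj_of_mem_centralizer P _ g⁻¹ hx hy
    rw [inv_inv, hg] at hnx
    -- decompose `n⁻¹ = m v`
    obtain ⟨m, hm, v, hv, hmv⟩ := Helper9.exists_mul_of_coprime_index N (P : Subgroup G)
      (h.coprime_index P) n⁻¹
    have hmn : m ∈ Subgroup.normalizer ((P : Subgroup G) : Set G) := by
      have h2 : m = n⁻¹ * v⁻¹ := by rw [hmv]; group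
      rw [h2]
      exact Subgroup.mul_mem _ (Subgroup.inv_mem _ hn)
        (Subgroup.le_normalizer ((P : Subgroup G).inv_mem hv))
    have hmc := h.comm_of_mem_normalizer P hm hmn
    obtain ⟨cm, hcm⟩ := exists_fixed_of_comm (P : Subgroup G) N hm hmc
    -- compute
    have hvu := h.mul_fixed_comm P u c v hv
    have hmu : (u : G) * m = m * (u : G) := hmc (u : G) u.2
    have h3 : (u' : G) * ((c' : N) : G) = (u : G) * (m * ((c : N) : G) * m⁻¹) := by
      rw [hnx]
      have hn' : n = (m * v)⁻¹ := by rw [← hmv, inv_inv]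
      rw [hn', inv_inv]
      calc m * v * ((u : G) * ((c : N) : G)) * (m * v)⁻¹
          = m * (v * ((u : G) * ((c : N) : G))) * v⁻¹ * m⁻¹ := by group
        _ = m * (((u : G) * ((c : N) : G)) * v) * v⁻¹ * m⁻¹ := by rw [hvu]
        _ = (m * (u : G)) * ((c : N) : G) * m⁻¹ := by group
        _ = ((u : G) * m) * ((c : N) : G) * m⁻¹ := by rw [hmu]
        _ = (u : G) * (m * ((c : N) : G) * m⁻¹) := by group
    have h4 : (u : G)⁻¹ * (u' : G) = (m * ((c : N) : G) * m⁻¹) * ((c' : N) : G)⁻¹ := by
      have : (u : G)⁻¹ * ((u' : G) * ((c' : N) : G)) * ((c' : N) : G)⁻¹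
          = (u : G)⁻¹ * ((u : G) * (m * ((c : N) : G) * m⁻¹)) * ((c' : N) : G)⁻¹ := by rw [h3]
      calc (u : G)⁻¹ * (u' : G)
          = (u : G)⁻¹ * ((u' : G) * ((c' : N) : G)) * ((c' : N) : G)⁻¹ := by group
        _ = (u : G)⁻¹ * ((u : G) * (m * ((c : N) : G) * m⁻¹)) * ((c' : N) : G)⁻¹ := this
        _ = (m * ((c : N) : G) * m⁻¹) * ((c' : N) : G)⁻¹ := by group
    have h5 : (u : G)⁻¹ * (u' : G) ∈ (P : Subgroup G) :=
      (P : Subgroup G).mul_mem ((P : Subgroup G).inv_mem u.2) u'.2
    have h6 : (u : G)⁻¹ * (u' : G) ∈ N := by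
      rw [h4]
      exact N.mul_mem (N.mul_mem (N.mul_mem hm (c : N).2) (N.inv_mem hm))
        (N.inv_mem (c' : N).2)
    have h7 := h.disjoint P h6 h5
    have huu' : u = u' := Subtype.ext (inv_mul_eq_one.mp h7)
    have h8 : ((c' : N) : G) = m * ((c : N) : G) * m⁻¹ := by
      rw [h7] at h4
      have := h4.symm
      rw [mul_inv_eq_one] at this
      exact this.symm
    have hconj : IsConj c c' := by
      rw [isConj_iff]
      refine ⟨cm, ?_⟩
      apply Subtype.ext
      apply Subtype.ext
      show ((cm : N) : G) * ((c : N) : G) * ((cm : N) : G)⁻¹ = ((c' : N) : G)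
      rw [hcm, h8]
    have hcc' : (ConjClasses.mk c : ConjClasses (FixedPoints.subgroup (P : Subgroup G) N))
        = ConjClasses.mk c' := ConjClasses.mk_eq_mk_iff_isConj.mpr hconj
    exact Prod.ext huu' hcc'
  · -- surjectivity
    rintro ⟨C, hC⟩
    induction C using Quotient.inductionOn with
    | h g =>
    have hC' : ¬ p ∣ Nat.card (ConjClasses.mk g).carrier := hC
    rw [card_carrier_mk] at hC'
    obtain ⟨P', hP'⟩ := Helper76.exists_sylow_le_of_not_dvd_index'
      (Subgroup.centralizer ({g} : Set G)) hC'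
    obtain ⟨x, hx⟩ := MulAction.exists_smul_eq G P' P
    -- `z = x g x⁻¹` commutes with `P`
    have hz : ∀ s ∈ (P : Subgroup G), s * (x * g * x⁻¹) = (x * g * x⁻¹) * s := by
      intro s hs
      have hs' : s ∈ ((x • P' : Sylow p G) : Subgroup G) := by rw [hx]; exact hs
      rw [Sylow.coe_subgroup_smul, Subgroup.mem_pointwise_smul_iff_inv_smul_mem] at hs'
      have hs'' : x⁻¹ * s * x ∈ (P' : Subgroup G) := by simpa [MulAut.smul_def] using hs'
      have h1 := hP' hs''
      rw [Subgroup.mem_centralizer_singleton_iff] at h1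
      calc s * (x * g * x⁻¹) = x * ((x⁻¹ * s * x) * g) * x⁻¹ := by group
        _ = x * (g * (x⁻¹ * s * x)) * x⁻¹ := by rw [h1]
        _ = (x * g * x⁻¹) * s := by group
    obtain ⟨u, hu, n, hn, hun⟩ := Helper9.exists_mul_of_coprime_index (P : Subgroup G) N
      (h.coprime_index P).symm (x * g * x⁻¹)
    have hnc : ∀ s ∈ (P : Subgroup G), s * n = n * s := by
      intro s hs
      have h1 : n = u⁻¹ * (x * g * x⁻¹) := by rw [hun]; group
      have h2 := h.sylow_comm P s hs u⁻¹ ((P : Subgroup G).inv_mem hu)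
      rw [h1]
      calc s * (u⁻¹ * (x * g * x⁻¹)) = (s * u⁻¹) * (x * g * x⁻¹) := by group
        _ = (u⁻¹ * s) * (x * g * x⁻¹) := by rw [h2]
        _ = u⁻¹ * (s * (x * g * x⁻¹)) := by group
        _ = u⁻¹ * ((x * g * x⁻¹) * s) := by rw [hz s hs]
        _ = u⁻¹ * (x * g * x⁻¹) * s := by group
    obtain ⟨c, hc⟩ := exists_fixed_of_comm (P : Subgroup G) N hn hnc
    refine ⟨(⟨u, hu⟩, ConjClasses.mk c), ?_⟩
    apply Subtype.ext
    show pClassMap (P : Subgroup G) N (⟨u, hu⟩, ConjClasses.mk c) = ConjClasses.mk g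
    rw [pClassMap_mk, hc, ← hun, ConjClasses.mk_eq_mk_iff_isConj, isConj_iff]
    exact ⟨x⁻¹, by group⟩

/-- **Main theorem**: exactly one conjugacy class has size divisible by `p`. -/
theorem OnePDiv.card_classes (h : OnePDiv p N) :
    Nat.card {C : ConjClasses G // p ∣ Nat.card C.carrier} = 1 := by
  classical
  obtain ⟨P⟩ : Nonempty (Sylow p G) := inferInstance
  have h1 := h.card_irr
  rw [Helper79.card_irr_eq_card_conjClasses, h.card_inv P] at h1
  have h2 := h.card_pPrime_classes P
  rw [h.card_sylow P] at h2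
  have h3 : Nat.card (ConjClasses G) = Nat.card {C : ConjClasses G // p ∣ Nat.card C.carrier}
      + Nat.card {C : ConjClasses G // ¬ p ∣ Nat.card C.carrier} := by
    rw [← Nat.card_sum]
    exact Nat.card_congr (Equiv.sumCompl (fun C : ConjClasses G => p ∣ Nat.card C.carrier)).symm
  omega

end OPD

end Cfsg.Agent.Helper75
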