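import Cfsg.Agent.Helper5.OutD4Defs
import Cfsg.Agent.Helper96.OutChevB

/-!
# Piece (P6) of helper5's plan for S2607/S2608: an inner automorphism of `D₄(F)` acting on the
fundamental root elements through `(π, c, σ)` has `π = 1`, `σ = 1` and square invariants.
-/

set_option autoImplicit false

namespace Cfsg.Agent.Helper75.OutD4P

open Cfsg Cfsg.Lie Cfsg.Agent.Helper96.OutChev Cfsg.Agent.Helper36 Cfsg.Agent.Helper5.OutD4

variable {F : Type*} [Field F]

section general

variable (D : ChevalleyDatum)
  (hD : D ∈ [chevG2, chevB2, chevD4, chevF4, chevE6, chevE7, chevE8])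

include hD in
/-- an element inducing an automorphism that preserves `U` and `V` lies in `H` -/
theorem mem_diagonal_of_inner (hN : NormHyp F D) (θ : ↥(D.group F) ≃* ↥(D.group F))
    (x : ↥(D.group F)) (hx : ∀ y, θ y = x * y * x⁻¹) (hU : PresU D θ) (hV : PresV D θ) :
    (x : GL D.Idx F) ∈ D.diagonalSubgroup F := by
  have hxB : (x : GL D.Idx F) ∈ D.borelSubgroup F := by
    apply hN.1 _ x.2
    intro u hu
    have huG : u ∈ D.group F := by
      have : D.posUnipotent F ≤ D.group F := by
        unfold ChevalleyDatum.posUnipotent ChevalleyDatum.group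
        rw [Subgroup.closure_le]
        rintro g ⟨r, t, hr, hg⟩
        have hr' : r < D.nroots := hr.1
        refine Subgroup.subset_closure ⟨⟨r, hr'⟩, t, ?_⟩
        rw [hg]
        unfold ChevalleyDatum.x
        rw [dif_pos hr']
      exact this hu
    have := hU ⟨u, huG⟩ hu
    rw [hx] at this
    exact this
  have hxV : (x : GL D.Idx F) ∈ D.negUnipotent F ⊔ D.diagonalSubgroup F := by
    apply hN.2 _ x.2
    intro u hu
    have huG : u ∈ D.group F := by
      have : D.negUnipotent F ≤ D.group F := by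
        unfold ChevalleyDatum.negUnipotent ChevalleyDatum.group
        rw [Subgroup.closure_le]
        rintro g ⟨r, t, hr, hg⟩
        have hr' : r < D.nroots := hr.1
        refine Subgroup.subset_closure ⟨⟨r, hr'⟩, t, ?_⟩
        rw [hg]
        unfold ChevalleyDatum.x
        rw [dif_pos hr']
      exact this hu
    have := hV ⟨u, huG⟩ hu
    rw [hx] at this
    exact this
  rw [← (Cfsg.Agent.S1037.result (F := F) D hD).2]
  exact ⟨hxB, hxV⟩

end general

/-- the exponent of `h_s(t)` on `x_{p₀}` plus that on `x_{p₂}` (resp. `x_{p₃}`) is even -/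
theorem pairing_even : ∀ s < chevD4.nroots,
    Even (Cfsg.Agent.Helper18.pairing' chevD4 s (chevD4.simple d40) +
      Cfsg.Agent.Helper18.pairing' chevD4 s (chevD4.simple d42)) ∧
    Even (Cfsg.Agent.Helper18.pairing' chevD4 s (chevD4.simple d40) +
      Cfsg.Agent.Helper18.pairing' chevD4 s (chevD4.simple d43)) := by
  decide +kernel

theorem isSquare_zpow_of_even {t : F} (ht : t ≠ 0) {a b : ℤ} (h : Even (a + b)) :
    IsSquare (t ^ a * t ^ b) := by
  obtain ⟨k, hk⟩ := h
  exact ⟨t ^ k, by rw [← zpow_add₀ ht, hk, zpow_add₀ ht]⟩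

/-- the characters of elements of `H` on the root subgroups, with the square invariants of `D₄` -/
theorem diagonalSubgroup_char_sq (k : GL chevD4.Idx F) (hk : k ∈ chevD4.diagonalSubgroup F) :
    ∃ χ : ℕ → F, (∀ s, χ s ≠ 0) ∧
      (∀ r < chevD4.nroots, ∀ t : F, k * Cfsg.Agent.Helper18.xGL chevD4 F r t =
        Cfsg.Agent.Helper18.xGL chevD4 F r (χ r * t) * k) ∧
      IsSquare (χ (chevD4.simple d40) * χ (chevD4.simple d42)) ∧
      IsSquare (χ (chevD4.simple d40) * χ (chevD4.simple d43)) := by
  unfold ChevalleyDatum.diagonalSubgroup at hk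
  induction hk using Subgroup.closure_induction with
  | mem g hg =>
    obtain ⟨s, t, hs, ht, hgm⟩ := hg
    refine ⟨fun u => t ^ Cfsg.Agent.Helper18.pairing' chevD4 s u, fun u => zpow_ne_zero _ ht,
      fun r hr a => ?_, ?_, ?_⟩
    · exact Cfsg.Agent.Helper18.hMat_comm_xGL chevD4 hD4 g s hs t ht hgm r hr a
    · exact isSquare_zpow_of_even ht (pairing_even s hs).1
    · exact isSquare_zpow_of_even ht (pairing_even s hs).2
  | one =>
    exact ⟨fun _ => 1, fun _ => one_ne_zero, fun r _ a => by simp, ⟨1, by simp⟩, ⟨1, by simp⟩⟩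
  | mul g g' _ _ ih ih' =>
    obtain ⟨χ, hχ, hc, h2, h3⟩ := ih
    obtain ⟨χ', hχ', hc', h2', h3'⟩ := ih'
    refine ⟨fun s => χ s * χ' s, fun s => mul_ne_zero (hχ s) (hχ' s), fun r hr a => ?_, ?_, ?_⟩
    · rw [mul_assoc, hc' r hr a, ← mul_assoc, hc r hr, mul_assoc, mul_assoc]
    · have := h2.mul h2'
      rwa [mul_mul_mul_comm] at this
    · have := h3.mul h3'
      rwa [mul_mul_mul_comm] at this
  | inv g _ ih =>
    obtain ⟨χ, hχ, hc, h2, h3⟩ := ih
    refine ⟨fun s => (χ s)⁻¹, fun s => inv_ne_zero (hχ s), fun r hr a => ?_, ?_, ?_⟩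
    · have := hc r hr ((χ r)⁻¹ * a)
      rw [mul_inv_cancel_left₀ (hχ r)] at this
      rw [inv_mul_eq_iff_eq_mul, ← mul_assoc, this, mul_inv_cancel_right]
    · have := h2.inv
      rwa [mul_inv] at this
    · have := h3.inv
      rwa [mul_inv] at this

theorem simple_injective : ∀ i j : Fin chevD4.rank, chevD4.simple i = chevD4.simple j → i = j := by
  decide +kernel

theorem isPosRoot_simple : ∀ i : Fin chevD4.rank, chevD4.IsPosRoot (chevD4.simple i) := by
  decide +kernel

/-- units whose product is a square in `F` have a square product in `Fˣ` -/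
theorem isSquare_units {u : Fˣ} (h : IsSquare (u : F)) : IsSquare u := by
  obtain ⟨a, ha⟩ := h
  have ha0 : a ≠ 0 := by
    rintro rfl
    rw [mul_zero] at ha
    exact u.ne_zero ha
  exact ⟨Units.mk0 a ha0, Units.ext (by rw [Units.val_mul, Units.val_mk0, ha])⟩

/-- **(P6)** with the preservation of `U` and `V` as hypotheses -/
theorem of_actsBy_conj_aux (hN : NormHyp F chevD4) (x : ↥(chevD4.group F))
    (π : Equiv.Perm (Fin 3)) (c : Fin chevD4.rank → Fˣ) (σ : F ≃+* F)
    (h : ActsBy (MulAut.conj x) (emb π) c σ)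
    (hU : PresU chevD4 (MulAut.conj x)) (hV : PresV chevD4 (MulAut.conj x)) :
    π = 1 ∧ σ = 1 ∧ SqC c := by
  have hxH := mem_diagonal_of_inner chevD4 hD4 hN (MulAut.conj x) x
    (fun y => MulAut.conj_apply x y) hU hV
  obtain ⟨χ, hχ0, hc, hsq2, hsq3⟩ := diagonalSubgroup_char_sq _ hxH
  -- the action of `conj x` on all root elements, as matrices
  have hval : ∀ r < chevD4.nroots, ∀ t : F,
      ((MulAut.conj x (xg chevD4 hD4 r t) : GL chevD4.Idx F) : Matrix chevD4.Idx chevD4.Idx F) =
        chevD4.x F r (χ r * t) := by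
    intro r hr t
    rw [MulAut.conj_apply, ← xg_val chevD4 hD4 r (χ r * t)]
    congr 1
    show (x : GL chevD4.Idx F) * Cfsg.Agent.Helper18.xGL chevD4 F r t * (x : GL chevD4.Idx F)⁻¹
      = Cfsg.Agent.Helper18.xGL chevD4 F r (χ r * t)
    rw [hc r hr t]
    group
  -- compare with `h`
  have hcmp : ∀ (i : Fin chevD4.rank) (t : F),
      chevD4.x F (chevD4.simple (emb π i)) ((c i : F) * σ t) =
        chevD4.x F (chevD4.simple i) (χ (chevD4.simple i) * t) := by
    intro i t
    have h1 := (h i t).1
    have h2 := congrArg (fun z : ↥(chevD4.group F) =>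
      ((z : GL chevD4.Idx F) : Matrix chevD4.Idx chevD4.Idx F)) h1
    simp only [xg_val] at h2
    rw [← h2]
    exact hval _ (isPosRoot_simple i).1 t
  have hfix : ∀ i : Fin chevD4.rank, emb π i = i := by
    intro i
    by_contra hne
    have hne' : chevD4.simple (emb π i) ≠ chevD4.simple i := fun e => hne (simple_injective _ _ e)
    have h0 := Cfsg.Agent.Helper36.RootSep.eq_zero_of_x_eq (F := F) chevD4 hD4
      (chevD4.simple (emb π i)) (chevD4.simple i) (isPosRoot_simple (emb π i)).1
      (isPosRoot_simple i) hne' _ _ (hcmp i 1)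
    rw [map_one, mul_one] at h0
    exact (c i).ne_zero h0
  have hπ : π = 1 := by
    apply emb_injective
    rw [map_one]
    exact Equiv.ext hfix
  have hscal : ∀ (i : Fin chevD4.rank) (t : F), (c i : F) * σ t = χ (chevD4.simple i) * t := by
    intro i t
    have := hcmp i t
    rw [hfix i] at this
    exact x_injective chevD4 hD4 _ (isPosRoot_simple i).1 _ _ this
  have hci : ∀ i : Fin chevD4.rank, (c i : F) = χ (chevD4.simple i) := by
    intro i
    have := hscal i 1
    rwa [map_one, mul_one, mul_one] at this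
  have hσ : σ = 1 := by
    ext t
    have := hscal d40 t
    rw [← hci d40] at this
    exact mul_left_cancel₀ (c d40).ne_zero this
  refine ⟨hπ, hσ, ?_, ?_⟩
  · apply isSquare_units
    rw [Units.val_mul, hci, hci]
    exact hsq2
  · apply isSquare_units
    rw [Units.val_mul, hci, hci]
    exact hsq3

end Cfsg.Agent.Helper75.OutD4P
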