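import Mathlib

/-!
# (D) of S4489 (WANTED #7718): the number of `E`-embeddings of `E(ζ)` into `ℂ`, `ζ` a primitive
`n`-th root of unity, times `[E : ℚ]`, is at least `φ(n)`.
-/

set_option autoImplicit false

namespace Cfsg.Agent.Helper75.PGF

open IntermediateField

/-- (D) degrees: `E(ζ)/E` has exactly `[E(ζ) : E]` embeddings into `ℂ`, and
`[E(ζ) : E] [E : ℚ] ≥ φ(n)` for a primitive `n`-th root of unity `ζ`. -/
theorem card_algHom_adjoin_mul_ge (E : IntermediateField ℚ ℂ) [FiniteDimensional ℚ ↥E] (ζ : ℂ) (n : ℕ)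
    (hn : 0 < n) (hζ : IsPrimitiveRoot ζ n) :
    n.totient ≤ Nat.card (↥(IntermediateField.adjoin E {ζ}) →ₐ[↥E] ℂ) * Module.finrank ℚ ↥E := by
  have hintZ : IsIntegral ℤ ζ := hζ.isIntegral hn
  have hint : IsIntegral (↥E) ζ := hintZ.tower_top
  have hintQ : IsIntegral ℚ ζ := hintZ.tower_top
  have hsep : IsSeparable (↥E) ζ := (minpoly.irreducible hint).separable
  have hsplits : ((minpoly (↥E) ζ).map (algebraMap (↥E) ℂ)).Splits := IsAlgClosed.splits _
  have hcard := IntermediateField.card_algHom_adjoin_integral (↥E) hint hsep hsplits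
  have hfr := IntermediateField.adjoin.finrank hint
  rw [hcard, ← hfr]
  -- tower law
  haveI : FiniteDimensional (↥E) ↥(IntermediateField.adjoin (↥E) {ζ}) :=
    IntermediateField.adjoin.finiteDimensional hint
  haveI : FiniteDimensional ℚ ↥(IntermediateField.adjoin (↥E) {ζ}) :=
    Module.Finite.trans (↥E) ↥(IntermediateField.adjoin (↥E) {ζ})
  have htower := Module.finrank_mul_finrank ℚ (↥E) ↥(IntermediateField.adjoin (↥E) {ζ})
  rw [mul_comm, htower]
  -- `ℚ(ζ) ≤ E(ζ)`
  have hle : IntermediateField.adjoin ℚ {ζ} ≤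
      (IntermediateField.adjoin (↥E) {ζ}).restrictScalars ℚ := by
    rw [IntermediateField.adjoin_le_iff]
    intro x hx
    rw [Set.mem_singleton_iff] at hx
    subst hx
    exact IntermediateField.mem_adjoin_simple_self (↥E) x
  have hQ : Module.finrank ℚ ↥(IntermediateField.adjoin ℚ {ζ}) = n.totient := by
    rw [IntermediateField.adjoin.finrank hintQ, ← Polynomial.cyclotomic_eq_minpoly_rat hζ hn,
      Polynomial.natDegree_cyclotomic]
  rw [← hQ]
  haveI : FiniteDimensional ℚ ↥((IntermediateField.adjoin (↥E) {ζ}).restrictScalars ℚ) :=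
    inferInstanceAs (FiniteDimensional ℚ ↥(IntermediateField.adjoin (↥E) {ζ}))
  exact IntermediateField.finrank_le_of_le_right hle
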