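import Mathlib
import Cfsg.Prelude.Def_Blocks
import Cfsg.Agent.Helper64.PGFC
import Cfsg.Agent.Helper75.PGFD

/-!
# S4489 assembly, part (CD): the number of constituents with a given kernel.
-/

set_option autoImplicit false

namespace Cfsg.Agent.Helper75.PGF

open Cfsg IntermediateField
open Cfsg.Agent.Helper64.PGF

universe u

/-- (CD) if the sum of the linear characters `ν i` of the finite group `A` has its values in the
field `E` of degree `(p - 1) p ^ t`, and `ν i0` has image of order `p ^ m`, then at least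
`p ^ (m - 1 - t)` of the `ν i` have the same kernel as `ν i0`. -/
theorem class_card_bound {A : Type u} [Group A] [Finite A] (p t m : ℕ) (hp : p.Prime)
    (E : IntermediateField ℚ ℂ) (hE : Module.finrank ℚ ↥E = (p - 1) * p ^ t)
    {ι : Type*} [Fintype ι] (ν : ι → (A →* ℂˣ))
    (hν : ∀ k : A, (∑ i, ((ν i k : ℂˣ) : ℂ)) ∈ E) (i0 : ι)
    (hm : Nat.card ↥(ν i0).range = p ^ m) :
    p ^ (m - 1 - t) ≤ Nat.card {μ' : A →* ℂˣ // μ' ∈ Set.range ν ∧ μ'.ker = (ν i0).ker} := by
  classical
  have hp1 : 1 ≤ p - 1 := by have := hp.two_le; omega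
  have hp0 : 0 < p := hp.pos
  -- the target type is finite and nonempty
  haveI hfinT : Finite {μ' : A →* ℂˣ // μ' ∈ Set.range ν ∧ μ'.ker = (ν i0).ker} := by
    haveI : Finite (Set.range ν) := (Set.finite_range ν).to_subtype
    exact Finite.of_injective
      (fun x : {μ' : A →* ℂˣ // μ' ∈ Set.range ν ∧ μ'.ker = (ν i0).ker} =>
        (⟨x.1, x.2.1⟩ : Set.range ν))
      (fun x y h => Subtype.ext (congrArg (fun z : Set.range ν => (z : A →* ℂˣ)) h))
  haveI : Nonempty {μ' : A →* ℂˣ // μ' ∈ Set.range ν ∧ μ'.ker = (ν i0).ker} :=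
    ⟨⟨ν i0, ⟨i0, rfl⟩, rfl⟩⟩
  by_cases hmt : m - 1 - t = 0
  · rw [hmt, pow_zero]
    exact Nat.card_pos
  have hm1 : 1 ≤ m := by omega
  -- a generator of the (cyclic) image of `ν i0`
  haveI : Finite ↥(ν i0).range := Finite.of_surjective (ν i0).rangeRestrict
    (ν i0).rangeRestrict_surjective
  obtain ⟨g, hg⟩ := IsCyclic.exists_generator (α := ↥(ν i0).range)
  obtain ⟨k0, hk0⟩ : ∃ k0, ν i0 k0 = (g : ℂˣ) := g.2
  have hordg : orderOf g = p ^ m := by
    rw [orderOf_eq_card_of_forall_mem_zpowers hg, hm]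
  have hord : orderOf (ν i0 k0) = p ^ m := by
    rw [hk0, Subgroup.orderOf_coe, hordg]
  have hfo : IsOfFinOrder (ν i0 k0) := by
    rw [← orderOf_pos_iff, hord]; positivity
  have hgen : ∀ k : A, ∃ s : ℕ, ν i0 k = ν i0 k0 ^ s := by
    intro k
    have h1 : (⟨ν i0 k, ⟨k, rfl⟩⟩ : ↥(ν i0).range) ∈ Subgroup.zpowers g := hg _
    have h2 : ν i0 k ∈ Subgroup.zpowers (ν i0 k0) := by
      obtain ⟨z, hz⟩ := Subgroup.mem_zpowers_iff.mp h1
      refine Subgroup.mem_zpowers_iff.mpr ⟨z, ?_⟩
      rw [hk0]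
      have := congrArg (fun x : ↥(ν i0).range => (x : ℂˣ)) hz
      simpa using this
    rw [← hfo.mem_powers_iff_mem_zpowers] at h2
    obtain ⟨s, hs⟩ := (Submonoid.mem_powers_iff _ _).mp h2
    exact ⟨s, hs.symm⟩
  set ζ : ℂ := ((ν i0 k0 : ℂˣ) : ℂ) with hζ
  have hζprim : IsPrimitiveRoot ζ (p ^ m) := by
    have h1 : orderOf ζ = p ^ m := by rw [hζ, orderOf_units, hord]
    rw [← h1]
    exact IsPrimitiveRoot.orderOf ζ
  haveI : FiniteDimensional ℚ ↥E := by
    apply Module.finite_of_finrank_pos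
    rw [hE]; positivity
  -- the number of embeddings
  have hD := card_algHom_adjoin_mul_ge E ζ (p ^ m) (by positivity) hζprim
  rw [Nat.totient_prime_pow hp hm1, hE] at hD
  have hN : p ^ (m - 1 - t) ≤ Nat.card (↥(IntermediateField.adjoin E {ζ}) →ₐ[↥E] ℂ) := by
    have e1 : m - 1 = (m - 1 - t) + t := by omega
    rw [e1, pow_add] at hD
    have h2 : p ^ (m - 1 - t) * p ^ t * (p - 1) ≤
        Nat.card (↥(IntermediateField.adjoin E {ζ}) →ₐ[↥E] ℂ) * p ^ t * (p - 1) := by
      calc p ^ (m - 1 - t) * p ^ t * (p - 1) ≤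
            Nat.card (↥(IntermediateField.adjoin E {ζ}) →ₐ[↥E] ℂ) * ((p - 1) * p ^ t) := hD
        _ = Nat.card (↥(IntermediateField.adjoin E {ζ}) →ₐ[↥E] ℂ) * p ^ t * (p - 1) := by ring
    have h3 := Nat.le_of_mul_le_mul_right h2 (by omega : 0 < p - 1)
    exact Nat.le_of_mul_le_mul_right h3 (by positivity)
  refine hN.trans ?_
  -- the injection from the embeddings into the kernel class
  choose idx hidx using fun τ : ↥(IntermediateField.adjoin E {ζ}) →ₐ[↥E] ℂ =>
    exists_conj_constituent E ν hν i0 k0 hgen τ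
  have hker : ∀ τ, (ν (idx τ)).ker = (ν i0).ker := by
    intro τ
    ext k
    obtain ⟨s, hs⟩ := hgen k
    have h1 := hidx τ k s hs
    have hτpow : τ ⟨ζ, IntermediateField.mem_adjoin_simple_self (↥E) ζ⟩ ^ s =
        τ (⟨ζ, IntermediateField.mem_adjoin_simple_self (↥E) ζ⟩ ^ s) := (map_pow τ _ s).symm
    rw [MonoidHom.mem_ker, MonoidHom.mem_ker]
    constructor
    · intro h
      have h2 : ((ν (idx τ) k : ℂˣ) : ℂ) = 1 := by rw [h]; rfl
      rw [h1, hτpow] at h2
      have h3 : (⟨ζ, IntermediateField.mem_adjoin_simple_self (↥E) ζ⟩ :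
          ↥(IntermediateField.adjoin E {ζ})) ^ s = 1 := by
        have hinj : Function.Injective τ := τ.toRingHom.injective
        apply hinj
        rw [h2, map_one]
      have h4 : ζ ^ s = 1 := by
        have := congrArg (fun x : ↥(IntermediateField.adjoin E {ζ}) => (x : ℂ)) h3
        simpa using this
      rw [hs]
      apply Units.ext
      rw [Units.val_pow_eq_pow_val]
      exact h4
    · intro h
      rw [hs] at h
      have h4 : ζ ^ s = 1 := by
        have := congrArg (fun x : ℂˣ => (x : ℂ)) h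
        simpa [hζ] using this
      apply Units.ext
      rw [h1, hτpow]
      have h3 : (⟨ζ, IntermediateField.mem_adjoin_simple_self (↥E) ζ⟩ :
          ↥(IntermediateField.adjoin E {ζ})) ^ s = 1 := by
        apply Subtype.ext
        simpa using h4
      rw [h3, map_one]
      rfl
  let Φ : (↥(IntermediateField.adjoin E {ζ}) →ₐ[↥E] ℂ) →
      {μ' : A →* ℂˣ // μ' ∈ Set.range ν ∧ μ'.ker = (ν i0).ker} :=
    fun τ => ⟨ν (idx τ), ⟨idx τ, rfl⟩, hker τ⟩
  have hΦ : Function.Injective Φ := by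
    intro τ τ' h
    have h0 : ν (idx τ) = ν (idx τ') := congrArg Subtype.val h
    have h1 := hidx τ k0 1 (pow_one _).symm
    have h2 := hidx τ' k0 1 (pow_one _).symm
    rw [pow_one] at h1 h2
    apply IntermediateField.adjoin_algHom_ext
    intro x hx
    rw [Set.mem_singleton_iff] at hx
    subst hx
    rw [← h1, ← h2, h0]
  exact Nat.card_le_card_of_injective Φ hΦ

end Cfsg.Agent.Helper75.PGF
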