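import Cfsg.Agent.Helper82.PRB.Defs
import Cfsg.Agent.Helper16.DT.Defs
import Cfsg.Agent.Helper77.BlockRank

/-!
# PRB farm (helper82, S4712), leaf (NN): Brauer's permutation lemma on one section

`twisted_norm_nat`: the twisted norm sum over the `p`-regular elements of `H` of a `σ`-stable family
of blocks with `σ`-permuted bases of the `V_b = span {χ° : χ ∈ b}` is `|H|` times a natural number.
Route: `A f = f ∘ σ.symm`; the sum is `|H| * ∑_b trace (A ∘ P_b)`, `P_b = Helper77.blockProj p b`.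
If `σ b = b`, this trace is the trace of `A` on `V_b`, the number of fixed points of the map induced
by `A` on the basis `S b`; if `σ b ≠ b`, `trace (A P_b) = trace (P_b A P_b) = 0` since `P_b` kills
`V_b'` for every block `b' ≠ b`.
-/

set_option autoImplicit false
set_option linter.unusedSectionVars false
set_option linter.unusedVariables false

namespace Cfsg.Agent.Helper75.PRB

open Cfsg Cfsg.Agent.Helper16 Cfsg.Agent.Helper16.DT Cfsg.Agent.Helper82.PRB
open scoped ComplexConjugate

universe u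

section Perm

variable {H : Type u} [Group H] [Fintype H] {M : Ideal AlgInt} {p : ℕ}

/-- At a `p`-regular `x` the restricted inner products may be replaced by the full ones
(the computation inside `Helper77.sum_inner_pRegularPart`). -/
theorem NN_inner_reg (hM : IsPModular p M) {B : Set (IrrCharacter H)} (hB : IsPBlock M B)
    (ψ : IrrCharacter H) (x : H) (hx : ¬ p ∣ orderOf x) :
    ∑ χ ∈ (Set.toFinite B).toFinset,
        classInner (pRegularPart p (ψ : H → ℂ)) (pRegularPart p (χ : H → ℂ)) * (χ : H → ℂ) x =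
      ∑ χ ∈ (Set.toFinite B).toFinset,
        classInner (ψ : H → ℂ) (χ : H → ℂ) * (χ : H → ℂ) x := by
  classical
  simp only [classInner, mul_assoc, Finset.sum_mul]
  rw [← Finset.mul_sum, ← Finset.mul_sum]
  congr 1
  rw [Finset.sum_comm]
  conv_rhs => rw [Finset.sum_comm]
  refine Finset.sum_congr rfl (fun y _ => ?_)
  by_cases hy : p ∣ orderOf y
  · simp only [Helper77.pRegularPart_of_sing hy, zero_mul, Finset.sum_const_zero]
    have h2 := Helper77.weak_block_orthogonality' hM hB x y hx hy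
    rw [finsum_mem_eq_finite_toFinset_sum _ (Set.toFinite B)] at h2
    symm
    calc ∑ χ ∈ (Set.toFinite B).toFinset,
        (ψ : H → ℂ) y * (conj ((χ : H → ℂ) y) * (χ : H → ℂ) x)
        = (ψ : H → ℂ) y * ∑ χ ∈ (Set.toFinite B).toFinset,
          (χ : H → ℂ) x * conj ((χ : H → ℂ) y) := by
          rw [Finset.mul_sum]
          refine Finset.sum_congr rfl (fun χ _ => ?_)
          ring
      _ = 0 := by rw [h2, mul_zero]
  · simp only [Helper77.pRegularPart_of_reg hy]

/-- The projection of the block `b` kills `V_b'` for every block `b' ≠ b`. -/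
theorem NN_blockProj_kill (hM : IsPModular p M) {b b' : Set (IrrCharacter H)}
    (hb : IsPBlock M b) (hb' : IsPBlock M b') (hne : b ≠ b') (f : H → ℂ)
    (hf : f ∈ Submodule.span ℂ
      ((fun χ : IrrCharacter H => pRegularPart p (χ : H → ℂ)) '' b')) :
    Helper77.blockProj p b f = 0 := by
  classical
  have hMp : M.IsPrime := hM.2.1.isPrime
  induction hf using Submodule.span_induction with
  | mem f hf =>
    obtain ⟨ψ, hψ, rfl⟩ := hf
    funext x
    rw [Helper77.blockProj_apply, Finset.sum_apply]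
    simp only [Pi.smul_apply, smul_eq_mul, Pi.zero_apply]
    by_cases hx : p ∣ orderOf x
    · simp only [Helper77.pRegularPart_of_sing hx, mul_zero, Finset.sum_const_zero]
    · simp only [Helper77.pRegularPart_of_reg hx]
      rw [NN_inner_reg hM hb ψ x hx]
      refine Finset.sum_eq_zero (fun χ hχ => ?_)
      have hχb : χ ∈ b := by simpa using hχ
      have hne' : ψ ≠ χ := by
        rintro rfl
        exact hne (Helper78.isPBlock_eq_of_mem_of_mem hMp hb hb' hχb hψ)
      rw [Helper79.classInner_irr_ne hne', zero_mul]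
  | zero => exact map_zero _
  | add f g _ _ hf hg => rw [map_add, hf, hg, add_zero]
  | smul c f _ hf => rw [map_smul, hf, smul_zero]

/-- The trace of `A ∘ P_b`. -/
theorem NN_trace_comp (A : (H → ℂ) →ₗ[ℂ] (H → ℂ)) (b : Set (IrrCharacter H)) :
    LinearMap.trace ℂ (H → ℂ) (A ∘ₗ Helper77.blockProj p b) =
      ∑ χ ∈ (Set.toFinite b).toFinset,
        classInner (A (pRegularPart p (χ : H → ℂ))) (pRegularPart p (χ : H → ℂ)) := by
  have h : A ∘ₗ Helper77.blockProj p b = ∑ χ ∈ (Set.toFinite b).toFinset,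
      (Helper77.innerL (pRegularPart p (χ : H → ℂ))).smulRight
        (A (pRegularPart p (χ : H → ℂ))) := by
    apply LinearMap.ext
    intro f
    rw [LinearMap.comp_apply, Helper77.blockProj_apply, map_sum, LinearMap.sum_apply]
    refine Finset.sum_congr rfl (fun χ _ => ?_)
    rw [map_smul, LinearMap.smulRight_apply, Helper77.innerL_apply]
  rw [h, map_sum]
  refine Finset.sum_congr rfl (fun χ _ => ?_)
  rw [LinearMap.trace_smulRight, Helper77.innerL_apply]

/-- A linear map sending `s` into `t` sends `span s` into `span t`. -/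
theorem NN_map_span (A : (H → ℂ) →ₗ[ℂ] (H → ℂ)) {s t : Set (H → ℂ)}
    (h : ∀ φ ∈ s, A φ ∈ t) :
    ∀ f ∈ Submodule.span ℂ s, A f ∈ Submodule.span ℂ t := by
  intro f hf
  induction hf using Submodule.span_induction with
  | mem f hf => exact Submodule.subset_span (h f hf)
  | zero => rw [map_zero]; exact Submodule.zero_mem _
  | add f g _ _ hf hg => rw [map_add]; exact Submodule.add_mem _ hf hg
  | smul c f _ hf => rw [map_smul]; exact Submodule.smul_mem _ c hf

open Classical in
/-- The twisted norm sum of one block is `|H|` times a trace. -/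
theorem NN_sum_eq (σ : H ≃* H) (b : Set (IrrCharacter H)) :
    (∑ y : H, (if ¬ p ∣ orderOf y then
      ∑ χ : IrrCharacter H, (if χ ∈ b then (1 : ℂ) else 0) *
        ((χ : H → ℂ) (σ.symm y) * conj ((χ : H → ℂ) y)) else 0)) =
    (Nat.card H : ℂ) * LinearMap.trace ℂ (H → ℂ)
      (LinearMap.funLeft ℂ ℂ (σ.symm : H → H) ∘ₗ Helper77.blockProj p b) := by
  have hcard : (Nat.card H : ℂ) ≠ 0 := Helper79.card_ne_zero_complex
  have hsub : ∀ F : IrrCharacter H → ℂ,
      ∑ χ : IrrCharacter H, (if χ ∈ b then (1 : ℂ) else 0) * F χ =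
        ∑ χ ∈ (Set.toFinite b).toFinset, F χ := by
    intro F
    rw [← Finset.sum_subset (Finset.subset_univ (Set.toFinite b).toFinset)]
    · refine Finset.sum_congr rfl (fun χ hχ => ?_)
      rw [if_pos (by simpa using hχ), one_mul]
    · intro χ _ hχ
      rw [if_neg (by simpa using hχ), zero_mul]
  rw [NN_trace_comp]
  simp only [classInner]
  rw [← Finset.mul_sum, ← mul_assoc, mul_inv_cancel₀ hcard, one_mul, Finset.sum_comm]
  refine Finset.sum_congr rfl (fun y _ => ?_)
  by_cases hy : p ∣ orderOf y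
  · rw [if_neg (not_not.2 hy)]
    symm
    refine Finset.sum_eq_zero (fun χ _ => ?_)
    rw [Helper77.pRegularPart_of_sing hy, map_zero, mul_zero]
  · rw [if_pos hy, hsub]
    have hy' : ¬ p ∣ orderOf (σ.symm y) := by rwa [MulEquiv.orderOf_eq]
    refine Finset.sum_congr rfl (fun χ _ => ?_)
    rw [LinearMap.funLeft_apply, Helper77.pRegularPart_of_reg hy,
      Helper77.pRegularPart_of_reg hy']

/-- Case `σ b ≠ b`: the trace vanishes. -/
theorem NN_case_ne (hM : IsPModular p M) {b b' : Set (IrrCharacter H)}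
    (hb : IsPBlock M b) (hb' : IsPBlock M b') (hne : b ≠ b')
    (A : (H → ℂ) →ₗ[ℂ] (H → ℂ))
    (hA : ∀ f ∈ Submodule.span ℂ
        ((fun χ : IrrCharacter H => pRegularPart p (χ : H → ℂ)) '' b),
      A f ∈ Submodule.span ℂ
        ((fun χ : IrrCharacter H => pRegularPart p (χ : H → ℂ)) '' b')) :
    LinearMap.trace ℂ (H → ℂ) (A ∘ₗ Helper77.blockProj p b) = 0 := by
  have hP := Helper77.blockProj_isProj hM hb
  have hPP : Helper77.blockProj p b ∘ₗ Helper77.blockProj p b = Helper77.blockProj p b := by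
    apply LinearMap.ext
    intro f
    rw [LinearMap.comp_apply]
    exact hP.map_id _ (hP.map_mem f)
  have h1 : A ∘ₗ Helper77.blockProj p b =
      (A ∘ₗ Helper77.blockProj p b) * Helper77.blockProj p b := by
    rw [Module.End.mul_eq_comp, LinearMap.comp_assoc, hPP]
  have h2 : Helper77.blockProj p b * (A ∘ₗ Helper77.blockProj p b) = 0 := by
    apply LinearMap.ext
    intro f
    rw [Module.End.mul_apply, LinearMap.comp_apply, LinearMap.zero_apply]
    exact NN_blockProj_kill hM hb hb' hne _ (hA _ (hP.map_mem f))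
  rw [h1, LinearMap.trace_mul_comm, h2, map_zero]

/-- Case `σ b = b`: the trace is the number of fixed points of `A` on the basis `S`. -/
theorem NN_case_eq (hM : IsPModular p M) {b : Set (IrrCharacter H)}
    (hb : IsPBlock M b) (S : Set (H → ℂ))
    (hS1 : LinearIndependent ℂ (fun φ : S => (φ : H → ℂ)))
    (hS2 : Submodule.span ℂ S =
      Submodule.span ℂ ((fun χ : IrrCharacter H => pRegularPart p (χ : H → ℂ)) '' b))
    (A : (H → ℂ) →ₗ[ℂ] (H → ℂ)) (hA : ∀ φ ∈ S, A φ ∈ S) :
    ∃ n : ℕ, LinearMap.trace ℂ (H → ℂ) (A ∘ₗ Helper77.blockProj p b) = (n : ℂ) := by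
  classical
  have hfin : Finite S := hS1.finite
  have : Fintype S := Fintype.ofFinite S
  have hrange : Set.range (fun φ : S => (φ : H → ℂ)) = S := Subtype.range_coe
  have hP0 := Helper77.blockProj_isProj hM hb
  rw [← hS2, ← hrange] at hP0
  -- the basis of `W = span S`
  let B := Module.Basis.span hS1
  have hB : ∀ i : S, ((B i : Submodule.span ℂ (Set.range (fun φ : S => (φ : H → ℂ)))) : H → ℂ)
      = (i : H → ℂ) := fun i => congrArg Subtype.val (Module.Basis.span_apply hS1 i)
  have hAW : ∀ f ∈ Submodule.span ℂ (Set.range (fun φ : S => (φ : H → ℂ))),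
      A f ∈ Submodule.span ℂ (Set.range (fun φ : S => (φ : H → ℂ))) := by
    rw [hrange]
    exact NN_map_span A hA
  have hf : ∀ x, (A ∘ₗ Helper77.blockProj p b) x ∈
      Submodule.span ℂ (Set.range (fun φ : S => (φ : H → ℂ))) := by
    intro x
    rw [LinearMap.comp_apply]
    exact hAW _ (hP0.map_mem x)
  have htr := LinearMap.trace_restrict_eq_of_forall_mem _ (A ∘ₗ Helper77.blockProj p b) hf
  rw [← htr, LinearMap.trace_eq_matrix_trace ℂ B, Matrix.trace]
  let π : S → S := fun i => ⟨A (i : H → ℂ), hA _ i.2⟩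
  have hdiag : ∀ i : S, Matrix.diag (LinearMap.toMatrix B B
      ((A ∘ₗ Helper77.blockProj p b).restrict (fun x _ => hf x))) i =
      if π i = i then (1 : ℂ) else 0 := by
    intro i
    rw [Matrix.diag_apply, LinearMap.toMatrix_apply]
    have h3 : ((A ∘ₗ Helper77.blockProj p b).restrict (fun x _ => hf x)) (B i) = B (π i) := by
      apply Subtype.ext
      rw [LinearMap.coe_restrict_apply, LinearMap.comp_apply, hP0.map_id _ (B i).2, hB, hB]
    rw [h3, Module.Basis.repr_self, Finsupp.single_apply]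
  refine ⟨(Finset.univ.filter (fun i : S => π i = i)).card, ?_⟩
  rw [Finset.sum_congr rfl (fun i _ => hdiag i), Finset.sum_boole]

open Classical in
/-- (NN) Brauer's permutation lemma on the columns of one section, in abstract form. -/
theorem twisted_norm_nat [Fact p.Prime] (hM : IsPModular p M) (σ : H ≃* H)
    (𝔟 : Finset (Set (IrrCharacter H))) (h𝔟 : ∀ b ∈ 𝔟, IsPBlock M b)
    (S : Set (IrrCharacter H) → Set (H → ℂ))
    (hS1 : ∀ b ∈ 𝔟, LinearIndependent ℂ (fun φ : S b => (φ : H → ℂ)))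
    (hS2 : ∀ b ∈ 𝔟, Submodule.span ℂ (S b) =
      Submodule.span ℂ ((fun χ : IrrCharacter H => pRegularPart p (χ : H → ℂ)) '' b))
    (hσ : ∀ b ∈ 𝔟, Helper78.irrMap σ '' b ∈ 𝔟 ∧
      ∀ φ ∈ S b, (fun y => φ (σ.symm y)) ∈ S (Helper78.irrMap σ '' b)) :
    ∃ N : ℕ, ∑ y : H, (if ¬ p ∣ orderOf y then
      ∑ b ∈ 𝔟, ∑ χ : IrrCharacter H, (if χ ∈ b then (1 : ℂ) else 0) *
        ((χ : H → ℂ) (σ.symm y) * conj ((χ : H → ℂ) y)) else 0) = (Nat.card H : ℂ) * (N : ℂ) := by
  have key : ∀ b, ∃ n : ℕ, b ∈ 𝔟 → LinearMap.trace ℂ (H → ℂ)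
      (LinearMap.funLeft ℂ ℂ (σ.symm : H → H) ∘ₗ Helper77.blockProj p b) = (n : ℂ) := by
    intro b
    by_cases hb : b ∈ 𝔟
    swap
    · exact ⟨0, fun h => absurd h hb⟩
    have hA : ∀ φ ∈ S b, LinearMap.funLeft ℂ ℂ (σ.symm : H → H) φ ∈
        S (Helper78.irrMap σ '' b) := fun φ hφ => (hσ b hb).2 φ hφ
    by_cases hfix : Helper78.irrMap σ '' b = b
    · rw [hfix] at hA
      obtain ⟨n, hn⟩ := NN_case_eq hM (h𝔟 b hb) (S b) (hS1 b hb) (hS2 b hb) _ hA
      exact ⟨n, fun _ => hn⟩
    · have hb' := (hσ b hb).1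
      refine ⟨0, fun _ => ?_⟩
      rw [NN_case_ne hM (h𝔟 b hb) (h𝔟 _ hb') (Ne.symm hfix), Nat.cast_zero]
      rw [← hS2 b hb, ← hS2 _ hb']
      exact NN_map_span _ hA
  choose n hn using key
  refine ⟨∑ b ∈ 𝔟, n b, ?_⟩
  have h1 : (∑ y : H, (if ¬ p ∣ orderOf y then
      ∑ b ∈ 𝔟, ∑ χ : IrrCharacter H, (if χ ∈ b then (1 : ℂ) else 0) *
        ((χ : H → ℂ) (σ.symm y) * conj ((χ : H → ℂ) y)) else 0)) =
      ∑ b ∈ 𝔟, ∑ y : H, (if ¬ p ∣ orderOf y then
        ∑ χ : IrrCharacter H, (if χ ∈ b then (1 : ℂ) else 0) *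
          ((χ : H → ℂ) (σ.symm y) * conj ((χ : H → ℂ) y)) else 0) := by
    rw [Finset.sum_comm]
    refine Finset.sum_congr rfl (fun y _ => ?_)
    by_cases hy : p ∣ orderOf y
    · rw [if_neg (not_not.2 hy)]
      symm
      refine Finset.sum_eq_zero (fun b _ => ?_)
      rw [if_neg (not_not.2 hy)]
    · rw [if_pos hy]
      refine Finset.sum_congr rfl (fun b _ => ?_)
      rw [if_pos hy]
  rw [h1, Nat.cast_sum, Finset.mul_sum]
  refine Finset.sum_congr rfl (fun b hb => ?_)
  rw [NN_sum_eq σ b, hn b hb]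

end Perm

end Cfsg.Agent.Helper75.PRB
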