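import Mathlib
import Cfsg.Agent.Helper99.QSpEllDefs

/-!
# (MF0) of helper99's WANTED #6873 (S5990): `starEllM_of_dvd`

Pure arithmetic: if an odd prime `r ∤ q` divides one of the factors of the number of elliptic
`2e`-subspaces of a space of minus type of dimension `2d` over `𝔽_q`, then `StarEllM i d e` holds,
`i` the multiplicative order of `q` modulo `r`.
-/

set_option autoImplicit false

namespace Cfsg.Agent.Helper75.QSpM

open Cfsg.Agent.Helper99.QSp

/-- `r ∣ q ^ a - 1` gives `i ∣ a` -/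
theorem ord_dvd_of_dvd_sub {q r : ℕ} {a : ℕ} (h1 : (r : ℤ) ∣ (q : ℤ) ^ a + (-1)) :
    orderOf (q : ZMod r) ∣ a := by
  have h2 : (((q : ℤ) ^ a + (-1) : ℤ) : ZMod r) = 0 :=
    (ZMod.intCast_zmod_eq_zero_iff_dvd _ r).mpr h1
  push_cast at h2
  rw [orderOf_dvd_iff_pow_eq_one]
  exact eq_neg_of_add_eq_zero_left h2 |>.trans (neg_neg 1)

/-- `r ∣ q ^ a + 1` gives `i ∣ 2 a` and `i ∤ a` -/
theorem ord_dvd_of_dvd_add {q r : ℕ} [Fact r.Prime] (hr2 : r ≠ 2) {a : ℕ}
    (h1 : (r : ℤ) ∣ (q : ℤ) ^ a - (-1)) :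
    orderOf (q : ZMod r) ∣ 2 * a ∧ ¬ orderOf (q : ZMod r) ∣ a := by
  have hr : r.Prime := Fact.out
  have h2 : (((q : ℤ) ^ a - (-1) : ℤ) : ZMod r) = 0 :=
    (ZMod.intCast_zmod_eq_zero_iff_dvd _ r).mpr h1
  push_cast at h2
  have h3 : (q : ZMod r) ^ a = -1 := sub_eq_zero.mp h2
  constructor
  · rw [orderOf_dvd_iff_pow_eq_one, pow_mul', h3]
    norm_num
  · intro h4
    rw [orderOf_dvd_iff_pow_eq_one, h3] at h4
    have h5 : ((2 : ℕ) : ZMod r) = 0 := by
      have : (1 : ZMod r) + 1 = 0 := by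
        nth_rewrite 1 [← h4]
        norm_num
      push_cast
      rw [← this]
      norm_num
    have h6 : r ∣ 2 := (ZMod.natCast_eq_zero_iff 2 r).mp h5
    exact hr2 ((Nat.prime_dvd_prime_iff_eq hr Nat.prime_two).mp h6)

/-- (MF0) from the divisibility (ME5, `εV = -1`) to the star -/
theorem starEllM_of_dvd {q r : ℕ} [Fact r.Prime] (hr2 : r ≠ 2) (hrq : ¬ r ∣ q) {d e : ℕ}
    (he : 1 ≤ e) (hed : e + 1 ≤ d)
    (h : (∃ k : ℕ, k + 1 < e ∧ (r : ℤ) ∣ ((q : ℤ) ^ (d - k) - (-1)) * ((q : ℤ) ^ (d - k - 1) + (-1))) ∨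
      (r : ℤ) ∣ ((q : ℤ) ^ (d - e + 1) - (-1)) * ((q : ℤ) ^ (d - e) - (-1))) :
    StarEllM (orderOf (q : ZMod r)) d e := by
  have hr : r.Prime := Fact.out
  have hrZ : Prime (r : ℤ) := Nat.prime_iff_prime_int.mp hr
  unfold StarEllM
  rcases h with ⟨k, hk, hdvd⟩ | hdvd
  · rcases hrZ.dvd_or_dvd hdvd with h1 | h1
    · obtain ⟨h2, h3⟩ := ord_dvd_of_dvd_add hr2 h1
      rcases Nat.eq_zero_or_pos k with hk0 | hk0
      · subst hk0
        left
        exact ⟨h2, h3⟩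
      · right; right
        exact ⟨d - k, by omega, by omega, h2⟩
    · have h2 := ord_dvd_of_dvd_sub h1
      right; right
      exact ⟨d - k - 1, by omega, by omega, Dvd.dvd.mul_left h2 2⟩
  · rcases hrZ.dvd_or_dvd hdvd with h1 | h1
    · obtain ⟨h2, h3⟩ := ord_dvd_of_dvd_add hr2 h1
      rcases Nat.lt_or_ge 1 e with he1 | he1
      · right; right
        exact ⟨d - e + 1, le_rfl, by omega, h2⟩
      · have he' : e = 1 := le_antisymm he1 he
        subst he'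
        have hd : d - 1 + 1 = d := by omega
        rw [hd] at h2 h3
        left
        exact ⟨h2, h3⟩
    · obtain ⟨h2, h3⟩ := ord_dvd_of_dvd_add hr2 h1
      right; left
      exact ⟨h2, h3⟩

end Cfsg.Agent.Helper75.QSpM
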