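import Mathlib
import Cfsg.Agent.Helper99.QSpDefs

/-!
# (MF1) of helper99's WANTED #6873 (S5990): `crit_of_rhs_mm_odd`, `crit_of_rhs_mm_even`

Pure arithmetic: the right hand side of S5990 implies `Crit i c d e b (-1) (-1)` for every
admissible number of blocks `b`.
-/

set_option autoImplicit false

namespace Cfsg.Agent.Helper75.QSpM

open Cfsg.Agent.Helper99.QSp

/-- the right hand side of S5990 for even `i` (same body as `Helper99.QSpMSkel.EvenRHSMM`) -/
def EvenRHSMM (i c d m : ℕ) : Prop :=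
  ((2 * d) % c = 0 ∧ (Even ((2 * d) / i) ∨ (m % c = 0 ∧ Odd (m / i)))) ∨
    (0 < (2 * d) % c ∧ i ≤ m ∧ ((0 < m % c ∧ m % c < (2 * d) % c) ∨ (m % c = 0 ∧ Odd (m / i)) ∨
      (m % c = (2 * d) % c ∧ Even ((2 * d + m - 2 * ((2 * d) % c)) / i))))

theorem bsign_of_odd' {i : ℕ} (hi : Odd i) (j : ℕ) : bsign i j = 1 := by
  unfold bsign
  rw [if_neg (Nat.not_even_iff_odd.mpr hi)]

theorem bsign_of_even' {i : ℕ} (hi : Even i) (j : ℕ) : bsign i j = (-1) ^ j := by
  unfold bsign
  rw [if_pos hi]

/-- (MF1), odd `i` -/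
theorem crit_of_rhs_mm_odd {i c d e b : ℕ} (hi : Odd i) (hc : c = 2 * i) (he : 1 ≤ e)
    (hed : e + 1 ≤ d)
    (hrhs : (2 * d) % c = 0 ∨ (c ≤ 2 * e ∧ 0 < (2 * e) % c ∧ (2 * e) % c ≤ (2 * d) % c))
    (hb1 : 1 ≤ b) (hbc : b * c ≤ 2 * d) (hadm : b * c = 2 * d → bsign i b = -1) :
    Crit i c d e b (-1) (-1) := by
  have hc0 : 0 < c := by
    obtain ⟨t, rfl⟩ := hi
    omega
  have hbne : b * c ≠ 2 * d := by
    intro h
    have := hadm h
    rw [bsign_of_odd' hi] at this
    norm_num at this
  -- division with remainder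
  have hm := Nat.div_add_mod (2 * e) c
  have hl := Nat.mod_lt (2 * e) hc0
  have hn := Nat.div_add_mod (2 * d) c
  have hk := Nat.mod_lt (2 * d) hc0
  generalize (2 * e) / c = M at hm
  generalize (2 * e) % c = l0 at hm hl hrhs
  generalize (2 * d) / c = B at hn
  generalize (2 * d) % c = k0 at hn hk hrhs
  have hMc : c * M = M * c := Nat.mul_comm _ _
  have hBc : c * B = B * c := Nat.mul_comm _ _
  unfold Crit
  simp only [bsign_of_odd' hi, mul_one, one_mul]
  by_cases hlt : b * c < 2 * e
  · exact ⟨b, le_rfl, hlt.le, Or.inr (Or.inl ⟨hlt, by omega⟩)⟩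
  · have hlt := Nat.le_of_not_lt hlt
    -- `M ≤ b ≤ B`
    have hMb : M ≤ b := by
      have : M * c ≤ b * c := by omega
      exact Nat.le_of_mul_le_mul_right this hc0
    have hbB : b ≤ B := by
      have h1 : b * c < (B + 1) * c := by
        have : (B + 1) * c = B * c + c := by ring
        omega
      have := Nat.lt_of_mul_lt_mul_right h1
      omega
    have hbBc : b * c ≤ B * c := Nat.mul_le_mul_right c hbB
    rcases hrhs with hk0 | ⟨hce, hl0, hlk⟩
    · -- `k0 = 0`: `b < B`
      have hbltB : b < B := by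
        rcases Nat.lt_or_ge b B with h | h
        · exact h
        · exfalso
          have : b = B := le_antisymm hbB h
          subst this
          omega
      obtain ⟨s, rfl⟩ : ∃ s, B = b + s + 1 := ⟨B - b - 1, by omega⟩
      have hexpB : (b + s + 1) * c = b * c + s * c + c := by ring
      by_cases hl00 : l0 = 0
      · -- `2 e = M c`: take `b' = M - 1`
        have hM1 : 1 ≤ M := by
          rcases Nat.eq_zero_or_pos M with h | h
          · subst h; omega
          · exact h
        obtain ⟨M', rfl⟩ : ∃ M', M = M' + 1 := ⟨M - 1, by omega⟩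
        have hexp : (M' + 1) * c = M' * c + c := by ring
        refine ⟨M', by omega, by omega, Or.inr ?_⟩
        by_cases h2 : 2 * e - M' * c < 2 * d - b * c
        · left; exact ⟨by omega, h2⟩
        · right; exact ⟨by omega, by omega, by norm_num⟩
      · refine ⟨M, hMb, by omega, Or.inr (Or.inl ⟨by omega, by omega⟩)⟩
    · refine ⟨M, hMb, by omega, Or.inr ?_⟩
      by_cases h2 : 2 * e - M * c < 2 * d - b * c
      · left; exact ⟨by omega, h2⟩
      · right; exact ⟨by omega, by omega, by norm_num⟩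

/-- (MF1), even `i` -/
theorem crit_of_rhs_mm_even {i c d e b : ℕ} (hi : Even i) (hi0 : 0 < i) (hc : c = i) (he : 1 ≤ e)
    (hed : e + 1 ≤ d) (hrhs : EvenRHSMM i c d (2 * e)) (hb1 : 1 ≤ b) (hbc : b * c ≤ 2 * d)
    (hadm : b * c = 2 * d → bsign i b = -1) : Crit i c d e b (-1) (-1) := by
  subst hc
  unfold EvenRHSMM at hrhs
  -- division with remainder
  have hm := Nat.div_add_mod (2 * e) c
  have hl := Nat.mod_lt (2 * e) hi0
  have hn := Nat.div_add_mod (2 * d) c
  have hk := Nat.mod_lt (2 * d) hi0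
  -- the quotient in the last alternative
  have hR4 : (2 * e) % c = (2 * d) % c →
      (2 * d + 2 * e - 2 * ((2 * d) % c)) / c = (2 * d) / c + (2 * e) / c := by
    intro h
    have : 2 * d + 2 * e - 2 * ((2 * d) % c) = c * ((2 * d) / c + (2 * e) / c) := by
      rw [Nat.mul_add]; omega
    rw [this, Nat.mul_div_cancel_left _ hi0]
  generalize (2 * e) / c = M at hm hrhs hR4
  generalize (2 * e) % c = l0 at hm hl hrhs hR4
  generalize (2 * d) / c = B at hn hrhs hR4
  generalize (2 * d) % c = k0 at hn hk hrhs hR4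
  have hMc : c * M = M * c := Nat.mul_comm _ _
  have hBc : c * B = B * c := Nat.mul_comm _ _
  unfold Crit
  simp only [bsign_of_even' hi] at hadm ⊢
  by_cases hlt : b * c < 2 * e
  · exact ⟨b, le_rfl, hlt.le, Or.inr (Or.inl ⟨hlt, by omega⟩)⟩
  have hlt := Nat.le_of_not_lt hlt
  -- `M ≤ b ≤ B`
  have hMb : M ≤ b := by
    have : M * c ≤ b * c := by omega
    exact Nat.le_of_mul_le_mul_right this hi0
  have hbB : b ≤ B := by
    have h1 : b * c < (B + 1) * c := by
      have : (B + 1) * c = B * c + c := by ring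
      omega
    have := Nat.lt_of_mul_lt_mul_right h1
    omega
  have hbBc : b * c ≤ B * c := Nat.mul_le_mul_right c hbB
  -- `b = B` is admissible only for odd `B` when `k0 = 0`
  have hadmB : b = B → k0 = 0 → Odd B := by
    intro hbB' hk0
    subst hbB'
    have h1 : ((-1 : ℤ)) ^ b = -1 := hadm (by omega)
    rcases Nat.even_or_odd b with hev | hod
    · rw [hev.neg_one_pow] at h1; norm_num at h1
    · exact hod
  -- the case `2 e = M c`, `M` odd: first alternative
  by_cases hfirst : l0 = 0 ∧ Odd M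
  · obtain ⟨hl0, hMod⟩ := hfirst
    exact ⟨M, hMb, by omega, Or.inl ⟨by omega, hMod.neg_one_pow⟩⟩
  rcases hrhs with ⟨hk0, hBev | ⟨h3, h4⟩⟩ | ⟨hk0, hie, ⟨h1, h2⟩ | ⟨h3, h4⟩ | ⟨h5, h6⟩⟩
  · -- `k0 = 0`, `B` even: `b < B`
    have hbltB : b < B := by
      rcases Nat.lt_or_ge b B with h | h
      · exact h
      · exfalso
        have : b = B := le_antisymm hbB h
        exact (Nat.not_even_iff_odd.mpr (hadmB this hk0)) hBev
    obtain ⟨s, rfl⟩ : ∃ s, B = b + s + 1 := ⟨B - b - 1, by omega⟩
    have hexpB : (b + s + 1) * c = b * c + s * c + c := by ring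
    by_cases hl0 : l0 = 0
    · -- `M` even, `M ≥ 2`: `b' = M - 1`
      have hMev : Even M := by
        rcases Nat.even_or_odd M with h | h
        · exact h
        · exact absurd ⟨hl0, h⟩ hfirst
      have hM1 : 1 ≤ M := by
        rcases Nat.eq_zero_or_pos M with h | h
        · subst h; omega
        · exact h
      obtain ⟨M', rfl⟩ : ∃ M', M = M' + 1 := ⟨M - 1, by omega⟩
      have hM'od : Odd M' := by
        rcases hMev with ⟨t, ht⟩
        exact ⟨t - 1, by omega⟩
      have hexp : (M' + 1) * c = M' * c + c := by ring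
      refine ⟨M', by omega, by omega, Or.inr ?_⟩
      rcases Nat.eq_zero_or_pos s with hs | hs
      · -- `b = B - 1` odd: third alternative
        subst hs
        right
        refine ⟨by omega, by omega, ?_⟩
        have hbod : Odd b := by
          rcases hBev with ⟨t, ht⟩
          exact ⟨t - 1, by omega⟩
        rw [hM'od.neg_one_pow, hbod.neg_one_pow]; norm_num
      · left
        have : c ≤ s * c := Nat.le_mul_of_pos_left c hs
        exact ⟨by omega, by omega⟩
    · exact ⟨M, hMb, by omega, Or.inr (Or.inl ⟨by omega, by omega⟩)⟩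
  · exact absurd ⟨h3, h4⟩ hfirst
  · -- `0 < l0 < k0`
    exact ⟨M, hMb, by omega, Or.inr (Or.inl ⟨by omega, by omega⟩)⟩
  · exact absurd ⟨h3, h4⟩ hfirst
  · -- `l0 = k0 > 0`, `B + M` even
    rw [hR4 h5] at h6
    refine ⟨M, hMb, by omega, Or.inr ?_⟩
    rcases Nat.lt_or_ge b B with hbB' | hbB'
    · left
      obtain ⟨s, rfl⟩ : ∃ s, B = b + s + 1 := ⟨B - b - 1, by omega⟩
      have hexpB : (b + s + 1) * c = b * c + s * c + c := by ring
      exact ⟨by omega, by omega⟩
    · have hbeq : b = B := le_antisymm hbB hbB'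
      subst hbeq
      right
      refine ⟨by omega, by omega, ?_⟩
      have h7 : ((-1 : ℤ)) ^ M * (-1) ^ b = 1 := by
        rw [← pow_add, Nat.add_comm]
        exact h6.neg_one_pow
      calc ((-1 : ℤ)) ^ M * (-1 * (-1) ^ b) = -(((-1 : ℤ)) ^ M * (-1) ^ b) := by ring
        _ = -1 := by rw [h7]

end Cfsg.Agent.Helper75.QSpM
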