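import Mathlib
import Cfsg.Agent.S3742

/-!
# S5287 piece (X4b), part A: facts on the quaternion group of order 8 (helper75)

Built on the explicit description of `Aut(Q₈)` in `Cfsg.Agent.S3742` (`Good`, `mk`, `toAut`).
-/

set_option autoImplicit false
set_option linter.unusedVariables false
set_option linter.unusedSectionVars false
set_option linter.style.haveILetI false
set_option maxHeartbeats 1000000
set_option maxRecDepth 100000

namespace Cfsg.Agent.Helper75.SSX4b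

open QuaternionGroup Cfsg.Agent.S3742

/-! ### the universal property of `Q₈` -/

section Lift

variable {G : Type*} [Group G]

/-- the underlying function of the homomorphism `Q₈ → G` with `a 1 ↦ s`, `xa 0 ↦ t` -/
def q8fun (s t : G) : Q → G
  | a i => s ^ i.val
  | xa i => t * s ^ i.val

theorem q8fun_mul (s t : G) (hs4 : s ^ 4 = 1) (hts : t * s * t⁻¹ = s⁻¹) (ht2 : t ^ 2 = s ^ 2) :
    ∀ x y : Q, q8fun s t (x * y) = q8fun s t x * q8fun s t y := by
  let e : ZMod (2 * 2) → G := fun i => s ^ i.val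
  have he_add : ∀ i j : ZMod (2 * 2), e (i + j) = e i * e j := by
    intro i j
    show s ^ (i + j).val = s ^ i.val * s ^ j.val
    rw [← pow_add, ZMod.val_add, ← pow_eq_pow_mod _ hs4]
  have he_zero : e 0 = 1 := by
    show s ^ (0 : ZMod (2 * 2)).val = 1
    rw [ZMod.val_zero, pow_zero]
  have he_neg : ∀ i : ZMod (2 * 2), e (-i) = (e i)⁻¹ := by
    intro i
    rw [eq_inv_iff_mul_eq_one, ← he_add, neg_add_cancel, he_zero]
  have he_sub : ∀ i j : ZMod (2 * 2), e (i - j) = e i * (e j)⁻¹ := by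
    intro i j
    rw [sub_eq_add_neg, he_add, he_neg]
  have he_two : e ((2 : ℕ) : ZMod (2 * 2)) = s ^ 2 := by
    show s ^ (((2 : ℕ) : ZMod (2 * 2))).val = s ^ 2
    rfl
  have hconj : ∀ k : ℕ, t * s ^ k * t⁻¹ = (s ^ k)⁻¹ := by
    intro k
    rw [← conj_pow, hts, inv_pow]
  have hcomm : ∀ i : ZMod (2 * 2), e i * t = t * (e i)⁻¹ := by
    intro i
    have h := hconj i.val
    have h2 : t * (e i)⁻¹ * t⁻¹ = e i := by
      have : t * (e i)⁻¹ * t⁻¹ = (t * e i * t⁻¹)⁻¹ := by group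
      rw [this]
      show (t * s ^ i.val * t⁻¹)⁻¹ = s ^ i.val
      rw [h, inv_inv]
    calc e i * t = (t * (e i)⁻¹ * t⁻¹) * t := by rw [h2]
      _ = t * (e i)⁻¹ := by group
  rintro (i | i) (j | j)
  · rw [a_mul_a]
    exact he_add i j
  · rw [a_mul_xa]
    show t * e (j - i) = e i * (t * e j)
    rw [← mul_assoc, hcomm, he_sub, mul_assoc]
    congr 1
    have : Commute (e j) (e i)⁻¹ := ((Commute.refl s).pow_pow j.val i.val).inv_right
    exact this.eq
  · rw [xa_mul_a]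
    show t * e (i + j) = t * e i * e j
    rw [he_add, mul_assoc]
  · rw [xa_mul_xa]
    show e (((2 : ℕ) : ZMod (2 * 2)) + j - i) = t * e i * (t * e j)
    have h1 : t * e i * (t * e j) = t * (e i * t) * e j := by group
    rw [h1, hcomm, he_sub, he_add, he_two]
    have h2 : t * (t * (e i)⁻¹) * e j = t ^ 2 * ((e i)⁻¹ * e j) := by rw [pow_two]; group
    rw [h2, ht2, mul_assoc]
    congr 1
    have : Commute (e j) (e i)⁻¹ := ((Commute.refl s).pow_pow j.val i.val).inv_right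
    exact this.eq

/-- the homomorphism `Q₈ → G` with `a 1 ↦ s`, `xa 0 ↦ t` -/
def q8lift (s t : G) (hs4 : s ^ 4 = 1) (hts : t * s * t⁻¹ = s⁻¹) (ht2 : t ^ 2 = s ^ 2) : Q →* G :=
  MonoidHom.mk' (q8fun s t) (q8fun_mul s t hs4 hts ht2)

theorem q8lift_a (s t : G) (hs4 : s ^ 4 = 1) (hts : t * s * t⁻¹ = s⁻¹) (ht2 : t ^ 2 = s ^ 2)
    (i : ZMod (2 * 2)) : q8lift s t hs4 hts ht2 (a i) = s ^ i.val := rfl

theorem q8lift_xa (s t : G) (hs4 : s ^ 4 = 1) (hts : t * s * t⁻¹ = s⁻¹) (ht2 : t ^ 2 = s ^ 2)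
    (i : ZMod (2 * 2)) : q8lift s t hs4 hts ht2 (xa i) = t * s ^ i.val := rfl

end Lift

/-! ### finite checks in `Q₈` -/

theorem exists_good_map : ∀ x y : Q, x ^ 2 = a 2 → y ^ 2 = a 2 →
    ∃ p q : Q, Good p q ∧ mk p q x = y := by decide

/-- `Aut(Q₈)` is transitive on the elements of order four -/
theorem exists_aut_map (x y : Q) (hx : x ^ 2 = a 2) (hy : y ^ 2 = a 2) :
    ∃ γ : MulAut Q, γ x = y := by
  obtain ⟨p, q, hg, h⟩ := exists_good_map x y hx hy
  exact ⟨toAut ⟨(p, q), hg⟩, by rw [toAut_apply]; exact h⟩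

/-- an automorphism of `Q₈` is determined by its values on the generators -/
theorem aut_ext {γ γ' : MulAut Q} (h1 : γ (a 1) = γ' (a 1)) (h2 : γ (xa 0) = γ' (xa 0)) :
    γ = γ' := by
  ext u
  rw [eval_eq γ u, eval_eq γ' u, h1, h2]

theorem involution_unique : ∀ y : Q, y ^ 2 = 1 → y ≠ 1 → y = a 2 := by decide

theorem small_of_no_four : ∀ r : Q, r ^ 2 ≠ a 2 → r = 1 ∨ r = a 2 := by decide

theorem gen_of_not_pow : ∀ x x' : Q, x ^ 2 = a 2 → (∀ k : Fin 4, x' ≠ x ^ (k : ℕ)) →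
    ∀ r : Q, ∃ i j : Fin 4, r = x ^ (i : ℕ) * x' ^ (j : ℕ) := by decide

theorem xa_of_good : ∀ p q : Q, Good p q → (p = a 1 ∨ p = a 3) → ∃ j : ZMod (2 * 2), q = xa j := by
  decide

theorem sq_of_good : ∀ p q : Q, Good p q → p ^ 2 = a 2 ∧ q ^ 2 = a 2 := by decide

theorem a_or_xa_of_sq : ∀ t : Q, t ^ 2 = a 2 → (t = a 1 ∨ t = a 3) ∨ ∃ i : ZMod (2 * 2), t = xa i := by
  decide

theorem not_comm_a_xa : (a 1 : Q) * xa 0 ≠ xa 0 * a 1 := by decide

theorem card_mulAut : Nat.card (MulAut Q) = 24 := by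
  obtain ⟨e⟩ := Cfsg.Agent.S3742.result
  rw [Nat.card_congr e.toEquiv, Nat.card_eq_fintype_card, Fintype.card_perm, Fintype.card_fin]
  rfl

/-- every injective homomorphism from a subgroup of `Q₈` to `Q₈` extends to an automorphism -/
theorem exists_extend (P : Subgroup Q) (f : P →* Q) (hf : Function.Injective f) :
    ∃ γ : MulAut Q, ∀ r : P, γ (r : Q) = f r := by
  classical
  have hfz : ∀ (h : (a 2 : Q) ∈ P), f ⟨a 2, h⟩ = a 2 := by
    intro h
    apply involution_unique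
    · rw [← map_pow]
      have h0 : (a 2 : Q) ^ 2 = 1 := by decide
      have h1 : (⟨a 2, h⟩ : P) ^ 2 = 1 := Subtype.ext (by rw [Subgroup.coe_pow]; exact h0)
      rw [h1, map_one]
    · intro h1
      have h2 := hf (h1.trans (map_one f).symm)
      have h0 : (a 2 : Q) ≠ 1 := by decide
      exact h0 (congrArg Subtype.val h2)
  by_cases h4 : ∃ x ∈ P, x ^ 2 = a 2
  · obtain ⟨x, hxP, hx2⟩ := h4
    have hzP : (a 2 : Q) ∈ P := by rw [← hx2]; exact P.pow_mem hxP 2
    have hy2 : (f ⟨x, hxP⟩) ^ 2 = a 2 := by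
      rw [← map_pow]
      have h1 : (⟨x, hxP⟩ : P) ^ 2 = ⟨a 2, hzP⟩ := Subtype.ext hx2
      rw [h1, hfz]
    by_cases hcyc : ∀ r ∈ P, ∃ k : Fin 4, r = x ^ (k : ℕ)
    · obtain ⟨γ, hγ⟩ := exists_aut_map x (f ⟨x, hxP⟩) hx2 hy2
      refine ⟨γ, fun r => ?_⟩
      obtain ⟨k, hk⟩ := hcyc r r.2
      have h1 : r = (⟨x, hxP⟩ : P) ^ (k : ℕ) := Subtype.ext hk
      rw [h1, map_pow, Subgroup.coe_pow, map_pow, hγ]
    · push Not at hcyc
      obtain ⟨x', hx'P, hx'⟩ := hcyc
      have htop : ∀ r : Q, r ∈ P := by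
        intro r
        obtain ⟨i, j, rfl⟩ := gen_of_not_pow x x' hx2 hx' r
        exact P.mul_mem (P.pow_mem hxP _) (P.pow_mem hx'P _)
      let g : Q →* Q := f.comp (MonoidHom.mk' (fun r => (⟨r, htop r⟩ : P)) (fun _ _ => rfl))
      have hg : Function.Injective g := by
        intro r r' h
        have h1 := hf h
        exact congrArg Subtype.val h1
      have hbij : Function.Bijective g := Finite.injective_iff_bijective.1 hg
      exact ⟨MulEquiv.ofBijective g hbij, fun r => rfl⟩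
  · push Not at h4
    refine ⟨1, fun r => ?_⟩
    rcases small_of_no_four r (h4 r r.2) with h | h
    · have h1 : r = 1 := Subtype.ext h
      rw [h1]; simp
    · have hm : (a 2 : Q) ∈ P := h ▸ r.2
      have h1 : r = ⟨a 2, hm⟩ := Subtype.ext h
      rw [h1, hfz]; rfl

end Cfsg.Agent.Helper75.SSX4b
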