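import Mathlib
import Cfsg.Agent.Helper75.SSX4bA

/-!
# S5287 piece (X4b), part B: computations in the generalized quaternion group of order `16 l`
(helper75)

`Qn l = QuaternionGroup (4 * l)`, `c = (l : ZMod (8 l))`; the quaternion subgroup
`E₀ = θ(Q₈) = {a (2jc), xa (2jc)}`.
-/

set_option autoImplicit false
set_option linter.unusedVariables false
set_option linter.unusedSectionVars false
set_option linter.style.haveILetI false
set_option maxHeartbeats 1000000

namespace Cfsg.Agent.Helper75.SSX4b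

open QuaternionGroup Cfsg.Agent.S3742

/-- the generalized quaternion group of order `16 l` -/
abbrev Qn (l : ℕ) := QuaternionGroup (4 * l)

/-- the index type -/
abbrev Zn (l : ℕ) := ZMod (2 * (4 * l))

/-- `l` as an element of `ℤ / 8l` -/
def cc (l : ℕ) : Zn l := (l : ℕ)

variable {l : ℕ}

theorem eight_cc : (8 : Zn l) * cc l = 0 := by
  have h : ((2 * (4 * l) : ℕ) : Zn l) = 0 := ZMod.natCast_self _
  unfold cc
  push_cast at h ⊢
  linear_combination h

theorem n_cast : ((4 * l : ℕ) : Zn l) = 4 * cc l := by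
  unfold cc; push_cast; ring

theorem two_mul_eq_zero_iff (hl : 0 < l) (k : Zn l) : 2 * k = 0 ↔ k = 0 ∨ k = 4 * cc l := by
  haveI : NeZero (2 * (4 * l)) := ⟨by omega⟩
  constructor
  · intro h
    have hk : ((k.val : ℕ) : Zn l) = k := ZMod.natCast_zmod_val k
    have h1 : ((2 * k.val : ℕ) : Zn l) = 0 := by
      push_cast; rw [hk]; exact h
    have h2 : 2 * (4 * l) ∣ 2 * k.val := (ZMod.natCast_eq_zero_iff _ _).1 h1
    have h3 : k.val < 2 * (4 * l) := ZMod.val_lt k
    have h4 : 4 * l ∣ k.val := (Nat.mul_dvd_mul_iff_left (by norm_num)).1 h2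
    obtain ⟨d, hd⟩ := h4
    have hd2 : d < 2 := by
      by_contra hge
      push Not at hge
      have : 4 * l * 2 ≤ 4 * l * d := Nat.mul_le_mul_left _ hge
      omega
    interval_cases d
    · left
      rw [← hk, hd]; simp
    · right
      rw [← hk, hd, ← n_cast]; simp
  · rintro (h | h)
    · rw [h, mul_zero]
    · rw [h]
      linear_combination (eight_cc (l := l))

theorem two_mul_eq_four_iff (hl : 0 < l) (k : Zn l) :
    2 * k = 4 * cc l ↔ k = 2 * cc l ∨ k = 6 * cc l := by
  have h := two_mul_eq_zero_iff hl (k - 2 * cc l)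
  constructor
  · intro h1
    have h2 : 2 * (k - 2 * cc l) = 0 := by linear_combination h1
    rcases h.1 h2 with h3 | h3
    · left; linear_combination h3
    · right; linear_combination h3
  · rintro (h1 | h1)
    · rw [h1]; ring
    · rw [h1]; linear_combination (eight_cc (l := l))

theorem even_ne_one (w : ℕ) : ((2 * w : ℕ) : Zn l) ≠ 1 := by
  intro h
  have h1 : ((2 * w : ℕ) : Zn l) = ((1 : ℕ) : Zn l) := by rw [h]; simp
  have h2 := (ZMod.natCast_eq_natCast_iff _ _ _).1 h1
  have h3 : 2 * w ≡ 1 [MOD 2] := h2.of_dvd ⟨4 * l, rfl⟩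
  unfold Nat.ModEq at h3
  omega

theorem four_ne_zero (hl : 0 < l) : (4 : Zn l) ≠ 0 := by
  intro h
  have h1 : ((4 : ℕ) : Zn l) = 0 := by push_cast; exact h
  have h2 := (ZMod.natCast_eq_zero_iff _ _).1 h1
  have := Nat.le_of_dvd (by norm_num) h2
  omega

theorem four_cc_ne_zero (hl : 0 < l) : (4 : Zn l) * cc l ≠ 0 := by
  intro h
  rw [← n_cast] at h
  have h2 := (ZMod.natCast_eq_zero_iff _ _).1 h
  have := Nat.le_of_dvd (by omega) h2
  omega

/-! ### the group `Qn l` -/

theorem inv_a (i : Zn l) : (a i : Qn l)⁻¹ = a (-i) := by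
  apply inv_eq_of_mul_eq_one_right
  rw [a_mul_a, add_neg_cancel, a_zero]

theorem inv_xa (i : Zn l) : (xa i : Qn l)⁻¹ = xa (4 * cc l + i) := by
  apply inv_eq_of_mul_eq_one_right
  rw [xa_mul_xa, n_cast, ← a_zero]
  congr 1
  linear_combination (eight_cc (l := l))

theorem a_pow (i : Zn l) (k : ℕ) : (a i : Qn l) ^ k = a ((k : Zn l) * i) := by
  induction k with
  | zero => simp
  | succ k ih =>
    rw [pow_succ, ih, a_mul_a]
    congr 1
    push_cast; ring

/-- the embedding `Q₈ → Qn l` -/
def theta (l : ℕ) : Q →* Qn l :=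
  q8lift (a (2 * cc l)) (xa 0)
    (by
      rw [a_pow, ← a_zero]
      congr 1
      push_cast
      linear_combination (eight_cc (l := l)))
    (by
      rw [mul_inv_eq_iff_eq_mul, inv_a, xa_mul_a, a_mul_xa]
      congr 1
      ring)
    (by
      rw [xa_sq, a_pow, n_cast]
      congr 1
      push_cast; ring)

/-- the index of the `j`-th element -/
def idx (l : ℕ) (i : ZMod (2 * 2)) : Zn l := (i.val : Zn l) * (2 * cc l)

theorem theta_a (i : ZMod (2 * 2)) : theta l (a i) = a (idx l i) := by
  show (a (2 * cc l) : Qn l) ^ i.val = _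
  rw [a_pow]
  rfl

theorem theta_xa (i : ZMod (2 * 2)) : theta l (xa i) = xa (idx l i) := by
  show (xa 0 : Qn l) * (a (2 * cc l) : Qn l) ^ i.val = _
  rw [a_pow, xa_mul_a, zero_add]
  rfl

theorem idx_zero : idx l 0 = 0 := by unfold idx; simp
theorem idx_one : idx l 1 = 2 * cc l := by
  unfold idx
  have : (1 : ZMod (2 * 2)).val = 1 := rfl
  rw [this]; simp
theorem idx_two : idx l 2 = 4 * cc l := by
  unfold idx
  have : (2 : ZMod (2 * 2)).val = 2 := rfl
  rw [this]; push_cast; ring
theorem idx_three : idx l 3 = 6 * cc l := by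
  unfold idx
  have : (3 : ZMod (2 * 2)).val = 3 := rfl
  rw [this]; push_cast; ring

theorem idx_cases (i : ZMod (2 * 2)) :
    idx l i = 0 ∨ idx l i = 2 * cc l ∨ idx l i = 4 * cc l ∨ idx l i = 6 * cc l := by
  have h : ∀ i : ZMod (2 * 2), i = 0 ∨ i = 1 ∨ i = 2 ∨ i = 3 := by decide
  rcases h i with rfl | rfl | rfl | rfl
  · exact Or.inl idx_zero
  · exact Or.inr (Or.inl idx_one)
  · exact Or.inr (Or.inr (Or.inl idx_two))
  · exact Or.inr (Or.inr (Or.inr idx_three))

theorem two_idx_cases (i : ZMod (2 * 2)) : 2 * idx l i = 0 ∨ 2 * idx l i = 4 * cc l := by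
  rcases idx_cases (l := l) i with h | h | h | h
  · left; rw [h, mul_zero]
  · right; rw [h]; ring
  · left; rw [h]; linear_combination (eight_cc (l := l))
  · right; rw [h]; linear_combination (eight_cc (l := l))

theorem idx_eq_val (i : ZMod (2 * 2)) : idx l i = ((2 * (i.val * l) : ℕ) : Zn l) := by
  unfold idx cc; push_cast; ring

theorem a_mem_range_of (k : Zn l)
    (h : k = 0 ∨ k = 2 * cc l ∨ k = 4 * cc l ∨ k = 6 * cc l) : (a k : Qn l) ∈ (theta l).range := by
  rcases h with h | h | h | h
  · exact ⟨a 0, by rw [theta_a, idx_zero, h]⟩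
  · exact ⟨a 1, by rw [theta_a, idx_one, h]⟩
  · exact ⟨a 2, by rw [theta_a, idx_two, h]⟩
  · exact ⟨a 3, by rw [theta_a, idx_three, h]⟩

theorem xa_mem_range_of (k : Zn l)
    (h : k = 0 ∨ k = 2 * cc l ∨ k = 4 * cc l ∨ k = 6 * cc l) : (xa k : Qn l) ∈ (theta l).range := by
  rcases h with h | h | h | h
  · exact ⟨xa 0, by rw [theta_xa, idx_zero, h]⟩
  · exact ⟨xa 1, by rw [theta_xa, idx_one, h]⟩
  · exact ⟨xa 2, by rw [theta_xa, idx_two, h]⟩
  · exact ⟨xa 3, by rw [theta_xa, idx_three, h]⟩

/-- (A) `θ` is injective -/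
theorem theta_injective (hl : 0 < l) : Function.Injective (theta l) := by
  haveI : NeZero (2 * (4 * l)) := ⟨by omega⟩
  rw [injective_iff_map_eq_one]
  rintro (i | i) h
  · rw [theta_a, one_def] at h
    have h1 : idx l i = 0 := by injection h
    rw [idx_eq_val] at h1
    have h2 := (ZMod.natCast_eq_zero_iff _ _).1 h1
    have h3 : i.val < 4 := ZMod.val_lt i
    have h4 : i.val = 0 := by
      obtain ⟨d, hd⟩ := h2
      rcases Nat.eq_zero_or_pos d with hd0 | hd0
      · rw [hd0] at hd
        have : i.val * l = 0 := by omega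
        rcases Nat.mul_eq_zero.1 this with h5 | h5
        · exact h5
        · omega
      · exfalso
        have h5 : 2 * (4 * l) * 1 ≤ 2 * (4 * l) * d := Nat.mul_le_mul_left _ hd0
        have h6 : i.val * l ≤ 3 * l := Nat.mul_le_mul_right _ (by omega)
        omega
    have h5 : i = 0 := (ZMod.val_eq_zero i).1 h4
    rw [h5, a_zero]
  · rw [theta_xa, one_def] at h
    cases h

/-- the central involution -/
theorem theta_a_two_central (g : Qn l) : g * theta l (a 2) = theta l (a 2) * g := by
  rw [theta_a, idx_two]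
  rcases g with k | k
  · rw [a_mul_a, a_mul_a, add_comm]
  · rw [xa_mul_a, a_mul_xa]
    congr 1
    linear_combination (eight_cc (l := l))

/-- (B) the centralizer of `E₀` -/
theorem centralizer_theta (hl : 0 < l) (g : Qn l) (h1 : g * theta l (a 1) = theta l (a 1) * g)
    (h2 : g * theta l (xa 0) = theta l (xa 0) * g) : g = 1 ∨ g = theta l (a 2) := by
  rw [theta_a, idx_one] at h1
  rw [theta_xa, idx_zero] at h2
  rcases g with k | k
  · rw [a_mul_xa, xa_mul_a] at h2
    have h3 : (0 : Zn l) - k = 0 + k := by injection h2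
    have h4 : 2 * k = 0 := by linear_combination -h3
    rcases (two_mul_eq_zero_iff hl k).1 h4 with h5 | h5
    · left; rw [h5, a_zero]
    · right; rw [theta_a, idx_two, h5]
  · exfalso
    rw [xa_mul_a, a_mul_xa] at h1
    have h3 : k + 2 * cc l = k - 2 * cc l := by injection h1
    have h4 : 4 * cc l = 0 := by linear_combination h3
    exact four_cc_ne_zero hl h4

/-- (C) every element normalizes `⟨u⟩` -/
theorem conj_u (g : Qn l) :
    g * theta l (a 1) = theta l (a 1) * g ∨ g * theta l (a 1) = theta l (a 3) * g := by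
  rw [theta_a, theta_a, idx_one, idx_three]
  rcases g with k | k
  · left
    rw [a_mul_a, a_mul_a, add_comm]
  · right
    rw [xa_mul_a, a_mul_xa]
    congr 1
    linear_combination (eight_cc (l := l))

/-- (D') realization of the eight automorphisms stabilizing `⟨u⟩` -/
theorem exists_realize (b : Bool) (j : ZMod (2 * 2)) :
    ∃ g : Qn l, g * theta l (a 1) = theta l (if b then a 1 else a 3) * g ∧
      g * theta l (xa 0) = theta l (xa j) * g := by
  cases b
  · refine ⟨xa ((j.val : Zn l) * cc l), ?_, ?_⟩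
    · simp only [Bool.false_eq_true, if_false]
      rw [theta_a, theta_a, idx_one, idx_three, xa_mul_a, a_mul_xa]
      congr 1
      linear_combination (eight_cc (l := l))
    · rw [theta_xa, theta_xa, idx_zero, xa_mul_xa, xa_mul_xa]
      congr 1
      unfold idx
      ring
  · refine ⟨a (-((j.val : Zn l) * cc l)), ?_, ?_⟩
    · simp only [if_true]
      rw [theta_a, idx_one, a_mul_a, a_mul_a, add_comm]
    · rw [theta_xa, theta_xa, idx_zero, a_mul_xa, xa_mul_a]
      congr 1
      unfold idx
      ring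

/-- (E) an element conjugating some `θ(xa i)` into `{θ(xa i), θ(xa i)⁻¹}` lies in `E₀` -/
theorem mem_range_of_conj_xa (hl : 0 < l) (g : Qn l) (i : ZMod (2 * 2))
    (h : g * theta l (xa i) = theta l (xa i) * g ∨ g * theta l (xa i) = (theta l (xa i))⁻¹ * g) :
    g ∈ (theta l).range := by
  rw [theta_xa, inv_xa] at h
  rcases g with k | k
  · apply a_mem_range_of
    rcases h with h | h
    · rw [a_mul_xa, xa_mul_a] at h
      have h3 : idx l i - k = idx l i + k := by injection h
      have h4 : 2 * k = 0 := by linear_combination -h3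
      rcases (two_mul_eq_zero_iff hl k).1 h4 with h5 | h5
      · exact Or.inl h5
      · exact Or.inr (Or.inr (Or.inl h5))
    · rw [a_mul_xa, xa_mul_a] at h
      have h3 : idx l i - k = 4 * cc l + idx l i + k := by injection h
      have h4 : 2 * k = 4 * cc l := by linear_combination -h3 - (eight_cc (l := l))
      rcases (two_mul_eq_four_iff hl k).1 h4 with h5 | h5
      · exact Or.inr (Or.inl h5)
      · exact Or.inr (Or.inr (Or.inr h5))
  · apply xa_mem_range_of
    have key : 2 * k = 0 ∨ 2 * k = 4 * cc l := by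
      rcases h with h | h
      · rw [xa_mul_xa, xa_mul_xa] at h
        have h3 : ((4 * l : ℕ) : Zn l) + idx l i - k = ((4 * l : ℕ) : Zn l) + k - idx l i := by
          injection h
        have h4 : 2 * k = 2 * idx l i := by linear_combination -h3
        rw [h4]
        exact two_idx_cases i
      · rw [xa_mul_xa, xa_mul_xa] at h
        have h3 : ((4 * l : ℕ) : Zn l) + idx l i - k =
            ((4 * l : ℕ) : Zn l) + k - (4 * cc l + idx l i) := by injection h
        have h4 : 2 * k = 2 * idx l i + 4 * cc l := by linear_combination -h3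
        rcases two_idx_cases (l := l) i with h5 | h5
        · right; rw [h4, h5, zero_add]
        · left; rw [h4, h5]; linear_combination (eight_cc (l := l))
    rcases key with h4 | h4
    · rcases (two_mul_eq_zero_iff hl k).1 h4 with h5 | h5
      · exact Or.inl h5
      · exact Or.inr (Or.inr (Or.inl h5))
    · rcases (two_mul_eq_four_iff hl k).1 h4 with h5 | h5
      · exact Or.inr (Or.inl h5)
      · exact Or.inr (Or.inr (Or.inr h5))

/-- (F) `a 1` centralizes `θ⟨a 1⟩` -/
theorem a_one_comm (i : ZMod (2 * 2)) : (a 1 : Qn l) * theta l (a i) = theta l (a i) * a 1 := by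
  rw [theta_a, a_mul_a, a_mul_a, add_comm]

theorem a_one_not_mem_range : (a 1 : Qn l) ∉ (theta l).range := by
  rintro ⟨q, hq⟩
  rcases q with i | i
  · rw [theta_a] at hq
    have h1 : idx l i = 1 := by injection hq
    rw [idx_eq_val] at h1
    exact even_ne_one _ h1
  · rw [theta_xa] at hq
    cases hq

theorem a_one_ne_one : (a 1 : Qn l) ≠ 1 := by
  intro h
  apply a_one_not_mem_range (l := l)
  rw [h]
  exact (theta l).range.one_mem

theorem a_one_ne_z : (a 1 : Qn l) ≠ theta l (a 2) := by
  intro h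
  apply a_one_not_mem_range (l := l)
  rw [h]
  exact ⟨_, rfl⟩

/-- (G1) -/
theorem comm_a_one_xa (i : Zn l) : (a 1 : Qn l) * xa i * (a 1)⁻¹ * (xa i)⁻¹ = a 2 := by
  rw [inv_a, inv_xa, a_mul_xa, xa_mul_a, xa_mul_xa, n_cast]
  congr 1
  linear_combination (eight_cc (l := l))

theorem a_two_not_comm (hl : 0 < l) (i : Zn l) : (a 2 : Qn l) * xa i ≠ xa i * a 2 := by
  intro h
  rw [a_mul_xa, xa_mul_a] at h
  have h3 : i - 2 = i + 2 := by injection h
  apply four_ne_zero hl
  linear_combination -h3

/-- (G3) -/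
theorem two_mul_eq_zero_of_comm (i : Zn l) (h : theta l (xa 0) * a i = a i * theta l (xa 0)) :
    2 * i = 0 := by
  rw [theta_xa, idx_zero, xa_mul_a, a_mul_xa] at h
  have h3 : 0 + i = 0 - i := by injection h
  linear_combination h3

theorem two_mul_ne_zero_of_ne (hl : 0 < l) (i : Zn l) (h1 : (a i : Qn l) ≠ 1)
    (h2 : (a i : Qn l) ≠ theta l (a 2)) : 2 * i ≠ 0 := by
  intro h
  rcases (two_mul_eq_zero_iff hl i).1 h with h3 | h3
  · apply h1; rw [h3, a_zero]
  · apply h2; rw [theta_a, idx_two, h3]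

/-- (G2) a non-central power of `a 1` has a power equal to `u` or `u⁻¹` -/
theorem exists_pow_eq_u (hl : 0 < l) (hP : IsPGroup 2 (Qn l)) (i : Zn l) (hi : 2 * i ≠ 0) :
    ∃ k : ℕ, (a i : Qn l) ^ k = theta l (a 1) ∨ (a i : Qn l) ^ k = theta l (a 3) := by
  obtain ⟨j, hj⟩ := (IsPGroup.iff_orderOf.1 hP) (a i)
  have hj2 : 2 ≤ j := by
    by_contra hlt
    push Not at hlt
    have h1 : (a i : Qn l) ^ 2 = 1 := by
      have h2 : orderOf (a i : Qn l) ∣ 2 := by
        rw [hj]
        interval_cases j
        · norm_num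
        · norm_num
      exact orderOf_dvd_iff_pow_eq_one.1 h2
    rw [a_pow, ← a_zero] at h1
    have h3 : ((2 : ℕ) : Zn l) * i = 0 := by injection h1
    apply hi
    rw [← h3]; push_cast; ring
  refine ⟨2 ^ (j - 2), ?_⟩
  rw [a_pow, theta_a, theta_a, idx_one, idx_three]
  set i' : Zn l := ((2 ^ (j - 2) : ℕ) : Zn l) * i with hi'
  have h4 : (4 : Zn l) * i' = 0 := by
    have h1 : (a i : Qn l) ^ (2 ^ j) = 1 := by rw [← hj]; exact pow_orderOf_eq_one _
    rw [a_pow, ← a_zero] at h1
    have h3 : ((2 ^ j : ℕ) : Zn l) * i = 0 := by injection h1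
    have h5 : (2 : ℕ) ^ j = 4 * 2 ^ (j - 2) := by
      have : j = 2 + (j - 2) := by omega
      conv_lhs => rw [this, pow_add]
      norm_num
    rw [h5] at h3
    rw [hi', ← h3]; push_cast; ring
  have h2 : (2 : Zn l) * i' ≠ 0 := by
    intro h
    have h1 : (a i : Qn l) ^ (2 ^ (j - 1)) = 1 := by
      rw [a_pow, ← a_zero]
      congr 1
      have h5 : (2 : ℕ) ^ (j - 1) = 2 * 2 ^ (j - 2) := by
        have : j - 1 = 1 + (j - 2) := by omega
        rw [this, pow_add]
        norm_num
      rw [h5, ← h, hi']; push_cast; ring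
    have h6 : orderOf (a i : Qn l) ≤ 2 ^ (j - 1) := orderOf_le_of_pow_eq_one (by positivity) h1
    rw [hj] at h6
    have h7 : 2 ^ (j - 1) < 2 ^ j := Nat.pow_lt_pow_right (by norm_num) (by omega)
    omega
  have h5 : 2 * (2 * i') = 0 := by linear_combination h4
  rcases (two_mul_eq_zero_iff hl _).1 h5 with h6 | h6
  · exact absurd h6 h2
  · rcases (two_mul_eq_four_iff hl _).1 h6 with h7 | h7
    · left; rw [h7]
    · right; rw [h7]

end Cfsg.Agent.Helper75.SSX4b
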