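import Mathlib
import Cfsg.Agent.Helper75.SSX4bB
import Cfsg.Agent.Helper85.SS.AddAut
import Cfsg.Agent.Helper85.SS.Chain
import Cfsg.Agent.Helper87.FusionBasic
import Cfsg.Agent.Helper87.FusionExtend

/-!
# S5287 piece (X4b), part C: the quaternion subgroup `E` of `S ≅ Q_{16 l}` and `Aut(E)` (helper75)
-/

set_option autoImplicit false
set_option linter.unusedVariables false
set_option linter.unusedSectionVars false
set_option linter.style.haveILetI false
set_option maxHeartbeats 1000000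

namespace Cfsg.Agent.Helper75.SSX4b

open Cfsg Cfsg.FusionSystem Cfsg.Agent.Helper87 Cfsg.Agent.Helper85.AddAut Cfsg.Agent.Helper85.SS
open QuaternionGroup Cfsg.Agent.S3742

variable {Ω : Type*} [Group Ω]

/-- two homomorphisms from `Q₈` agreeing on the generators are equal -/
theorem hom_ext_Q {G : Type*} [Group G] {f f' : Q →* G} (h1 : f (a 1) = f' (a 1))
    (h2 : f (xa 0) = f' (xa 0)) : f = f' := by
  ext u
  cases u with
  | a i =>
    have h : (a i : Q) = (a 1) ^ i.val := by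
      rw [a_one_pow]; congr 1; exact (ZMod.natCast_zmod_val i).symm
    rw [h, map_pow, map_pow, h1]
  | xa i =>
    have h : (a i : Q) = (a 1) ^ i.val := by
      rw [a_one_pow]; congr 1; exact (ZMod.natCast_zmod_val i).symm
    have h3 : (xa i : Q) = xa 0 * a i := by simp
    rw [h3, map_mul, map_mul, h, map_pow, map_pow, h1, h2]

variable {l : ℕ}

/-- the embedding of `Q₈` into the ambient group -/
def thetaO (ι : Qn l →* Ω) : Q →* Ω := ι.comp (theta l)

/-- the quaternion subgroup `E` -/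
def EO (ι : Qn l →* Ω) : Subgroup Ω := (thetaO ι).range

theorem thetaO_apply (ι : Qn l →* Ω) (q : Q) : thetaO ι q = ι (theta l q) := rfl

theorem thetaO_injective (hl : 0 < l) {ι : Qn l →* Ω} (hι : Function.Injective ι) :
    Function.Injective (thetaO ι) := hι.comp (theta_injective hl)

theorem thetaO_mem (ι : Qn l →* Ω) (q : Q) : thetaO ι q ∈ EO ι := ⟨q, rfl⟩

theorem exists_of_mem_EO {ι : Qn l →* Ω} {y : Ω} (hy : y ∈ EO ι) : ∃ q : Q, thetaO ι q = y := hy

/-- the isomorphism `Q₈ ≃ E` -/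
noncomputable def epsO (hl : 0 < l) {ι : Qn l →* Ω} (hι : Function.Injective ι) : Q ≃* EO ι :=
  MonoidHom.ofInjective (thetaO_injective hl hι)

theorem epsO_coe (hl : 0 < l) {ι : Qn l →* Ω} (hι : Function.Injective ι) (q : Q) :
    ((epsO hl hι q : EO ι) : Ω) = thetaO ι q := rfl

theorem epsO_eq (hl : 0 < l) {ι : Qn l →* Ω} (hι : Function.Injective ι) (q : Q)
    (h : thetaO ι q ∈ EO ι) : (⟨thetaO ι q, h⟩ : EO ι) = epsO hl hι q := Subtype.ext rfl

theorem exists_epsO (hl : 0 < l) {ι : Qn l →* Ω} (hι : Function.Injective ι) (y : EO ι) :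
    ∃ q : Q, epsO hl hι q = y := (epsO hl hι).surjective y

/-- transport of automorphisms -/
noncomputable def toE (hl : 0 < l) {ι : Qn l →* Ω} (hι : Function.Injective ι) (δ : MulAut Q) :
    MulAut (EO ι) := ((epsO hl hι).symm.trans δ).trans (epsO hl hι)

noncomputable def toQ (hl : 0 < l) {ι : Qn l →* Ω} (hι : Function.Injective ι)
    (γ : MulAut (EO ι)) : MulAut Q := ((epsO hl hι).trans γ).trans (epsO hl hι).symm

theorem toE_apply (hl : 0 < l) {ι : Qn l →* Ω} (hι : Function.Injective ι) (δ : MulAut Q) (q : Q) :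
    toE hl hι δ (epsO hl hι q) = epsO hl hι (δ q) := by
  simp [toE]

theorem toQ_apply (hl : 0 < l) {ι : Qn l →* Ω} (hι : Function.Injective ι) (γ : MulAut (EO ι))
    (q : Q) : epsO hl hι (toQ hl hι γ q) = γ (epsO hl hι q) := by
  simp [toQ]

theorem toE_toQ (hl : 0 < l) {ι : Qn l →* Ω} (hι : Function.Injective ι) (γ : MulAut (EO ι)) :
    toE hl hι (toQ hl hι γ) = γ := by
  ext y
  obtain ⟨q, rfl⟩ := exists_epsO hl hι y
  rw [toE_apply, toQ_apply]

theorem card_mulAut_EO (hl : 0 < l) {ι : Qn l →* Ω} (hι : Function.Injective ι) :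
    Nat.card (MulAut (EO ι)) = 24 := by
  rw [← card_mulAut]
  exact Nat.card_congr (MulAut.congr (epsO hl hι)).symm.toEquiv

/-! ### the hypotheses of (SAT) -/

section Core

variable (hl : 0 < l) {ι : Qn l →* Ω} (hι : Function.Injective ι) {S : Subgroup Ω}
  (hιS : ∀ q, ι q ∈ S) (hSι : ∀ g ∈ S, ∃ q, ι q = g)

include hιS in
theorem EO_le : EO ι ≤ S := by
  rintro _ ⟨q, rfl⟩
  exact hιS _

include hl hι in
theorem hhom_E (P : Subgroup Ω) (hPE : P ≤ EO ι) (φ : P →* Ω) (hφ : Function.Injective φ)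
    (hφE : ∀ x : P, φ x ∈ EO ι) :
    ∃ γ : MulAut (EO ι), ∀ x : P, ((γ ⟨x, hPE x.2⟩ : EO ι) : Ω) = φ x := by
  let PQ : Subgroup Q := P.comap (thetaO ι)
  let f : PQ →* Q := (epsO hl hι).symm.toMonoidHom.comp
    ((φ.codRestrict (EO ι) hφE).comp ((thetaO ι).subgroupComap P))
  have hf_apply : ∀ q : PQ, epsO hl hι (f q) = ⟨φ ⟨thetaO ι q, q.2⟩, hφE _⟩ := by
    intro q
    show epsO hl hι ((epsO hl hι).symm _) = _
    rw [MulEquiv.apply_symm_apply]
    rfl
  have hf : Function.Injective f := by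
    intro q q' h
    have h1 : epsO hl hι (f q) = epsO hl hι (f q') := by rw [h]
    rw [hf_apply, hf_apply] at h1
    have h2 : φ ⟨thetaO ι q, q.2⟩ = φ ⟨thetaO ι q', q'.2⟩ := congrArg Subtype.val h1
    have h3 := hφ h2
    have h4 : thetaO ι q = thetaO ι q' := congrArg Subtype.val h3
    exact Subtype.ext (thetaO_injective hl hι h4)
  obtain ⟨δ, hδ⟩ := exists_extend PQ f hf
  refine ⟨toE hl hι δ, fun x => ?_⟩
  obtain ⟨q, hq⟩ := exists_of_mem_EO (hPE x.2)
  have hqP : q ∈ PQ := by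
    show thetaO ι q ∈ P
    rw [hq]; exact x.2
  have h1 : (⟨x, hPE x.2⟩ : EO ι) = epsO hl hι q := Subtype.ext hq.symm
  rw [h1, toE_apply, hδ ⟨q, hqP⟩, hf_apply]
  show φ ⟨thetaO ι q, hqP⟩ = φ x
  congr 1
  exact Subtype.ext hq

include hl hι hSι in
theorem hcen_E : centralizerIn S (EO ι) ≤ EO ι := by
  intro g hg
  obtain ⟨hgS, hgC⟩ := Subgroup.mem_inf.1 hg
  obtain ⟨q₀, rfl⟩ := hSι g hgS
  rw [Subgroup.mem_centralizer_iff] at hgC
  have h : ∀ q : Q, theta l q * q₀ = q₀ * theta l q := by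
    intro q
    apply hι
    rw [map_mul, map_mul]
    exact hgC _ (thetaO_mem ι q)
  rcases centralizer_theta hl q₀ (h _).symm (h _).symm with h1 | h1
  · rw [h1, map_one]; exact (EO ι).one_mem
  · rw [h1]; exact thetaO_mem ι _

include hl hι hSι in
theorem autInd_u {γ : MulAut (EO ι)} (h : γ ∈ autInducedBy S (EO ι)) :
    γ (epsO hl hι (a 1)) = epsO hl hι (a 1) ∨ γ (epsO hl hι (a 1)) = epsO hl hι (a 3) := by
  obtain ⟨g, hgS, hg⟩ := (mem_autInducedBy_iff S (EO ι) γ).1 h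
  obtain ⟨q₀, rfl⟩ := hSι g hgS
  have h1 := hg (epsO hl hι (a 1))
  rw [epsO_coe, thetaO_apply] at h1
  rcases conj_u (l := l) q₀ with h2 | h2
  · left
    apply Subtype.ext
    rw [h1, epsO_coe, thetaO_apply, mul_inv_eq_iff_eq_mul, ← map_mul, ← map_mul, h2]
  · right
    apply Subtype.ext
    rw [h1, epsO_coe, thetaO_apply, mul_inv_eq_iff_eq_mul, ← map_mul, ← map_mul, h2]

theorem good_a_xa : ∀ j : ZMod (2 * 2), Good (a 1) (xa j) ∧ Good (a 3) (xa j) := by decide

include hl hι hιS in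
theorem mem_autInd_of_u {γ : MulAut (EO ι)}
    (h : γ (epsO hl hι (a 1)) = epsO hl hι (a 1) ∨ γ (epsO hl hι (a 1)) = epsO hl hι (a 3)) :
    γ ∈ autInducedBy S (EO ι) := by
  set δ := toQ hl hι γ with hδ
  have hδ1 : δ (a 1) = a 1 ∨ δ (a 1) = a 3 := by
    rcases h with h | h
    · left
      apply (epsO hl hι).injective
      rw [toQ_apply, h]
    · right
      apply (epsO hl hι).injective
      rw [toQ_apply, h]
  obtain ⟨j, hj⟩ := xa_of_good _ _ (good_ev δ) hδ1
  obtain ⟨b, hb⟩ : ∃ b : Bool, δ (a 1) = if b then a 1 else a 3 := by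
    rcases hδ1 with h1 | h1
    · exact ⟨true, by simp [h1]⟩
    · exact ⟨false, by simp [h1]⟩
  obtain ⟨q₀, hq1, hq2⟩ := exists_realize (l := l) b j
  rw [← hb] at hq1
  rw [← hj] at hq2
  have key : (MulAut.conj (ι q₀)).toMonoidHom.comp (thetaO ι) = (thetaO ι).comp δ.toMonoidHom := by
    apply hom_ext_Q
    · show ι q₀ * thetaO ι (a 1) * (ι q₀)⁻¹ = thetaO ι (δ (a 1))
      rw [thetaO_apply, thetaO_apply, mul_inv_eq_iff_eq_mul, ← map_mul, ← map_mul, hq1]
    · show ι q₀ * thetaO ι (xa 0) * (ι q₀)⁻¹ = thetaO ι (δ (xa 0))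
      rw [thetaO_apply, thetaO_apply, mul_inv_eq_iff_eq_mul, ← map_mul, ← map_mul, hq2]
  rw [mem_autInducedBy_iff]
  refine ⟨ι q₀, hιS q₀, fun x => ?_⟩
  obtain ⟨q, rfl⟩ := exists_epsO hl hι x
  rw [← toQ_apply, epsO_coe, epsO_coe]
  exact (DFunLike.congr_fun key q).symm

end Core

end Cfsg.Agent.Helper75.SSX4b
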