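import Mathlib
import Cfsg.Agent.Helper75.SSX4bC

/-!
# S5287 piece (X4b), part D: Sylow property, TI property, minimality (helper75)
-/

set_option autoImplicit false
set_option linter.unusedVariables false
set_option linter.unusedSectionVars false
set_option linter.style.haveILetI false
set_option maxHeartbeats 1000000

namespace Cfsg.Agent.Helper75.SSX4b

open Cfsg Cfsg.FusionSystem Cfsg.Agent.Helper87 Cfsg.Agent.Helper85.AddAut Cfsg.Agent.Helper85.SS
open QuaternionGroup Cfsg.Agent.S3742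

variable {Ω : Type*} [Group Ω] {l : ℕ}

section Core

variable (hl : 0 < l) {ι : Qn l →* Ω} (hι : Function.Injective ι) {S : Subgroup Ω}
  (hιS : ∀ q, ι q ∈ S) (hSι : ∀ g ∈ S, ∃ q, ι q = g)

include hl hι hιS in
/-- the eight automorphisms in `Aut_S(E)` -/
theorem exists_autInd (b : Bool) (j : ZMod (2 * 2)) :
    ∃ γ : MulAut (EO ι), γ ∈ autInducedBy S (EO ι) ∧
      γ (epsO hl hι (a 1)) = epsO hl hι (if b then a 1 else a 3) ∧
      γ (epsO hl hι (xa 0)) = epsO hl hι (xa j) := by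
  have hgood : Good (if b then a 1 else a 3) (xa j) := by
    cases b
    · simpa using (good_a_xa j).2
    · simpa using (good_a_xa j).1
  let δ : MulAut Q := toAut ⟨(if b then a 1 else a 3, xa j), hgood⟩
  have h1 : δ (a 1) = if b then a 1 else a 3 := by
    rw [toAut_apply]; exact (mk_gen _ _).1
  have h2 : δ (xa 0) = xa j := by
    rw [toAut_apply]; exact (mk_gen _ _).2
  refine ⟨toE hl hι δ, ?_, ?_, ?_⟩
  · apply mem_autInd_of_u hl hι hιS
    rw [toE_apply, h1]
    cases b
    · right; simp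
    · left; simp
  · rw [toE_apply, h1]
  · rw [toE_apply, h2]

include hl hι hιS in
theorem hsyl_E [Finite S] (hS : IsPGroup 2 S) :
    ∃ R : Sylow 2 (MulAut (EO ι)), (R : Subgroup (MulAut (EO ι))) = autInducedBy S (EO ι) := by
  classical
  haveI : Finite (MulAut (EO ι)) :=
    Nat.finite_of_card_ne_zero (by rw [card_mulAut_EO hl hι]; norm_num)
  have hA : IsPGroup 2 (autInducedBy S (EO ι)) := isPGroup_autInducedBy hS (EO ι)
  -- eight elements
  choose F hF using fun p : Bool × ZMod (2 * 2) => exists_autInd hl hι hιS p.1 p.2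
  let F' : Bool × ZMod (2 * 2) → autInducedBy S (EO ι) := fun p => ⟨F p, (hF p).1⟩
  have hFinj : Function.Injective F' := by
    rintro ⟨b, j⟩ ⟨b', j'⟩ h
    have h0 : F (b, j) = F (b', j') := congrArg Subtype.val h
    have h1 := (hF (b, j)).2.1
    have h2 := (hF (b, j)).2.2
    rw [h0, (hF (b', j')).2.1] at h1
    rw [h0, (hF (b', j')).2.2] at h2
    have h3 := (epsO hl hι).injective h1
    have h4 := (epsO hl hι).injective h2
    have h5 : j = j' := by
      have := h4.symm
      injection this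
    have h6 : b = b' := by
      have hne : (a 1 : Q) ≠ a 3 := by decide
      cases b <;> cases b' <;> simp_all
    rw [h5, h6]
  have h8 : 8 ≤ Nat.card (autInducedBy S (EO ι)) := by
    have h := Nat.card_le_card_of_injective F' hFinj
    have hc : Nat.card (Bool × ZMod (2 * 2)) = 8 := by
      rw [Nat.card_eq_fintype_card]; rfl
    rwa [hc] at h
  obtain ⟨R, hR⟩ := hA.exists_le_sylow
  refine ⟨R, ?_⟩
  have hRle : Nat.card (R : Subgroup (MulAut (EO ι))) ≤ 8 := by
    obtain ⟨k, hk⟩ := R.2.exists_card_eq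
    have hdvd : Nat.card (R : Subgroup (MulAut (EO ι))) ∣ 24 := by
      rw [← card_mulAut_EO hl hι]
      exact Subgroup.card_subgroup_dvd_card _
    rw [hk] at hdvd ⊢
    have hk3 : k ≤ 3 := by
      by_contra hgt
      push Not at hgt
      have h16 : 2 ^ 4 ∣ 2 ^ k := pow_dvd_pow 2 hgt
      have := dvd_trans h16 hdvd
      norm_num at this
    calc 2 ^ k ≤ 2 ^ 3 := Nat.pow_le_pow_right (by norm_num) hk3
      _ = 8 := by norm_num
  exact (Subgroup.eq_of_le_of_card_ge hR (le_trans hRle h8)).symm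

end Core

theorem a_three_eq : (a 3 : Q) = (a 1)⁻¹ := by decide

section Core2

variable (hl : 0 < l) {ι : Qn l →* Ω} (hι : Function.Injective ι) {S : Subgroup Ω}
  (hιS : ∀ q, ι q ∈ S) (hSι : ∀ g ∈ S, ∃ q, ι q = g)

include hl hι hιS hSι in
theorem hTI_E (γ : MulAut (EO ι))
    (h : ∃ x ∈ S, ∃ hx : x ∈ Subgroup.normalizer ((EO ι : Subgroup Ω) : Set Ω), x ∉ EO ι ∧
      γ * conjAut (EO ι) x hx * γ⁻¹ ∈ autInducedBy S (EO ι)) : γ ∈ autInducedBy S (EO ι) := by
  obtain ⟨x, hxS, hx, hxE, hmem⟩ := h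
  obtain ⟨q₀, rfl⟩ := hSι x hxS
  have hq₀ : q₀ ∉ (theta l).range := by
    rintro ⟨q, rfl⟩
    exact hxE (thetaO_mem ι q)
  obtain ⟨t, ht⟩ := exists_epsO hl hι (γ⁻¹ (epsO hl hι (a 1)))
  have hγt : γ (epsO hl hι t) = epsO hl hι (a 1) := by
    rw [ht]; simp
  set δ := toQ hl hι γ with hδ
  have hδt : δ t = a 1 := by
    apply (epsO hl hι).injective
    rw [toQ_apply, hγt]
  have hδ2 : δ (a 2) = a 2 := by
    have h1 := (sq_of_good _ _ (good_ev δ)).1
    have h4 : (a 2 : Q) = (a 1) ^ 2 := by decide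
    calc δ (a 2) = δ ((a 1) ^ 2) := by rw [← h4]
      _ = (δ (a 1)) ^ 2 := map_pow _ _ _
      _ = a 2 := h1
  have ht2 : t ^ 2 = a 2 := by
    apply δ.injective
    rw [map_pow, hδt, hδ2]
    decide
  have hinv3 : epsO hl hι (a 3) = (epsO hl hι (a 1))⁻¹ := by
    rw [a_three_eq, map_inv]
  have hβ := autInd_u hl hι hSι hmem
  have hβ' : (γ * conjAut (EO ι) (ι q₀) hx * γ⁻¹) (epsO hl hι (a 1)) =
      γ (conjAut (EO ι) (ι q₀) hx (epsO hl hι t)) := by
    rw [MulAut.mul_apply, MulAut.mul_apply, ht]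
  rw [hβ'] at hβ
  -- the action of `c` on `t`
  have hct : ι q₀ * thetaO ι t * (ι q₀)⁻¹ = thetaO ι t ∨
      ι q₀ * thetaO ι t * (ι q₀)⁻¹ = (thetaO ι t)⁻¹ := by
    rcases hβ with h1 | h1
    · left
      rw [← hγt] at h1
      have h2 := γ.injective h1
      have h3 := congrArg Subtype.val h2
      rwa [conjAut_apply, epsO_coe] at h3
    · right
      rw [hinv3, ← hγt, ← map_inv] at h1
      have h2 := γ.injective h1
      have h3 := congrArg Subtype.val h2
      rwa [conjAut_apply, epsO_coe, Subgroup.coe_inv, epsO_coe] at h3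
  rcases a_or_xa_of_sq t ht2 with (h1 | h1) | ⟨i, h1⟩
  · apply mem_autInd_of_u hl hι hιS
    left
    rw [h1] at hγt; exact hγt
  · apply mem_autInd_of_u hl hι hιS
    right
    rw [h1, hinv3, map_inv] at hγt
    rw [hinv3]
    exact inv_eq_iff_eq_inv.1 hγt
  · exfalso
    apply hq₀
    apply mem_range_of_conj_xa hl q₀ i
    rw [h1, thetaO_apply] at hct
    rcases hct with h2 | h2
    · left
      apply hι
      rw [map_mul, map_mul]
      exact mul_inv_eq_iff_eq_mul.1 h2
    · right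
      apply hι
      rw [map_mul, map_mul, map_inv]
      exact mul_inv_eq_iff_eq_mul.1 h2

include hl hι hιS in
theorem hmin_E (P : Subgroup Ω) (hP : P < EO ι) :
    ∃ φ : P →* Ω, Function.Injective φ ∧ (∀ x : P, φ x ∈ EO ι) ∧
      ¬ centralizerIn S φ.range ≤ φ.range := by
  have hPE : P ≤ EO ι := hP.le
  by_cases h4 : ∃ q : Q, thetaO ι q ∈ P ∧ q ^ 2 = a 2
  · obtain ⟨q₁, hq₁P, hq₁⟩ := h4
    have hcyc : ∀ y ∈ P, ∃ k : Fin 4, y = thetaO ι (q₁ ^ (k : ℕ)) := by
      by_contra hcon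
      push Not at hcon
      obtain ⟨y, hyP, hy⟩ := hcon
      obtain ⟨q', rfl⟩ := exists_of_mem_EO (hPE hyP)
      have hne : ∀ k : Fin 4, q' ≠ q₁ ^ (k : ℕ) := fun k h => hy k (by rw [h])
      have htop : EO ι ≤ P := by
        rintro _ ⟨r, rfl⟩
        obtain ⟨i, j, rfl⟩ := gen_of_not_pow q₁ q' hq₁ hne r
        rw [map_mul, map_pow, map_pow]
        exact P.mul_mem (P.pow_mem hq₁P _) (P.pow_mem hyP _)
      exact absurd htop (not_le_of_gt hP)
    obtain ⟨δ, hδ⟩ := exists_aut_map q₁ (a 1) hq₁ (by decide)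
    let φ : P →* Ω :=
      (EO ι).subtype.comp ((toE hl hι δ).toMonoidHom.comp (Subgroup.inclusion hPE))
    have hφ_apply : ∀ (y : P) (k : Fin 4), (y : Ω) = thetaO ι (q₁ ^ (k : ℕ)) →
        φ y = thetaO ι (a (((k : ℕ) : ℕ) : ZMod (2 * 2))) := by
      intro y k hk
      have h1 : Subgroup.inclusion hPE y = epsO hl hι (q₁ ^ (k : ℕ)) := Subtype.ext hk
      show ((toE hl hι δ (Subgroup.inclusion hPE y) : EO ι) : Ω) = _
      rw [h1, toE_apply, map_pow, hδ, a_one_pow, epsO_coe]
    refine ⟨φ, ?_, fun x => (toE hl hι δ (Subgroup.inclusion hPE x)).2, ?_⟩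
    · intro y y' h
      have h1 : toE hl hι δ (Subgroup.inclusion hPE y) = toE hl hι δ (Subgroup.inclusion hPE y') :=
        Subtype.ext h
      exact Subgroup.inclusion_injective hPE ((toE hl hι δ).injective h1)
    · intro hle
      have hw : ι (a 1) ∈ centralizerIn S φ.range := by
        refine Subgroup.mem_inf.2 ⟨hιS _, ?_⟩
        rw [Subgroup.mem_centralizer_iff]
        rintro _ ⟨y, rfl⟩
        obtain ⟨k, hk⟩ := hcyc y y.2
        rw [hφ_apply y k hk, thetaO_apply, ← map_mul, ← map_mul, a_one_comm]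
      obtain ⟨y, hy⟩ := hle hw
      have h2 : ι (a 1) ∈ EO ι := by
        rw [← hy]; exact (toE hl hι δ (Subgroup.inclusion hPE y)).2
      obtain ⟨q, hq⟩ := h2
      exact a_one_not_mem_range (l := l) ⟨q, hι hq⟩
  · push Not at h4
    refine ⟨P.subtype, P.subtype_injective, fun x => hPE x.2, ?_⟩
    intro hle
    rw [Subgroup.range_subtype] at hle
    have hEP : EO ι ≤ P := by
      intro y hy
      apply hle
      refine Subgroup.mem_inf.2 ⟨EO_le hιS hy, ?_⟩
      rw [Subgroup.mem_centralizer_iff]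
      intro h hh
      obtain ⟨q, rfl⟩ := exists_of_mem_EO (hPE hh)
      obtain ⟨r, rfl⟩ := exists_of_mem_EO hy
      rcases small_of_no_four q (h4 q hh) with hq | hq
      · rw [hq, map_one, one_mul, mul_one]
      · rw [hq]
        show ι (theta l (a 2)) * ι (theta l r) = ι (theta l r) * ι (theta l (a 2))
        rw [← map_mul ι, ← map_mul ι, theta_a_two_central]
    exact absurd hEP (not_le_of_gt hP)

end Core2

end Cfsg.Agent.Helper75.SSX4b
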