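import Mathlib
import Cfsg.Agent.Helper75.SSX4bD
import Cfsg.Agent.Helper38.SSSat

/-!
# S5287 piece (X4b) (helper75, for helper85): a generalized quaternion group of order at least 16
carries a saturated fusion system without a chain of strongly closed subgroups with cyclic steps

`F = addAutSystem S E`, `E ≅ Q₈` the subgroup `⟨a (n/2), xa 0⟩`.  Saturation: helper38's (SAT)
`Cfsg.Agent.Helper38.SSSat.addAutSystem_isSaturated`.
-/

set_option autoImplicit false
set_option linter.unusedVariables false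
set_option linter.unusedSectionVars false
set_option linter.style.haveILetI false
set_option maxHeartbeats 1000000

namespace Cfsg.Agent.Helper75.SSX4b

open Cfsg Cfsg.FusionSystem Cfsg.Agent.Helper87 Cfsg.Agent.Helper85.AddAut Cfsg.Agent.Helper85.SS
open QuaternionGroup Cfsg.Agent.S3742

variable {Ω : Type*} [Group Ω] {l : ℕ}

section Core3

variable (hl : 0 < l) {ι : Qn l →* Ω} (hι : Function.Injective ι) {S : Subgroup Ω}
  (hιS : ∀ q, ι q ∈ S) (hSι : ∀ g ∈ S, ∃ q, ι q = g)

include hl hι hιS hSι in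
theorem no_chain (hP : IsPGroup 2 (Qn l)) :
    ¬ HasChain (addAutSystem S (EO ι) (EO_le hιS)) := by
  intro hch
  have hzc : ∀ g ∈ S, g * thetaO ι (a 2) = thetaO ι (a 2) * g := by
    intro g hg
    obtain ⟨q, rfl⟩ := hSι g hg
    show ι q * ι (theta l (a 2)) = ι (theta l (a 2)) * ι q
    rw [← map_mul ι, ← map_mul ι, theta_a_two_central]
  have hZE : Subgroup.zpowers (thetaO ι (a 2)) ≤ EO ι := by
    rw [Subgroup.zpowers_le]; exact thetaO_mem ι _
  have hZ : ¬ S ≤ Subgroup.zpowers (thetaO ι (a 2)) := by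
    intro h
    obtain ⟨q, hq⟩ := hZE (h (hιS (a 1)))
    exact a_one_not_mem_range (l := l) ⟨q, hι hq⟩
  obtain ⟨T, T', x, hxS, hTZ, hT'Z, hTsc, hT'sc, hT'⟩ := hch.exists_step _ hZ
  -- `T'` centralizes `x`
  have hT'x : ∀ y ∈ T', x * y = y * x := by
    have h1 : T' ≤ Subgroup.centralizer ({x} : Set Ω) := by
      rw [hT']
      apply sup_le
      · intro y hy
        obtain ⟨k, rfl⟩ := Subgroup.mem_zpowers_iff.1 (hTZ hy)
        rw [Subgroup.mem_centralizer_iff]
        intro h hh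
        rw [Set.mem_singleton_iff] at hh
        rw [hh]
        have hc : Commute x (thetaO ι (a 2)) := hzc x hxS
        exact (hc.zpow_right k).eq
      · rw [Subgroup.zpowers_le, Subgroup.mem_centralizer_iff]
        intro h hh
        rw [Set.mem_singleton_iff] at hh
        rw [hh]
    intro y hy
    exact (Subgroup.mem_centralizer_iff.1 (h1 hy)) x rfl
  have hxT' : x ∈ T' := by
    rw [hT']; exact Subgroup.mem_sup_right (Subgroup.mem_zpowers x)
  have hxZ : x ∉ Subgroup.zpowers (thetaO ι (a 2)) := by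
    intro h
    apply hT'Z
    rw [hT']
    exact sup_le hTZ (Subgroup.zpowers_le.2 h)
  -- `T'` is normal in `S`
  have hnorm : ∀ g ∈ S, ∀ y ∈ T', g * y * g⁻¹ ∈ T' := by
    intro g hg y hy
    have h1 : Subgroup.zpowers y ≤ T' := Subgroup.zpowers_le.2 hy
    have h2 := hT'sc.2 _ h1 (conjHom (Subgroup.zpowers y) g)
      ((addAutSystem S (EO ι) (EO_le hιS)).conj_mem (h1.trans hT'sc.1) hg)
      ⟨y, Subgroup.mem_zpowers y⟩
    exact h2
  obtain ⟨q₀, rfl⟩ := hSι x hxS
  rcases q₀ with i | i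
  · -- `x = a i`
    have h1 : (a i : Qn l) ≠ 1 := by
      intro h
      apply hxZ
      rw [h, map_one]; exact Subgroup.one_mem _
    have h2 : (a i : Qn l) ≠ theta l (a 2) := by
      intro h
      apply hxZ
      rw [h]; exact Subgroup.mem_zpowers _
    have hi := two_mul_ne_zero_of_ne hl i h1 h2
    obtain ⟨k, hk⟩ := exists_pow_eq_u hl hP i hi
    have huT' : thetaO ι (a 1) ∈ T' := by
      have h3 : ι (a i) ^ k ∈ T' := T'.pow_mem hxT' k
      rw [← map_pow] at h3
      rcases hk with hk | hk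
      · rw [hk] at h3; exact h3
      · rw [hk] at h3
        have h4 : thetaO ι (a 1) = (ι (theta l (a 3)))⁻¹ := by
          rw [thetaO_apply, ← map_inv, ← map_inv, a_three_eq, inv_inv]
        rw [h4]; exact T'.inv_mem h3
    obtain ⟨δ₁, hδ₁⟩ := exists_aut_map (a 1) (xa 0) (by decide) (by decide)
    have hRE : Subgroup.zpowers (thetaO ι (a 1)) ≤ EO ι := by
      rw [Subgroup.zpowers_le]; exact thetaO_mem ι _
    let φ : Subgroup.zpowers (thetaO ι (a 1)) →* Ω :=
      (EO ι).subtype.comp ((toE hl hι δ₁).toMonoidHom.comp (Subgroup.inclusion hRE))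
    have hφE : ∀ r, φ r ∈ EO ι := fun r => (toE hl hι δ₁ (Subgroup.inclusion hRE r)).2
    have hφF : φ ∈ (addAutSystem S (EO ι) (EO_le hιS)).Hom (Subgroup.zpowers (thetaO ι (a 1))) := by
      rw [mem_addAutSystem_iff]
      refine ⟨hRE.trans (EO_le hιS), Or.inr ⟨?_, ⟨1, S.one_mem, fun r => ?_⟩, 1, S.one_mem, fun r => ?_⟩⟩
      · intro y y' h
        have h1 : toE hl hι δ₁ (Subgroup.inclusion hRE y) = toE hl hι δ₁ (Subgroup.inclusion hRE y') :=
          Subtype.ext h
        exact Subgroup.inclusion_injective hRE ((toE hl hι δ₁).injective h1)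
      · simpa using hRE r.2
      · simpa using hφE r
    have hvT' : thetaO ι (xa 0) ∈ T' := by
      have h3 := hT'sc.2 _ (Subgroup.zpowers_le.2 huT') φ hφF
        ⟨thetaO ι (a 1), Subgroup.mem_zpowers _⟩
      have h4 : φ ⟨thetaO ι (a 1), Subgroup.mem_zpowers _⟩ = thetaO ι (xa 0) := by
        have h5 : Subgroup.inclusion hRE ⟨thetaO ι (a 1), Subgroup.mem_zpowers _⟩ =
            epsO hl hι (a 1) := Subtype.ext rfl
        show ((toE hl hι δ₁ (Subgroup.inclusion hRE _) : EO ι) : Ω) = _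
        rw [h5, toE_apply, hδ₁, epsO_coe]
      rwa [h4] at h3
    have h5 := hT'x _ hvT'
    apply hi
    apply two_mul_eq_zero_of_comm i
    apply hι
    rw [map_mul, map_mul]
    exact h5.symm
  · -- `x = xa i`
    have h1 : ι (a 1) * ι (xa i) * (ι (a 1))⁻¹ ∈ T' := hnorm _ (hιS _) _ hxT'
    have h2 : ι (a 1) * ι (xa i) * (ι (a 1))⁻¹ * (ι (xa i))⁻¹ ∈ T' :=
      T'.mul_mem h1 (T'.inv_mem hxT')
    have h3 : ι (a 1) * ι (xa i) * (ι (a 1))⁻¹ * (ι (xa i))⁻¹ = ι (a 2) := by
      rw [← map_inv, ← map_inv, ← map_mul, ← map_mul, ← map_mul, comm_a_one_xa]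
    rw [h3] at h2
    have h4 := hT'x _ h2
    apply a_two_not_comm hl i
    apply hι
    rw [map_mul, map_mul]
    exact h4.symm

include hl hι hιS hSι in
theorem core [Finite S] (hS : IsPGroup 2 S) (hP : IsPGroup 2 (Qn l)) :
    ∃ F : FusionSystem S, F.IsSaturated 2 ∧ ¬ HasChain F :=
  ⟨addAutSystem S (EO ι) (EO_le hιS),
    Cfsg.Agent.Helper38.SSSat.addAutSystem_isSaturated hS (EO_le hιS) (hhom_E hl hι)
      (hcen_E hl hι hSι) (hsyl_E hl hι hιS hS) (hTI_E hl hι hιS hSι) (hmin_E hl hι hιS),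
    no_chain hl hι hιS hSι hP⟩

end Core3

/-- **Piece (X4b)** of S5287. -/
theorem exists_bad_quaternion_large {S : Subgroup Ω} [Finite S] (hS : IsPGroup 2 S) (n : ℕ)
    (hn : 4 ≤ n) (e : ↥S ≃* QuaternionGroup n) :
    ∃ F : FusionSystem S, F.IsSaturated 2 ∧ ¬ HasChain F := by
  haveI : NeZero n := ⟨by omega⟩
  have hcard : Nat.card S = 4 * n := by
    rw [Nat.card_congr e.toEquiv, Nat.card_eq_fintype_card, QuaternionGroup.card]
  obtain ⟨k, hk⟩ := hS.exists_card_eq
  rw [hcard] at hk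
  have h4n : 4 ∣ n := by
    have hk4 : 4 ≤ k := by
      by_contra hlt
      push Not at hlt
      have : 2 ^ k ≤ 2 ^ 3 := Nat.pow_le_pow_right (by norm_num) (by omega)
      omega
    have h1 : (2 : ℕ) ^ k = 4 * (4 * 2 ^ (k - 4)) := by
      have : k = 4 + (k - 4) := by omega
      conv_lhs => rw [this, pow_add]
      ring
    rw [h1] at hk
    exact ⟨2 ^ (k - 4), by omega⟩
  obtain ⟨l, rfl⟩ := h4n
  have hl : 0 < l := by omega
  let ι : Qn l →* Ω := S.subtype.comp e.symm.toMonoidHom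
  have hι : Function.Injective ι := S.subtype_injective.comp e.symm.injective
  have hιS : ∀ q, ι q ∈ S := fun q => (e.symm q).2
  have hSι : ∀ g ∈ S, ∃ q, ι q = g := by
    intro g hg
    refine ⟨e ⟨g, hg⟩, ?_⟩
    show ((e.symm (e ⟨g, hg⟩) : S) : Ω) = g
    rw [MulEquiv.symm_apply_apply]
  have hP : IsPGroup 2 (Qn l) := hS.of_equiv e
  exact core hl hι hιS hSι hS hP

end Cfsg.Agent.Helper75.SSX4b
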