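import Mathlib
import Cfsg.Agent.S3769
import Cfsg.Agent.Helper71.QuotImage
import Cfsg.Agent.Helper71.ShultHall
import Cfsg.Agent.Helper75.ShultNilA

/-!
# Shult's theorem with a nilpotent target

`shult_nilpotent`: `R A₁` solvable of odd order, `A₁` of prime order `p ∤ |R|` normalizing `R`, both
normalizing a nilpotent group `K` of order prime to `|R A₁|` with `C_K(A₁) = 1`.  Then `[R, A₁]`
centralizes `K`.  (From S3769 applied to the Frattini quotients of the Sylow subgroups of `K`.)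
-/

set_option autoImplicit false

namespace Cfsg.Agent.Helper75.ShultNil

open Subgroup Cfsg.Agent.Helper71 Cfsg.Agent.Helper71.Shult
open scoped commutatorElement

variable {X : Type*} [Group X] [Finite X]

/-- Quotient step: `[L, [R, A₁]] ≤ Φ(L)`. -/
theorem comm_mem_fratIn {ℓ p : ℕ} [hℓ : Fact ℓ.Prime] (R A1 L : Subgroup X) (hp : p.Prime)
    (hA1 : Nat.card A1 = p) (hA1R : A1 ≤ normalizer (R : Set X))
    (hsolv : Group.IsSolvable ↥(R ⊔ A1)) (hodd : Odd (Nat.card ↥(R ⊔ A1)))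
    (hpR : ¬ p ∣ Nat.card R) (hL : IsPGroup ℓ L) (hL1 : L ≠ ⊥)
    (hRL : R ≤ normalizer (L : Set X)) (hAL : A1 ≤ normalizer (L : Set X))
    (hcop : (Nat.card ↥(R ⊔ A1)).Coprime (Nat.card L))
    (hfix : L ⊓ centralizer (A1 : Set X) = ⊥) :
    ∀ d ∈ ⁅R, A1⁆, ∀ x ∈ L, x⁻¹ * d⁻¹ * x * d ∈ fratIn L := by
  set Φ : Subgroup X := fratIn L with hΦ
  have hΦL : Φ ≤ L := fratIn_le L
  have hNL : normalizer (L : Set X) ≤ normalizer (Φ : Set X) := normalizer_le_normalizer_fratIn L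
  have hGL : R ⊔ A1 ≤ normalizer (L : Set X) := sup_le hRL hAL
  have hGn : R ⊔ A1 ≤ normalizer (Φ : Set X) := hGL.trans hNL
  have hRn : R ≤ normalizer (Φ : Set X) := hRL.trans hNL
  have hAn : A1 ≤ normalizer (Φ : Set X) := hAL.trans hNL
  have hLn : L ≤ normalizer (Φ : Set X) := le_normalizer.trans hNL
  -- `ℓ ∤ |R A₁|`
  have hℓL : ℓ ∣ Nat.card L := by
    obtain ⟨k, hk⟩ := (IsPGroup.iff_card).mp hL
    have hk0 : k ≠ 0 := by
      rintro rfl
      rw [pow_zero] at hk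
      exact hL1 (Subgroup.card_eq_one.mp hk)
    rw [hk]; exact dvd_pow_self ℓ hk0
  have hℓG : ¬ ℓ ∣ Nat.card ↥(R ⊔ A1) := by
    intro h
    have h1 : ℓ ∣ Nat.gcd (Nat.card ↥(R ⊔ A1)) (Nat.card L) := Nat.dvd_gcd h hℓL
    rw [hcop] at h1
    exact hℓ.out.one_lt.ne' (Nat.dvd_one.mp h1)
  have hcopΦ : (Nat.card ↥(R ⊔ A1)).Coprime (Nat.card Φ) :=
    Nat.Coprime.coprime_dvd_right (Subgroup.card_dvd_of_le hΦL) hcop
  have hGΦ : (R ⊔ A1) ⊓ Φ = ⊥ := inf_eq_bot_of_coprime_card hcopΦ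
  have hRΦ : R ⊓ Φ = ⊥ := by
    rw [eq_bot_iff, ← hGΦ]; exact inf_le_inf_right _ le_sup_left
  have hAΦ : A1 ⊓ Φ = ⊥ := by
    rw [eq_bot_iff, ← hGΦ]; exact inf_le_inf_right _ le_sup_right
  have hcG : Nat.card (QI.img Φ (R ⊔ A1)) = Nat.card ↥(R ⊔ A1) := QI.card_img hGn hGΦ
  have hcR : Nat.card (QI.img Φ R) = Nat.card R := QI.card_img hRn hRΦ
  have hcA : Nat.card (QI.img Φ A1) = p := by rw [QI.card_img hAn hAΦ, hA1]
  have hcopRA : (Nat.card (QI.img Φ R)).Coprime (Nat.card (QI.img Φ A1)) := by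
    rw [hcR, hcA]
    exact ((Nat.Prime.coprime_iff_not_dvd hp).mpr hpR).symm
  have hKR : QI.img Φ R ⊓ QI.img Φ A1 = ⊥ := inf_eq_bot_of_coprime_card hcopRA
  have hsup : QI.img Φ R ⊔ QI.img Φ A1 = QI.img Φ (R ⊔ A1) := (QI.img_sup hRn hAn).symm
  -- elementary abelian quotient
  have hV : Cfsg.IsElementaryAbelian ℓ (QI.img Φ L) := by
    constructor
    · refine ⟨⟨fun a b => ?_⟩⟩
      obtain ⟨s, hs, hsL, h1⟩ := QI.mem_img.mp a.2
      obtain ⟨t, ht, htL, h2⟩ := QI.mem_img.mp b.2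
      apply Subtype.ext
      rw [coe_mul, coe_mul, ← h1, ← h2, ← map_mul, ← map_mul, QI.proj_eq_proj_iff]
      show (s * t)⁻¹ * (t * s) ∈ Φ
      have h3 : ⁅t⁻¹, s⁻¹⁆ ∈ Φ := commutator_mem_fratIn hL (L.inv_mem htL) (L.inv_mem hsL)
      have e : (s * t)⁻¹ * (t * s) = ⁅t⁻¹, s⁻¹⁆ := by
        simp only [commutatorElement_def]; group
      rw [e]; exact h3
    · intro a ha
      obtain ⟨s, hs, hsL, rfl⟩ := QI.mem_img.mp ha
      rw [← map_pow, QI.proj_eq_one_iff]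
      show s ^ ℓ ∈ Φ
      exact pow_mem_fratIn hL hsL
  -- fixed points
  have hCV : QI.img Φ L ⊓
      centralizer ((QI.img Φ A1 : Subgroup (QI.Quo Φ)) : Set (QI.Quo Φ)) = ⊥ := by
    rw [eq_bot_iff]
    intro y hy
    obtain ⟨s, hs, hsL, h1, rfl⟩ := (QI.mem_img_inf_centralizer hAn).mp hy
    rw [mem_bot, QI.proj_eq_one_iff]
    show s ∈ Φ
    haveI : Fact p.Prime := ⟨hp⟩
    have hAp : IsPGroup p A1 := IsPGroup.of_card (n := 1) (by rw [hA1, pow_one])
    have hpΦ : ¬ p ∣ Nat.card Φ := by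
      intro h
      have h2 : p ∣ Nat.card ↥(R ⊔ A1) := by
        rw [← hA1]; exact Subgroup.card_dvd_of_le le_sup_right
      have h3 : p ∣ Nat.gcd (Nat.card ↥(R ⊔ A1)) (Nat.card Φ) := Nat.dvd_gcd h2 h
      rw [hcopΦ] at h3
      exact hp.one_lt.ne' (Nat.dvd_one.mp h3)
    obtain ⟨y, hy1, hy2⟩ := exists_fixed_in_coset hAp hpΦ hAn s (by
      intro a ha
      have h2 := h1 a⁻¹ (A1.inv_mem ha)
      have e : (a⁻¹ * s)⁻¹ * (s * a⁻¹) = s⁻¹ * (a * s * a⁻¹) := by group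
      rwa [e] at h2)
    have hyL : y ∈ L := by
      have h2 : s * (s⁻¹ * y) ∈ L := L.mul_mem hsL (hΦL hy1)
      rwa [mul_inv_cancel_left] at h2
    have hyC : y ∈ centralizer (A1 : Set X) := by
      rw [mem_centralizer_iff]
      intro a ha
      have h2 := hy2 a ha
      calc a * y = a * y * a⁻¹ * a := by group
        _ = y * a := by rw [h2]
    have hy0 : y ∈ L ⊓ centralizer (A1 : Set X) := ⟨hyL, hyC⟩
    rw [hfix, mem_bot] at hy0
    rw [hy0, mul_one] at hy1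
    exact (Φ.inv_mem_iff).mp hy1
  have hGR : R ⊔ A1 ≤ normalizer (R : Set X) := sup_le le_normalizer hA1R
  have key := Cfsg.Agent.S3769.result (X := QI.Quo Φ) (QI.img Φ (R ⊔ A1))
    (solvable_of_surjective (QI.imgHom_surjective Φ hGn))
    (by rw [hcG]; exact hodd) (QI.img Φ L) hℓ.out hV (by rw [hcG]; exact hℓG)
    (QI.img_le_normalizer hGL) (QI.img Φ R) (QI.img Φ A1) (QI.img_mono le_sup_left)
    (QI.img_le_normalizer hGR)
    (by
      rw [← hsup, relIndex_sup_eq_card (QI.img_le_normalizer hA1R) hKR]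
      exact hcopRA)
    (QI.img_mono le_sup_right) (by rw [hcA]; exact hp) hKR hsup hCV
  -- pull back
  set T : Subgroup X :=
    ((centralizer ((QI.img Φ L : Subgroup (QI.Quo Φ)) : Set (QI.Quo Φ))).comap (QI.proj Φ)).map
      (normalizer (Φ : Set X)).subtype with hT
  have hDT : ⁅A1, R⁆ ≤ T := by
    rw [commutator_le]
    intro a ha r hr
    refine ⟨⁅(⟨a, hAn ha⟩ : ↥(normalizer (Φ : Set X))), ⟨r, hRn hr⟩⁆, ?_, ?_⟩
    · rw [SetLike.mem_coe, mem_comap, map_commutatorElement]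
      exact key (commutator_mem_commutator (QI.mem_img.mpr ⟨a, hAn ha, ha, rfl⟩)
        (QI.mem_img.mpr ⟨r, hRn hr, hr, rfl⟩))
    · simp [commutatorElement_def]
  intro d hd x hx
  rw [commutator_comm] at hd
  obtain ⟨d', hd', rfl⟩ := hDT hd
  rw [SetLike.mem_coe, mem_comap] at hd'
  have hx' : x⁻¹ ∈ L := L.inv_mem hx
  have h3 := mem_centralizer_iff.mp hd' (QI.proj Φ ⟨x⁻¹, hLn hx'⟩)
    (QI.mem_img.mpr ⟨x⁻¹, hLn hx', hx', rfl⟩)
  rw [← map_mul, ← map_mul, QI.proj_eq_proj_iff] at h3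
  have h4 : ((d' : X))⁻¹ * x * (d' : X) * x⁻¹ ∈ Φ := by
    have e : (((⟨x⁻¹, hLn hx'⟩ * d' : ↥(normalizer (Φ : Set X))) : X))⁻¹ *
        ((d' * ⟨x⁻¹, hLn hx'⟩ : ↥(normalizer (Φ : Set X))) : X)
        = ((d' : X))⁻¹ * x * (d' : X) * x⁻¹ := by
      simp only [Subgroup.coe_mul]
      group
    rw [← e]; exact h3
  have h5 := (mem_normalizer_iff.mp (hLn hx') _).mp h4
  have e2 : x⁻¹ * ((d' : X)⁻¹ * x * (d' : X) * x⁻¹) * x⁻¹⁻¹
      = x⁻¹ * ((normalizer (Φ : Set X)).subtype d')⁻¹ * x * (normalizer (Φ : Set X)).subtype d' := by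
    simp only [Subgroup.coe_subtype]
    group
  rw [e2] at h5
  exact h5

/-- The `ℓ`-group case of `shult_nilpotent`. -/
theorem shult_pgroup {ℓ p : ℕ} [hℓ : Fact ℓ.Prime] (R A1 : Subgroup X) (hp : p.Prime)
    (hA1 : Nat.card A1 = p) (hA1R : A1 ≤ normalizer (R : Set X))
    (hsolv : Group.IsSolvable ↥(R ⊔ A1)) (hodd : Odd (Nat.card ↥(R ⊔ A1)))
    (hpR : ¬ p ∣ Nat.card R) :
    ∀ (n : ℕ) (L : Subgroup X), Nat.card L ≤ n → IsPGroup ℓ L →
      R ≤ normalizer (L : Set X) → A1 ≤ normalizer (L : Set X) →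
      (Nat.card ↥(R ⊔ A1)).Coprime (Nat.card L) → L ⊓ centralizer (A1 : Set X) = ⊥ →
      ⁅R, A1⁆ ≤ centralizer (L : Set X) := by
  intro n
  induction n with
  | zero =>
    intro L hn _ _ _ _ _
    have : 0 < Nat.card L := Nat.card_pos
    omega
  | succ n ih =>
    intro L hn hL hRL hAL hcop hfix
    by_cases hL1 : L = ⊥
    · subst hL1
      intro g _
      rw [mem_centralizer_iff]
      intro v hv
      have hv1 : v = 1 := by simpa using hv
      subst hv1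
      simp
    set Φ : Subgroup X := fratIn L with hΦ
    have hΦL : Φ ≤ L := fratIn_le L
    have hNL : normalizer (L : Set X) ≤ normalizer (Φ : Set X) :=
      normalizer_le_normalizer_fratIn L
    have hlt : Nat.card Φ < Nat.card L := by
      have h1 : Nat.card Φ ≤ Nat.card L := Subgroup.card_le_of_le hΦL
      rcases lt_or_eq_of_le h1 with h2 | h2
      · exact h2
      · exact absurd (Subgroup.eq_of_le_of_card_ge hΦL h2.ge) (fratIn_ne hL1)
    have hΦc : ⁅R, A1⁆ ≤ centralizer (Φ : Set X) := by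
      apply ih Φ (by omega) (hL.to_le hΦL) (hRL.trans hNL) (hAL.trans hNL)
        (Nat.Coprime.coprime_dvd_right (Subgroup.card_dvd_of_le hΦL) hcop)
      rw [eq_bot_iff, ← hfix]
      exact inf_le_inf_right _ hΦL
    have hstep := comm_mem_fratIn R A1 L hp hA1 hA1R hsolv hodd hpR hL hL1 hRL hAL hcop hfix
    have hDG : ⁅R, A1⁆ ≤ R ⊔ A1 := by
      rw [commutator_le]
      intro r hr a ha
      rw [commutatorElement_def]
      have hr' : r ∈ R ⊔ A1 := le_sup_left (a := R) hr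
      have ha' : a ∈ R ⊔ A1 := le_sup_right (b := A1) ha
      exact mul_mem (mul_mem (mul_mem hr' ha') (inv_mem hr')) (inv_mem ha')
    have hDL : ⁅R, A1⁆ ≤ normalizer (L : Set X) := hDG.trans (sup_le hRL hAL)
    have hLD : ⁅L, ⁅R, A1⁆⁆ ≤ Φ := by
      rw [commutator_le]
      intro x hx d hd
      have := hstep d⁻¹ (inv_mem hd) x⁻¹ (L.inv_mem hx)
      have e : x⁻¹⁻¹ * d⁻¹⁻¹ * x⁻¹ * d⁻¹ = ⁅x, d⁆ := by
        simp only [commutatorElement_def]; group
      rwa [e] at this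
    have hcopD : (Nat.card ↥⁅R, A1⁆).Coprime ℓ := by
      have h1 : (Nat.card ↥⁅R, A1⁆).Coprime (Nat.card L) :=
        Nat.Coprime.coprime_dvd_left (Subgroup.card_dvd_of_le hDG) hcop
      have hℓL : ℓ ∣ Nat.card L := by
        obtain ⟨k, hk⟩ := (IsPGroup.iff_card).mp hL
        have hk0 : k ≠ 0 := by
          rintro rfl
          rw [pow_zero] at hk
          exact hL1 (Subgroup.card_eq_one.mp hk)
        rw [hk]; exact dvd_pow_self ℓ hk0
      exact Nat.Coprime.coprime_dvd_right hℓL h1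
    have h2 : ⁅⁅L, ⁅R, A1⁆⁆, ⁅R, A1⁆⁆ = ⊥ := by
      rw [eq_bot_iff]
      calc ⁅⁅L, ⁅R, A1⁆⁆, ⁅R, A1⁆⁆ ≤ ⁅Φ, ⁅R, A1⁆⁆ := commutator_mono hLD le_rfl
        _ = ⊥ := by
          rw [commutator_comm, commutator_eq_bot_iff_le_centralizer]
          exact hΦc
    have h3 := comm_eq_bot_of_comm_comm_eq_bot hL hcopD hDL h2
    rw [commutator_comm, commutator_eq_bot_iff_le_centralizer] at h3
    exact h3

/-- **Shult's theorem, nilpotent target.** -/
theorem shult_nilpotent (K R A1 : Subgroup X) {p : ℕ} (hK : Group.IsNilpotent ↥K)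
    (hp : p.Prime) (hA1 : Nat.card A1 = p) (hA1R : A1 ≤ normalizer (R : Set X))
    (hRK : R ≤ normalizer (K : Set X)) (hA1K : A1 ≤ normalizer (K : Set X))
    (hsolv : Group.IsSolvable ↥(R ⊔ A1)) (hodd : Odd (Nat.card ↥(R ⊔ A1)))
    (hcop : (Nat.card ↥(R ⊔ A1)).Coprime (Nat.card K)) (hpR : ¬ p ∣ Nat.card R)
    (hfix : K ⊓ centralizer (A1 : Set X) = ⊥) :
    ⁅R, A1⁆ ≤ centralizer (K : Set X) := by
  have hD : K ⊓ centralizer ((⁅R, A1⁆ : Subgroup X) : Set X) = K := by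
    apply eq_of_contains_sylows inf_le_left
    intro q hq
    haveI : Fact q.Prime := ⟨hq⟩
    obtain ⟨P⟩ : Nonempty (Sylow q ↥K) := inferInstance
    refine ⟨P, ?_⟩
    have hPn : (P : Subgroup ↥K).Normal := inferInstance
    haveI hPc : (P : Subgroup ↥K).Characteristic := P.characteristic_of_normal hPn
    have hNK : normalizer (K : Set X) ≤
        normalizer (((P : Subgroup ↥K).map K.subtype : Subgroup X) : Set X) :=
      normalizer_le_normalizer_map_of_characteristic (P : Subgroup ↥K)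
    have hLK : (P : Subgroup ↥K).map K.subtype ≤ K := map_subtype_le _
    have h1 := shult_pgroup (ℓ := q) R A1 hp hA1 hA1R hsolv hodd hpR _
      ((P : Subgroup ↥K).map K.subtype) le_rfl (P.isPGroup'.map _) (hRK.trans hNK)
      (hA1K.trans hNK) (Nat.Coprime.coprime_dvd_right (Subgroup.card_dvd_of_le hLK) hcop)
      (by rw [eq_bot_iff, ← hfix]; exact inf_le_inf_right _ hLK)
    exact le_inf hLK (le_centralizer_symm h1)
  rw [← hD]
  exact le_centralizer_symm inf_le_right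

end Cfsg.Agent.Helper75.ShultNil
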