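import Mathlib
import Cfsg.Agent.Helper83.Sp4EvenB

/-!
# `Sp₄(F)`, `card F = 2`, is generated by two elements (piece (Q2) of helper15's S2292 plan)

`Sp₄(2) ≅ S₆`.  We take `a = x₁x₂x₃`, `b = x₄x₅` (explicit products of root elements) and reach each of the
eight root elements `spM p q 1` by a straight-line program of products `Z i * Z 0 = Z k` / `Z i * Z 1 = Z k` of explicit
`4 × 4` matrices over `ZMod 2` (each checked by `decide`), transported to `F` along `ZMod 2 →+* F`; the root elements generate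
`Sp₄(F)` (`XS_closure`).  The file is generated by a script (BFS in the Cayley graph).
-/

set_option autoImplicit false

namespace Cfsg.Agent.Helper75.Sp4Two

open Matrix Cfsg.Agent.Helper96.StN Cfsg.Agent.Helper96.StC Cfsg.Agent.Helper29.StCM
  Cfsg.Agent.Helper19.SpBN

universe u

/-- `4 × 4` matrices over the prime field, indexed as in `Matrix.symplecticGroup (Fin 2)` -/
abbrev M2 : Type := Matrix (Fin 2 ⊕ Fin 2) (Fin 2 ⊕ Fin 2) (ZMod 2)

/-- the explicit matrices of the straight-line program -/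
def Z : ℕ → M2
  | 0 => fromBlocks !![1, 1; 0, 1] !![0, 1; 0, 1] !![0, 0; 0, 1] !![1, 0; 1, 0]
  | 1 => fromBlocks !![1, 0; 1, 1] !![1, 1; 0, 0] !![0, 0; 0, 0] !![1, 1; 0, 1]
  | 2 => fromBlocks !![1, 1; 0, 0] !![1, 0; 1, 1] !![0, 0; 0, 1] !![1, 0; 1, 1]
  | 3 => fromBlocks !![0, 1; 0, 0] !![0, 0; 1, 0] !![0, 0; 1, 1] !![1, 1; 1, 0]
  | 4 => fromBlocks !![1, 1; 0, 0] !![0, 0; 1, 1] !![0, 0; 0, 1] !![1, 0; 0, 0]
  | 5 => fromBlocks !![1, 0; 0, 1] !![0, 0; 0, 0] !![0, 0; 0, 1] !![1, 0; 0, 1]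
  | 6 => fromBlocks !![1, 0; 0, 1] !![0, 1; 1, 1] !![0, 0; 0, 0] !![1, 0; 0, 1]
  | 7 => fromBlocks !![1, 0; 0, 0] !![1, 1; 0, 1] !![0, 0; 0, 1] !![1, 0; 1, 0]
  | 8 => fromBlocks !![1, 0; 0, 0] !![0, 1; 0, 1] !![0, 0; 1, 1] !![1, 1; 1, 1]
  | 9 => fromBlocks !![1, 0; 0, 1] !![1, 1; 1, 0] !![0, 1; 1, 1] !![0, 0; 0, 0]
  | 10 => fromBlocks !![1, 0; 1, 1] !![0, 1; 1, 1] !![1, 1; 0, 1] !![0, 0; 1, 1]
  | 11 => fromBlocks !![1, 0; 1, 1] !![1, 1; 0, 0] !![1, 0; 0, 0] !![0, 0; 0, 1]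
  | 12 => fromBlocks !![1, 0; 0, 1] !![0, 1; 1, 1] !![1, 0; 0, 0] !![1, 1; 0, 1]
  | 13 => fromBlocks !![1, 0; 1, 1] !![1, 0; 1, 0] !![1, 0; 0, 0] !![0, 1; 0, 1]
  | 14 => fromBlocks !![1, 0; 0, 1] !![0, 0; 0, 0] !![1, 0; 0, 0] !![1, 0; 0, 1]
  | 15 => fromBlocks !![1, 0; 0, 1] !![0, 1; 1, 1] !![0, 1; 1, 0] !![0, 1; 0, 0]
  | 16 => fromBlocks !![1, 0; 1, 1] !![1, 0; 1, 0] !![1, 1; 1, 0] !![0, 1; 1, 1]
  | 17 => fromBlocks !![1, 0; 0, 1] !![0, 0; 0, 0] !![0, 1; 1, 0] !![1, 0; 0, 1]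
  | 18 => fromBlocks !![1, 0; 0, 1] !![1, 0; 0, 0] !![0, 0; 0, 0] !![1, 0; 0, 1]
  | 19 => fromBlocks !![1, 0; 1, 1] !![0, 0; 0, 0] !![0, 0; 0, 0] !![1, 1; 0, 1]
  | 20 => fromBlocks !![1, 0; 1, 1] !![1, 1; 0, 0] !![0, 0; 1, 1] !![1, 1; 0, 1]
  | 21 => fromBlocks !![1, 0; 0, 1] !![0, 1; 1, 1] !![0, 0; 0, 1] !![1, 0; 1, 0]
  | 22 => fromBlocks !![1, 0; 0, 0] !![1, 1; 0, 1] !![0, 0; 0, 1] !![1, 0; 1, 1]
  | 23 => fromBlocks !![1, 0; 0, 1] !![0, 1; 1, 0] !![0, 0; 0, 0] !![1, 0; 0, 1]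
  | 24 => fromBlocks !![1, 0; 1, 1] !![1, 0; 1, 1] !![0, 0; 0, 0] !![1, 1; 0, 1]
  | 25 => fromBlocks !![1, 0; 0, 1] !![0, 0; 0, 1] !![0, 0; 0, 0] !![1, 0; 0, 1]
  | 26 => fromBlocks !![1, 1; 0, 1] !![1, 1; 0, 1] !![0, 0; 0, 1] !![1, 0; 1, 0]
  | 27 => fromBlocks !![0, 1; 1, 1] !![0, 1; 0, 1] !![0, 0; 1, 1] !![1, 1; 1, 1]
  | 28 => fromBlocks !![1, 1; 0, 1] !![0, 1; 1, 0] !![0, 0; 0, 1] !![1, 0; 0, 1]
  | 29 => fromBlocks !![1, 1; 0, 1] !![1, 0; 1, 1] !![0, 0; 0, 0] !![1, 0; 1, 1]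
  | 30 => fromBlocks !![0, 1; 1, 1] !![0, 0; 1, 0] !![0, 0; 0, 0] !![1, 1; 1, 0]
  | 31 => fromBlocks !![1, 1; 0, 1] !![0, 0; 0, 0] !![0, 0; 0, 0] !![1, 0; 1, 1]
  | _ => 1

theorem base0 : (spM (Sum.inl 0) (Sum.inl 1) (1 : ZMod 2) * spM (Sum.inr 1) (Sum.inl 1) (1 : ZMod 2) * spM (Sum.inl 1) (Sum.inr 1) (1 : ZMod 2) : M2) = Z 0 := by
  decide +kernel

theorem base1 : (spM (Sum.inl 0) (Sum.inr 0) (1 : ZMod 2) * spM (Sum.inl 1) (Sum.inl 0) (1 : ZMod 2) : M2) = Z 1 := by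
  decide +kernel

theorem st2 : Z 0 * Z 0 = Z 2 := by
  decide +kernel

theorem st3 : Z 2 * Z 1 = Z 3 := by
  decide +kernel

theorem st4 : Z 3 * Z 1 = Z 4 := by
  decide +kernel

theorem st5 : Z 4 * Z 0 = Z 5 := by
  decide +kernel

theorem st6 : Z 1 * Z 1 = Z 6 := by
  decide +kernel

theorem st7 : Z 6 * Z 0 = Z 7 := by
  decide +kernel

theorem st8 : Z 7 * Z 1 = Z 8 := by
  decide +kernel

theorem st9 : Z 8 * Z 0 = Z 9 := by
  decide +kernel

theorem st10 : Z 9 * Z 1 = Z 10 := by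
  decide +kernel

theorem st11 : Z 10 * Z 0 = Z 11 := by
  decide +kernel

theorem st12 : Z 11 * Z 1 = Z 12 := by
  decide +kernel

theorem st13 : Z 12 * Z 1 = Z 13 := by
  decide +kernel

theorem st14 : Z 13 * Z 1 = Z 14 := by
  decide +kernel

theorem st15 : Z 9 * Z 0 = Z 15 := by
  decide +kernel

theorem st16 : Z 15 * Z 1 = Z 16 := by
  decide +kernel

theorem st17 : Z 16 * Z 1 = Z 17 := by
  decide +kernel

theorem st18 : Z 2 * Z 0 = Z 18 := by
  decide +kernel

theorem st19 : Z 18 * Z 1 = Z 19 := by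
  decide +kernel

theorem st20 : Z 5 * Z 1 = Z 20 := by
  decide +kernel

theorem st21 : Z 20 * Z 1 = Z 21 := by
  decide +kernel

theorem st22 : Z 21 * Z 0 = Z 22 := by
  decide +kernel

theorem st23 : Z 22 * Z 0 = Z 23 := by
  decide +kernel

theorem st24 : Z 23 * Z 1 = Z 24 := by
  decide +kernel

theorem st25 : Z 24 * Z 1 = Z 25 := by
  decide +kernel

theorem st26 : Z 18 * Z 0 = Z 26 := by
  decide +kernel

theorem st27 : Z 26 * Z 1 = Z 27 := by
  decide +kernel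

theorem st28 : Z 27 * Z 1 = Z 28 := by
  decide +kernel

theorem st29 : Z 28 * Z 0 = Z 29 := by
  decide +kernel

theorem st30 : Z 29 * Z 1 = Z 30 := by
  decide +kernel

theorem st31 : Z 30 * Z 1 = Z 31 := by
  decide +kernel

theorem tgt : ∀ p q : Fin 2 ⊕ Fin 2, p ≠ q → ∃ k ∈ [5, 14, 17, 18, 19, 23, 25, 31], spM p q (1 : ZMod 2) = Z k := by
  decide +kernel

section transfer

variable {F : Type u} [Field F]

/-- the first generator -/
def gA (F : Type u) [Field F] : SpG F 2 := XS F 2 (Sum.inl 0) (Sum.inl 1) 1 * XS F 2 (Sum.inr 1) (Sum.inl 1) 1 * XS F 2 (Sum.inl 1) (Sum.inr 1) 1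

/-- the second generator -/
def gB (F : Type u) [Field F] : SpG F 2 := XS F 2 (Sum.inl 0) (Sum.inr 0) 1 * XS F 2 (Sum.inl 1) (Sum.inl 0) 1

/-- `Z k` (transported to `F`) is the matrix of an element of the subgroup generated by `gA`, `gB` -/
def Good (F : Type u) [Field F] [CharP F 2] (k : ℕ) : Prop :=
  ∃ g ∈ Subgroup.closure ({gA F, gB F} : Set (SpG F 2)), g.1 = (Cfsg.Agent.Helper83.Sp4E.phi F).mapMatrix (Z k)

variable [CharP F 2]

theorem good_mul {i j k : ℕ} (hi : Good F i) (hj : Good F j) (h : Z i * Z j = Z k) : Good F k := by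
  obtain ⟨g, hg, hg'⟩ := hi
  obtain ⟨g2, hg2, hg2'⟩ := hj
  refine ⟨g * g2, mul_mem hg hg2, ?_⟩
  rw [← h, map_mul, ← hg', ← hg2']
  rfl

theorem good0 : Good F 0 := by
  refine ⟨gA F, Subgroup.subset_closure (by simp), ?_⟩
  rw [← base0]
  simp only [map_mul, Cfsg.Agent.Helper83.Sp4E.spM_one_map]
  unfold gA
  simp only [Submonoid.coe_mul]
  rw [XS_coe (by decide) 1, XS_coe (by decide) 1, XS_coe (by decide) 1]

theorem good1 : Good F 1 := by
  refine ⟨gB F, Subgroup.subset_closure (by simp), ?_⟩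
  rw [← base1]
  simp only [map_mul, Cfsg.Agent.Helper83.Sp4E.spM_one_map]
  unfold gB
  simp only [Submonoid.coe_mul]
  rw [XS_coe (by decide) 1, XS_coe (by decide) 1]

theorem good2 : Good F 2 := good_mul good0 good0 st2

theorem good3 : Good F 3 := good_mul good2 good1 st3

theorem good4 : Good F 4 := good_mul good3 good1 st4

theorem good5 : Good F 5 := good_mul good4 good0 st5

theorem good6 : Good F 6 := good_mul good1 good1 st6

theorem good7 : Good F 7 := good_mul good6 good0 st7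

theorem good8 : Good F 8 := good_mul good7 good1 st8

theorem good9 : Good F 9 := good_mul good8 good0 st9

theorem good10 : Good F 10 := good_mul good9 good1 st10

theorem good11 : Good F 11 := good_mul good10 good0 st11

theorem good12 : Good F 12 := good_mul good11 good1 st12

theorem good13 : Good F 13 := good_mul good12 good1 st13

theorem good14 : Good F 14 := good_mul good13 good1 st14

theorem good15 : Good F 15 := good_mul good9 good0 st15

theorem good16 : Good F 16 := good_mul good15 good1 st16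

theorem good17 : Good F 17 := good_mul good16 good1 st17

theorem good18 : Good F 18 := good_mul good2 good0 st18

theorem good19 : Good F 19 := good_mul good18 good1 st19

theorem good20 : Good F 20 := good_mul good5 good1 st20

theorem good21 : Good F 21 := good_mul good20 good1 st21

theorem good22 : Good F 22 := good_mul good21 good0 st22

theorem good23 : Good F 23 := good_mul good22 good0 st23

theorem good24 : Good F 24 := good_mul good23 good1 st24

theorem good25 : Good F 25 := good_mul good24 good1 st25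

theorem good26 : Good F 26 := good_mul good18 good0 st26

theorem good27 : Good F 27 := good_mul good26 good1 st27

theorem good28 : Good F 28 := good_mul good27 good1 st28

theorem good29 : Good F 29 := good_mul good28 good0 st29

theorem good30 : Good F 30 := good_mul good29 good1 st30

theorem good31 : Good F 31 := good_mul good30 good1 st31

theorem good_tgt : ∀ k ∈ [5, 14, 17, 18, 19, 23, 25, 31], Good F k := by
  intro k hk
  simp only [List.mem_cons, List.not_mem_nil, or_false] at hk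
  rcases hk with rfl | rfl | rfl | rfl | rfl | rfl | rfl | rfl
  · exact good5
  · exact good14
  · exact good17
  · exact good18
  · exact good19
  · exact good23
  · exact good25
  · exact good31

theorem XS_one_mem (p q : Fin 2 ⊕ Fin 2) (hpq : p ≠ q) :
    XS F 2 p q 1 ∈ Subgroup.closure ({gA F, gB F} : Set (SpG F 2)) := by
  obtain ⟨k, hk, hZ⟩ := tgt p q hpq
  obtain ⟨g, hg, hg'⟩ := good_tgt (F := F) k hk
  have : XS F 2 p q 1 = g := by
    apply Subtype.ext
    rw [XS_coe hpq, hg', ← hZ, Cfsg.Agent.Helper83.Sp4E.spM_one_map]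
  rw [this]
  exact hg

end transfer

/-- **(Q2)** `Sp₄(F)` for `card F = 2` is generated by two elements. -/
theorem sp4_two_generated_two {F : Type u} [Field F] [Fintype F] (h : Fintype.card F = 2) :
    ∃ a b : Matrix.symplecticGroup (Fin 2) F, Subgroup.closure {a, b} = ⊤ := by
  classical
  have h2 : (2 : F) = 0 := by
    have := card_nsmul_eq_zero (G := F) (x := 1)
    rw [h] at this
    simpa using this
  have : CharP F 2 := CharTwo.of_one_ne_zero_of_two_eq_zero one_ne_zero h2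
  have h01 : ∀ t : F, t = 0 ∨ t = 1 := by
    intro t
    have hs : ({0, 1} : Finset F) = Finset.univ := by
      apply Finset.eq_univ_of_card
      rw [Finset.card_pair zero_ne_one, h]
    have : t ∈ ({0, 1} : Finset F) := by rw [hs]; exact Finset.mem_univ t
    simpa using this
  refine ⟨gA F, gB F, ?_⟩
  rw [eq_top_iff, ← XS_closure, Subgroup.closure_le]
  rintro _ ⟨p, q, hpq, t, rfl⟩
  rcases h01 t with rfl | rfl
  · have h0 := (XS_spRel (K := F) (m := 2)).add p q hpq 0 0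
    rw [add_zero] at h0
    have h1 : XS F 2 p q 0 = 1 := by
      have := mul_left_cancel (a := XS F 2 p q 0) (b := XS F 2 p q 0) (c := 1) (by rw [mul_one]; exact h0.symm)
      exact this
    rw [SetLike.mem_coe, h1]
    exact one_mem _
  · exact XS_one_mem p q hpq

end Cfsg.Agent.Helper75.Sp4Two
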