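import Mathlib
import Cfsg.Prelude.Def_Characters
import Cfsg.Prelude.Def_Blocks

/-!
# (AB2) of helper80's WANTED #10361 for S2333: the orbit bound
-/

set_option autoImplicit false
set_option linter.unusedSectionVars false

namespace Cfsg.Agent.Helper75.SpE

open Matrix

section abs

variable {G : Type*} [Group G] [Fintype G] {V : Type*} [AddCommGroup V] [Fintype V]

/-- (AB2) the orbit bound: if `L` normalises the abelian subgroup `u(V)` and some element of
`u(V0)` is not in the kernel of `χ`, then some character `ψ` of `V`, non-trivial on `V0`, has an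
`L`-orbit of length at most `χ(1)`. -/
theorem orbit_bound_of_mult {L : Type*} [Group L] [Fintype L] [DistribMulAction L V]
    (u : Multiplicative V →* G) (ι : L →* G)
    (hconj : ∀ (l : L) (v : V), ι l * u (Multiplicative.ofAdd v) * (ι l)⁻¹ =
      u (Multiplicative.ofAdd (l • v)))
    {χ : G → ℂ} (hχ : Cfsg.IsCharacter G χ) (m : AddChar V ℂ → ℕ)
    (hm1 : ∀ v : V, χ (u (Multiplicative.ofAdd v)) = ∑ ψ : AddChar V ℂ, (m ψ : ℂ) * ψ v)
    (hm2 : ∀ ψ : AddChar V ℂ, (m ψ : ℂ) * (Fintype.card V : ℂ) =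
        ∑ v : V, χ (u (Multiplicative.ofAdd v)) * ψ (-v))
    (V0 : Set V) (hker : ∃ v ∈ V0, χ (u (Multiplicative.ofAdd v)) ≠ χ 1) :
    ∃ ψ : AddChar V ℂ, (∃ v ∈ V0, ψ v ≠ 1) ∧
      Fintype.card L ≤ Cfsg.charDegree χ * Nat.card {l : L // ∀ v : V, ψ (l • v) = ψ v} := by
  classical
  obtain ⟨n, ρ, hρ⟩ := hχ
  -- `χ` is a class function and `χ 1 = n = charDegree χ`
  have hclass : ∀ g h : G, χ (h * g * h⁻¹) = χ g := by
    intro g h
    rw [← hρ]
    exact ρ.char_conj g h
  have hχ1 : χ 1 = (n : ℂ) := by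
    rw [← hρ, Representation.char_one]
    simp
  have hdegn : Cfsg.charDegree χ = n := by
    unfold Cfsg.charDegree
    rw [hχ1]
    simp
  -- `Σ m = n`
  have hsumC : (∑ ψ : AddChar V ℂ, (m ψ : ℂ)) = (n : ℂ) := by
    have h := hm1 0
    have h0 : u (Multiplicative.ofAdd (0 : V)) = 1 := by
      rw [ofAdd_zero, map_one]
    rw [h0, hχ1] at h
    rw [h]
    refine Finset.sum_congr rfl (fun ψ _ => ?_)
    rw [AddChar.map_zero_eq_one, mul_one]
  have hsum : (∑ ψ : AddChar V ℂ, m ψ) = n := by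
    have : ((∑ ψ : AddChar V ℂ, m ψ : ℕ) : ℂ) = (n : ℂ) := by
      rw [Nat.cast_sum]; exact hsumC
    exact_mod_cast this
  -- the twisted characters
  set tw : L → AddChar V ℂ → AddChar V ℂ :=
    fun l ψ => ψ.compAddMonoidHom (DistribSMul.toAddMonoidHom V l) with htw
  have htw_apply : ∀ (l : L) (ψ : AddChar V ℂ) (v : V), tw l ψ v = ψ (l • v) := by
    intro l ψ v
    rfl
  -- invariance of the multiplicities
  have hcardV : (Fintype.card V : ℂ) ≠ 0 := by
    exact_mod_cast Fintype.card_ne_zero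
  have hminv : ∀ (l : L) (ψ : AddChar V ℂ), m (tw l ψ) = m ψ := by
    intro l ψ
    have h1 := hm2 (tw l ψ)
    have h2 := hm2 ψ
    have hre : ∑ v : V, χ (u (Multiplicative.ofAdd v)) * (tw l ψ) (-v) =
        ∑ w : V, χ (u (Multiplicative.ofAdd w)) * ψ (-w) := by
      rw [← Equiv.sum_comp (MulAction.toPerm l⁻¹ : Equiv.Perm V)
        (fun v => χ (u (Multiplicative.ofAdd v)) * (tw l ψ) (-v))]
      refine Finset.sum_congr rfl (fun w _ => ?_)
      show χ (u (Multiplicative.ofAdd (l⁻¹ • w))) * (tw l ψ) (-(l⁻¹ • w)) = _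
      rw [htw_apply, smul_neg, smul_inv_smul, ← hconj l⁻¹ w, hclass]
    rw [hre, ← h2] at h1
    have := mul_right_cancel₀ hcardV h1
    exact_mod_cast this
  -- a constituent which is non-trivial on `V0`
  obtain ⟨v₀, hv₀, hne⟩ := hker
  have hex : ∃ ψ : AddChar V ℂ, m ψ ≠ 0 ∧ ψ v₀ ≠ 1 := by
    by_contra hcon
    push Not at hcon
    apply hne
    rw [hm1 v₀, hχ1, ← hsumC]
    refine Finset.sum_congr rfl (fun ψ _ => ?_)
    by_cases h0 : m ψ = 0
    · rw [h0]; simp
    · rw [hcon ψ h0, mul_one]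
  obtain ⟨ψ, hmψ, hψv⟩ := hex
  refine ⟨ψ, ⟨v₀, hv₀, hψv⟩, ?_⟩
  -- counting
  set φ : L → AddChar V ℂ := fun l => tw l ψ with hφ
  set S : Finset L := Finset.univ.filter (fun l => ∀ v : V, ψ (l • v) = ψ v) with hS
  have hScard : Nat.card {l : L // ∀ v : V, ψ (l • v) = ψ v} = S.card := by
    rw [Nat.card_eq_fintype_card, Fintype.card_subtype]
  set I : Finset (AddChar V ℂ) := Finset.univ.image φ with hI
  have hfib : ∀ ψ' ∈ I, (Finset.univ.filter (fun l => φ l = ψ')).card = S.card := by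
    intro ψ' hψ'
    obtain ⟨l₀, -, rfl⟩ := Finset.mem_image.1 hψ'
    have : Finset.univ.filter (fun l => φ l = φ l₀) = S.image (fun s => s * l₀) := by
      ext l
      simp only [Finset.mem_filter, Finset.mem_univ, true_and, Finset.mem_image, hS]
      constructor
      · intro h
        refine ⟨l * l₀⁻¹, ?_, by group⟩
        intro v
        have h1 : φ l (l₀⁻¹ • v) = φ l₀ (l₀⁻¹ • v) := by rw [h]
        rw [hφ] at h1
        simp only [htw_apply] at h1
        rw [smul_inv_smul, ← mul_smul] at h1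
        exact h1
      · rintro ⟨s, hs, rfl⟩
        apply DFunLike.ext
        intro v
        show tw (s * l₀) ψ v = tw l₀ ψ v
        rw [htw_apply, htw_apply, mul_smul, hs]
    rw [this, Finset.card_image_of_injective _ (mul_left_injective l₀)]
  have hL : Fintype.card L = I.card * S.card := by
    have h1 : Fintype.card L = ∑ ψ' ∈ I, (Finset.univ.filter (fun l => φ l = ψ')).card := by
      rw [← Finset.card_univ]
      exact Finset.card_eq_sum_card_image φ Finset.univ
    rw [h1, Finset.sum_congr rfl hfib, Finset.sum_const, smul_eq_mul]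
  have hIle : I.card ≤ n := by
    have h1 : ∀ ψ' ∈ I, 1 ≤ m ψ' := by
      intro ψ' hψ'
      obtain ⟨l₀, -, rfl⟩ := Finset.mem_image.1 hψ'
      show 1 ≤ m (tw l₀ ψ)
      rw [hminv]
      exact Nat.one_le_iff_ne_zero.2 hmψ
    calc I.card = ∑ _ψ' ∈ I, 1 := by simp
      _ ≤ ∑ ψ' ∈ I, m ψ' := Finset.sum_le_sum h1
      _ ≤ ∑ ψ' : AddChar V ℂ, m ψ' :=
          Finset.sum_le_sum_of_subset (Finset.subset_univ I)
      _ = n := hsum
  rw [hScard, hdegn, hL]
  exact Nat.mul_le_mul_right _ hIle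

end abs

end Cfsg.Agent.Helper75.SpE
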