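import Mathlib

/-!
# (Q1c) of helper80's WANTED #10361 for S2333: a quadratic form on `F^d` has at least `q^(d-2)` zeros
-/

set_option autoImplicit false
set_option linter.unusedVariables false
set_option linter.unusedSectionVars false

namespace Cfsg.Agent.Helper75.SpE

open Matrix

section quad

variable {F : Type*} [Field F] [Fintype F] {V : Type*} [AddCommGroup V] [Module F V] [Fintype V]

open Classical in
/-- slice lemma: a finite set invariant under translation by `F e` is `q` times its slice `f = 0`,
for a linear functional `f` with `f e = 1` -/
theorem card_eq_mul_card_filter_h75 (f : V →ₗ[F] F) (e : V) (hfe : f e = 1) (A : Finset V)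
    (hA : ∀ (v : V) (t : F), v ∈ A → v + t • e ∈ A) :
    A.card = Fintype.card F * (A.filter (fun v => f v = 0)).card := by
  have h : ((A.filter (fun v => f v = 0)) ×ˢ (Finset.univ : Finset F)).card = A.card := by
    apply Finset.card_bij (fun (x : V × F) _ => x.1 + x.2 • e)
    · rintro ⟨v, t⟩ hx
      simp only [Finset.mem_product, Finset.mem_filter, Finset.mem_univ, and_true] at hx
      exact hA v t hx.1
    · rintro ⟨v₁, t₁⟩ h₁ ⟨v₂, t₂⟩ h₂ heq
      simp only [Finset.mem_product, Finset.mem_filter, Finset.mem_univ, and_true] at h₁ h₂
      have heq' : v₁ + t₁ • e = v₂ + t₂ • e := heq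
      have ht : t₁ = t₂ := by
        have := congrArg f heq'
        simpa only [map_add, map_smul, hfe, h₁.2, h₂.2, smul_eq_mul, mul_one, zero_add] using this
      subst ht
      have hv : v₁ = v₂ := add_right_cancel heq'
      rw [hv]
    · intro h hh
      refine ⟨(h - f h • e, f h), ?_, ?_⟩
      · simp only [Finset.mem_product, Finset.mem_filter, Finset.mem_univ, and_true]
        refine ⟨?_, ?_⟩
        · have := hA h (-(f h)) hh
          rwa [neg_smul, ← sub_eq_add_neg] at this
        · simp [hfe]
      · simp
  rw [← h, Finset.card_product, Finset.card_univ, mul_comm]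

/-- (Q1c) a quadratic form on `F^d` has at least `q^(d-2)` zeros, given singular vectors in all
subspaces of dimension at least 3 (induction on the dimension of a subspace `H`: for `e ∈ H`
singular, either `b(h, e) ≠ 0` for some `h ∈ H` and every line `h + F e` off the hyperplane `e^⊥ ∩ H`
carries exactly one zero, or `Q (h + t e) = Q h` on `H` and one passes to a complement of `F e`
in `H`). -/
theorem card_le_of_singular (h2 : (2 : F) = 0) (Q : QuadraticForm F V)
    (hsing : ∀ H : Submodule F V, 3 ≤ Module.finrank F H → ∃ e ∈ H, e ≠ 0 ∧ Q e = 0) :
    Fintype.card V ≤ Fintype.card F ^ 2 * Nat.card {v : V // Q v = 0} := by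
  classical
  set q := Fintype.card F with hq
  have hq2 : 2 ≤ q := Fintype.one_lt_card
  -- `Q (v + t e) = Q v + t * b(v, e)` for singular `e`
  have hQadd : ∀ (e : V), Q e = 0 → ∀ (v : V) (t : F),
      Q (v + t • e) = Q v + t * QuadraticMap.polar Q v e := by
    intro e hQe v t
    rw [QuadraticMap.map_add (⇑Q) v (t • e), QuadraticMap.map_smul, hQe, smul_zero, add_zero,
      QuadraticMap.polar_smul_right, smul_eq_mul]
  have hcard : ∀ H : Submodule F V,
      (Finset.univ.filter (fun v => v ∈ H)).card = q ^ Module.finrank F H := by
    intro H
    have h1 : Nat.card H = (Finset.univ.filter (fun v => v ∈ H)).card :=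
      Nat.subtype_card _ (by simp)
    rw [← h1, Module.natCard_eq_pow_finrank (K := F), Nat.card_eq_fintype_card]
  have key : ∀ (d : ℕ) (H : Submodule F V), Module.finrank F H = d →
      (Finset.univ.filter (fun v => v ∈ H)).card ≤
        q ^ 2 * (Finset.univ.filter (fun v => v ∈ H ∧ Q v = 0)).card := by
    intro d
    induction d using Nat.strong_induction_on with
    | _ d ih =>
      intro H hd
      by_cases h3 : 3 ≤ d
      · obtain ⟨e, heH, he0, hQe⟩ := hsing H (by omega)
        by_cases hB : ∀ h ∈ H, QuadraticMap.polar Q h e = 0
        · -- Case B: `Q` is invariant under translation by `F e` on `H`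
          have hφ : ∃ φ : Module.Dual F V, φ e ≠ 0 := by
            by_contra hcon
            push Not at hcon
            exact he0 ((Module.forall_dual_apply_eq_zero_iff F e).1 hcon)
          obtain ⟨φ, hφe⟩ := hφ
          set f : V →ₗ[F] F := (φ e)⁻¹ • φ with hf
          have hfe : f e = 1 := by
            rw [hf, LinearMap.smul_apply, smul_eq_mul, inv_mul_cancel₀ hφe]
          set H' : Submodule F V := H ⊓ LinearMap.ker f with hH'
          have hlt : H' < H := by
            refine lt_of_le_of_ne inf_le_left ?_
            intro heq
            have : e ∈ H' := by rw [heq]; exact heH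
            have h0 : f e = 0 := LinearMap.mem_ker.1 this.2
            rw [hfe] at h0
            exact one_ne_zero h0
          have hdim : Module.finrank F H' < d := by
            rw [← hd]
            exact Submodule.finrank_lt_finrank_of_lt hlt
          have hIH := ih _ hdim H' rfl
          have hs1 := card_eq_mul_card_filter_h75 f e hfe (Finset.univ.filter (fun v => v ∈ H))
            (by
              intro v t hv
              simp only [Finset.mem_filter, Finset.mem_univ, true_and] at hv ⊢
              exact H.add_mem hv (H.smul_mem t heH))
          have hs2 := card_eq_mul_card_filter_h75 f e hfe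
            (Finset.univ.filter (fun v => v ∈ H ∧ Q v = 0))
            (by
              intro v t hv
              simp only [Finset.mem_filter, Finset.mem_univ, true_and] at hv ⊢
              refine ⟨H.add_mem hv.1 (H.smul_mem t heH), ?_⟩
              rw [hQadd e hQe v t, hv.2, hB v hv.1, mul_zero, add_zero])
          have he1 : (Finset.univ.filter (fun v => v ∈ H)).filter (fun v => f v = 0) =
              Finset.univ.filter (fun v => v ∈ H') := by
            ext v
            simp [hH', Submodule.mem_inf, LinearMap.mem_ker]
          have he2 : (Finset.univ.filter (fun v => v ∈ H ∧ Q v = 0)).filter (fun v => f v = 0) =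
              Finset.univ.filter (fun v => v ∈ H' ∧ Q v = 0) := by
            ext v
            simp only [hH', Submodule.mem_inf, LinearMap.mem_ker, Finset.mem_filter,
              Finset.mem_univ, true_and]
            tauto
          rw [he1] at hs1
          rw [he2] at hs2
          rw [hs1, hs2]
          calc q * (Finset.univ.filter (fun v => v ∈ H')).card
              ≤ q * (q ^ 2 * (Finset.univ.filter (fun v => v ∈ H' ∧ Q v = 0)).card) :=
                Nat.mul_le_mul_left _ hIH
            _ = q ^ 2 * (q * (Finset.univ.filter (fun v => v ∈ H' ∧ Q v = 0)).card) := by ring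
        · -- Case A: some `h₀ ∈ H` is not orthogonal to `e`
          push Not at hB
          obtain ⟨h₀, hh₀, hne⟩ := hB
          set g : V →ₗ[F] F := Q.polarBilin e with hg
          have hgv : ∀ v : V, g v = QuadraticMap.polar Q v e := by
            intro v
            rw [hg, QuadraticMap.polarBilin_apply_apply, QuadraticMap.polar_comm]
          have hg0 : g h₀ ≠ 0 := by rw [hgv]; exact hne
          have hge' : g ((g h₀)⁻¹ • h₀) = 1 := by
            rw [map_smul, smul_eq_mul, inv_mul_cancel₀ hg0]
          have hs1 := card_eq_mul_card_filter_h75 g ((g h₀)⁻¹ • h₀) hge'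
            (Finset.univ.filter (fun v => v ∈ H))
            (by
              intro v t hv
              simp only [Finset.mem_filter, Finset.mem_univ, true_and] at hv ⊢
              exact H.add_mem hv (H.smul_mem t (H.smul_mem _ hh₀)))
          set Hf : Finset V := Finset.univ.filter (fun v => v ∈ H) with hHf
          set Z : Finset V := Finset.univ.filter (fun v => v ∈ H ∧ Q v = 0) with hZ
          set A : Finset V := Hf.filter (fun v => ¬ g v = 0) with hA
          have hsplit : (Hf.filter (fun v => g v = 0)).card + A.card = Hf.card :=
            Finset.card_filter_add_card_filter_not (fun v => g v = 0)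
          set Φ : V → V := fun h => h + (-(Q h) / g h) • e with hΦ
          have hΦZ : ∀ h ∈ A, Φ h ∈ Z := by
            intro h hh
            simp only [hA, hHf, Finset.mem_filter, Finset.mem_univ, true_and] at hh
            simp only [hZ, Finset.mem_filter, Finset.mem_univ, true_and]
            refine ⟨H.add_mem hh.1 (H.smul_mem _ heH), ?_⟩
            show Q (h + (-(Q h) / g h) • e) = 0
            rw [hQadd e hQe, ← hgv]
            field_simp [hh.2]
            ring
          have himg : A.image Φ ⊆ Z := by
            intro z hz
            obtain ⟨h, hh, rfl⟩ := Finset.mem_image.1 hz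
            exact hΦZ h hh
          have hfib : ∀ b ∈ A.image Φ, (A.filter (fun a => Φ a = b)).card ≤ q := by
            intro b _
            have hsub : A.filter (fun a => Φ a = b) ⊆
                (Finset.univ : Finset F).image (fun t => b + t • e) := by
              intro h hh
              rw [Finset.mem_filter] at hh
              rw [Finset.mem_image]
              refine ⟨-(-(Q h) / g h), Finset.mem_univ _, ?_⟩
              rw [← hh.2]
              show h + (-(Q h) / g h) • e + (-(-(Q h) / g h)) • e = h
              rw [neg_smul, add_neg_cancel_right]
            calc (A.filter (fun a => Φ a = b)).card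
                ≤ ((Finset.univ : Finset F).image (fun t => b + t • e)).card :=
                  Finset.card_le_card hsub
              _ ≤ (Finset.univ : Finset F).card := Finset.card_image_le
              _ = q := Finset.card_univ
          have hAle : A.card ≤ q * Z.card :=
            calc A.card ≤ q * (A.image Φ).card := Finset.card_le_mul_card_image A q hfib
              _ ≤ q * Z.card := Nat.mul_le_mul_left _ (Finset.card_le_card himg)
          -- arithmetic
          set x := (Hf.filter (fun v => g v = 0)).card with hx
          have h1 : Hf.card = q * x := hs1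
          have h3' : 2 * (q * x) ≤ q * (q * x) := Nat.mul_le_mul_right _ hq2
          have h4 : q * x + q * A.card = q * (q * x) := by
            rw [← Nat.mul_add, hsplit, h1]
          have h5 : q * A.card ≤ q * (q * Z.card) := Nat.mul_le_mul_left _ hAle
          have h6 : q ^ 2 * Z.card = q * (q * Z.card) := by ring
          rw [h1, h6]
          omega
      · -- small dimension
        have hz : 1 ≤ (Finset.univ.filter (fun v => v ∈ H ∧ Q v = 0)).card :=
          Finset.card_pos.2 ⟨0, by simp⟩
        calc (Finset.univ.filter (fun v => v ∈ H)).card = q ^ d := by rw [hcard, hd]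
          _ ≤ q ^ 2 := Nat.pow_le_pow_right (by omega) (by omega)
          _ ≤ q ^ 2 * (Finset.univ.filter (fun v => v ∈ H ∧ Q v = 0)).card :=
              Nat.le_mul_of_pos_right _ hz
  have hfin := key _ ⊤ rfl
  have e1 : (Finset.univ.filter (fun v : V => v ∈ (⊤ : Submodule F V))).card = Fintype.card V := by
    simp
  have e2 : (Finset.univ.filter (fun v : V => v ∈ (⊤ : Submodule F V) ∧ Q v = 0)).card =
      Nat.card {v : V // Q v = 0} := by
    rw [Nat.subtype_card (Finset.univ.filter (fun v : V => v ∈ (⊤ : Submodule F V) ∧ Q v = 0))
      (by simp)]
  rw [e1, e2] at hfin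
  exact hfin

end quad

end Cfsg.Agent.Helper75.SpE
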