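import Cfsg.Agent.Helper75.TIFNAbelian
import Cfsg.Agent.Helper25.OrthExt
import Cfsg.Agent.Helper25.CohBound
import Cfsg.Agent.Helper9.FP3
import Cfsg.Agent.Helper79.InvSylow
import Cfsg.Agent.S0170
import Cfsg.Prelude.Def_OddOrderLocal

/-!
# Coherence for T.I. subgroups with Frobenius normalizer (helper75)

* `coh_of_exceptional`: packaging of a family of exceptional characters of equal degree as a
  coherent set (`IsCoherent`).
* `sc_coh_abelian`: the abelian case (all relevant characters have degree `|N : K|`).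
* `sc_coh_odd`: the odd case, from Sibley's theorem (Peterfalvi (6.8), statement of `S1524`).
* `sc_abelian_of_even`: if `|N : K|` is even then `K` is abelian.
-/

set_option autoImplicit false

namespace Cfsg.Agent.Helper75

open Cfsg
open scoped ComplexConjugate

universe u v

section Package

variable {L : Type u} [Group L] [Fintype L] {G : Type v} [Group G] [Fintype G]

/-- Packaging exceptional characters: an orthonormal finite family `s` of functions of the same
non-zero degree, and a map `T` on `s`, isometric with virtual characters as values, such that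
`τ (φ - φ') = T φ - T φ'`, give coherence of `(s, L - 1, τ)` when `s` has two members. -/
theorem coh_of_exceptional (s : Finset (L → ℂ)) {φ₁ φ₂ : L → ℂ} (h₁ : φ₁ ∈ s) (h₂ : φ₂ ∈ s)
    (h₁₂ : φ₁ ≠ φ₂)
    (horth : ∀ φ ∈ s, ∀ φ' ∈ s, φ ≠ φ' → classInner φ φ' = 0)
    (hne : ∀ φ ∈ s, classInner φ φ ≠ 0)
    (d : ℂ) (hd : d ≠ 0) (hdeg : ∀ φ ∈ s, φ 1 = d)
    (τ : (L → ℂ) → (G → ℂ)) (hτadd : ∀ a b, τ (a + b) = τ a + τ b)
    (hτsmul : ∀ (n : ℤ) a, τ (n • a) = n • τ a)
    (T : (L → ℂ) → (G → ℂ))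
    (hT : ∀ φ ∈ s, ∀ φ' ∈ s, classInner (T φ) (T φ') = classInner φ φ')
    (hTg : ∀ φ ∈ s, IsGeneralizedCharacter G (T φ))
    (hdiff : ∀ φ ∈ s, ∀ φ' ∈ s, τ (φ - φ') = T φ - T φ') :
    IsCoherent (↑s : Set (L → ℂ)) {1}ᶜ τ := by
  classical
  refine ⟨⟨φ₁ - φ₂, ⟨?_, ?_⟩, sub_ne_zero.mpr h₁₂⟩, Helper25.orthExt s T,
    Helper25.orthExt_isLinearIsometryOn s T horth hne hT hTg, ?_⟩
  · exact Helper25.zspan_sub (Helper25.mem_zspan_of_mem h₁) (Helper25.mem_zspan_of_mem h₂)
  · intro x hx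
    have hx1 : x = 1 := by
      by_contra h
      exact hx h
    rw [hx1, Pi.sub_apply, hdeg φ₁ h₁, hdeg φ₂ h₂, sub_self]
  · intro α hα
    obtain ⟨m, rfl⟩ := Helper25.exists_coeff_of_mem_zspan hα.1
    rw [Helper25.orthExt_sum_zsmul s T horth hne]
    have h1 := hα.2 1 (by simp)
    have hsum : ∑ φ ∈ s, m φ = 0 := by
      have h2 : (∑ φ ∈ s, m φ • φ) 1 = ((∑ φ ∈ s, m φ : ℤ) : ℂ) * d := by
        rw [Finset.sum_apply, Int.cast_sum, Finset.sum_mul]
        refine Finset.sum_congr rfl (fun φ hφ => ?_)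
        rw [Pi.smul_apply, hdeg φ hφ, zsmul_eq_mul]
      rw [h2] at h1
      have h3 : ((∑ φ ∈ s, m φ : ℤ) : ℂ) = 0 := by
        rcases mul_eq_zero.mp h1 with h | h
        · exact h
        · exact absurd h hd
      exact_mod_cast h3
    have hτ0 : τ 0 = 0 := by
      have := hτsmul 0 0
      simpa using this
    have hτsum : ∀ (t : Finset (L → ℂ)) (f : (L → ℂ) → (L → ℂ)),
        τ (∑ φ ∈ t, f φ) = ∑ φ ∈ t, τ (f φ) := by
      intro t f
      induction t using Finset.induction_on with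
      | empty => simpa using hτ0
      | insert a t ha ih => rw [Finset.sum_insert ha, Finset.sum_insert ha, hτadd, ih]
    have hrew : ∑ φ ∈ s, m φ • φ = ∑ φ ∈ s, m φ • (φ - φ₁) := by
      have : ∑ φ ∈ s, m φ • (φ - φ₁) = ∑ φ ∈ s, m φ • φ - (∑ φ ∈ s, m φ) • φ₁ := by
        rw [Finset.sum_smul, ← Finset.sum_sub_distrib]
        refine Finset.sum_congr rfl (fun φ _ => ?_)
        rw [smul_sub]
      rw [this, hsum, zero_smul, sub_zero]
    rw [hrew, hτsum]
    have : ∑ φ ∈ s, τ (m φ • (φ - φ₁)) = ∑ φ ∈ s, m φ • T φ - (∑ φ ∈ s, m φ) • T φ₁ := by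
      rw [Finset.sum_smul, ← Finset.sum_sub_distrib]
      refine Finset.sum_congr rfl (fun φ hφ => ?_)
      rw [hτsmul, hdiff φ hφ φ₁ h₁, smul_sub]
    rw [this, hsum, zero_smul, sub_zero]

end Package

section TIFN

variable {G : Type u} [Group G] [Fintype G] {K : Subgroup G}
  [Fintype ↥(Subgroup.normalizer (K : Set G))]

omit [Fintype G] in
/-- The set of relevant characters is finite. -/
theorem tfS_finite : (tfS K).Finite := by
  classical
  let _ := Helper74.irrFintype ↥(Subgroup.normalizer (K : Set G))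
  refine Set.Finite.subset
    (Set.finite_range (fun χ : IrrCharacter ↥(Subgroup.normalizer (K : Set G)) =>
      (χ : ↥(Subgroup.normalizer (K : Set G)) → ℂ))) ?_
  intro χ hχ
  exact ⟨⟨χ, hχ.1⟩, rfl⟩

omit [Fintype G] in
theorem tfS_inner {χ ψ : ↥(Subgroup.normalizer (K : Set G)) → ℂ} (hχ : χ ∈ tfS K)
    (hψ : ψ ∈ tfS K) [Decidable (χ = ψ)] : classInner χ ψ = if χ = ψ then 1 else 0 := by
  classical
  have h := Helper74.irr_orthonormal (⟨χ, hχ.1⟩ : IrrCharacter _) ⟨ψ, hψ.1⟩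
  rw [h]
  by_cases hc : χ = ψ
  · subst hc
    simp
  · have : (⟨χ, hχ.1⟩ : IrrCharacter ↥(Subgroup.normalizer (K : Set G))) ≠ ⟨ψ, hψ.1⟩ := by
      intro h'
      exact hc (congrArg Subtype.val h')
    simp [hc, this]

/-- **Abelian case**: for an abelian T.I. subgroup `K` with Frobenius normalizer and at least two
relevant characters, the relevant characters form a coherent set. -/
theorem sc_coh_abelian
    (hTI : ∀ g : G, g ∉ Subgroup.normalizer (K : Set G) → ∀ k ∈ K, g * k * g⁻¹ ∈ K → k = 1)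
    (hC : ∀ k ∈ K, k ≠ 1 → Subgroup.centralizer ({k} : Set G) ≤ K)
    (hab : ∀ a ∈ K, ∀ b ∈ K, a * b = b * a)
    {φ₁ φ₂ : ↥(Subgroup.normalizer (K : Set G)) → ℂ} (h₁ : φ₁ ∈ tfS K) (h₂ : φ₂ ∈ tfS K)
    (h₁₂ : φ₁ ≠ φ₂) :
    IsCoherent (tfS K) {1}ᶜ
      (fun α => indFun (Subgroup.normalizer (K : Set G)) α) := by
  classical
  have hle : K ≤ Subgroup.normalizer (K : Set G) := Subgroup.le_normalizer
  have hfin : (tfS K).Finite := tfS_finite
  set s : Finset (↥(Subgroup.normalizer (K : Set G)) → ℂ) := hfin.toFinset with hs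
  have hsS : (↑s : Set (↥(Subgroup.normalizer (K : Set G)) → ℂ)) = tfS K := hfin.coe_toFinset
  have hmem : ∀ φ, φ ∈ s ↔ φ ∈ tfS K := fun φ => hfin.mem_toFinset
  -- enumerate
  let e := s.equivFin
  let χf : Fin s.card → (↥(Subgroup.normalizer (K : Set G)) → ℂ) := fun i => ((e.symm i) : _ → ℂ)
  have hχmem : ∀ i, χf i ∈ tfS K := fun i => (hmem _).mp (e.symm i).2
  have hcard2 : 2 ≤ s.card := by
    have h1 : ({φ₁, φ₂} : Finset _) ⊆ s := by
      intro φ hφ
      rw [Finset.mem_insert, Finset.mem_singleton] at hφ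
      rcases hφ with rfl | rfl
      · exact (hmem _).mpr h₁
      · exact (hmem _).mpr h₂
    have h2 := Finset.card_le_card h1
    rwa [Finset.card_pair h₁₂] at h2
  obtain ⟨ε, hε, θ, hθirr, hθinj, hθ⟩ := Cfsg.Agent.S0170.result (K : Set G) hle hTI _ hcard2 χf
    (fun i => (hχmem i).1)
    (fun i j h => e.symm.injective (Subtype.ext h))
    (fun i x hx => tf_vanish hC (hχmem i) x hx)
    (fun i j => by rw [tf_rel_degree hC hab (hχmem i), tf_rel_degree hC hab (hχmem j)])
  -- the map `T`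
  let T : (↥(Subgroup.normalizer (K : Set G)) → ℂ) → (G → ℂ) := fun φ =>
    if h : φ ∈ s then ε • θ (e ⟨φ, h⟩) else 0
  have hTs : ∀ φ (h : φ ∈ s), T φ = ε • θ (e ⟨φ, h⟩) := fun φ h => dif_pos h
  have hχe : ∀ φ (h : φ ∈ s), χf (e ⟨φ, h⟩) = φ := by
    intro φ h
    show ((e.symm (e ⟨φ, h⟩)) : _ → ℂ) = φ
    rw [Equiv.symm_apply_apply]
  have hεε : ε * conj ε = 1 := by
    rcases hε with h | h <;> rw [h] <;> simp
  have hkey := coh_of_exceptional (G := G) s ((hmem _).mpr h₁) ((hmem _).mpr h₂) h₁₂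
    (fun φ hφ φ' hφ' hne => by
      rw [tfS_inner ((hmem _).mp hφ) ((hmem _).mp hφ'), if_neg hne])
    (fun φ hφ => by
      rw [tfS_inner ((hmem _).mp hφ) ((hmem _).mp hφ), if_pos rfl]
      exact one_ne_zero)
    ((K.subgroupOf (Subgroup.normalizer (K : Set G))).index : ℂ)
    (by
      have : (K.subgroupOf (Subgroup.normalizer (K : Set G))).index ≠ 0 :=
        Subgroup.index_ne_zero_of_finite
      exact_mod_cast this)
    (fun φ hφ => tf_rel_degree hC hab ((hmem _).mp hφ))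
    (fun α => indFun (Subgroup.normalizer (K : Set G)) α)
    (fun a b => Helper15.indFun_add _ a b)
    (fun n a => by
      show indFun _ (n • a) = n • indFun _ a
      rw [← Int.cast_smul_eq_zsmul ℂ n a, Helper15.indFun_smul, Int.cast_smul_eq_zsmul])
    T
    (fun φ hφ φ' hφ' => by
      rw [hTs φ hφ, hTs φ' hφ', Helper74.classInner_smul_left, Helper74.classInner_smul_right,
        ← mul_assoc, hεε, one_mul]
      have h1 := Helper74.irr_orthonormal (⟨θ (e ⟨φ, hφ⟩), hθirr _⟩ : IrrCharacter G)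
        ⟨θ (e ⟨φ', hφ'⟩), hθirr _⟩
      rw [h1, tfS_inner ((hmem _).mp hφ) ((hmem _).mp hφ')]
      by_cases hc : φ = φ'
      · subst hc
        simp
      · rw [if_neg hc, if_neg]
        intro h'
        have h2 : θ (e ⟨φ, hφ⟩) = θ (e ⟨φ', hφ'⟩) := congrArg Subtype.val h'
        have h3 := e.injective (hθinj h2)
        exact hc (congrArg Subtype.val h3))
    (fun φ hφ => by
      rw [hTs φ hφ]
      have hg : IsGeneralizedCharacter G (θ (e ⟨φ, hφ⟩)) :=
        Helper25.isGenChar_of_isCharacter (Helper74.isCharacter_of_isIrr (hθirr _))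
      rcases hε with h | h
      · rw [h, one_smul]; exact hg
      · rw [h, neg_one_smul]; exact Helper25.isGenChar_neg hg)
    (fun φ hφ φ' hφ' => by
      show indFun _ (φ - φ') = _
      rw [hTs φ hφ, hTs φ' hφ', Helper15.indFun_sub, ← smul_sub]
      have h := hθ (e ⟨φ, hφ⟩) (e ⟨φ', hφ'⟩)
      rw [hχe φ hφ, hχe φ' hφ'] at h
      exact h)
  rw [hsS] at hkey
  exact hkey

/-- If the index `|N : K|` is even, `K` is abelian (`K` of odd order containing the centralizers
of its non-identity elements). -/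
theorem sc_abelian_of_even
    (hC : ∀ k ∈ K, k ≠ 1 → Subgroup.centralizer ({k} : Set G) ≤ K)
    (hoddK : Odd (Nat.card K))
    (heven : Even (K.subgroupOf (Subgroup.normalizer (K : Set G))).index) :
    ∀ a ∈ K, ∀ b ∈ K, a * b = b * a := by
  classical
  have hle : K ≤ Subgroup.normalizer (K : Set G) := Subgroup.le_normalizer
  -- an involution of the normalizer
  have h2N : 2 ∣ Nat.card ↥(Subgroup.normalizer (K : Set G)) := by
    have h1 := (K.subgroupOf (Subgroup.normalizer (K : Set G))).index_dvd_card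
    exact dvd_trans heven.two_dvd h1
  haveI : Fact (Nat.Prime 2) := ⟨Nat.prime_two⟩
  obtain ⟨t, ht⟩ := exists_prime_orderOf_dvd_card' (G := ↥(Subgroup.normalizer (K : Set G))) 2 h2N
  have htt : (t : G) * (t : G) = 1 := by
    have h1 : t ^ 2 = 1 := by rw [← ht]; exact pow_orderOf_eq_one t
    have h2 : ((t ^ 2 : ↥(Subgroup.normalizer (K : Set G))) : G) = 1 := by rw [h1]; rfl
    rw [← h2, pow_two]
    rfl
  have ht1 : (t : G) ≠ 1 := by
    intro h
    have : t = 1 := Subtype.ext h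
    rw [this, orderOf_one] at ht
    omega
  have htK : (t : G) ∉ K := by
    intro h
    have h1 : orderOf (⟨(t : G), h⟩ : K) ∣ Nat.card K := orderOf_dvd_natCard _
    have h2 : orderOf (⟨(t : G), h⟩ : K) = 2 := by
      rw [← Subgroup.orderOf_coe]
      show orderOf (t : G) = 2
      rw [Subgroup.orderOf_coe]
      exact ht
    rw [h2] at h1
    rcases hoddK with ⟨m, hm⟩
    omega
  have hn : ∀ k ∈ K, (t : G) * k * (t : G)⁻¹ ∈ K := by
    intro k hk
    have h := t.2
    rw [Subgroup.mem_set_normalizer_iff] at h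
    exact (h k).mp hk
  have hfix : ∀ k ∈ K, (t : G) * k * (t : G)⁻¹ = k → k = 1 := by
    intro k hk hfx
    by_contra hk1
    apply htK
    apply hC k hk hk1
    rw [Subgroup.mem_centralizer_singleton_iff]
    exact mul_inv_eq_iff_eq_mul.mp hfx
  exact Helper79.commute_of_inverts (Helper79.inverts_of_fpf htt hn hfix)

/-- The statement of `S1524` (Peterfalvi (6.8)) for the group `G`. -/
def Sibley68 (G : Type u) [Group G] [Fintype G] : Prop :=
  ∀ (H L W₁ : Subgroup G) [Fintype L], Odd (Nat.card L) → H ≤ L → W₁ ≤ L → H ≠ ⊥ →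
    W₁ ≠ ⊥ → Group.IsNilpotent H → (∀ x ∈ L, ∀ h ∈ H, x * h * x⁻¹ ∈ H) → H ⊓ W₁ = ⊥ →
    H ⊔ W₁ = L → (∀ w ∈ W₁, w ≠ 1 → ∀ h ∈ H, w * h = h * w → h = 1) →
    Cfsg.IsTISubset (H : Set G) → Subgroup.normalizer (H : Set G) = L →
    Cfsg.IsCoherent (Cfsg.inducedIrrAbove (H.subgroupOf L) ⊥) {1}ᶜ
      (fun α : L → ℂ => Cfsg.indFun L α)

/-- **Odd case**: from Sibley's theorem, the relevant characters of the normalizer (of odd order)
of a T.I. subgroup `K` with Frobenius normalizer form a coherent set. -/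
theorem sc_coh_odd (h68 : Sibley68 G)
    (hTI : Cfsg.IsTISubset (K : Set G)) (hK1 : K ≠ ⊥)
    (hlt : K < Subgroup.normalizer (K : Set G))
    (hC : ∀ k ∈ K, k ≠ 1 → Subgroup.centralizer ({k} : Set G) ≤ K)
    (hodd : Odd (Nat.card ↥(Subgroup.normalizer (K : Set G)))) :
    IsCoherent (tfS K) {1}ᶜ
      (fun α => indFun (Subgroup.normalizer (K : Set G)) α) := by
  have hHn : ∀ x ∈ Subgroup.normalizer (K : Set G), ∀ h ∈ K, x * h * x⁻¹ ∈ K := by
    intro x hx h hh
    rw [Subgroup.mem_set_normalizer_iff] at hx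
    exact (hx h).mp hh
  have hfrob : ∀ h ∈ K, h ≠ 1 →
      Subgroup.normalizer (K : Set G) ⊓ Subgroup.centralizer ({h} : Set G) ≤ K := by
    intro h hh hh1 x hx
    exact hC h hh hh1 (Subgroup.mem_inf.mp hx).2
  obtain ⟨hnil, W₁, hW₁L, hW₁1, hinf, hsup, hfpf⟩ :=
    Helper9.FP.fp_frob_struct K (Subgroup.normalizer (K : Set G)) hlt hHn hfrob
  have h := h68 K (Subgroup.normalizer (K : Set G)) W₁ hodd hlt.le hW₁L hK1 hW₁1 hnil
    hHn hinf hsup hfpf hTI rfl
  rw [Helper9.FP.fp_tfS_eq K hC] at h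
  exact h

end TIFN

end Cfsg.Agent.Helper75
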