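import Cfsg.Agent.Helper75.SylowCoh
import Cfsg.Agent.Helper81.ConjIrr
import Cfsg.Agent.S0194

/-!
# Sibley coherence for T.I. Sylow subgroups (helper75)

`sylow_coh_main` (statement of `S1533`) and `sylow_coh_central` (statement of `S1532`), both from
the statement `Sibley68 G` of `S1524`.
-/

set_option autoImplicit false

namespace Cfsg.Agent.Helper75

open Cfsg
open scoped ComplexConjugate

universe u

variable {G : Type u} [Group G] [Fintype G]

/-- A Sylow `p`-subgroup for odd `p` has odd order. -/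
theorem sylow_card_odd (p : ℕ) [Fact p.Prime] (hp : p ≠ 2) (P : Sylow p G) :
    Odd (Nat.card (P : Subgroup G)) := by
  obtain ⟨n, hn⟩ := P.2.exists_card_eq
  rw [hn]
  exact ((Fact.out : p.Prime).odd_of_ne_two hp).pow

omit [Fintype G] in
/-- The order of the normalizer is `|K| * |N : K|`. -/
theorem sc_card_normalizer (K : Subgroup G) :
    Nat.card ↥(Subgroup.normalizer (K : Set G))
      = Nat.card K * (K.subgroupOf (Subgroup.normalizer (K : Set G))).index := by
  have hle : K ≤ Subgroup.normalizer (K : Set G) := Subgroup.le_normalizer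
  rw [← (K.subgroupOf (Subgroup.normalizer (K : Set G))).card_mul_index]
  congr 1
  exact Nat.card_congr (Subgroup.subgroupOfEquivOfLe hle).toEquiv

/-- **Sibley's coherence theorem for a T.I. Sylow `p`-subgroup**, `p` odd (statement of `S1533`),
from Peterfalvi (6.8). -/
theorem sylow_coh_main (h68 : Sibley68 G) (p : ℕ) [Fact p.Prime] (hp : p ≠ 2) (P : Sylow p G)
    (hP1 : (P : Subgroup G) ≠ ⊥) (hTI : Cfsg.IsTISubset ((P : Subgroup G) : Set G))
    (hlt : (P : Subgroup G) < Subgroup.normalizer ((P : Subgroup G) : Set G))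
    (hC : ∀ k ∈ (P : Subgroup G), k ≠ 1 →
      Subgroup.centralizer ({k} : Set G) ≤ (P : Subgroup G))
    [Fintype ↥(Subgroup.normalizer ((P : Subgroup G) : Set G))] :
    (Nat.card {χ : ↥(Subgroup.normalizer ((P : Subgroup G) : Set G)) → ℂ //
        Cfsg.IsIrrCharacter ↥(Subgroup.normalizer ((P : Subgroup G) : Set G)) χ ∧
        ∃ x : ↥(Subgroup.normalizer ((P : Subgroup G) : Set G)),
          (x : G) ∈ (P : Subgroup G) ∧ χ x ≠ χ 1} = 1 ∧
      Cfsg.IsElementaryAbelian p (P : Subgroup G) ∧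
      Nat.card (P : Subgroup G)
        = ((P : Subgroup G).subgroupOf
            (Subgroup.normalizer ((P : Subgroup G) : Set G))).index + 1) ∨
    Cfsg.IsCoherent (tfS (P : Subgroup G)) {1}ᶜ
      (fun α => Cfsg.indFun (Subgroup.normalizer ((P : Subgroup G) : Set G)) α) := by
  classical
  have hoddP := sylow_card_odd p hp P
  have hcardN := sc_card_normalizer (P : Subgroup G)
  rcases Nat.even_or_odd ((P : Subgroup G).subgroupOf
      (Subgroup.normalizer ((P : Subgroup G) : Set G))).index with heven | hodd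
  · -- abelian case
    have hab := sc_abelian_of_even hC hoddP heven
    have hle : (P : Subgroup G) ≤ Subgroup.normalizer ((P : Subgroup G) : Set G) :=
      Subgroup.le_normalizer
    have hcount := tf_count ((P : Subgroup G).subgroupOf
        (Subgroup.normalizer ((P : Subgroup G) : Set G))) (fun χ hχ => by
      obtain ⟨k, hk, hne⟩ := hχ
      exact tf_rel_degree hC hab ⟨χ.2, k, Subgroup.mem_subgroupOf.mp hk, hne⟩)
    have hKK' : Nat.card ((P : Subgroup G).subgroupOf
        (Subgroup.normalizer ((P : Subgroup G) : Set G))) = Nat.card (P : Subgroup G) :=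
      Nat.card_congr (Subgroup.subgroupOfEquivOfLe hle).toEquiv
    rw [hKK'] at hcount
    have hP1' : Nat.card (P : Subgroup G) ≠ 1 := fun h => hP1 (Subgroup.card_eq_one.mp h)
    -- the number of relevant characters
    set r := Nat.card {χ : IrrCharacter ↥(Subgroup.normalizer ((P : Subgroup G) : Set G)) //
      ∃ k ∈ (P : Subgroup G).subgroupOf (Subgroup.normalizer ((P : Subgroup G) : Set G)),
        (χ : ↥(Subgroup.normalizer ((P : Subgroup G) : Set G)) → ℂ) k
          ≠ (χ : ↥(Subgroup.normalizer ((P : Subgroup G) : Set G)) → ℂ) 1} with hr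
    have hr0 : r ≠ 0 := by
      intro h0
      rw [h0, zero_mul, zero_add] at hcount
      exact hP1' hcount.symm
    rcases Nat.lt_or_ge r 2 with hlt2 | hge2
    · left
      have hr1 : r = 1 := by omega
      have hone : Nat.card {χ : IrrCharacter ↥(Subgroup.normalizer ((P : Subgroup G) : Set G)) //
          ∃ k : ↥(Subgroup.normalizer ((P : Subgroup G) : Set G)), (k : G) ∈ (P : Subgroup G) ∧
            (χ : ↥(Subgroup.normalizer ((P : Subgroup G) : Set G)) → ℂ) k
              ≠ (χ : ↥(Subgroup.normalizer ((P : Subgroup G) : Set G)) → ℂ) 1} = 1 := hr1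
      obtain ⟨p', hp', hEA, hcard⟩ := tf_abelian_one hC hab hone
      refine ⟨?_, ?_, hcard⟩
      · rw [← hone]
        exact Nat.card_congr (Equiv.subtypeSubtypeEquivSubtypeInter _ _).symm
      · -- `p' = p`
        have hpP : p ∣ Nat.card (P : Subgroup G) := by
          obtain ⟨n, hn⟩ := P.2.exists_card_eq
          rw [hn]
          have hn0 : n ≠ 0 := by
            intro h0
            rw [h0, pow_zero] at hn
            exact hP1' hn
          exact dvd_pow_self p hn0
        obtain ⟨x, hx⟩ := exists_prime_orderOf_dvd_card' (G := (P : Subgroup G)) p hpP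
        have h1 : (x : G) ^ p' = 1 := hEA.2 x x.2
        have h2 : orderOf (x : G) ∣ p' := orderOf_dvd_of_pow_eq_one h1
        rw [Subgroup.orderOf_coe, hx] at h2
        have h3 : p = p' := (Nat.prime_dvd_prime_iff_eq (Fact.out : p.Prime) hp').mp h2
        subst h3
        exact hEA
    · right
      have hnt : Nontrivial {χ : IrrCharacter ↥(Subgroup.normalizer ((P : Subgroup G) : Set G)) //
          ∃ k ∈ (P : Subgroup G).subgroupOf (Subgroup.normalizer ((P : Subgroup G) : Set G)),
            (χ : ↥(Subgroup.normalizer ((P : Subgroup G) : Set G)) → ℂ) k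
              ≠ (χ : ↥(Subgroup.normalizer ((P : Subgroup G) : Set G)) → ℂ) 1} := by
        let _ := Helper74.irrFintype ↥(Subgroup.normalizer ((P : Subgroup G) : Set G))
        apply Finite.one_lt_card_iff_nontrivial.mp
        omega
      obtain ⟨a, b, hab'⟩ := exists_pair_ne {χ : IrrCharacter ↥(Subgroup.normalizer
          ((P : Subgroup G) : Set G)) //
          ∃ k ∈ (P : Subgroup G).subgroupOf (Subgroup.normalizer ((P : Subgroup G) : Set G)),
            (χ : ↥(Subgroup.normalizer ((P : Subgroup G) : Set G)) → ℂ) k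
              ≠ (χ : ↥(Subgroup.normalizer ((P : Subgroup G) : Set G)) → ℂ) 1}
      have ha : (a.1 : ↥(Subgroup.normalizer ((P : Subgroup G) : Set G)) → ℂ)
          ∈ tfS (P : Subgroup G) := by
        obtain ⟨k, hk, hne⟩ := a.2
        exact ⟨a.1.2, k, Subgroup.mem_subgroupOf.mp hk, hne⟩
      have hb : (b.1 : ↥(Subgroup.normalizer ((P : Subgroup G) : Set G)) → ℂ)
          ∈ tfS (P : Subgroup G) := by
        obtain ⟨k, hk, hne⟩ := b.2
        exact ⟨b.1.2, k, Subgroup.mem_subgroupOf.mp hk, hne⟩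
      exact sc_coh_abelian hTI hC hab ha hb
        (fun h => hab' (Subtype.ext (Subtype.ext h)))
  · right
    have hoddN : Odd (Nat.card ↥(Subgroup.normalizer ((P : Subgroup G) : Set G))) := by
      rw [hcardN]
      exact hoddP.mul hodd
    exact sc_coh_odd h68 hTI hP1 hlt hC hoddN

/-- **Coherence of the characters non-trivial on a central subgroup** of a non-abelian T.I. Sylow
`p`-subgroup, `p` odd (statement of `S1532`), from Peterfalvi (6.8). -/
theorem sylow_coh_central (h68 : Sibley68 G) (p : ℕ) [Fact p.Prime] (hp : p ≠ 2) (P : Sylow p G)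
    (hna : ¬ IsMulCommutative (P : Subgroup G))
    (hTI : Cfsg.IsTISubset ((P : Subgroup G) : Set G))
    (hlt : (P : Subgroup G) < Subgroup.normalizer ((P : Subgroup G) : Set G))
    (hC : ∀ k ∈ (P : Subgroup G), k ≠ 1 →
      Subgroup.centralizer ({k} : Set G) ≤ (P : Subgroup G))
    [Fintype ↥(Subgroup.normalizer ((P : Subgroup G) : Set G))]
    (Z : Subgroup G) (hZ1 : Z ≠ ⊥)
    (hZP : ∀ z ∈ Z, z ∈ (P : Subgroup G) ∧ ∀ y ∈ (P : Subgroup G), z * y = y * z) :
    Cfsg.IsCoherent {χ : ↥(Subgroup.normalizer ((P : Subgroup G) : Set G)) → ℂ |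
        Cfsg.IsIrrCharacter ↥(Subgroup.normalizer ((P : Subgroup G) : Set G)) χ ∧
        ∃ z : ↥(Subgroup.normalizer ((P : Subgroup G) : Set G)), (z : G) ∈ Z ∧ χ z ≠ χ 1} {1}ᶜ
      (fun α => Cfsg.indFun (Subgroup.normalizer ((P : Subgroup G) : Set G)) α) := by
  classical
  let _ := Helper74.irrFintype ↥(Subgroup.normalizer ((P : Subgroup G) : Set G))
  have hle : (P : Subgroup G) ≤ Subgroup.normalizer ((P : Subgroup G) : Set G) :=
    Subgroup.le_normalizer
  have hoddP := sylow_card_odd p hp P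
  have hcardN := sc_card_normalizer (P : Subgroup G)
  have hP1 : (P : Subgroup G) ≠ ⊥ := by
    intro h
    apply hna
    refine ⟨⟨fun a b => ?_⟩⟩
    have hall : ∀ c : (P : Subgroup G), (c : G) = 1 := by
      intro c
      have h1 : (c : G) ∈ (⊥ : Subgroup G) := h ▸ c.2
      exact Subgroup.mem_bot.mp h1
    apply Subtype.ext
    simp [hall a, hall b]
  have hodd : Odd ((P : Subgroup G).subgroupOf
      (Subgroup.normalizer ((P : Subgroup G) : Set G))).index := by
    rcases Nat.even_or_odd ((P : Subgroup G).subgroupOf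
      (Subgroup.normalizer ((P : Subgroup G) : Set G))).index with heven | hodd
    · exfalso
      apply hna
      have hab := sc_abelian_of_even hC hoddP heven
      exact ⟨⟨fun a b => Subtype.ext (hab a a.2 b b.2)⟩⟩
    · exact hodd
  have hoddN : Odd (Nat.card ↥(Subgroup.normalizer ((P : Subgroup G) : Set G))) := by
    rw [hcardN]
    exact hoddP.mul hodd
  have hfull := sc_coh_odd h68 hTI hP1 hlt hC hoddN
  -- the subset
  have hsub : {χ : ↥(Subgroup.normalizer ((P : Subgroup G) : Set G)) → ℂ |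
      Cfsg.IsIrrCharacter ↥(Subgroup.normalizer ((P : Subgroup G) : Set G)) χ ∧
      ∃ z : ↥(Subgroup.normalizer ((P : Subgroup G) : Set G)), (z : G) ∈ Z ∧ χ z ≠ χ 1}
      ⊆ tfS (P : Subgroup G) := by
    rintro χ ⟨hχ, z, hz, hne⟩
    exact ⟨hχ, z, (hZP z hz).1, hne⟩
  apply Helper25.isCoherent_of_subset hfull hsub
  -- a character non-trivial on `Z` and its conjugate
  obtain ⟨z, hz1⟩ := (Subgroup.ne_bot_iff_exists_ne_one.mp hZ1)
  have hzZ : (z : G) ∈ Z := z.2
  have hz1' : (z : G) ≠ 1 := fun h => hz1 (Subtype.ext h)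
  have hzN : (z : G) ∈ Subgroup.normalizer ((P : Subgroup G) : Set G) := hle (hZP z hzZ).1
  let z' : ↥(Subgroup.normalizer ((P : Subgroup G) : Set G)) := ⟨(z : G), hzN⟩
  have hz'1 : z' ≠ 1 := fun h => hz1' (congrArg Subtype.val h)
  have hsum := tf_sum_degree_mul (N := ↥(Subgroup.normalizer ((P : Subgroup G) : Set G))) hz'1
  have hex : ∃ ζ : IrrCharacter ↥(Subgroup.normalizer ((P : Subgroup G) : Set G)),
      ζ.1 z' ≠ ζ.1 1 := by
    by_contra hcon
    push Not at hcon
    have h2 : ∑ ζ : IrrCharacter ↥(Subgroup.normalizer ((P : Subgroup G) : Set G)),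
        ζ.1 1 * ζ.1 z'
        = ∑ ζ : IrrCharacter ↥(Subgroup.normalizer ((P : Subgroup G) : Set G)),
          ((charDegree ζ.1 ^ 2 : ℕ) : ℂ) := by
      refine Finset.sum_congr rfl (fun ζ _ => ?_)
      rw [hcon ζ, Helper78.irrChar_one_eq_charDegree ζ.2]
      push_cast
      ring
    rw [h2, ← Nat.cast_sum] at hsum
    have h3 : ∑ ζ : IrrCharacter ↥(Subgroup.normalizer ((P : Subgroup G) : Set G)),
        charDegree ζ.1 ^ 2 = 0 := by exact_mod_cast hsum
    have h4 := Finset.sum_eq_zero_iff.mp h3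
    let ζ₀ : IrrCharacter ↥(Subgroup.normalizer ((P : Subgroup G) : Set G)) :=
      ⟨fun _ => 1, Helper79.isIrrCharacter_one⟩
    have h5 := h4 ζ₀ (Finset.mem_univ _)
    have h6 : charDegree ζ₀.1 = 0 := by
      rcases Nat.eq_zero_or_pos (charDegree ζ₀.1) with h | h
      · exact h
      · exfalso
        have : 0 < charDegree ζ₀.1 ^ 2 := Nat.pow_pos h
        omega
    have h7 := Helper78.irrChar_one_eq_charDegree ζ₀.2
    rw [h6] at h7
    have h8 : ζ₀.1 1 = 1 := rfl
    rw [h8] at h7
    norm_num at h7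
  obtain ⟨ζ, hζ⟩ := hex
  have hζmem : ζ.1 ∈ {χ : ↥(Subgroup.normalizer ((P : Subgroup G) : Set G)) → ℂ |
      Cfsg.IsIrrCharacter ↥(Subgroup.normalizer ((P : Subgroup G) : Set G)) χ ∧
      ∃ z : ↥(Subgroup.normalizer ((P : Subgroup G) : Set G)), (z : G) ∈ Z ∧ χ z ≠ χ 1} :=
    ⟨ζ.2, z', hzZ, hζ⟩
  have hζc : (fun g => conj (ζ.1 g)) ∈
      {χ : ↥(Subgroup.normalizer ((P : Subgroup G) : Set G)) → ℂ |
      Cfsg.IsIrrCharacter ↥(Subgroup.normalizer ((P : Subgroup G) : Set G)) χ ∧
      ∃ z : ↥(Subgroup.normalizer ((P : Subgroup G) : Set G)), (z : G) ∈ Z ∧ χ z ≠ χ 1} := by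
    refine ⟨Helper81.isIrrCharacter_conj ζ.2, z', hzZ, ?_⟩
    intro h
    apply hζ
    have := congrArg conj h
    simpa using this
  have hne : (fun g => conj (ζ.1 g)) ≠ ζ.1 := by
    intro h
    have hreal : ∀ g, (ζ.1 g).im = 0 := by
      intro g
      have h1 : conj (ζ.1 g) = ζ.1 g := congrFun h g
      exact Complex.conj_eq_iff_im.mp h1
    have h1 := Cfsg.Agent.S0194.real_irr_eq_one_of_odd hoddN ζ.1 ζ.2 hreal
    apply hζ
    rw [h1]
  -- the difference
  refine ⟨ζ.1 - (fun g => conj (ζ.1 g)), ⟨?_, ?_⟩, ?_⟩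
  · exact Helper25.zspan_sub (Helper25.mem_zspan_of_mem hζmem) (Helper25.mem_zspan_of_mem hζc)
  · intro x hx
    have hx1 : x = 1 := by
      by_contra h
      exact hx h
    rw [hx1, Pi.sub_apply, Helper78.irrChar_one_eq_charDegree ζ.2]
    simp
  · intro h
    exact hne (sub_eq_zero.mp h).symm

end Cfsg.Agent.Helper75
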