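import Mathlib
import Cfsg.Agent.Helper95.TIC.Defs
import Cfsg.Agent.Helper95.FrobCompl6
import Cfsg.Agent.Helper73.PGroupCyclic
import Cfsg.Agent.Helper9.CNSolv2

/-!
# S4064 piece (FCP) for helper95: a nilpotent `FCLike` group has at most one subgroup of each
prime order.
-/

set_option autoImplicit false

namespace Cfsg.Agent.Helper75.TICent

open Subgroup Cfsg.Agent.Helper95.FrobCompl Cfsg.Agent.Helper95.TICent

/-- In a finite nilpotent group an element of order `r` lies in every Sylow `r`-subgroup. -/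
theorem FCP_mem_sylow {E : Type*} [Group E] [Finite E] (hnil : Group.IsNilpotent E)
    (r : ℕ) [hr : Fact r.Prime] (P : Sylow r E) {x : E} (hx : orderOf x = r) : x ∈ P := by
  have hPn : (P : Subgroup E).Normal := by
    have h := (Group.isNilpotent_of_finite_tfae (G := E)).out 0 3
    exact h.1 hnil r hr P
  have hxp : IsPGroup r (zpowers x) := by
    rw [IsPGroup.iff_card, Nat.card_zpowers, hx]
    exact ⟨1, (pow_one r).symm⟩
  obtain ⟨Q, hQ⟩ := hxp.exists_le_sylow
  have := Sylow.unique_of_normal P hPn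
  have hQP : Q = P := Subsingleton.elim _ _
  rw [← hQP]
  exact hQ (mem_zpowers x)

/-- (FCP) A nilpotent `FCLike` group has at most one subgroup of each prime order. -/
theorem uniqueOrderP_of_fclike {E : Type*} [Group E] [Finite E] (hnil : Group.IsNilpotent E)
    (hF : FCLike E) (r : ℕ) (hr : r.Prime) : Cfsg.Agent.Helper73.UniqueOrderP r E := by
  intro x y hx hy
  have : Fact r.Prime := ⟨hr⟩
  obtain P : Sylow r E := default
  have hxP : x ∈ P := FCP_mem_sylow hnil r P hx
  have hyP : y ∈ P := FCP_mem_sylow hnil r P hy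
  have hx1 : x ≠ 1 := by
    intro h
    rw [h, orderOf_one] at hx
    exact hr.one_lt.ne hx
  have : Nontrivial (P : Subgroup E) :=
    ⟨⟨⟨x, hxP⟩, 1, fun h => hx1 (by simpa using congrArg Subtype.val h)⟩⟩
  have : Nontrivial (center (P : Subgroup E)) := P.2.center_nontrivial
  have hcp : IsPGroup r (center (P : Subgroup E)) := P.2.to_subgroup _
  obtain ⟨k, hk⟩ := IsPGroup.iff_card.1 hcp
  have hk0 : k ≠ 0 := by
    intro h0
    rw [h0, pow_zero] at hk
    have : Subsingleton (center (P : Subgroup E)) := (Nat.card_eq_one_iff_unique.1 hk).1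
    exact not_subsingleton _ this
  have hdvd : r ∣ Nat.card (center (P : Subgroup E)) := by
    rw [hk]; exact dvd_pow_self r hk0
  obtain ⟨z, hz⟩ := exists_prime_orderOf_dvd_card' r hdvd
  -- `z : center P`, coerce down to `E`
  set z' : E := ((z : (P : Subgroup E)) : E) with hz'
  have hz'o : orderOf z' = r := by
    rw [hz', Subgroup.orderOf_coe, Subgroup.orderOf_coe]; exact hz
  have hz'1 : z' ≠ 1 := by
    intro h
    rw [h, orderOf_one] at hz'o
    exact hr.one_lt.ne hz'o
  have hz'r : z' ^ r = 1 := by rw [← hz'o]; exact pow_orderOf_eq_one z'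
  have hxr : x ^ r = 1 := by rw [← hx]; exact pow_orderOf_eq_one x
  have hyr : y ^ r = 1 := by rw [← hy]; exact pow_orderOf_eq_one y
  have hcomm : ∀ w : E, w ∈ P → z' * w = w * z' := by
    intro w hw
    have h1 := (Subgroup.mem_center_iff.1 z.2) ⟨w, hw⟩
    have h2 := Subtype.ext_iff.1 h1
    simpa using h2.symm
  have hxz : x ∈ zpowers z' := hF.abel.mem_zpowers_of_comm hr hz'1 hz'r hxr (hcomm x hxP)
  have hyz : y ∈ zpowers z' := hF.abel.mem_zpowers_of_comm hr hz'1 hz'r hyr (hcomm y hyP)
  obtain ⟨i, hi⟩ := mem_zpowers_iff.1 hxz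
  obtain ⟨j, hj⟩ := mem_zpowers_iff.1 hyz
  have hxy : x * y = y * x := by
    rw [← hi, ← hj, ← zpow_add, ← zpow_add, add_comm]
  exact hF.abel.mem_zpowers_of_comm hr hx1 hxr hyr hxy

end Cfsg.Agent.Helper75.TICent
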