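import Cfsg.Agent.Helper75.TIFN

/-!
# Coherent sets of characters for a T.I. subgroup with Frobenius normalizer (helper75)

`K` is a subgroup of `G`, trivial-intersection with respect to its normalizer, containing the
centralizers of its non-identity elements; `tfS K` is the set of irreducible characters of the
normalizer not containing `K` in their kernel, and `star` is a linear isometry on the integer span
of `tfS K` extending induction on the combinations vanishing at `1`.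
-/

set_option autoImplicit false

namespace Cfsg.Agent.Helper75

open Cfsg
open scoped ComplexConjugate

universe u

section Star

variable {G : Type u} [Group G] [Fintype G] {K : Subgroup G}
  [Fintype ↥(Subgroup.normalizer (K : Set G))]
  {star : (↥(Subgroup.normalizer (K : Set G)) → ℂ) → (G → ℂ)}

omit [Fintype G] [Fintype ↥(Subgroup.normalizer (K : Set G))] in
theorem tf_star_alpha
    (hadd : ∀ α ∈ zspan (tfS K), ∀ β ∈ zspan (tfS K), star (α + β) = star α + star β)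
    (hsmul : ∀ α ∈ zspan (tfS K), ∀ n : ℤ, star (n • α) = n • star α)
    {χ χ' : ↥(Subgroup.normalizer (K : Set G)) → ℂ} (hχ : χ ∈ tfS K) (hχ' : χ' ∈ tfS K)
    (d d' : ℤ) : star (d' • χ - d • χ') = d' • star χ - d • star χ' := by
  have hχz : χ ∈ zspan (tfS K) := Submodule.subset_span hχ
  have hχ'z : χ' ∈ zspan (tfS K) := Submodule.subset_span hχ'
  have h1 : d' • χ - d • χ' = d' • χ + (-d) • χ' := by rw [neg_smul, sub_eq_add_neg]
  have m1 : d' • χ ∈ zspan (tfS K) := Submodule.smul_mem _ _ hχz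
  have m2 : (-d) • χ' ∈ zspan (tfS K) := Submodule.smul_mem _ _ hχ'z
  rw [h1, hadd _ m1 _ m2, hsmul _ hχz, hsmul _ hχ'z, neg_smul, sub_eq_add_neg]

theorem tf_diff_const
    (hiso : ∀ α ∈ zspan (tfS K), ∀ β ∈ zspan (tfS K),
      classInner (star α) (star β) = classInner α β)
    (hgen : ∀ α ∈ zspan (tfS K), IsGeneralizedCharacter G (star α))
    (hext : ∀ α ∈ zspanOn (tfS K) ({1}ᶜ : Set ↥(Subgroup.normalizer (K : Set G))),
      star α = indFun (Subgroup.normalizer (K : Set G)) α)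
    {χ : ↥(Subgroup.normalizer (K : Set G)) → ℂ} (hχ : χ ∈ tfS K) :
    ∃ T : ℂ, ∀ k : ↥(Subgroup.normalizer (K : Set G)), (k : G) ∈ K → k ≠ 1 →
      star χ k - χ k = T := by
  have hχz : χ ∈ zspan (tfS K) := Submodule.subset_span hχ
  exact tf_const (K := K) (ψ := star χ) (vc_isClassFunction (hgen χ hχz))
    (tf_isClassFunction hχ) (by
      intro α hα
      rw [← hext α hα, hiso χ hχz α hα.1])

theorem tf_diff_int
    (hiso : ∀ α ∈ zspan (tfS K), ∀ β ∈ zspan (tfS K),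
      classInner (star α) (star β) = classInner α β)
    (hgen : ∀ α ∈ zspan (tfS K), IsGeneralizedCharacter G (star α))
    (hext : ∀ α ∈ zspanOn (tfS K) ({1}ᶜ : Set ↥(Subgroup.normalizer (K : Set G))),
      star α = indFun (Subgroup.normalizer (K : Set G)) α)
    {χ : ↥(Subgroup.normalizer (K : Set G)) → ℂ} (hχ : χ ∈ tfS K) :
    ∃ t : ℤ, ∀ k : ↥(Subgroup.normalizer (K : Set G)), (k : G) ∈ K → k ≠ 1 →
      star χ k - χ k = t := by
  classical
  obtain ⟨T, hT⟩ := tf_diff_const hiso hgen hext hχ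
  have hχz : χ ∈ zspan (tfS K) := Submodule.subset_span hχ
  obtain ⟨A, B, hA, hB, hAB⟩ := hgen χ hχz
  obtain ⟨k₀, hk₀K, hk₀ne⟩ := hχ.2
  have hk₀1 : k₀ ≠ 1 := fun h => hk₀ne (by rw [h])
  let K' := K.subgroupOf (Subgroup.normalizer (K : Set G))
  let _ : Fintype K' := Fintype.ofFinite K'
  have hnt : Nontrivial K' :=
    ⟨⟨⟨k₀, Subgroup.mem_subgroupOf.mpr hk₀K⟩, 1, fun h => hk₀1 (congrArg Subtype.val h)⟩⟩
  let f : K' →* G := (Subgroup.subtype (Subgroup.normalizer (K : Set G))).comp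
    (Subgroup.subtype K')
  have hA' : IsCharacter K' (fun k : K' => A ((k : ↥(Subgroup.normalizer (K : Set G))) : G)) :=
    Helper74.isCharacter_comp f hA
  have hB' : IsCharacter K' (fun k : K' => B ((k : ↥(Subgroup.normalizer (K : Set G))) : G)) :=
    Helper74.isCharacter_comp f hB
  have hC' : IsCharacter K' (fun k : K' => χ (k : ↥(Subgroup.normalizer (K : Set G)))) :=
    Helper74.isCharacter_restrict K' (Helper74.isCharacter_of_isIrr hχ.1)
  obtain ⟨t, ht⟩ := tf_const_int hnt hA' hB' hC' (T := T) (by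
    intro x hx
    have hx1 : (x : ↥(Subgroup.normalizer (K : Set G))) ≠ 1 := fun h => hx (Subtype.ext h)
    have := hT (x : ↥(Subgroup.normalizer (K : Set G))) (Subgroup.mem_subgroupOf.mp x.2) hx1
    rw [hAB] at this
    exact this)
  exact ⟨t, fun k hk hk1 => by rw [hT k hk hk1, ht]⟩

theorem tf_diff_rel
    (hTI : ∀ g : G, g ∉ Subgroup.normalizer (K : Set G) → ∀ k ∈ K, g * k * g⁻¹ ∈ K → k = 1)
    (hC : ∀ k ∈ K, k ≠ 1 → Subgroup.centralizer ({k} : Set G) ≤ K)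
    (hadd : ∀ α ∈ zspan (tfS K), ∀ β ∈ zspan (tfS K), star (α + β) = star α + star β)
    (hsmul : ∀ α ∈ zspan (tfS K), ∀ n : ℤ, star (n • α) = n • star α)
    (hext : ∀ α ∈ zspanOn (tfS K) ({1}ᶜ : Set ↥(Subgroup.normalizer (K : Set G))),
      star α = indFun (Subgroup.normalizer (K : Set G)) α)
    {χ χ' : ↥(Subgroup.normalizer (K : Set G)) → ℂ} (hχ : χ ∈ tfS K) (hχ' : χ' ∈ tfS K)
    {k : ↥(Subgroup.normalizer (K : Set G))} (hk : (k : G) ∈ K) (hk1 : k ≠ 1) :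
    χ' 1 * (star χ k - χ k) = χ 1 * (star χ' k - χ' k) := by
  obtain ⟨d, _, hd⟩ := fk_irr_apply_one (⟨χ, hχ.1⟩ : IrrCharacter _)
  obtain ⟨d', _, hd'⟩ := fk_irr_apply_one (⟨χ', hχ'.1⟩ : IrrCharacter _)
  have hd₁ : χ 1 = ((d : ℤ) : ℂ) := by rw [Int.cast_natCast]; exact hd
  have hd₁' : χ' 1 = ((d' : ℤ) : ℂ) := by rw [Int.cast_natCast]; exact hd'
  have hmem := tf_alpha_mem hχ hχ' hd₁ hd₁'
  have h1 := hext _ hmem
  rw [tf_star_alpha hadd hsmul hχ hχ'] at h1
  have hχcf := tf_isClassFunction hχ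
  have hχ'cf := tf_isClassFunction hχ'
  have hαcf : IsClassFunction _ ((d' : ℤ) • χ - (d : ℤ) • χ') := by
    intro g h
    rw [Pi.sub_apply, Pi.smul_apply, Pi.smul_apply, Pi.sub_apply, Pi.smul_apply, Pi.smul_apply,
      hχcf g h, hχ'cf g h]
  have hαvan : ∀ x : ↥(Subgroup.normalizer (K : Set G)), (x : G) ∉ K →
      ((d' : ℤ) • χ - (d : ℤ) • χ') x = 0 := by
    intro x hx
    rw [Pi.sub_apply, Pi.smul_apply, Pi.smul_apply, tf_vanish hC hχ x hx, tf_vanish hC hχ' x hx]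
    simp
  have h2 := tf_indFun_apply K (Subgroup.normalizer (K : Set G)) hTI hαcf hαvan k hk hk1
  have h3 := congrFun h1 (k : G)
  rw [h2, Pi.sub_apply, Pi.smul_apply, Pi.smul_apply, Pi.sub_apply, Pi.smul_apply,
    Pi.smul_apply, zsmul_eq_mul, zsmul_eq_mul, zsmul_eq_mul, zsmul_eq_mul] at h3
  rw [hd₁, hd₁']
  linear_combination h3

/-- **S0853**: `star χ - χ` is the constant `m χ(1) / e` on `K \ {1}`, for one integer `m`. -/
theorem tf_S0853
    (hTI : ∀ g : G, g ∉ Subgroup.normalizer (K : Set G) → ∀ k ∈ K, g * k * g⁻¹ ∈ K → k = 1)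
    (hC : ∀ k ∈ K, k ≠ 1 → Subgroup.centralizer ({k} : Set G) ≤ K)
    (hadd : ∀ α ∈ zspan (tfS K), ∀ β ∈ zspan (tfS K), star (α + β) = star α + star β)
    (hsmul : ∀ α ∈ zspan (tfS K), ∀ n : ℤ, star (n • α) = n • star α)
    (hiso : ∀ α ∈ zspan (tfS K), ∀ β ∈ zspan (tfS K),
      classInner (star α) (star β) = classInner α β)
    (hgen : ∀ α ∈ zspan (tfS K), IsGeneralizedCharacter G (star α))
    (hext : ∀ α ∈ zspanOn (tfS K) ({1}ᶜ : Set ↥(Subgroup.normalizer (K : Set G))),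
      star α = indFun (Subgroup.normalizer (K : Set G)) α)
    {χ₁ : ↥(Subgroup.normalizer (K : Set G)) → ℂ} (hχ₁ : χ₁ ∈ tfS K) :
    ∃ m : ℤ, ∀ χ ∈ tfS K, ∀ k : ↥(Subgroup.normalizer (K : Set G)), (k : G) ∈ K → k ≠ 1 →
      star χ k - χ k = (m : ℂ) * χ 1 /
        ((K.subgroupOf (Subgroup.normalizer (K : Set G))).index : ℂ) := by
  classical
  have hT : ∀ χ ∈ tfS K, ∃ t : ℤ, ∀ k : ↥(Subgroup.normalizer (K : Set G)), (k : G) ∈ K →
      k ≠ 1 → star χ k - χ k = t := fun χ hχ => tf_diff_int hiso hgen hext hχ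
  choose! T hT using hT
  obtain ⟨k₀, hk₀K, hk₀ne⟩ := hχ₁.2
  have hk₀1 : k₀ ≠ 1 := fun h => hk₀ne (by rw [h])
  have hrel : ∀ χ ∈ tfS K, ∀ χ' ∈ tfS K, χ' 1 * (T χ : ℂ) = χ 1 * (T χ' : ℂ) := by
    intro χ hχ χ' hχ'
    have := tf_diff_rel hTI hC hadd hsmul hext hχ hχ' hk₀K hk₀1
    rwa [hT χ hχ k₀ hk₀K hk₀1, hT χ' hχ' k₀ hk₀K hk₀1] at this
  let K' := K.subgroupOf (Subgroup.normalizer (K : Set G))
  let _ : Fintype K' := Fintype.ofFinite K'
  let _ := Helper74.irrFintype K'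
  have hnt : Nontrivial K' :=
    ⟨⟨⟨k₀, Subgroup.mem_subgroupOf.mpr hk₀K⟩, 1, fun h => hk₀1 (congrArg Subtype.val h)⟩⟩
  obtain ⟨n, hn⟩ := tf_bezout hnt
  set P : IrrCharacter K' := ⟨fun _ => 1, Helper79.isIrrCharacter_one⟩ with hP
  have he0 : ((K'.index : ℕ) : ℂ) ≠ 0 := by
    have : K'.index ≠ 0 := Subgroup.index_ne_zero_of_finite
    exact_mod_cast this
  have hind : ∀ φ ∈ Finset.univ.erase P,
      indFun K' (φ : K' → ℂ) ∈ tfS K ∧
      indFun K' (φ : K' → ℂ) 1 = (K'.index : ℂ) * (charDegree (φ : K' → ℂ) : ℂ) := by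
    intro φ hφ
    have hφ1 : (φ : K' → ℂ) ≠ fun _ => 1 := by
      intro h
      exact Finset.ne_of_mem_erase hφ (Subtype.ext h)
    obtain ⟨hirr, k, hk, hne⟩ := tf_ind_relevant (tf_hC' hC) φ.2 hφ1
    refine ⟨⟨hirr, k, Subgroup.mem_subgroupOf.mp hk, hne⟩, ?_⟩
    rw [Helper15.indFun_apply_one, Helper78.irrChar_one_eq_charDegree φ.2]
  refine ⟨∑ φ ∈ Finset.univ.erase P, n φ * T (indFun K' (φ : K' → ℂ)), ?_⟩
  intro χ hχ k hk hk1
  rw [hT χ hχ k hk hk1, eq_div_iff he0]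
  push_cast
  rw [Finset.sum_mul]
  have hterm : ∀ φ ∈ Finset.univ.erase P,
      (n φ : ℂ) * (T (indFun K' (φ : K' → ℂ)) : ℂ) * χ 1
        = ((n φ * (charDegree (φ : K' → ℂ) : ℤ) : ℤ) : ℂ) * ((T χ : ℂ) * (K'.index : ℂ)) := by
    intro φ hφ
    obtain ⟨hmem, hdeg⟩ := hind φ hφ
    have := hrel χ hχ _ hmem
    rw [hdeg] at this
    push_cast
    linear_combination -(n φ : ℂ) * this
  rw [Finset.sum_congr rfl hterm, ← Finset.sum_mul, ← Int.cast_sum, hn]
  simp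

end Star


end Cfsg.Agent.Helper75
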